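import Cfsg.Agent.BlkChar.RegPart
import Cfsg.Agent.Lib.BlocksDefect.Induced

/-!
# Coefficients of `χ` on `p`-regular elements in the irreducible characters, and consequences
-/

namespace Cfsg.Agent.BlkChar

open BlocksCore BlocksDefect

open scoped ComplexConjugate

universe u

variable {G : Type u} [Group G] [Fintype G] {p : ℕ} [hp : Fact p.Prime] {M : Ideal AlgInt}

/-- Comparison of valuations in an equation `n * s = d * r` with `s` prime to `p`. -/
theorem nat_valuation_of_eq (hM : IsPModular p M) {m d s : ℕ} (hd : d ≠ 0) (hs : ¬ p ∣ s) {r : ℂ}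
    (hr : MemLocalRing M r) (h : (m : ℂ) * s = d * r) :
    (¬ MemLocalIdeal M r ↔ m ≠ 0 ∧ m.factorization p = d.factorization p) ∧
      (m = 0 ∨ d.factorization p ≤ m.factorization p) := by
  have := isPrime hM
  by_cases hm : m = 0
  · subst hm
    have hr0 : r = 0 := by simpa [hd, eq_comm] using h
    exact ⟨⟨fun h' => absurd (hr0 ▸ memLocalIdeal_zero) h', fun h' => absurd rfl h'.1⟩, Or.inl rfl⟩
  set l := m.factorization p
  set k := d.factorization p
  set m' := ordCompl[p] m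
  set d' := ordCompl[p] d
  have hm' : ¬ p ∣ m' := Nat.not_dvd_ordCompl hp.out hm
  have hd' : ¬ p ∣ d' := Nat.not_dvd_ordCompl hp.out hd
  have hme : m = p ^ l * m' := (Nat.ordProj_mul_ordCompl_eq_self m p).symm
  have hde : d = p ^ k * d' := (Nat.ordProj_mul_ordCompl_eq_self d p).symm
  have hms : ¬ p ∣ m' * s := fun hh => (hp.out.dvd_mul.mp hh).elim hm' hs
  have hp0 : (p : ℂ) ≠ 0 := Nat.cast_ne_zero.mpr hp.out.ne_zero
  rw [hme, hde] at h
  push_cast at h
  have hpm : MemLocalIdeal M (p : ℂ) := (memLocalIdeal_natCast_iff hM p).mpr dvd_rfl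
  have hkl : k ≤ l := by
    by_contra hlt
    obtain ⟨i, hi⟩ : ∃ i, k = l + (i + 1) := ⟨k - l - 1, by omega⟩
    rw [hi, pow_add, mul_assoc, mul_assoc, mul_assoc] at h
    have h2 := mul_left_cancel₀ (pow_ne_zero l hp0) h
    apply hms
    rw [← memLocalIdeal_natCast_iff hM, Nat.cast_mul, h2, pow_succ']
    exact memLocalIdeal_mul_right (memLocalIdeal_mul_right hpm
      ((localRing M).pow_mem (memLocalRing_natCast p) i)) ((localRing M).mul_mem (memLocalRing_natCast _) hr)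
  refine ⟨⟨fun hru => ⟨hm, ?_⟩, fun hlk hri => ?_⟩, Or.inr hkl⟩
  · by_contra hne
    obtain ⟨i, hi⟩ : ∃ i, l = k + (i + 1) := ⟨l - k - 1, by omega⟩
    rw [hi, pow_add, mul_assoc, mul_assoc, mul_assoc] at h
    have h2 := mul_left_cancel₀ (pow_ne_zero k hp0) h
    apply hru
    have hd0 : (d' : ℂ) ≠ 0 := Nat.cast_ne_zero.mpr fun h0 => hd' (h0 ▸ dvd_zero p)
    have : r = (p : ℂ) * ((p : ℂ) ^ i * ((m' : ℂ) * s) * (d' : ℂ)⁻¹) := by
      rw [eq_comm, ← mul_assoc, ← mul_assoc, ← pow_succ', h2]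
      field_simp
    rw [this]
    exact memLocalIdeal_mul_right hpm ((localRing M).mul_mem ((localRing M).mul_mem
      ((localRing M).pow_mem (memLocalRing_natCast p) i)
      ((localRing M).mul_mem (memLocalRing_natCast _) (memLocalRing_natCast _)))
      (memLocalRing_natCast_inv hM hd'))
  · rw [hlk.2, mul_assoc, mul_assoc] at h
    have h2 := mul_left_cancel₀ (pow_ne_zero k hp0) h
    apply hms
    rw [← memLocalIdeal_natCast_iff hM, Nat.cast_mul, h2]
    exact memLocalIdeal_mul_left (memLocalRing_natCast _) hri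

/-- Comparison of valuations in an equation `n * s = d * r` with `s` prime to `p`, `n` an integer. -/
theorem int_valuation_of_eq (hM : IsPModular p M) {n : ℤ} {d s : ℕ} (hd : d ≠ 0) (hs : ¬ p ∣ s)
    {r : ℂ} (hr : MemLocalRing M r) (h : (n : ℂ) * s = d * r) :
    (¬ MemLocalIdeal M r ↔ n ≠ 0 ∧ padicValInt p n = d.factorization p) ∧
      ((p ^ d.factorization p : ℕ) : ℤ) ∣ n := by
  have := isPrime hM
  have hv : padicValInt p n = n.natAbs.factorization p := by
    rw [padicValInt, Nat.factorization_def _ hp.out]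
  have aux : ∀ r' : ℂ, MemLocalRing M r' → (n.natAbs : ℂ) * s = d * r' →
      (¬ MemLocalIdeal M r' ↔ n ≠ 0 ∧ padicValInt p n = d.factorization p) ∧
      ((p ^ d.factorization p : ℕ) : ℤ) ∣ n := by
    intro r' hr' h'
    obtain ⟨h1, h2⟩ := nat_valuation_of_eq hM hd hs hr' h'
    refine ⟨?_, ?_⟩
    · rw [h1, hv, Int.natAbs_ne_zero]
    · rw [Int.natCast_dvd]
      rcases h2 with h2 | h2
      · rw [h2]; exact dvd_zero _
      · exact (pow_dvd_pow p h2).trans (Nat.ordProj_dvd _ _)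
  rcases Int.natAbs_eq n with he | he
  · refine aux r hr ?_
    rw [← h]
    conv_rhs => rw [he]
    simp
  · have hneg : MemLocalRing M (-r) := (localRing M).neg_mem hr
    have := aux (-r) hneg (by
      rw [mul_neg, ← h]
      conv_rhs => rw [he]
      simp)
    refine ⟨?_, this.2⟩
    rw [← this.1]
    exact not_congr ⟨fun h' => memLocalIdeal_neg h', fun h' => by simpa using memLocalIdeal_neg h'⟩

omit hp in
/-- The coefficient of `ξ` in `regPart p χ`, against the regular pairing. -/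
theorem classInner_regPart_mul (χ ξ : IrrCharacter G) :
    classInner (regPart p (χ : G → ℂ)) (ξ : G → ℂ) * ((ordCompl[p] (Nat.card G) : ℕ) : ℂ) =
      (charDegree (ξ : G → ℂ) : ℂ) * regPair p (ξ : G → ℂ) χ := by
  classical
  have hG : (Nat.card G : ℂ) = ((p ^ (Nat.card G).factorization p : ℕ) : ℂ) *
      ((ordCompl[p] (Nat.card G) : ℕ) : ℂ) := by
    rw [← Nat.cast_mul, Nat.ordProj_mul_ordCompl_eq_self]
  have h0 : (Nat.card G : ℂ) ≠ 0 := by simp
  rw [regPair, omega_eq_sum, ← irr_one_eq, mul_div_cancel₀ _ (irr_one_ne_zero ξ), classInner,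
    Finset.mul_sum, Finset.sum_mul]
  refine Fintype.sum_equiv (Equiv.inv G) _ _ fun x => ?_
  simp only [regPart, regInv, Equiv.inv_apply, orderOf_inv, inv_inv, conj_irr]
  rw [hG] at h0 ⊢
  obtain ⟨h1, h2⟩ := mul_ne_zero_iff.mp h0
  split_ifs
  · simp
  · field_simp

theorem exists_coeff (χ ξ : IrrCharacter G) :
    ∃ n : ℤ, classInner (regPart p (χ : G → ℂ)) (ξ : G → ℂ) = (n : ℂ) :=
  CharCore.IsGeneralizedCharacter.exists_classInner_irr_eq_intCast (isGeneralized_regPart χ) ξ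

/-- The integer coefficient of `ξ` in `regPart p χ`. -/
noncomputable def coeff (p : ℕ) [Fact p.Prime] (χ ξ : IrrCharacter G) : ℤ :=
  (exists_coeff (p := p) χ ξ).choose

theorem coeff_spec (χ ξ : IrrCharacter G) :
    classInner (regPart p (χ : G → ℂ)) (ξ : G → ℂ) = (coeff p χ ξ : ℂ) :=
  (exists_coeff (p := p) χ ξ).choose_spec

theorem regPart_eq_sum (χ : IrrCharacter G) :
    regPart p (χ : G → ℂ) = ∑ ξ : IrrCharacter G, (coeff p χ ξ : ℂ) • (ξ : G → ℂ) := by
  conv_lhs => rw [CharCore.eq_sum_classInner (isClassFunction_regPart p χ)]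
  simp only [coeff_spec]

theorem coeff_symm (χ ξ : IrrCharacter G) : coeff p χ ξ = coeff p ξ χ := by
  have h1 := classInner_regPart_mul (p := p) χ ξ
  have h2 := classInner_regPart_mul (p := p) ξ χ
  rw [coeff_spec] at h1 h2
  rw [← irr_one_eq, ← apply_one_mul_regPair χ ξ, irr_one_eq, ← h2] at h1
  have h0 : ((ordCompl[p] (Nat.card G) : ℕ) : ℂ) ≠ 0 :=
    Nat.cast_ne_zero.mpr (Nat.ordCompl_pos p Nat.card_pos.ne').ne'
  exact_mod_cast mul_right_cancel₀ h0 h1

theorem coeff_unit_iff (hM : IsPModular p M) {B : Set (IrrCharacter G)} (hB : IsPBlock M B)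
    {χ ξ : IrrCharacter G} (hξ : ξ ∈ B) (hχ : χ ∈ B) :
    blockHeight p B (χ : G → ℂ) = 0 ↔ coeff p χ ξ ≠ 0 ∧
      padicValInt p (coeff p χ ξ) = (charDegree (ξ : G → ℂ)).factorization p := by
  have := isPrime hM
  have h := classInner_regPart_mul (p := p) χ ξ
  rw [coeff_spec] at h
  rw [← regPair_unit_iff hM hB hξ hχ]
  exact (int_valuation_of_eq hM (charDegree_pos ξ).ne'
    (Nat.not_dvd_ordCompl hp.out Nat.card_pos.ne') (regPair_memLocalRing ξ χ) h).1

theorem coeff_ne_zero (hM : IsPModular p M) {B : Set (IrrCharacter G)} (hB : IsPBlock M B)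
    {χ ξ : IrrCharacter G} (hξ : ξ ∈ B) (hχ : χ ∈ B) (h0 : blockHeight p B (χ : G → ℂ) = 0) :
    coeff p χ ξ ≠ 0 := ((coeff_unit_iff hM hB hξ hχ).mp h0).1

theorem dvd_coeff_right (hM : IsPModular p M) (χ ξ : IrrCharacter G) :
    ((p ^ (charDegree (ξ : G → ℂ)).factorization p : ℕ) : ℤ) ∣ coeff p χ ξ := by
  have := isPrime hM
  have h := classInner_regPart_mul (p := p) χ ξ
  rw [coeff_spec] at h
  exact (int_valuation_of_eq hM (charDegree_pos ξ).ne'
    (Nat.not_dvd_ordCompl hp.out Nat.card_pos.ne') (regPair_memLocalRing ξ χ) h).2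

theorem dvd_coeff_left (hM : IsPModular p M) (χ ξ : IrrCharacter G) :
    ((p ^ (charDegree (χ : G → ℂ)).factorization p : ℕ) : ℤ) ∣ coeff p χ ξ :=
  coeff_symm (p := p) χ ξ ▸ dvd_coeff_right hM ξ χ

theorem coeff_eq_zero (hM : IsPModular p M) {χ ξ : IrrCharacter G}
    (h : ¬ SameBlock M (χ : G → ℂ) (ξ : G → ℂ)) : coeff p χ ξ = 0 := by
  have h1 := classInner_regPart_mul (p := p) χ ξ
  have := isPrime hM
  rw [coeff_spec, regPair_eq_zero hM (fun h' => h (sameBlock_symm h')), mul_zero] at h1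
  have h0 : ((ordCompl[p] (Nat.card G) : ℕ) : ℂ) ≠ 0 :=
    Nat.cast_ne_zero.mpr (Nat.ordCompl_pos p Nat.card_pos.ne').ne'
  exact_mod_cast (mul_eq_zero.mp h1).resolve_right h0

theorem coeff_eq_zero_of_notMem (hM : IsPModular p M) {B : Set (IrrCharacter G)}
    (hB : IsPBlock M B) {χ ξ : IrrCharacter G} (hχ : χ ∈ B) (hξ : ξ ∉ B) : coeff p χ ξ = 0 := by
  refine coeff_eq_zero hM fun h => hξ ?_
  have := isPrime hM
  rw [isPBlock_eq_blockOf hB hχ]
  exact h

theorem sum_coeff_sq (χ : IrrCharacter G) :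
    ∑ ξ : IrrCharacter G, coeff p χ ξ ^ 2 =
      ((p ^ (Nat.card G).factorization p : ℕ) : ℤ) * coeff p χ χ := by
  have h := CharCore.classInner_eq_sum (isClassFunction_regPart p χ) (isClassFunction_regPart p χ)
  have h2 : classInner (regPart p (χ : G → ℂ)) (regPart p (χ : G → ℂ)) =
      ((p ^ (Nat.card G).factorization p : ℕ) : ℂ) *
        classInner (regPart p (χ : G → ℂ)) (χ : G → ℂ) := by
    simp only [classInner, Finset.mul_sum]
    refine Finset.sum_congr rfl fun x _ => ?_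
    simp only [regPart]
    split_ifs
    · simp
    · rw [map_mul, Complex.conj_natCast]; ring
  simp only [h2, coeff_spec, map_intCast, ← sq] at h
  exact_mod_cast h.symm

theorem coeff_self_bound (χ : IrrCharacter G) :
    0 ≤ coeff p χ χ ∧ coeff p χ χ ≤ ((p ^ (Nat.card G).factorization p : ℕ) : ℤ) := by
  have h := sum_coeff_sq (p := p) χ
  have hpa : (0 : ℤ) < ((p ^ (Nat.card G).factorization p : ℕ) : ℤ) := by
    exact_mod_cast pow_pos hp.out.pos _
  have h0 : 0 ≤ ∑ ξ : IrrCharacter G, coeff p χ ξ ^ 2 :=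
    Finset.sum_nonneg fun ξ _ => sq_nonneg _
  have h1 : coeff p χ χ ^ 2 ≤ ∑ ξ : IrrCharacter G, coeff p χ ξ ^ 2 :=
    Finset.single_le_sum (f := fun ξ => coeff p χ ξ ^ 2) (fun ξ _ => sq_nonneg _)
      (Finset.mem_univ χ)
  constructor <;> nlinarith

theorem sInf_le_factorization {B : Set (IrrCharacter G)} {ψ : IrrCharacter G} (hψ : ψ ∈ B) :
    sInf ((fun χ : IrrCharacter G => (charDegree (χ : G → ℂ)).factorization p) '' B) ≤
      (charDegree (ψ : G → ℂ)).factorization p :=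
  Nat.sInf_le ⟨ψ, hψ, rfl⟩

theorem factorization_eq_sInf {B : Set (IrrCharacter G)} {χ : IrrCharacter G} (hχ : χ ∈ B)
    (h0 : blockHeight p B (χ : G → ℂ) = 0) :
    (charDegree (χ : G → ℂ)).factorization p =
      sInf ((fun χ : IrrCharacter G => (charDegree (χ : G → ℂ)).factorization p) '' B) := by
  have := sInf_le_factorization (p := p) hχ
  unfold blockHeight at h0
  omega

omit hp in
theorem factorization_degree_le (χ : IrrCharacter G) :
    (charDegree (χ : G → ℂ)).factorization p ≤ (Nat.card G).factorization p :=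
  (Nat.factorization_le_iff_dvd (charDegree_pos χ).ne' Nat.card_pos.ne').mpr
    (charDegree_dvd_card χ) p

/-- Degrees divisible by the next to full `p`-part occur only in whole blocks. -/
theorem le_factorization_of_mem (hM : IsPModular p M) (hpa : p ∣ Nat.card G)
    {B : Set (IrrCharacter G)} (hB : IsPBlock M B) {χ ψ : IrrCharacter G} (hχ : χ ∈ B)
    (hψ : ψ ∈ B)
    (h : (Nat.card G).factorization p - 1 ≤ (charDegree (χ : G → ℂ)).factorization p) :
    (Nat.card G).factorization p - 1 ≤ (charDegree (ψ : G → ℂ)).factorization p := by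
  classical
  obtain ⟨θ, hθ, hθ0⟩ := exists_height_zero hM hB
  by_contra hlt
  set a := (Nat.card G).factorization p
  set b := (charDegree (χ : G → ℂ)).factorization p
  have hm := sInf_le_factorization (p := p) hψ
  have hθm := factorization_eq_sInf hθ hθ0
  have hne : blockHeight p B (χ : G → ℂ) ≠ 0 := fun h0 => by
    have := factorization_eq_sInf hχ h0
    omega
  have hnu := mt (coeff_unit_iff hM hB hχ hχ).mpr hne
  have hθne : θ ≠ χ := fun e => hne (e ▸ hθ0)
  have hcθ : coeff p χ θ ≠ 0 := coeff_symm (p := p) θ χ ▸ coeff_ne_zero hM hB hχ hθ hθ0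
  obtain ⟨hc0, hcle⟩ := coeff_self_bound (p := p) χ
  set c := coeff p χ χ
  have hsq := sum_coeff_sq (p := p) χ
  have hpair : c ^ 2 + coeff p χ θ ^ 2 ≤ ((p ^ a : ℕ) : ℤ) * c := by
    rw [← hsq, ← Finset.sum_pair (f := fun ξ => coeff p χ ξ ^ 2) hθne.symm]
    exact Finset.sum_le_sum_of_subset_of_nonneg (Finset.subset_univ _) fun ξ _ _ => sq_nonneg _
  have hpos : 0 < coeff p χ θ ^ 2 := by positivity
  have hcne : c ≠ 0 := by
    intro h0
    rw [h0] at hpair
    nlinarith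
  have hdvd : ((p ^ a : ℕ) : ℤ) ∣ c := by
    refine dvd_trans ?_ (padicValInt_dvd (p := p) c)
    push_cast
    refine pow_dvd_pow _ ?_
    have hb := dvd_coeff_right hM χ χ
    have hb' : b ≤ padicValInt p c := by
      have := (padicValInt_dvd_iff (p := p) b c).mp (by simpa using hb)
      exact this.resolve_left hcne
    have : padicValInt p c ≠ b := fun e => hnu ⟨hcne, e⟩
    omega
  obtain ⟨t, ht⟩ := hdvd
  have hpa0 : (0 : ℤ) < ((p ^ a : ℕ) : ℤ) := by exact_mod_cast pow_pos hp.out.pos _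
  have ht1 : t = 1 := by
    have : 0 < t := by
      rcases lt_trichotomy t 0 with h' | h' | h'
      · nlinarith
      · exact absurd (by rw [ht, h', mul_zero]) hcne
      · exact h'
    nlinarith
  rw [ht, ht1, mul_one] at hpair
  nlinarith

/-- The Brauer-Feit bound. -/
theorem four_mul_card_le (hM : IsPModular p M) {B : Set (IrrCharacter G)} (hB : IsPBlock M B) :
    4 * Nat.card B ≤ p ^ (2 * blockDefect p B) + 4 := by
  classical
  obtain ⟨χ, hχ, h0⟩ := exists_height_zero hM hB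
  set a := (Nat.card G).factorization p with ha
  set b := (charDegree (χ : G → ℂ)).factorization p with hb
  have hd : blockDefect p B = a - b := by
    rw [blockDefect, ← factorization_eq_sInf hχ h0]
  have hba : b ≤ a := factorization_degree_le χ
  choose d hd' using fun ξ => dvd_coeff_left hM χ ξ
  have hsum : ∑ ξ : IrrCharacter G, d ξ ^ 2 = ((p ^ (a - b) : ℕ) : ℤ) * d χ := by
    have h := sum_coeff_sq (p := p) χ
    simp only [hd', mul_pow, ← Finset.mul_sum, ← ha, ← hb] at h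
    have e : ((p ^ a : ℕ) : ℤ) = ((p ^ b : ℕ) : ℤ) * ((p ^ (a - b) : ℕ) : ℤ) := by
      rw [← Nat.cast_mul, ← pow_add, Nat.add_sub_cancel' hba]
    rw [e] at h
    have hp0 : ((p ^ b : ℕ) : ℤ) ^ 2 ≠ 0 :=
      pow_ne_zero _ (Nat.cast_ne_zero.mpr (pow_ne_zero _ hp.out.ne_zero))
    refine mul_left_cancel₀ hp0 ?_
    rw [h]; ring
  let S := Finset.univ.filter (fun ξ : IrrCharacter G => ξ ∈ B)
  have hS : Nat.card B = S.card := by
    rw [Nat.card_eq_fintype_card, Fintype.card_subtype]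
  have hχS : χ ∈ S := by simp [S, hχ]
  have h1 : ∀ ξ ∈ S.erase χ, (1 : ℤ) ≤ d ξ ^ 2 := by
    intro ξ hξ
    simp only [S, Finset.mem_erase, Finset.mem_filter, Finset.mem_univ, true_and] at hξ
    have := coeff_ne_zero hM hB hξ.2 hχ h0
    rw [hd'] at this
    have := (mul_ne_zero_iff.mp this).2
    have : 0 < d ξ ^ 2 := by positivity
    omega
  have h2 : ((S.erase χ).card : ℤ) + d χ ^ 2 ≤ ((p ^ (a - b) : ℕ) : ℤ) * d χ := by
    rw [← hsum, ← Finset.sum_erase_add _ _ (Finset.mem_univ χ)]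
    refine add_le_add ?_ le_rfl
    calc ((S.erase χ).card : ℤ) = ∑ _ξ ∈ S.erase χ, (1 : ℤ) := by simp
      _ ≤ ∑ ξ ∈ S.erase χ, d ξ ^ 2 := Finset.sum_le_sum h1
      _ ≤ _ := Finset.sum_le_sum_of_subset_of_nonneg
        (Finset.erase_subset_erase _ (Finset.subset_univ _)) fun ξ _ _ => sq_nonneg _
  have h3 : 4 * ((S.erase χ).card : ℤ) ≤ ((p ^ (a - b) : ℕ) : ℤ) ^ 2 := by
    nlinarith [sq_nonneg (((p ^ (a - b) : ℕ) : ℤ) - 2 * d χ)]
  have h4 : S.card = (S.erase χ).card + 1 := (Finset.card_erase_add_one hχS).symm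
  rw [hd, hS, h4, mul_comm 2, pow_mul]
  exact_mod_cast (show 4 * (((S.erase χ).card : ℤ) + 1) ≤ ((p ^ (a - b) : ℕ) : ℤ) ^ 2 + 4 by linarith)

/-- The exponent of `p` in the sum of the squares of the degrees in a block. -/
theorem sum_sq_factorization (hM : IsPModular p M) {B : Set (IrrCharacter G)}
    (hB : IsPBlock M B) :
    (∑ᶠ χ ∈ B, charDegree (χ : G → ℂ) ^ 2).factorization p =
      2 * (Nat.card G).factorization p - blockDefect p B := by
  classical
  haveI := isPrime hM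
  obtain ⟨χ, hχ, h0⟩ := exists_height_zero hM hB
  set a := (Nat.card G).factorization p with ha
  set b := (charDegree (χ : G → ℂ)).factorization p with hb
  have hd : blockDefect p B = a - b := by
    rw [blockDefect, ← factorization_eq_sInf hχ h0]
  have hba : b ≤ a := factorization_degree_le χ
  set S := ∑ᶠ χ ∈ B, charDegree (χ : G → ℂ) ^ 2 with hSdef
  have hS : S = ∑ ξ : IrrCharacter G, if ξ ∈ B then charDegree (ξ : G → ℂ) ^ 2 else 0 := by
    rw [hSdef, finsum_mem_def, finsum_eq_sum_of_fintype]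
    simp [Set.indicator_apply]
  choose d hd' using fun ξ => dvd_coeff_left hM χ ξ
  have he : ∀ ξ ∈ B, p ^ b ∣ charDegree ((ξ : IrrCharacter G) : G → ℂ) := by
    intro ξ hξ
    have h1 : b ≤ (charDegree (ξ : G → ℂ)).factorization p :=
      (factorization_eq_sInf hχ h0).trans_le (sInf_le_factorization hξ)
    exact (pow_dvd_pow p h1).trans (Nat.ordProj_dvd _ _)
  set e : IrrCharacter G → ℕ :=
    fun ξ => if ξ ∈ B then charDegree (ξ : G → ℂ) / p ^ b else 0 with hedef
  have hee : ∀ ξ ∈ B, charDegree ((ξ : IrrCharacter G) : G → ℂ) = p ^ b * e ξ := by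
    intro ξ hξ
    rw [hedef]; simp only [if_pos hξ]
    rw [Nat.mul_div_cancel' (he ξ hξ)]
  have heχ : ¬ p ∣ e χ := by
    rw [hedef]; simp only [if_pos hχ, hb]
    exact Nat.not_dvd_ordCompl hp.out (charDegree_pos χ).ne'
  have hcong : ∀ ξ ∈ B, (p : ℤ) ∣ d ξ * (e χ : ℤ) - d χ * (e ξ : ℤ) := by
    intro ξ hξ
    have hp0 : ((p ^ b : ℕ) : ℂ) ≠ 0 := Nat.cast_ne_zero.mpr (pow_ne_zero _ hp.out.ne_zero)
    have key : ∀ θ ∈ B, (d θ : ℂ) * ((ordCompl[p] (Nat.card G) : ℕ) : ℂ) =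
        (e θ : ℂ) * regPair p (θ : G → ℂ) χ := by
      intro θ hθ
      have h := classInner_regPart_mul (p := p) χ θ
      rw [coeff_spec, hd', ← hb, hee θ hθ] at h
      push_cast at h hp0
      rw [mul_assoc, mul_assoc] at h
      exact mul_left_cancel₀ hp0 h
    obtain ⟨s₀, hs₀⟩ : ∃ s₀ : ℕ, ordCompl[p] (Nat.card G) = s₀ := ⟨_, rfl⟩
    rw [hs₀] at key
    have hmem : MemLocalIdeal M (((d ξ * (e χ : ℤ) - d χ * (e ξ : ℤ)) * (s₀ : ℤ) : ℤ) : ℂ) := by
      have e1 : (((d ξ * (e χ : ℤ) - d χ * (e ξ : ℤ)) * (s₀ : ℤ) : ℤ) : ℂ) =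
          ((e ξ * e χ : ℕ) : ℂ) * (regPair p (ξ : G → ℂ) χ - regPair p (χ : G → ℂ) χ) := by
        push_cast
        linear_combination (e χ : ℂ) * key ξ hξ - (e ξ : ℂ) * key χ hχ
      rw [e1]
      exact memLocalIdeal_mul_left (memLocalRing_natCast _) (regPair_congr hM hB hξ hχ χ)
    rw [memLocalIdeal_intCast_iff hM] at hmem
    refine ((Nat.prime_iff_prime_int.mp hp.out).dvd_or_dvd hmem).resolve_right ?_
    rw [Int.natCast_dvd_natCast, ← hs₀]
    exact Nat.not_dvd_ordCompl hp.out Nat.card_pos.ne'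
  have hcong' : ∀ ξ : IrrCharacter G, (p : ℤ) ∣ d ξ * (e χ : ℤ) - d χ * (e ξ : ℤ) := by
    intro ξ
    by_cases hξ : ξ ∈ B
    · exact hcong ξ hξ
    · have hd0 : d ξ = 0 := by
        have h1 := coeff_eq_zero_of_notMem hM hB hχ hξ
        rw [hd', mul_eq_zero] at h1
        exact h1.resolve_left (Nat.cast_ne_zero.mpr (pow_ne_zero _ hp.out.ne_zero))
      simp [hd0, hedef, hξ]
  choose f hf using hcong'
  set Ψ : G → ℂ := ∑ ξ : IrrCharacter G, (f ξ : ℂ) • (ξ : G → ℂ) with hΨ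
  have hp0 : ((p : ℂ) ^ (b + 1)) ≠ 0 := pow_ne_zero _ (Nat.cast_ne_zero.mpr hp.out.ne_zero)
  have hval : ∀ g : G, (p : ℂ) ^ (b + 1) * Ψ g = (e χ : ℂ) * regPart p (χ : G → ℂ) g -
      (d χ : ℂ) * ∑ᶠ ξ ∈ B, (ξ : G → ℂ) 1 * (ξ : G → ℂ) g := by
    intro g
    rw [regPart_eq_sum, finsum_mem_def, finsum_eq_sum_of_fintype]
    simp only [hΨ, Finset.sum_apply, Pi.smul_apply, smul_eq_mul, Finset.mul_sum,
      ← Finset.sum_sub_distrib]
    refine Finset.sum_congr rfl fun ξ _ => ?_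
    have h1 := congrArg (fun z : ℤ => (z : ℂ)) (hf ξ)
    have h2 := congrArg (fun z : ℤ => (z : ℂ)) (hd' ξ)
    push_cast at h1 h2
    by_cases hξ : ξ ∈ B
    · rw [Set.indicator_of_mem hξ, irr_one_eq, hee ξ hξ, h2]
      push_cast
      linear_combination -(p : ℂ) ^ b * (ξ : G → ℂ) g * h1
    · have hξ0 : (e ξ : ℂ) = 0 := by simp [hedef, hξ]
      rw [Set.indicator_of_notMem hξ, h2]
      linear_combination -(p : ℂ) ^ b * (ξ : G → ℂ) g * h1 - (d χ : ℂ) * (p : ℂ) ^ b * (ξ : G → ℂ) g * hξ0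
  have hvan : ∀ g, p ∣ orderOf g → Ψ g = 0 := by
    intro g hg
    refine (mul_eq_zero.mp ?_).resolve_left hp0
    rw [hval]
    have h1 : regPart p (χ : G → ℂ) g = 0 := if_pos hg
    have h2 : ∑ᶠ ξ ∈ B, (ξ : G → ℂ) 1 * (ξ : G → ℂ) g = 0 := by
      have h3 := blockCoeff_eq_zero_of_dvd_orderOf hM hB (g := g⁻¹) (by rwa [orderOf_inv])
      rw [blockCoeff, mul_eq_zero] at h3
      have h4 := h3.resolve_left (by simp)
      simpa [conj_irr] using h4
    rw [h1, h2]; ring
  obtain ⟨k, hk⟩ := exists_degree_eq_of_vanishes (CharCore.isGeneralized_sum_irr f) hvan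
  have hmain : (p : ℤ) ^ (b + 1) * ((p ^ a : ℕ) * k) =
      (e χ : ℤ) * ((p ^ a : ℕ) * (p ^ b * e χ : ℕ)) - d χ * (S : ℤ) := by
    have h := hval 1
    rw [hΨ, hk, regPart, if_neg (by simp [hp.out.ne_one]), irr_one_eq, hee χ hχ] at h
    have h5 : ∑ᶠ ξ ∈ B, (ξ : G → ℂ) 1 * (ξ : G → ℂ) 1 = (S : ℂ) := by
      rw [hS, finsum_mem_def, finsum_eq_sum_of_fintype, Nat.cast_sum]
      refine Finset.sum_congr rfl fun ξ _ => ?_
      by_cases hξ : ξ ∈ B
      · simp [hξ, irr_one_eq, sq]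
      · simp [hξ]
    rw [h5] at h
    exact_mod_cast h
  have hdχ : ¬ (p : ℤ) ∣ d χ := by
    intro hdvd
    obtain ⟨hne, hval'⟩ := (coeff_unit_iff hM hB hχ hχ).mp h0
    have : ((p : ℤ) ^ (b + 1)) ∣ coeff p χ χ := by
      rw [hd', pow_succ]
      push_cast
      exact mul_dvd_mul_left _ hdvd
    have h6 := ((padicValInt_dvd_iff (p := p) (b + 1) _).mp this).resolve_left hne
    omega
  have hS0 : S ≠ 0 := by
    rw [hS]
    intro h
    have h7 := Finset.sum_eq_zero_iff.mp h χ (Finset.mem_univ χ)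
    rw [if_pos hχ] at h7
    exact (charDegree_pos χ).ne' (pow_eq_zero_iff two_ne_zero |>.mp h7)
  rw [hd, show 2 * a - (a - b) = a + b by omega]
  have hdS : d χ * (S : ℤ) = (p : ℤ) ^ (a + b) * ((e χ : ℤ) ^ 2 - (p : ℤ) * k) := by
    push_cast at hmain
    linear_combination hmain
  have hu : ¬ (p : ℤ) ∣ (e χ : ℤ) ^ 2 - (p : ℤ) * k := by
    intro h
    have h8 : (p : ℤ) ∣ (e χ : ℤ) ^ 2 := by
      have := dvd_add h (dvd_mul_right (p : ℤ) k)
      simpa using this
    exact heχ (Int.natCast_dvd_natCast.mp ((Nat.prime_iff_prime_int.mp hp.out).dvd_of_dvd_pow h8))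
  have hq := Nat.prime_iff_prime_int.mp hp.out
  refine le_antisymm ?_ ?_
  · by_contra hlt
    have h9 : (p : ℤ) ^ (a + b + 1) ∣ d χ * (S : ℤ) := by
      refine dvd_mul_of_dvd_right ?_ _
      exact_mod_cast (pow_dvd_pow p (show a + b + 1 ≤ S.factorization p by omega)).trans
        (Nat.ordProj_dvd _ _)
    rw [hdS, pow_succ] at h9
    exact hu ((mul_dvd_mul_iff_left (pow_ne_zero _ (Nat.cast_ne_zero.mpr hp.out.ne_zero))).mp h9)
  · have h10 : (p : ℤ) ^ (a + b) ∣ (S : ℤ) :=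
      hq.pow_dvd_of_dvd_mul_left _ hdχ ⟨_, hdS⟩
    refine (hp.out.pow_dvd_iff_le_factorization hS0).mp ?_
    exact_mod_cast h10

/-- The block part of an induced character: the degree in terms of the block idempotent. -/
theorem blockPart_indFun_one (H : Subgroup G) [Fintype H] (B : Set (IrrCharacter G))
    (ξ : IrrCharacter H) :
    blockPart B (indFun H (ξ : H → ℂ)) 1 =
      indFun H (ξ : H → ℂ) 1 * omega (ξ : H → ℂ) (res H (blockCoeff B)) := by
  classical
  have e1 : blockPart B (indFun H (ξ : H → ℂ)) 1 =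
      ∑ χ : IrrCharacter G, B.indicator 1 χ *
        (classInner (fun h : H => (ξ : H → ℂ) h) (fun h : H => (χ : G → ℂ) h) * (χ : G → ℂ) 1) := by
    rw [blockPart, finsum_mem_def, finsum_eq_sum_of_fintype]
    refine Finset.sum_congr rfl fun χ _ => ?_
    rw [← CharInd.classInner_indFun_left H (ξ : H → ℂ) (irr_class χ)]
    by_cases hχ : χ ∈ B
    · simp only [Set.indicator_of_mem hχ, Pi.one_apply, one_mul]
      congr 2
      exact Subsingleton.elim _ _
    · simp [hχ]
  rw [e1, CharInd.indFun_apply_one, omega_eq_sum]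
  simp only [res, blockCoeff_eq_sum, classInner, Finset.mul_sum, Finset.sum_mul,
    Finset.sum_div]
  rw [Finset.sum_comm]
  refine Finset.sum_congr rfl fun h _ => Finset.sum_congr rfl fun χ _ => ?_
  have hG : (Nat.card G : ℂ) = (Nat.card H : ℂ) * (H.index : ℂ) := by
    exact_mod_cast H.card_mul_index.symm
  have h1 : (ξ : H → ℂ) 1 ≠ 0 := irr_one_ne_zero ξ
  have h2 : (H.index : ℂ) ≠ 0 := Nat.cast_ne_zero.mpr Subgroup.index_ne_zero_of_finite
  rw [hG, conj_irr]
  field_simp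

end Cfsg.Agent.BlkChar
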