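import Cfsg.Agent.BlkChar.SubsectionSum
import Cfsg.Agent.BC85.Pairs.AbelianInertia
import Cfsg.Agent.BC85.Pairs.Sharp

/-!
# Subsections of a block with abelian defect group

Below a maximal pair `(P, c)` with abelian `P` the stabilizer `T` controls fusion, so the pairs
`(x, f)` of the block with `x` a nontrivial element of prime power order are the conjugates of the
`(u, f_u)` with `u ∈ P`, two of them being conjugate exactly when they are conjugate in `T`.
-/

set_option autoImplicit false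
set_option linter.unusedSectionVars false

namespace Cfsg.Agent.BlkChar.AbelianSubsection

open BlocksCore BlocksDefect BC85 SubsectionSum

attribute [local instance] Fintype.ofFinite

variable {G : Type*} [Group G] [Finite G] {p : ℕ} [Fact p.Prime] {M : Ideal AlgInt}
  {B : Set (IrrCharacter G)} {P : Subgroup G} {c : Set (IrrCharacter (Subgroup.centralizer (P : Set G)))}

local notation "C[" Q "]" => Subgroup.centralizer (Q : Set G)

/-- Fusion between pairs below `(P, c)` is realized in the stabilizer. -/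
theorem exists_stab_of_below (hM : IsPModular p M) (hmax : IsMaximalBrauerPair p M B P c)
    (hab : ∀ x ∈ P, ∀ y ∈ P, x * y = y * x) {Q : Subgroup G} {f : Set (IrrCharacter C[Q])}
    (hle : SubpairLE p M Q f P c) {x : G}
    (hxle : SubpairLE p M (Q.map (MulAut.conj x).toMonoidHom) (conjBlock Q x f) P c) :
    ∃ y ∈ stabT P c, ∀ q ∈ Q, y * q * y⁻¹ = x * q * x⁻¹ := by
  have he := hmax.1.1
  have hF := isBlockFusionSystemOn_blockFusion hM hmax
  have hQP := subpairLE_le hle
  set R := Q.map (MulAut.conj x).toMonoidHom with hR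
  have hRP : R ≤ P := subpairLE_le hxle
  have hPC : P ≤ C[R] := fun u hu =>
    Subgroup.mem_centralizer_iff.mpr fun q hq => hab q (hRP hq) u hu
  have hfc : (blockFusion hM he).IsFullyCentralized R := ⟨hRP, fun S _ => by
    rw [FusionSystem.centralizerIn, FusionSystem.centralizerIn, inf_eq_left.mpr hPC]
    exact Subgroup.card_le_of_le inf_le_left⟩
  have hrec := receptive_of_defect hM hF hxle ((fullyCentralized_iff hM hF hxle).mp hfc)
  have hiso : Fusion.IsIso (blockFusion hM he) Q R (fun q => x * q * x⁻¹) :=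
    ⟨⟨conjHom Q x, ⟨hQP, x, fun u => rfl, hRP, f, hle, hxle⟩, fun u => rfl⟩, rfl⟩
  have hext : Fusion.IsExtendable P Q (fun q => x * q * x⁻¹) P := by
    refine ⟨le_rfl, fun g hg => ?_⟩
    have hcomm : ∀ q ∈ Q, g * q * g⁻¹ = q := fun q hq =>
      mul_inv_eq_iff_eq_mul.mpr (hab g hg q (hQP hq))
    refine ⟨Subgroup.centralizer_le_normalizer _ (Subgroup.mem_centralizer_iff.mpr fun q hq =>
      hab q (hQP hq) g hg), 1, P.one_mem, fun q hq => ?_⟩
    show x * (g * q * g⁻¹) * x⁻¹ = _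
    rw [hcomm q hq]
    group
  obtain ⟨f', hf', heq⟩ := Fusion.receptive_extend hrec hiso hext
  rw [sup_eq_right.mpr hQP] at hf'
  obtain ⟨φ, ⟨-, y, hy, hyP, g, hg, hgy⟩, hφ⟩ := hf'
  obtain rfl : g = c := below_unique hM he hg Relation.ReflTransGen.refl
  have hPy : P.map (MulAut.conj y).toMonoidHom = P :=
    Subgroup.eq_of_le_of_card_ge hyP (natCard_map_conj P y).ge
  exact ⟨y, conjPair_eq_self_iff.mp (below_eq hM he (b := ⟨P, g⟩) hgy Relation.ReflTransGen.refl hPy),
    fun q hq => ((hy ⟨q, hQP hq⟩).symm.trans (hφ _)).trans (heq hq)⟩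

theorem card_centralizer_conjPair (g : G) (a : BrauerPairIdx G) :
    Nat.card C[(conjPair g a).1] = Nat.card C[a.1] :=
  Nat.card_congr (conjIso C[a.1] _ g (mem_centralizer_map_conj a.1 g)).toEquiv

theorem blockRank_conjPair (g : G) (a : BrauerPairIdx G) :
    blockRank p (conjPair g a).2 = blockRank p a.2 := by
  show blockRank p (conjBlock a.1 g a.2) = _
  rw [conjBlock_eq]
  exact blockRank_pullIrr _ _

theorem map_conj_zpowers (g u : G) :
    (Subgroup.zpowers u).map (MulAut.conj g).toMonoidHom = Subgroup.zpowers (g * u * g⁻¹) := by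
  rw [MonoidHom.map_zpowers]
  rfl

/-- `|G| (k - l)` as a sum over the pairs at nontrivial elements of prime power order. -/
theorem natCard_mul_eq_pairs (hM : IsPModular p M) (hB : IsPBlock M B)
    [Fintype (G × BrauerPairIdx G)] (S : Finset (G × BrauerPairIdx G))
    (hS : ∀ a, a ∈ S ↔ a.1 ≠ 1 ∧ (∃ k : ℕ, orderOf a.1 = p ^ k) ∧ a.2.1 = Subgroup.zpowers a.1 ∧
      IsInducedBlock M C[a.2.1] a.2.2 B) :
    Nat.card G * Nat.card B =
      Nat.card G * blockRank p B + ∑ a ∈ S, Nat.card C[a.2.1] * blockRank p a.2.2 := by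
  classical
  have := isPrime hM
  let P₀ : Finset G := Finset.univ.filter fun x => ∃ k : ℕ, orderOf x = p ^ k
  have h1 : (1 : G) ∈ P₀ := Finset.mem_filter.mpr ⟨Finset.mem_univ _, 0, by simp⟩
  rw [natCard_mul_block hM hB P₀ (fun x => by simp [P₀]), ← Finset.add_sum_erase _ _ h1]
  have htop : Subgroup.centralizer ({(1 : G)} : Set G) = ⊤ :=
    eq_top_iff.mpr fun g _ => Subgroup.mem_centralizer_singleton_iff.mpr (by simp)
  have hset : {β : Set (IrrCharacter (⊤ : Subgroup G)) | IsInducedBlock M (⊤ : Subgroup G) β B} =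
      {pullIrr Subgroup.topEquiv '' B} := by
    ext β
    exact induced_top_iff hM hB
  congr 1
  · rw [htop, Subgroup.card_top, blockW, hset, finsum_mem_singleton]
    exact congrArg _ (blockRank_pullIrr _ _)
  · have hfin : ∀ x : G, Finite (Set (IrrCharacter C[(Subgroup.zpowers x : Subgroup G)])) :=
      fun x => finite_sets _
    let Ax : ∀ x : G, Finset (Set (IrrCharacter C[(Subgroup.zpowers x : Subgroup G)])) := fun x =>
      (Set.toFinite {f | IsInducedBlock M C[(Subgroup.zpowers x : Subgroup G)] f B}).toFinset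
    have hAx : ∀ x f, f ∈ Ax x ↔ IsInducedBlock M C[(Subgroup.zpowers x : Subgroup G)] f B :=
      fun x f => Set.Finite.mem_toFinset _
    rw [Finset.sum_congr rfl (g := fun x => ∑ f ∈ Ax x,
      Nat.card C[(Subgroup.zpowers x : Subgroup G)] * blockRank p f) fun x _ => ?_]
    · rw [Finset.sum_sigma']
      refine Finset.sum_bij (fun q _ => (q.1, (⟨Subgroup.zpowers q.1, q.2⟩ : BrauerPairIdx G)))
        ?_ ?_ ?_ ?_
      · intro q hq
        obtain ⟨hx, hf⟩ := Finset.mem_sigma.mp hq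
        obtain ⟨hne, hx'⟩ := Finset.mem_erase.mp hx
        exact (hS _).mpr ⟨hne, (Finset.mem_filter.mp hx').2, rfl, (hAx _ _).mp hf⟩
      · rintro ⟨x, f⟩ _ ⟨x', f'⟩ _ h
        simp only [Prod.mk.injEq, Sigma.mk.inj_iff] at h
        obtain ⟨rfl, -, h2⟩ := h
        rw [eq_of_heq h2]
      · rintro ⟨x, Q, f⟩ ha
        obtain ⟨hne, hx, hQ, hf⟩ := (hS _).mp ha
        change Q = Subgroup.zpowers x at hQ
        subst hQ
        exact ⟨⟨x, f⟩, Finset.mem_sigma.mpr ⟨Finset.mem_erase.mpr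
          ⟨hne, Finset.mem_filter.mpr ⟨Finset.mem_univ _, hx⟩⟩, (hAx _ _).mpr hf⟩, rfl⟩
      · exact fun _ _ => rfl
    · rw [← centralizer_zpowers, blockW, finsum_mem_eq_finite_toFinset_sum _ (Set.toFinite _),
        Finset.mul_sum]

section Free

variable (hM : IsPModular p M) (hmax : IsMaximalBrauerPair p M B P c)
  (hab : ∀ x ∈ P, ∀ y ∈ P, x * y = y * x)
  (hfree : ∀ g : G, g ∈ stabT P c → ∀ x : G, x ∈ P → x ≠ 1 → g * x * g⁻¹ = x →
    g ∈ Subgroup.centralizer ((P : Subgroup G) : Set G))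

include hM hmax hab hfree

theorem blockRank_below {u : G} (hu : u ∈ P) (hu1 : u ≠ 1)
    {f : Set (IrrCharacter C[(Subgroup.zpowers u : Subgroup G)])}
    (hle : SubpairLE p M (Subgroup.zpowers u) f P c) : blockRank p f = 1 := by
  have hPC : P ≤ C[(Subgroup.zpowers u : Subgroup G)] := fun v hv =>
    Subgroup.mem_centralizer_iff.mpr fun q hq => hab q ((Subgroup.zpowers_le.mpr hu) hq) v hv
  have hnil := (free_iff_local_nilpotent hM hmax hab).mp hfree _ (Subgroup.zpowers_le.mpr hu)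
    (Subgroup.zpowers_ne_bot.mpr hu1) f hle
  have hfc := (fullyCentralized_iff hM (isBlockFusionSystemOn_blockFusion hM hmax) hle).mp
    ⟨Subgroup.zpowers_le.mpr hu, fun R _ => by
      rw [FusionSystem.centralizerIn, FusionSystem.centralizerIn, inf_eq_left.mpr hPC]
      exact Subgroup.card_le_of_le inf_le_left⟩
  rw [inf_eq_left.mpr hPC] at hfc
  exact (rank_one_of_abelian hM hnil hfc fun x hx y hy =>
    Subtype.ext (hab (x : G) hx (y : G) hy)).1

/-- The number of `T`-conjugates of a nontrivial element of `P`. -/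
theorem card_orbit {u : G} (hu : u ∈ P) (hu1 : u ≠ 1) :
    Nat.card {v : G // ∃ t ∈ stabT P c, t * u * t⁻¹ = v} = C[P].relIndex (stabT P c) := by
  let φ : stabT P c ⧸ C[P].subgroupOf (stabT P c) → {v : G // ∃ t ∈ stabT P c, t * u * t⁻¹ = v} :=
    fun q => Quotient.liftOn' q (fun t => ⟨(t : G) * u * (t : G)⁻¹, t, t.2, rfl⟩) fun a b hab' => by
      have hk' := QuotientGroup.leftRel_apply.mp hab'
      have hk : (a : G)⁻¹ * b ∈ C[P] := hk'
      refine Subtype.ext ?_
      show (a : G) * u * (a : G)⁻¹ = b * u * (b : G)⁻¹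
      have h1 : u * ((a : G)⁻¹ * b) = (a : G)⁻¹ * b * u := Subgroup.mem_centralizer_iff.mp hk u hu
      calc (a : G) * u * (a : G)⁻¹ = a * (u * ((a : G)⁻¹ * b)) * (b : G)⁻¹ := by group
        _ = b * u * (b : G)⁻¹ := by rw [h1]; group
  refine (Nat.card_eq_of_bijective φ ⟨?_, ?_⟩).symm
  · intro q q'
    refine Quotient.inductionOn₂' q q' fun a b h => ?_
    have h' : (a : G) * u * (a : G)⁻¹ = b * u * (b : G)⁻¹ := congrArg Subtype.val h
    refine QuotientGroup.eq.mpr (hfree _ (mul_mem (inv_mem a.2) b.2) u hu hu1 ?_)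
    show (a : G)⁻¹ * b * u * ((a : G)⁻¹ * b)⁻¹ = u
    calc (a : G)⁻¹ * b * u * ((a : G)⁻¹ * b)⁻¹ = (a : G)⁻¹ * (b * u * (b : G)⁻¹) * a := by group
      _ = u := by rw [← h']; group
  · rintro ⟨v, t, ht, rfl⟩
    exact ⟨Quotient.mk'' ⟨t, ht⟩, rfl⟩

/-- `e (k - l) = |P| - 1` for a free inertial action. -/
theorem mul_card_eq (hB : IsPBlock M B) :
    C[P].relIndex (stabT P c) * Nat.card B =
      C[P].relIndex (stabT P c) * blockRank p B + (Nat.card P - 1) := by
  classical
  have := isPrime hM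
  have hP : IsPGroup p P := hmax.1.1.1
  have := finite_irr (G := G)
  have : Finite (Subgroup G) := Finite.of_injective _ SetLike.coe_injective
  have : ∀ Q : Subgroup G, Finite (Set (IrrCharacter C[Q])) := fun Q => finite_sets _
  have : Finite (BrauerPairIdx G) := inferInstanceAs (Finite (Σ Q : Subgroup G, Set (IrrCharacter C[Q])))
  set e := C[P].relIndex (stabT P c) with he
  let Pst := {u : G // u ∈ P ∧ u ≠ 1}
  choose fb hfb using fun u : Pst => exists_below hM hmax.1.1 (Subgroup.zpowers_le.mpr u.2.1)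
  let S : Finset (G × BrauerPairIdx G) := Finset.univ.filter fun a =>
    a.1 ≠ 1 ∧ (∃ k : ℕ, orderOf a.1 = p ^ k) ∧ a.2.1 = Subgroup.zpowers a.1 ∧
      IsInducedBlock M C[a.2.1] a.2.2 B
  let Φ : G × Pst → G × BrauerPairIdx G := fun q =>
    (q.1 * q.2.1 * q.1⁻¹, conjPair q.1 ⟨Subgroup.zpowers q.2.1, fb q.2⟩)
  have hpair : ∀ q : G × Pst,
      IsBrauerPairOf p M B (Φ q).2.1 (Φ q).2.2 := fun q =>
    pairOf_conj hM (a := ⟨_, fb q.2⟩) ((subpairLE_pairOf_iff hM (hfb q.2) B).mp hmax.1) q.1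
  have hord : ∀ u : Pst, ∃ k : ℕ, orderOf u.1 = p ^ k := fun u => by
    obtain ⟨k, hk⟩ := IsPGroup.iff_orderOf.mp hP ⟨u.1, u.2.1⟩
    exact ⟨k, by rw [← hk, Subgroup.orderOf_mk]⟩
  have hind : ∀ (Q : Subgroup G) (f : Set (IrrCharacter C[Q])), Q ≤ C[Q] →
      IsBrauerPairOf p M B Q f → IsInducedBlock M C[Q] f B := fun Q f hQ h =>
    isInducedBlock_of_over hM hQ le_rfl h h.1.2 fun θ hθ => by
      show θ ∈ unitSet M (pullFun (C[Q]).subtype (bp ⟨Q, f⟩))
      rw [pullFun_bp, unitSet_blockCoeff hM]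
      exact hθ
  have hzC : ∀ x : G, (Subgroup.zpowers x : Subgroup G) ≤ C[(Subgroup.zpowers x : Subgroup G)] :=
    fun x => by
      rw [centralizer_zpowers]
      exact Subgroup.zpowers_le.mpr (Subgroup.mem_centralizer_singleton_iff.mpr rfl)
  have hΦS : ∀ q : G × Pst, Φ q ∈ S := by
    intro q
    refine Finset.mem_filter.mpr ⟨Finset.mem_univ _, fun h => q.2.2.2 (conj_eq_one_iff.mp h), ?_,
      map_conj_zpowers q.1 q.2.1, hind _ _ ?_ (hpair q)⟩
    · obtain ⟨k, hk⟩ := hord q.2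
      exact ⟨k, by show orderOf (q.1 * q.2.1 * q.1⁻¹) = _; rw [orderOf_conjugate, hk]⟩
    · show (Subgroup.zpowers q.2.1).map (MulAut.conj q.1).toMonoidHom ≤
        C[((Subgroup.zpowers q.2.1).map (MulAut.conj q.1).toMonoidHom : Subgroup G)]
      rw [map_conj_zpowers]
      exact hzC _
  have hfib : ∀ a ∈ S, (Finset.univ.filter fun q : G × Pst => Φ q = a).card =
      Nat.card C[a.2.1] * e ∧ blockRank p a.2.2 = 1 := by
    intro a ha
    obtain ⟨hne, hk, hz, hf⟩ := (Finset.mem_filter.mp ha).2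
    obtain ⟨x, Q, f⟩ := a
    simp only at hne hk hz hf
    subst hz
    obtain ⟨k, hk⟩ := hk
    have hof := pairOf_of_induced hM (P := Subgroup.zpowers x) (isPGroup_zpowers hk) (hzC x) hf
    obtain ⟨g, hg⟩ := exists_conj_below hM hmax hof
    have hgle : (Subgroup.zpowers x).map (MulAut.conj g).toMonoidHom ≤ P := subpairLE_le hg
    rw [map_conj_zpowers] at hgle
    set u₀ : Pst := ⟨g * x * g⁻¹, hgle (Subgroup.mem_zpowers _), fun h => hne (conj_eq_one_iff.mp h)⟩
    have hu₀ : conjPair g (⟨Subgroup.zpowers x, f⟩ : BrauerPairIdx G) =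
        ⟨Subgroup.zpowers u₀.1, fb u₀⟩ :=
      below_eq hM hmax.1.1 (a := conjPair g ⟨Subgroup.zpowers x, f⟩) hg (hfb u₀) (map_conj_zpowers g x)
    refine ⟨?_, ?_⟩
    swap
    · show blockRank p (⟨Subgroup.zpowers x, f⟩ : BrauerPairIdx G).2 = 1
      rw [← blockRank_conjPair g, hu₀]
      exact blockRank_below hM hmax hab hfree u₀.2.1 u₀.2.2 (hfb u₀)
    · -- the fibre
      let O := {v : G // ∃ t ∈ stabT P c, t * u₀.1 * t⁻¹ = v}
      have horb : Nat.card O = e := card_orbit hM hmax hab hfree u₀.2.1 u₀.2.2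
      choose t ht htv using fun v : O => v.2
      have hvP : ∀ v : O, v.1 ∈ P ∧ v.1 ≠ 1 := fun v => by
        rw [← htv v]
        exact ⟨(Subgroup.mem_normalizer_iff.mp (ht v).1 _).mp u₀.2.1,
          fun h => u₀.2.2 (conj_eq_one_iff.mp h)⟩
      let ι : C[(Subgroup.zpowers x : Subgroup G)] × O → G × Pst :=
        fun q => ((q.1 : G) * g⁻¹ * (t q.2)⁻¹, ⟨q.2.1, hvP q.2⟩)
      have htpair : ∀ v : O, conjPair (t v) (⟨Subgroup.zpowers u₀.1, fb u₀⟩ : BrauerPairIdx G) =
          ⟨Subgroup.zpowers v.1, fb ⟨v.1, hvP v⟩⟩ := fun v => by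
        refine below_eq hM hmax.1.1 (a := conjPair (t v) ⟨_, fb u₀⟩) ?_ (hfb ⟨v.1, hvP v⟩)
          ((map_conj_zpowers (t v) u₀.1).trans (by rw [htv v]))
        show Relation.ReflTransGen (NormalSubpairRel p M) (conjPair (t v) ⟨_, fb u₀⟩) _
        have h := subpairLE_conj hM (a := ⟨_, fb u₀⟩) (b := ⟨P, c⟩) (hfb u₀) (t v)
        rwa [conjPair_eq_self_iff.mpr (ht v)] at h
      rw [← horb, ← Nat.card_prod, Nat.card_eq_fintype_card, ← Finset.card_univ]
      symm
      refine Finset.card_bij (fun q _ => ι q) ?_ ?_ ?_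
      · intro q _
        refine Finset.mem_filter.mpr ⟨Finset.mem_univ _, ?_⟩
        have hkx : (q.1 : G) * x * (q.1 : G)⁻¹ = x :=
          mul_inv_eq_iff_eq_mul.mpr
            (Subgroup.mem_centralizer_iff.mp q.1.2 x (Subgroup.mem_zpowers x)).symm
        refine Prod.ext ?_ ?_
        · show (q.1 : G) * g⁻¹ * (t q.2)⁻¹ * q.2.1 * ((q.1 : G) * g⁻¹ * (t q.2)⁻¹)⁻¹ = x
          rw [← htv q.2]
          show (q.1 : G) * g⁻¹ * (t q.2)⁻¹ * (t q.2 * (g * x * g⁻¹) * (t q.2)⁻¹) *
            ((q.1 : G) * g⁻¹ * (t q.2)⁻¹)⁻¹ = x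
          calc _ = (q.1 : G) * x * (q.1 : G)⁻¹ := by group
            _ = x := hkx
        · show conjPair ((q.1 : G) * g⁻¹ * (t q.2)⁻¹) ⟨_, fb ⟨q.2.1, hvP q.2⟩⟩ = _
          rw [← htpair, ← hu₀, conjPair_conjPair, conjPair_conjPair,
            show (q.1 : G) * g⁻¹ * (t q.2)⁻¹ * t q.2 * g = q.1 by group]
          exact conjPair_eq_self_iff.mpr (le_sup_right.trans (le_stabT _ f) q.1.2)
      · rintro ⟨k₁, v₁⟩ _ ⟨k₂, v₂⟩ _ h
        have hv : v₁ = v₂ := Subtype.ext (congrArg (fun z : G × Pst => z.2.1) h)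
        subst hv
        have h1 := congrArg Prod.fst h
        simp only [ι, mul_left_inj] at h1
        rw [Subtype.ext h1]
      · rintro ⟨h, u⟩ hq
        obtain ⟨hq1, hq2⟩ := Prod.ext_iff.mp (Finset.mem_filter.mp hq).2
        have hgh : conjPair (g * h) (⟨Subgroup.zpowers u.1, fb u⟩ : BrauerPairIdx G) =
            ⟨Subgroup.zpowers u₀.1, fb u₀⟩ := by
          rw [← conjPair_conjPair, show conjPair h (⟨Subgroup.zpowers u.1, fb u⟩ : BrauerPairIdx G) =
            ⟨Subgroup.zpowers x, f⟩ from hq2, hu₀]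
        obtain ⟨y, hy, hyq⟩ := exists_stab_of_below hM hmax hab (hfb u) (x := g * h) (by
          show Relation.ReflTransGen (NormalSubpairRel p M) (conjPair (g * h) ⟨_, fb u⟩) _
          rw [hgh]; exact hfb u₀)
        change h * u.1 * h⁻¹ = x at hq1
        have hyu : y⁻¹ * u₀.1 * y⁻¹⁻¹ = u.1 := by
          have h2 := hyq u.1 (Subgroup.mem_zpowers _)
          show y⁻¹ * (g * x * g⁻¹) * y⁻¹⁻¹ = u.1
          rw [← hq1]
          calc y⁻¹ * (g * (h * u.1 * h⁻¹) * g⁻¹) * y⁻¹⁻¹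
              = y⁻¹ * (g * h * u.1 * (g * h)⁻¹) * y := by group
            _ = u.1 := by rw [← h2]; group
        let v : O := ⟨u.1, y⁻¹, inv_mem hy, hyu⟩
        have hkx : h * t v * g ∈ C[(Subgroup.zpowers x : Subgroup G)] := by
          rw [centralizer_zpowers, Subgroup.mem_centralizer_singleton_iff]
          refine mul_inv_eq_iff_eq_mul.mp ?_
          calc h * t v * g * x * (h * t v * g)⁻¹
              = h * (t v * (g * x * g⁻¹) * (t v)⁻¹) * h⁻¹ := by group
            _ = x := by rw [show t v * (g * x * g⁻¹) * (t v)⁻¹ = u.1 from htv v]; exact hq1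
        refine ⟨(⟨_, hkx⟩, v), Finset.mem_univ _, Prod.ext ?_ rfl⟩
        show h * t v * g * g⁻¹ * (t v)⁻¹ = h
        group
  have hcount : Nat.card G * (Nat.card P - 1) = e * ∑ a ∈ S, Nat.card C[a.2.1] * blockRank p a.2.2 := by
    have hPst : Nat.card Pst = Nat.card P - 1 := by
      rw [← Nat.card_congr (Equiv.subtypeSubtypeEquivSubtypeInter (fun u : G => u ∈ P) (fun u => u ≠ 1)),
        Nat.card_eq_fintype_card, Nat.card_eq_fintype_card (α := P)]
      rw [← Fintype.card_congr (Equiv.subtypeEquivRight (p := fun u : P => u ≠ 1)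
        (q := fun u : P => (u : G) ≠ 1) fun u => ⟨fun h h' => h (Subtype.ext h'),
          fun h h' => h (congrArg Subtype.val h')⟩)]
      rw [Fintype.card_subtype_compl, Fintype.card_subtype_eq]
    rw [← hPst, ← Nat.card_prod, Nat.card_eq_fintype_card, ← Finset.card_univ,
      Finset.card_eq_sum_card_fiberwise (f := Φ) (t := S) fun q _ => hΦS q, Finset.mul_sum]
    exact Finset.sum_congr rfl fun a ha => by rw [(hfib a ha).1, (hfib a ha).2, mul_one, mul_comm]
  refine Nat.eq_of_mul_eq_mul_left (n := Nat.card G) Nat.card_pos ?_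
  rw [mul_add, hcount, mul_left_comm, natCard_mul_eq_pairs hM hB S (fun a => by simp [S])]
  ring

end Free

end Cfsg.Agent.BlkChar.AbelianSubsection
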