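import Cfsg.Agent.BlkChar.CyclicAction
import Cfsg.Agent.Lib.CharCore.ConjAut
import Cfsg.Agent.Lib.CharCore.GlaubermanSolvable
import Cfsg.Agent.CharB.CliffordDegree

/-!
# Characters of degree prime to a complement
-/

namespace Cfsg.Agent.BlkChar

open CharDeep.Ext (avg)

open scoped ComplexConjugate

universe u v w

theorem card_irr_congr {A : Type u} [Group A] [Finite A] {B : Type w} [Group B] [Finite B]
    (e : A ≃* B) : Nat.card (IrrCharacter A) = Nat.card (IrrCharacter B) := by
  rw [CharCore.card_irr, CharCore.card_irr]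
  refine Nat.card_congr (Equiv.ofBijective (ConjClasses.map e.toMonoidHom) ⟨?_, ?_⟩)
  · intro a b h
    obtain ⟨x, rfl⟩ := ConjClasses.exists_rep a
    obtain ⟨y, rfl⟩ := ConjClasses.exists_rep b
    change ConjClasses.mk (e x) = ConjClasses.mk (e y) at h
    rw [ConjClasses.mk_eq_mk_iff_isConj] at h ⊢
    simpa using e.symm.toMonoidHom.map_isConj h
  · exact ConjClasses.map_surjective e.surjective

/-- Coprime solvable operators: as many invariant irreducible characters as irreducible characters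
of the fixed points. -/
theorem card_inv_irr_eq_card_irr_fixed :
    ∀ (n : ℕ) (A : Type v) [Group A] [Finite A] [Group.IsSolvable A] (G : Type u) [Group G]
      [Finite G] (φ : A →* MulAut G) (C : Type u) [Group C] [Finite C] (ι : C →* G),
      Function.Injective ι → (∀ g, g ∈ ι.range ↔ ∀ a, φ a g = g) → Nat.card A = n →
      (Nat.card G).Coprime (Nat.card A) →
      Nat.card {χ : IrrCharacter G // CharCore.IsInvFun φ (χ : G → ℂ)} =
        Nat.card (IrrCharacter C) := by
  intro n
  induction n using Nat.strong_induction_on with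
  | _ n ih =>
    intro A _ _ _ G _ _ φ C _ _ ι hι hC hn hcop
    rcases subsingleton_or_nontrivial A with hA | hA
    · have h1 : ∀ χ : IrrCharacter G, CharCore.IsInvFun φ (χ : G → ℂ) := fun χ a g => by
        rw [Subsingleton.elim a 1, map_one, MulAut.one_apply]
      rw [Nat.card_congr (Equiv.subtypeUnivEquiv h1)]
      refine (card_irr_congr (MulEquiv.ofBijective ι ⟨hι, fun g => (hC g).mpr fun a => ?_⟩)).symm
      rw [Subsingleton.elim a 1, map_one, MulAut.one_apply]
    · obtain ⟨p, B, hp, hBn, hB0, hBp⟩ := CharCore.exists_normal_pgroup (A := A)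
      have := Fact.mk hp
      have := Fintype.ofFinite G
      have hpG := CharCore.not_dvd_card_of_coprime hcop hp hBp hB0
      set H := CharCore.fixedSubgroup (φ.comp B.subtype) with hH
      have := Fintype.ofFinite H
      rw [CharCore.card_inv_irr_step (ψ := CharCore.restrictAut φ H
          (CharCore.fixedSubgroup_invariant φ B)) H.subtype_injective
        (CharCore.mem_range_subtype_fixed _) hBp hpG fun a c => rfl]
      have hmem : ∀ c, ι c ∈ H := fun c b => (hC _).mp ⟨c, rfl⟩ (b : A)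
      refine (Nat.card_congr (Equiv.subtypeEquivRight fun β => ?_)).trans
        (ih _ (hn ▸ CharCore.card_quotient_lt B hB0) (A ⧸ B) H (CharCore.quotientAut φ B) C
          (ι.codRestrict H hmem) (fun a b h => hι (congrArg Subtype.val h)) (fun x => ?_) rfl
          (CharCore.coprime_quotient hcop B H))
      · exact (CharCore.isInvFun_quotientAut φ B _).symm
      · constructor
        · rintro ⟨c, rfl⟩ a
          obtain ⟨a, rfl⟩ := QuotientGroup.mk_surjective a
          exact Subtype.ext ((hC _).mp ⟨c, rfl⟩ a)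
        · intro h
          obtain ⟨c, hc⟩ := (hC (x : G)).mpr fun a => congrArg Subtype.val (h (a : A ⧸ B))
          exact ⟨c, Subtype.ext hc⟩

variable {G : Type u} [Group G] [Finite G]

/-- A character of degree prime to the index of a normal subgroup restricts irreducibly. -/
theorem isIrrCharacter_restrict_of_coprime (K : Subgroup G) [K.Normal] [Fintype G] [Fintype K]
    (χ : IrrCharacter G) (h : (charDegree (χ : G → ℂ)).Coprime K.index) :
    IsIrrCharacter K (fun k : K => (χ : G → ℂ) k) := by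
  have hc := CharCore.isCharacter_restrict (CharCore.irr_isCharacter χ) K
  obtain ⟨c, hc0, hc1, hcd⟩ := exists_degree' χ
  obtain ⟨θ, hθ⟩ : ∃ θ : IrrCharacter K, classInner (fun k : K => (χ : G → ℂ) k) (θ : K → ℂ) ≠ 0 := by
    by_contra hall
    push Not at hall
    have h1 := congrFun (CharCore.IsCharacter.eq_sum_classInner hc) 1
    simp [hall, hc1, hc0.ne'] at h1
  obtain ⟨d, hd0, hd1, -⟩ := exists_degree' θ
  obtain ⟨hdc, hdi⟩ := CharB.degree_dvd K χ.2 θ.2 hθ hc1 hd1
  rw [hcd] at h
  have h1 : c / d = 1 := Nat.eq_one_of_dvd_coprimes h (Nat.div_dvd_of_dvd hdc) hdi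
  rw [eq_of_constituent_of_degree hc θ hθ (by
    show (χ : G → ℂ) ((1 : K) : G) = _
    rw [OneMemClass.coe_one, hc1, hd1, ← Nat.div_mul_cancel hdc, h1, one_mul])]
  exact θ.2

/-- The irreducible characters of `G = K H` of degree prime to `|H|`. -/
theorem card_coprime_degree (K H : Subgroup G) [hK : K.Normal] (hKH : K ⊔ H = ⊤)
    (hcop : (Nat.card K).Coprime (Nat.card H)) :
    Nat.card {χ : IrrCharacter G // (charDegree (χ : G → ℂ)).Coprime (Nat.card H)} =
      Nat.card {θ : IrrCharacter K //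
        ∀ s ∈ H, ∀ g g' : K, (g' : G) = s * g * s⁻¹ → (θ : K → ℂ) g' = (θ : K → ℂ) g} *
      Nat.card (H →* ℂˣ) := by
  classical
  haveI := Fintype.ofFinite G
  haveI := Fintype.ofFinite K
  let j : H →* G ⧸ K := (QuotientGroup.mk' K).comp H.subtype
  have hj : Function.Bijective j := by
    constructor
    · rw [injective_iff_map_eq_one]
      intro h hh
      have h1 : (h : G) ∈ K := (QuotientGroup.eq_one_iff _).mp hh
      have h2 : (h : G) = 1 := Subgroup.mem_bot.mp <|
        (Subgroup.inf_eq_bot_of_coprime hcop) ▸ ⟨h1, h.2⟩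
      exact Subtype.ext h2
    · intro q
      obtain ⟨y, rfl⟩ := QuotientGroup.mk'_surjective K q
      obtain ⟨k, hk, h, hh, rfl⟩ := Subgroup.mem_sup_of_normal_left.mp
        (hKH ▸ Subgroup.mem_top y : y ∈ K ⊔ H)
      exact ⟨⟨h, hh⟩, by simp [j, (QuotientGroup.eq_one_iff k).mpr hk]⟩
  let e := MulEquiv.ofBijective j hj
  let lift : (H →* ℂˣ) → (G →* ℂˣ) := fun m => (m.comp e.symm.toMonoidHom).comp (QuotientGroup.mk' K)
  have hlift : ∀ (m : H →* ℂˣ) (h : H), lift m h = m h := fun m h => by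
    show m (e.symm (e h)) = m h
    rw [e.symm_apply_apply]
  have hliftK : ∀ (m : H →* ℂˣ) (k : K), lift m k = 1 := fun m k => by
    show m (e.symm (QuotientGroup.mk' K (k : G))) = 1
    rw [show QuotientGroup.mk' K (k : G) = 1 from (QuotientGroup.eq_one_iff _).mpr k.2, map_one,
      map_one]
  choose ext hext huni using fun θ : {θ : IrrCharacter K //
      ∀ s ∈ H, ∀ g g' : K, (g' : G) = s * g * s⁻¹ → (θ : K → ℂ) g' = (θ : K → ℂ) g} =>
    exists_canonical K H hcop hKH θ.1 θ.2
  have hidx : K.index = Nat.card H := by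
    rw [Subgroup.index_eq_card]; exact (Nat.card_congr e.toEquiv).symm
  have hdeg : ∀ θ (m : H →* ℂˣ),
      (charDegree (fun y => ((lift m y : ℂˣ) : ℂ) * ext θ y)).Coprime (Nat.card H) := by
    intro θ m
    obtain ⟨d, -, hd1, hdd⟩ := exists_degree' θ.1
    have h1 : ext θ 1 = d := by
      have h := (hext θ).2.1 1
      rw [OneMemClass.coe_one] at h
      rw [h, hd1]
    rw [charDegree_of_eq (n := d) (by rw [map_one, Units.val_one, one_mul, h1])]
    exact hcop.coprime_dvd_left (hdd ▸ BlocksCore.charDegree_dvd_card θ.1)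
  rw [← Nat.card_prod]
  symm
  refine Nat.card_eq_of_bijective (fun q => ⟨⟨_, CharCore.isIrrCharacter_hom_mul (lift q.2)
    (hext q.1).1⟩, hdeg q.1 q.2⟩) ⟨?_, ?_⟩
  · rintro ⟨θ, m⟩ ⟨θ', m'⟩ h
    have h' : (fun y => ((lift m y : ℂˣ) : ℂ) * ext θ y) =
        fun y => ((lift m' y : ℂˣ) : ℂ) * ext θ' y := congrArg (fun z => z.1.1) h
    have hθ : θ = θ' := by
      refine Subtype.ext (Subtype.ext (funext fun k => ?_))
      have h1 := congrFun h' (k : G)
      simp only [hliftK, Units.val_one, one_mul, (hext θ).2.1, (hext θ').2.1] at h1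
      exact h1
    subst hθ
    have hres : IsIrrCharacter K (fun k : K => ext θ k) := by
      rw [show (fun k : K => ext θ k) = (θ.1 : K → ℂ) from funext (hext θ).2.1]; exact θ.1.2
    refine Prod.ext rfl (MonoidHom.ext fun x => ?_)
    have key : ∀ n : H →* ℂˣ, avg K (fun y => ((lift n y : ℂˣ) : ℂ) * ext θ y * conj (ext θ y))
        (x : G) = (n x : ℂ) := by
      intro n
      have h1 := congrFun (CharDeep.Ext.avg_mul_conj_self (hext θ).1 hres) (x : G)
      rw [CharDeep.Ext.avg_apply, Pi.one_apply] at h1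
      rw [CharDeep.Ext.avg_apply]
      calc _ = (n x : ℂ) * ((Nat.card K : ℂ)⁻¹ * ∑ k : K, ext θ ((k : G) * x) * conj (ext θ ((k : G) * x))) := by
            simp only [map_mul, hliftK, one_mul, hlift, Finset.mul_sum]
            exact Finset.sum_congr rfl fun k _ => by ring
        _ = _ := by rw [h1, mul_one]
    refine Units.ext ?_
    rw [← key m, ← key m']
    congr 1
    funext y
    have := congrFun h' y
    simp only [this]
  · rintro ⟨χ, hχ⟩
    have hres := isIrrCharacter_restrict_of_coprime K χ (hidx ▸ hχ)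
    let θ : IrrCharacter K := ⟨_, hres⟩
    have hinv : ∀ s ∈ H, ∀ g g' : K, (g' : G) = s * g * s⁻¹ → (θ : K → ℂ) g' = (θ : K → ℂ) g := by
      intro s _ g g' he
      show (χ : G → ℂ) (g' : G) = (χ : G → ℂ) (g : G)
      rw [he]; exact CharCore.irr_isClassFunction χ _ _
    have hr : IsIrrCharacter K (fun k : K => ext ⟨θ, hinv⟩ k) := by
      rw [show (fun k : K => ext ⟨θ, hinv⟩ k) = (θ : K → ℂ) from funext (hext ⟨θ, hinv⟩).2.1]
      exact θ.2
    have hnz : classInner (fun k : K => (χ : G → ℂ) k) (fun k : K => ext ⟨θ, hinv⟩ k) ≠ 0 := by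
      rw [show (fun k : K => ext ⟨θ, hinv⟩ k) = (θ : K → ℂ) from funext (hext ⟨θ, hinv⟩).2.1]
      show classInner (θ : K → ℂ) (θ : K → ℂ) ≠ 0
      rw [CharCore.classInner_irr_self]; exact one_ne_zero
    obtain ⟨b, hb, hbK, hχe, -⟩ :=
      CharDeep.Ext.exists_gallagher (hext ⟨θ, hinv⟩).1 hr χ.2 hnz
    have hb1 : b 1 = 1 := by
      have h1 := congrFun hχe 1
      have h2 := (hext ⟨θ, hinv⟩).2.1 1
      rw [OneMemClass.coe_one] at h2
      obtain ⟨d, hd0, hd1, -⟩ := exists_degree' θ
      rw [Pi.mul_apply, h2, hd1, show (χ : G → ℂ) 1 = d from (by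
        rw [← hd1]; show _ = (χ : G → ℂ) ((1 : K) : G); rw [OneMemClass.coe_one])] at h1
      exact mul_right_cancel₀ (Nat.cast_ne_zero.mpr hd0.ne' : (d : ℂ) ≠ 0)
        (h1.symm.trans (one_mul _).symm)
    obtain ⟨l, hl⟩ := CharCore.IsCharacter.exists_hom_of_degree_one
      (CharCore.IsIrrCharacter.isCharacter hb) hb1
    have hlK : ∀ k : K, l k = 1 := fun k => Units.ext (by
      have := hbK k 1
      rw [mul_one, hb1, hl] at this
      exact this)
    refine ⟨(⟨θ, hinv⟩, l.comp H.subtype), Subtype.ext (Subtype.ext (funext fun y => ?_))⟩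
    show ((lift (l.comp H.subtype) y : ℂˣ) : ℂ) * ext ⟨θ, hinv⟩ y = (χ : G → ℂ) y
    rw [congrFun hχe y, Pi.mul_apply, hl]
    congr 2
    obtain ⟨k, hk, h, hh, rfl⟩ := Subgroup.mem_sup_of_normal_left.mp
      (hKH ▸ Subgroup.mem_top y : y ∈ K ⊔ H)
    rw [map_mul, map_mul, hliftK _ ⟨k, hk⟩, hlK ⟨k, hk⟩, hlift _ ⟨h, hh⟩]
    rfl

end Cfsg.Agent.BlkChar
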