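import Cfsg.Agent.BlkChar.AbelianSubsection
import Cfsg.Agent.BC85.Counting
import Mathlib.GroupTheory.SpecificGroups.KleinFour

/-!
# Blocks with a Klein four defect group: the numbers of ordinary and Brauer characters
-/

set_option autoImplicit false

namespace Cfsg.Agent.BlkChar.KleinDefect

open BlocksCore BlocksDefect BC85

attribute [local instance] Fintype.ofFinite

variable {G : Type*} [Group G] [Finite G] {M : Ideal AlgInt} {B : Set (IrrCharacter G)}
  {P : Subgroup G} {c : Set (IrrCharacter (Subgroup.centralizer (P : Set G)))}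

local notation "C[" Q "]" => Subgroup.centralizer (Q : Set G)

/-- The inertial group acts freely on a Klein four defect group. -/
theorem free (hM : IsPModular 2 M) (hmax : IsMaximalBrauerPair 2 M B P c) (hV : IsKleinFour P) :
    ∀ g ∈ stabT P c, ∀ x ∈ P, x ≠ 1 → g * x * g⁻¹ = x → g ∈ C[P] := by
  classical
  haveI := hV
  intro g hg x hx hx1 hfix
  have hab : ∀ a ∈ P, ∀ b ∈ P, a * b = b * a := fun a ha b hb =>
    congrArg Subtype.val (mul_comm_of_exponent_two IsKleinFour.exponent_two (⟨a, ha⟩ : P) ⟨b, hb⟩)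
  haveI : (C[P].subgroupOf (stabT P c)).Normal := Subgroup.normal_subgroupOf_of_le_normalizer
    (inf_le_left.trans (normalizer_le_normalizer_centralizer P))
  have hodd := not_dvd_index_inertia hM hmax hab
  set n := (C[P].subgroupOf (stabT P c)).index with hn
  have h1 : g ^ n ∈ C[P] := (C[P].subgroupOf (stabT P c)).pow_index_mem ⟨g, hg⟩
  have h2 : g ^ 2 ∈ C[P] := by
    refine Subgroup.mem_centralizer_iff.mpr fun y hy => ?_
    suffices g ^ 2 * y * (g ^ 2)⁻¹ = y from (mul_inv_eq_iff_eq_mul.mp this).symm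
    have hgy : g * y * g⁻¹ ∈ P := (Subgroup.mem_normalizer_iff.mp hg.1 y).mp hy
    have hcase : g * y * g⁻¹ = y ∨ g * y * g⁻¹ = x * y := by
      by_cases hy1 : y = 1
      · left; subst hy1; simp
      by_cases hyx : y = x
      · left; rw [hyx]; exact hfix
      by_cases hgy' : g * y * g⁻¹ = y
      · exact Or.inl hgy'
      right
      have hne1 : g * y * g⁻¹ ≠ 1 := fun h => hy1 (conj_eq_one_iff.mp h)
      have hnex : g * y * g⁻¹ ≠ x := fun h => hyx (mul_left_cancel (mul_right_cancel (h.trans hfix.symm)))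
      exact congrArg Subtype.val (IsKleinFour.eq_mul_of_ne_all (x := (⟨x, hx⟩ : P)) (y := ⟨y, hy⟩)
        (z := ⟨_, hgy⟩) (fun h => hx1 (congrArg Subtype.val h)) (fun h => hy1 (congrArg Subtype.val h))
        (fun h => hyx (congrArg Subtype.val h).symm) (fun h => hne1 (congrArg Subtype.val h))
        (fun h => hnex (congrArg Subtype.val h)) (fun h => hgy' (congrArg Subtype.val h)))
    rw [pow_two, show g * g * y * (g * g)⁻¹ = g * (g * y * g⁻¹) * g⁻¹ by group]
    rcases hcase with h | h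
    · rw [h, h]
    · rw [h, show g * (x * y) * g⁻¹ = (g * x * g⁻¹) * (g * y * g⁻¹) by group, hfix, h, ← mul_assoc]
      have hxx : x * x = 1 := congrArg Subtype.val (IsKleinFour.mul_self (⟨x, hx⟩ : P))
      rw [hxx, one_mul]
  obtain ⟨k, hk⟩ := Nat.odd_iff.mpr (Nat.two_dvd_ne_zero.mp hodd)
  rw [hk, pow_succ, pow_mul] at h1
  exact (Subgroup.mul_mem_cancel_left _ (pow_mem h2 k)).mp h1

/-- `k(B) = 4` and `l(B) = e ∈ {1, 3}`. -/
theorem klein_counts (hM : IsPModular 2 M) (hPD : IsDefectGroup 2 M B P) (hV : IsKleinFour P)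
    (hc : IsInducedBlock M C[P] c B) :
    (C[P].relIndex (stabT P c) = 1 ∨ C[P].relIndex (stabT P c) = 3) ∧ Nat.card B = 4 ∧
      blockRank 2 B = C[P].relIndex (stabT P c) := by
  classical
  haveI := hV
  haveI : Fact (Nat.Prime 2) := ⟨Nat.prime_two⟩
  have := isPrime hM
  have hB := hc.2.1
  have hab : ∀ a ∈ P, ∀ b ∈ P, a * b = b * a := fun a ha b hb =>
    congrArg Subtype.val (mul_comm_of_exponent_two IsKleinFour.exponent_two (⟨a, ha⟩ : P) ⟨b, hb⟩)
  have hmax := isMaximal_of_induced hM hPD hab hc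
  have hfree := free hM hmax hV
  have hP4 : Nat.card P = 4 := IsKleinFour.card_four
  have hd : blockDefect 2 B = 2 := Nat.pow_right_injective le_rfl
    (((defectGroup_natCard hM hB hPD).symm.trans hP4).trans (by norm_num))
  have hkey := AbelianSubsection.mul_card_eq hM hmax hab hfree hB
  rw [hP4] at hkey
  set e := C[P].relIndex (stabT P c) with he
  have hdvd : e ∣ 3 := by
    rw [show (4 : ℕ) - 1 = 3 from rfl] at hkey
    exact (Nat.dvd_add_right (dvd_mul_right e _)).mp ⟨_, hkey.symm⟩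
  rcases (Nat.dvd_prime Nat.prime_three).mp hdvd with h1 | h3
  · have hnil : IsNilpotentBlock 2 M B := (nilpotent_iff_of_abelian hM hmax hab).mpr fun x hx =>
      Subgroup.relIndex_eq_one.mp (he.symm.trans h1) hx
    obtain ⟨hl, hk, -⟩ := rank_one_of_abelian hM hnil hPD hab
    rw [hd] at hk
    exact ⟨Or.inl h1, by omega, by omega⟩
  rw [h3] at hkey
  have := finite_irr (G := G)
  obtain ⟨m, hm, hs, hi, hdv, hu, -⟩ := exists_matrix hM hB
  obtain ⟨θ, hθ, hθ0⟩ := exists_height_zero hM hB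
  obtain ⟨hrow, hpos, -⟩ := row_facts 2 Nat.prime_two (blockDefect 2 B)
    (fun χ : B => blockHeight 2 B ((χ : IrrCharacter G) : G → ℂ)) m hs hi hdv hu (o := ⟨θ, hθ⟩) hθ0
  rw [hd] at hrow
  have hPC : P ≤ C[P] := fun u hu =>
    Subgroup.mem_centralizer_iff.mpr fun q hq => hab q hq u hu
  have hT : ∀ g : G, g ∈ stabT P c ↔ (g ∈ Subgroup.normalizer (P : Set G) ∧
      ∀ θ ∈ c, ∀ θ' : IrrCharacter C[P],
        (∀ h h' : C[P], (h' : G) = g * h * g⁻¹ → (θ' : C[P] → ℂ) h' = (θ : C[P] → ℂ) h) →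
          θ' ∈ c) := by
    intro g
    constructor
    · intro hg
      obtain ⟨hgN, hgC, h⟩ := mem_stabT_iff.mp hg
      refine ⟨hgN, fun θ₁ hθ₁ θ' hθ' => ?_⟩
      obtain ⟨θ₂, hθ₂, hc2⟩ := h θ₁ hθ₁
      suffices θ' = θ₂ by rw [this]; exact hθ₂
      refine Subtype.ext (funext fun k => ?_)
      have hk' : g⁻¹ * (k : G) * g ∈ C[P] := (mem_normalizer_conj_iff hgC (k : G)).mp k.2
      have hk : (k : G) = g * ((⟨_, hk'⟩ : C[P]) : G) * g⁻¹ := by
        show (k : G) = g * (g⁻¹ * (k : G) * g) * g⁻¹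
        group
      rw [hθ' ⟨_, hk'⟩ k hk, hc2 ⟨_, hk'⟩ k hk]
    · rintro ⟨hgN, h⟩
      refine mem_stabT_iff.mpr ⟨hgN, normalizer_le_normalizer_centralizer P hgN, fun θ₁ hθ₁ => ?_⟩
      have hgK := mem_normalizer_conj_iff (normalizer_le_normalizer_centralizer P hgN)
      have hc' : ∀ h h' : C[P], (h' : G) = g * h * g⁻¹ →
          (pullIrr (conjIso C[P] C[P] g hgK) θ₁ : C[P] → ℂ) h' = (θ₁ : C[P] → ℂ) h := by
        intro k k' hk
        rw [pullIrr_apply]
        refine congrArg (θ₁ : C[P] → ℂ) (Subtype.ext ?_)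
        show g⁻¹ * (k' : G) * g = k
        rw [hk]
        group
      exact ⟨_, h θ₁ hθ₁ _ hc', hc'⟩
  have hm3 : ∀ χ : B, m χ χ ≤ 3 := by
    intro χ
    have h := sharp_height_bound hM hB hPD (sup_eq_right.mpr hPC).symm hc (stabT P c) hT χ.2 (hm χ χ)
    rw [← he, h3] at h
    have hZ : Subgroup.center P = ⊤ := eq_top_iff.mpr fun x _ =>
      Subgroup.mem_center_iff.mpr fun y => Subtype.ext (hab y y.2 x x.2)
    rw [hZ, Subgroup.card_top, hP4] at h
    have h2 : (1 : ℤ) ≤ (2 : ℤ) ^ blockHeight 2 B ((χ : IrrCharacter G) : G → ℂ) := one_le_pow₀ (by norm_num)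
    push_cast at h
    omega
  set o : B := ⟨θ, hθ⟩ with ho
  -- the row of a character of height zero
  have hodd : ¬ (2 : ℤ) ∣ m o o := by
    have := hu o o hθ0
    simpa [show blockHeight 2 B (θ : G → ℂ) = 0 from hθ0, ho] using this
  have hsum : ∑ b ∈ Finset.univ.erase o, m o b ^ 2 = 3 := by
    have h := hrow o
    rw [← Finset.add_sum_erase _ _ (Finset.mem_univ o)] at h
    have h1 := hpos o
    have h2 := hm3 o
    have : m o o = 1 ∨ m o o = 3 := by omega
    rcases this with hh | hh <;> simp only [hh] at h <;> norm_num at h ⊢ <;> linarith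
  have hle1 : ∀ b ∈ Finset.univ.erase o, m o b ^ 2 ≤ 1 := by
    intro b hb
    have h : m o b ^ 2 ≤ 3 := hsum ▸ Finset.single_le_sum (fun b _ => sq_nonneg (m o b)) hb
    have h2 : -1 ≤ m o b ∧ m o b ≤ 1 := by
      constructor <;> nlinarith
    nlinarith [h2.1, h2.2]
  have hk4 : 4 ≤ Nat.card B := by
    have h := Finset.sum_le_sum hle1
    rw [hsum, Finset.sum_const, Finset.card_erase_of_mem (Finset.mem_univ o), Finset.card_univ,
      ← Nat.card_eq_fintype_card, nsmul_one] at h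
    omega
  have hl4 : (4 : ℤ) * blockRank 2 B ≤ 3 * Nat.card B := by
    have h1 : (4 : ℂ) * (blockRank 2 B : ℂ) = ((∑ χ : B, m χ χ : ℤ) : ℂ) := by
      rw [blockRank_eq_sum hM hB, Finset.mul_sum, Int.cast_sum]
      refine Finset.sum_congr rfl fun χ _ => ?_
      rw [hm χ χ, hd]
      norm_num
    have h2 : (4 : ℤ) * blockRank 2 B = ∑ χ : B, m χ χ := by exact_mod_cast h1
    rw [h2, Nat.card_eq_fintype_card, ← Finset.card_univ]
    calc ∑ χ : B, m χ χ ≤ ∑ _χ : B, (3 : ℤ) := Finset.sum_le_sum fun χ _ => hm3 χ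
      _ = _ := by rw [Finset.sum_const, nsmul_eq_mul]; ring
  exact ⟨Or.inr h3, by omega, by omega⟩

end Cfsg.Agent.BlkChar.KleinDefect
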