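import Cfsg.Agent.BlkChar.AbelianTwistSum

/-!
# Local blocks at fixed elements of an abelian defect group

Watanabe's theorem: an element of the defect group fixed by the inertial group may be adjoined to
any subgroup below the maximal pair without changing the rank of the local block.
-/

set_option autoImplicit false
set_option linter.unusedSectionVars false
set_option linter.style.haveILetI false

namespace Cfsg.Agent.BlkChar.AbelianWatanabe

open BlocksCore BlocksDefect BC85
open scoped Classical

universe u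

variable {G : Type u} [Group G] [Fintype G] {p : ℕ} [Fact p.Prime] {M : Ideal AlgInt}
  {B : Set (IrrCharacter G)} {P : Subgroup G}
  {c : Set (IrrCharacter (Subgroup.centralizer (P : Set G)))}
  (hM : IsPModular p M) (hmax : IsMaximalBrauerPair p M B P c)
  (hab : ∀ x ∈ P, ∀ y ∈ P, x * y = y * x)
  (R : Subgroup G → ℕ)
  (hR : ∀ (S : Subgroup G) (f : Set (IrrCharacter (Subgroup.centralizer (S : Set G)))),
    SubpairLE p M S f P c → R S = blockRank p f)

include hM hmax hab hR

/-- The twisted sum inside the centralizer of a subgroup below the maximal pair. -/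
theorem local_sum {Q : Subgroup G} {f : Set (IrrCharacter (Subgroup.centralizer (Q : Set G)))}
    (hle : SubpairLE p M Q f P c) (l : P →* ℂˣ)
    (hl : ∀ t ∈ stabT P c ⊓ Subgroup.centralizer (Q : Set G), ∀ v w : P,
      t * (v : G) * t⁻¹ = w → l v = l w) :
    ∑ v : P, (l v : ℂ) *
        ((Nat.card (stabT P c ⊓ Subgroup.centralizer (Q : Set G) ⊓
            Subgroup.centralizer ({(v : G)} : Set G) : Subgroup G) : ℂ) *
          (R (Q ⊔ Subgroup.zpowers (v : G)) : ℂ)) =
      (Nat.card (stabT P c ⊓ Subgroup.centralizer (Q : Set G) : Subgroup G) : ℂ) *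
        if l = 1 then (Nat.card f : ℂ) else 0 := by
  have := isPrime hM
  have he := hmax.1.1
  have hQP := subpairLE_le hle
  have hPC : P ≤ Subgroup.centralizer (Q : Set G) := fun u hu =>
    Subgroup.mem_centralizer_iff.mpr fun q hq => hab q (hQP hq) u hu
  have hfc : IsDefectGroup p M f
      ((P ⊓ Subgroup.centralizer (Q : Set G)).subgroupOf (Subgroup.centralizer (Q : Set G))) :=
    (fullyCentralized_iff hM (isBlockFusionSystemOn_blockFusion hM hmax) hle).mp
      ⟨hQP, fun S _ => by
        rw [FusionSystem.centralizerIn, FusionSystem.centralizerIn, inf_eq_left.mpr hPC]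
        exact Subgroup.card_le_of_le inf_le_left⟩
  rw [inf_eq_left.mpr hPC] at hfc
  have hfB := subpairLE_isBrauerPair hle he
  obtain ⟨⟨P', c'⟩, hc', hlift⟩ := exists_exactUnlift hM (⟨P, c⟩ : BrauerPairIdx G)
    (centralizer_anti hQP) hPC he.2
  obtain rfl : P' = P.subgroupOf (Subgroup.centralizer (Q : Set G)) := by
    have h1 : P = P'.map (Subgroup.centralizer (Q : Set G)).subtype := hlift.2
    rw [h1, Subgroup.subgroupOf,
      Subgroup.comap_map_eq_self_of_injective (Subgroup.subtype_injective _)]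
  obtain ⟨-, -, -, -, -, hsub⟩ := (isNormalSubpair_iff hM).mp
    (normalSubpair_of_below hM he hle (hPC.trans (BlocksCore.centralizer_le_normalizer' Q)))
  have hpair : IsBrauerPairOf p M f (P.subgroupOf (Subgroup.centralizer (Q : Set G))) c' :=
    (isBrauerPairOf_iff hM).mpr ⟨⟨isPGroup_subgroupOf he.1 _, hc'⟩, hfB.2,
      (hlift.1.subset_cset_iff fun x => bp_apply_coe Q f x).mp hsub⟩
  have hmax' := isMaximal_of_defect hM hfc hpair
  let eP : P.subgroupOf (Subgroup.centralizer (Q : Set G)) ≃* P :=
    Subgroup.subgroupOfEquivOfLe hPC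
  have hab' : ∀ x ∈ P.subgroupOf (Subgroup.centralizer (Q : Set G)),
      ∀ y ∈ P.subgroupOf (Subgroup.centralizer (Q : Set G)), x * y = y * x :=
    fun x hx y hy => Subtype.ext (hab (x : G) hx (y : G) hy)
  have hR' : ∀ v : Subgroup.centralizer (Q : Set G),
      v ∈ P.subgroupOf (Subgroup.centralizer (Q : Set G)) → ∀ g : Set (IrrCharacter
        (Subgroup.centralizer ((Subgroup.zpowers v : Subgroup (Subgroup.centralizer (Q : Set G))) :
          Set (Subgroup.centralizer (Q : Set G))))),
      SubpairLE p M (Subgroup.zpowers v) g (P.subgroupOf (Subgroup.centralizer (Q : Set G))) c' →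
        R (Q ⊔ Subgroup.zpowers (v : G)) = blockRank p g := by
    intro v hv g hg
    have hSP : Q ⊔ Subgroup.zpowers (v : G) ≤ P :=
      sup_le hQP (Subgroup.zpowers_le.mpr hv)
    have hcent : ∀ h : Subgroup.centralizer (Q : Set G),
        (h : G) ∈ Subgroup.centralizer ((Q ⊔ Subgroup.zpowers (v : G) : Subgroup G) : Set G) ↔
          h ∈ Subgroup.centralizer ((Subgroup.zpowers v : Subgroup _) : Set _) := by
      intro h
      rw [BlocksCore.centralizer_zpowers, Subgroup.mem_centralizer_singleton_iff]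
      constructor
      · intro hh
        exact Subtype.ext (Subgroup.mem_centralizer_iff.mp hh v
          ((le_sup_right : Subgroup.zpowers (v : G) ≤ _) (Subgroup.mem_zpowers _))).symm
      · intro hh
        refine mem_centralizer_sup h.2 ?_
        rw [BlocksCore.centralizer_zpowers, Subgroup.mem_centralizer_singleton_iff]
        exact congrArg Subtype.val hh
    have hg' := subpairLE_isBrauerPair hg hpair.1
    obtain ⟨e, he', hl'⟩ := exists_lift hM
      (⟨Subgroup.zpowers v, g⟩ : BrauerPairIdx (Subgroup.centralizer (Q : Set G)))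
      (Q ⊔ Subgroup.zpowers (v : G)) (centralizer_anti le_sup_left) hcent hg'.2
    have hPS : P ≤ Subgroup.centralizer ((Q ⊔ Subgroup.zpowers (v : G) : Subgroup G) : Set G) :=
      fun u hu => Subgroup.mem_centralizer_iff.mpr fun q hq => hab q (hSP hq) u hu
    obtain ⟨-, -, -, -, -, hsub'⟩ := (isNormalSubpair_iff hM).mp
      (normalSubpair_of_below hM hpair.1 hg (by
        refine le_trans ?_ (BlocksCore.centralizer_le_normalizer' _)
        intro u hu
        exact Subgroup.mem_centralizer_iff.mpr fun q hq =>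
          hab' q ((Subgroup.zpowers_le.mpr hv) hq) u hu))
    have hbelow : SubpairLE p M (Q ⊔ Subgroup.zpowers (v : G)) e P c := by
      refine Relation.ReflTransGen.single ((isNormalSubpair_iff hM).mpr
        ⟨⟨he.1.to_le hSP, he'⟩, he, hSP,
          hPS.trans (BlocksCore.centralizer_le_normalizer' _), ?_,
          (hlift.1.subset_cset_iff fun x => hl'.coeff x).mpr hsub'⟩)
      intro u hu x
      have hu' : u ∈ stabT (Q ⊔ Subgroup.zpowers (v : G)) e :=
        (le_sup_right.trans (le_stabT _ e)) (hPS hu)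
      have h2 : conjPair u (⟨Q ⊔ Subgroup.zpowers (v : G), e⟩ : BrauerPairIdx G) =
          ⟨Q ⊔ Subgroup.zpowers (v : G), e⟩ := conjPair_eq_self_iff.mpr hu'
      have h3 := bp_conjPair u (⟨Q ⊔ Subgroup.zpowers (v : G), e⟩ : BrauerPairIdx G)
        (u * x * u⁻¹)
      rw [h2] at h3
      rw [h3]
      congr 1
      group
    rw [hR _ e hbelow, show e = _ from hl'.snd_eq]
    exact SubsectionSum.blockRank_pullIrr _ _
  have hstab : stabT (P.subgroupOf (Subgroup.centralizer (Q : Set G))) c' =
      (stabT P c).subgroupOf (Subgroup.centralizer (Q : Set G)) :=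
    Subgroup.ext fun x => (mem_stab_unlift hM hlift x).symm
  have hcardT : Nat.card (stabT (P.subgroupOf (Subgroup.centralizer (Q : Set G))) c') =
      Nat.card (stabT P c ⊓ Subgroup.centralizer (Q : Set G) : Subgroup G) := by
    rw [hstab, ← Subgroup.inf_subgroupOf_right,
      Nat.card_congr (Subgroup.subgroupOfEquivOfLe inf_le_right).toEquiv]
  have h := AbelianTwistSum.weighted_sum hM hmax' hab'
    (fun v => R (Q ⊔ Subgroup.zpowers (v : G))) hR' (l.comp eP.toMonoidHom) (by
      intro t ht v w hvw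
      rw [hstab, Subgroup.mem_subgroupOf] at ht
      exact hl (t : G) ⟨ht, t.2⟩ (eP v) (eP w) (congrArg Subtype.val hvw))
  rw [hcardT] at h
  have hiff : l.comp eP.toMonoidHom = 1 ↔ l = 1 := by
    constructor
    · intro h1
      refine MonoidHom.ext fun v => ?_
      have := DFunLike.congr_fun h1 (eP.symm v)
      simpa using this
    · rintro rfl
      exact MonoidHom.ext fun v => rfl
  simp only [hiff] at h
  rw [← h]
  refine (Fintype.sum_equiv eP.toEquiv _ _ fun v => ?_).symm
  show ((l (eP v) : ℂˣ) : ℂ) * _ = ((l (eP v) : ℂˣ) : ℂ) * _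
  congr 3
  rw [hstab]
  refine Nat.card_congr
    { toFun := fun x => ⟨((x.1 : Subgroup.centralizer (Q : Set G)) : G), ⟨x.2.1, x.1.2⟩, ?_⟩
      invFun := fun x => ⟨⟨x.1, x.2.1.2⟩, x.2.1.1, ?_⟩
      left_inv := fun _ => rfl
      right_inv := fun _ => rfl }
  · exact Subgroup.mem_centralizer_singleton_iff.mpr
      (congrArg Subtype.val (Subgroup.mem_centralizer_singleton_iff.mp x.2.2))
  · exact Subgroup.mem_centralizer_singleton_iff.mpr
      (Subtype.ext (Subgroup.mem_centralizer_singleton_iff.mp x.2.2))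

/-- A fixed element may be adjoined. -/
theorem rank_eq : ∀ (Q : Subgroup G), Q ≤ P → ∀ u ∈ P,
    (∀ t ∈ stabT P c ⊓ Subgroup.centralizer (Q : Set G), t * u * t⁻¹ = u) →
      R Q = R (Q ⊔ Subgroup.zpowers u) := by
  have := isPrime hM
  have he := hmax.1.1
  letI instP : CommGroup P :=
    { (inferInstance : Group P) with mul_comm := fun a b => Subtype.ext (hab a a.2 b b.2) }
  have hHom : Finite (P →* ℂˣ) := Nat.finite_of_card_ne_zero (by
    rw [CommGroup.card_monoidHom_of_hasEnoughRootsOfUnity]; exact Nat.card_pos.ne')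
  intro Q
  induction hn : Nat.card (Subgroup.centralizer (Q : Set G)) using Nat.strong_induction_on
    generalizing Q with
  | _ n ih =>
    subst hn
    intro hQP u hu hfix
    obtain ⟨f, hle⟩ := exists_below hM he hQP
    set S := stabT P c ⊓ Subgroup.centralizer (Q : Set G) with hS
    -- the invariant linear characters
    let Inv : (P →* ℂˣ) → Prop := fun l =>
      ∀ t ∈ S, ∀ v w : P, t * (v : G) * t⁻¹ = w → l v = l w
    let Λ : Finset (P →* ℂˣ) := (Set.toFinite {l | Inv l}).toFinset
    have hΛ : ∀ l, l ∈ Λ ↔ Inv l := fun l => Set.Finite.mem_toFinset _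
    have hone : (1 : P →* ℂˣ) ∈ Λ := (hΛ 1).mpr fun t _ v w _ => rfl
    have hmul : ∀ a b : P →* ℂˣ, a ∈ Λ → b ∈ Λ → a * b ∈ Λ := fun a b ha hb =>
      (hΛ _).mpr fun t ht v w h => by
        rw [MonoidHom.mul_apply, MonoidHom.mul_apply, (hΛ a).mp ha t ht v w h,
          (hΛ b).mp hb t ht v w h]
    -- fixed elements are detected
    have hsep : ∀ z : P, (∀ t ∈ S, t * (z : G) * t⁻¹ = z) → z ≠ 1 → ∃ l ∈ Λ, l z ≠ 1 := by
      intro z hz hz1
      obtain ⟨l₀, hl₀⟩ := CommGroup.exists_apply_ne_one_of_hasEnoughRootsOfUnity P ℂ hz1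
      let φ : stabT P c →* MulAut P :=
        (Subgroup.normalizerMonoidHom P).comp
          (Subgroup.inclusion (inf_le_left : stabT P c ≤ Subgroup.normalizer (P : Set G)))
      have hφ : ∀ (t : stabT P c) (v : P), ((φ t v : P) : G) = t * v * (t : G)⁻¹ := fun _ _ => rfl
      have hker : φ.ker = (Subgroup.centralizer (P : Set G)).subgroupOf (stabT P c) := by
        ext t
        rw [MonoidHom.mem_ker, Subgroup.mem_subgroupOf, Subgroup.mem_centralizer_iff]
        constructor
        · intro h v hv
          have h1 : (t : G) * v * (t : G)⁻¹ = v := by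
            have := hφ t ⟨v, hv⟩
            rw [h] at this
            exact this.symm
          exact (mul_inv_eq_iff_eq_mul.mp h1).symm
        · intro h
          ext v
          rw [hφ]
          show (t : G) * v * (t : G)⁻¹ = v
          rw [mul_inv_eq_iff_eq_mul]
          exact (h v v.2).symm
      let A : Subgroup (MulAut P) := (S.subgroupOf (stabT P c)).map φ
      have : Finite (MulAut P) := Finite.of_injective (fun a : MulAut P => (a : P → P))
        DFunLike.coe_injective
      have := Fintype.ofFinite A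
      have hA : ¬ p ∣ Nat.card A := fun hp => by
        have h1 := not_dvd_index_inertia hM hmax hab
        rw [← hker, Subgroup.index_ker] at h1
        exact h1 (hp.trans (Subgroup.card_dvd_of_le (Subgroup.map_le_range φ _)))
      let l : P →* ℂˣ := ∏ a : A, l₀.comp (a : MulAut P).toMonoidHom
      have hlap : ∀ v : P, l v = ∏ a : A, l₀ ((a : MulAut P) v) := fun v => by
        simp only [l, MonoidHom.finsetProd_apply]
        rfl
      refine ⟨l, (hΛ l).mpr ?_, ?_⟩
      · intro t ht v w hvw
        let a₀ : A := ⟨φ ⟨t, ht.1⟩, ⟨⟨t, ht.1⟩, ht, rfl⟩⟩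
        have hw : (a₀ : MulAut P) v = w := Subtype.ext ((hφ _ _).trans hvw)
        rw [hlap, hlap, ← hw]
        refine (Fintype.prod_equiv (Equiv.mulRight a₀) _ _ fun a => ?_).symm
        rfl
      · intro hl
        apply hl₀
        have hzfix : ∀ a : A, (a : MulAut P) z = z := by
          rintro ⟨_, t, ht, rfl⟩
          exact Subtype.ext ((hφ t z).trans (hz _ ht))
        rw [hlap] at hl
        simp only [hzfix, Finset.prod_const, Finset.card_univ] at hl
        rw [← Nat.card_eq_fintype_card] at hl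
        rw [← orderOf_eq_one_iff]
        obtain ⟨k, hk⟩ := IsPGroup.iff_orderOf.mp he.1 z
        have h1 : orderOf (l₀ z) ∣ p ^ k := hk ▸ orderOf_map_dvd l₀ z
        exact Nat.eq_one_of_dvd_coprimes
          (Nat.Coprime.pow_left k ((Nat.Prime.coprime_iff_not_dvd Fact.out).mpr hA))
          h1 (orderOf_dvd_of_pow_eq_one hl)
    let F : Finset P := Finset.univ.filter fun w => ∀ l ∈ Λ, l w = 1
    have hchar : ∀ w : P, ∑ l ∈ Λ, (l w : ℂ) = if w ∈ F then (Λ.card : ℂ) else 0 := by
      intro w
      split_ifs with hw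
      · rw [Finset.sum_congr rfl fun l hl => by
          rw [(Finset.mem_filter.mp hw).2 l hl, Units.val_one], Finset.sum_const, nsmul_eq_mul,
          mul_one]
      · simp only [F, Finset.mem_filter, Finset.mem_univ, true_and, not_forall] at hw
        obtain ⟨l₁, hl₁, hne⟩ := hw
        have hinv : ∀ a : P →* ℂˣ, a ∈ Λ → a⁻¹ ∈ Λ := fun a ha => (hΛ _).mpr fun t ht v w h => by
          rw [MonoidHom.inv_apply, MonoidHom.inv_apply, (hΛ a).mp ha t ht v w h]
        have h : ∑ l ∈ Λ, (l w : ℂ) = (l₁ w : ℂ) * ∑ l ∈ Λ, (l w : ℂ) := by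
          rw [Finset.mul_sum]
          refine Finset.sum_bij' (fun l _ => l₁⁻¹ * l) (fun l _ => l₁ * l)
            (fun l hl => hmul _ _ (hinv _ hl₁) hl) (fun l hl => hmul _ _ hl₁ hl)
            (fun l _ => MonoidHom.ext fun x => by simp) (fun l _ => MonoidHom.ext fun x => by simp)
            fun l _ => ?_
          simp
        have h1 : ((l₁ w : ℂˣ) : ℂ) - 1 ≠ 0 := sub_ne_zero.mpr fun h1 => hne (Units.ext h1)
        refine (mul_eq_zero.mp (?_ : (((l₁ w : ℂˣ) : ℂ) - 1) * _ = 0)).resolve_left h1
        rw [sub_mul, ← h, one_mul, sub_self]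
    set g : P → ℂ := fun v =>
      (Nat.card (S ⊓ Subgroup.centralizer ({(v : G)} : Set G) : Subgroup G) : ℂ) *
        (R (Q ⊔ Subgroup.zpowers (v : G)) : ℂ) with hg
    have hsum : ∀ z : P, (Λ.card : ℂ) * ∑ w ∈ F, g (w * z) =
        (Nat.card S : ℂ) * (Nat.card f : ℂ) := by
      intro z
      have h1 : ∑ v : P, ∑ l ∈ Λ, (l (v * z⁻¹) : ℂ) * g v =
          (Λ.card : ℂ) * ∑ w ∈ F, g (w * z) := by
        rw [← Equiv.sum_comp (Equiv.mulRight z) (fun v => ∑ l ∈ Λ, (l (v * z⁻¹) : ℂ) * g v)]
        simp only [Equiv.coe_mulRight, mul_inv_cancel_right, ← Finset.sum_mul, hchar, ite_mul,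
          zero_mul]
        rw [Finset.sum_ite_mem, Finset.univ_inter, Finset.mul_sum]
      rw [← h1, Finset.sum_comm, Finset.sum_eq_single (1 : P →* ℂˣ)]
      · have := local_sum hM hmax hab R hR hle 1 ((hΛ 1).mp hone)
        rw [if_pos rfl] at this
        rw [← this]
        exact Finset.sum_congr rfl fun v _ => rfl
      · intro l hl hne
        have := local_sum hM hmax hab R hR hle l ((hΛ l).mp hl)
        rw [if_neg hne, mul_zero] at this
        have h2 : ∀ v : P, (l (v * z⁻¹) : ℂ) * g v = (l z⁻¹ : ℂ) * ((l v : ℂ) * g v) := fun v => by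
          rw [map_mul, Units.val_mul]; ring
        rw [Finset.sum_congr rfl fun v _ => h2 v, ← Finset.mul_sum]
        exact mul_eq_zero_of_right _ this
      · exact fun h => absurd hone h
    have hkey : ∑ w ∈ F, g w = ∑ w ∈ F, g (w * ⟨u, hu⟩) := by
      have h0 := (hsum 1).trans (hsum ⟨u, hu⟩).symm
      simp only [mul_one] at h0
      exact mul_left_cancel₀ (Nat.cast_ne_zero.mpr (Finset.card_ne_zero.mpr ⟨1, hone⟩)) h0
    have hF1 : (1 : P) ∈ F := Finset.mem_filter.mpr ⟨Finset.mem_univ _, fun l _ => map_one l⟩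
    have hcu : ∀ t ∈ S, Commute t u := fun t ht => mul_inv_eq_iff_eq_mul.mp (hfix t ht)
    have hrest : ∀ w ∈ F.erase 1, g w = g (w * ⟨u, hu⟩) := by
      intro w hw
      obtain ⟨hw1, hwF⟩ := Finset.mem_erase.mp hw
      have hnofix : ¬ ∀ t ∈ S, t * (w : G) * t⁻¹ = w := fun h => by
        obtain ⟨l, hl, hne⟩ := hsep w h hw1
        exact hne ((Finset.mem_filter.mp hwF).2 l hl)
      have hlt : ∀ v ∈ P, (¬ ∀ t ∈ S, t * v * t⁻¹ = v) →
          Nat.card (Subgroup.centralizer ((Q ⊔ Subgroup.zpowers v : Subgroup G) : Set G)) <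
            Nat.card (Subgroup.centralizer (Q : Set G)) := by
        intro v hv hno
        refine lt_of_not_ge fun hge => hno fun t ht => ?_
        have heq := Subgroup.eq_of_le_of_card_ge
          (centralizer_anti (le_sup_left : Q ≤ Q ⊔ Subgroup.zpowers v)) hge
        have htC : t ∈ Subgroup.centralizer ((Q ⊔ Subgroup.zpowers v : Subgroup G) : Set G) := by
          rw [heq]; exact ht.2
        rw [mul_inv_eq_iff_eq_mul]
        exact (Subgroup.mem_centralizer_iff.mp htC v
          ((le_sup_right : Subgroup.zpowers v ≤ _) (Subgroup.mem_zpowers v))).symm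
      have hsub : ∀ v : G, ∀ t ∈ stabT P c ⊓
          Subgroup.centralizer ((Q ⊔ Subgroup.zpowers v : Subgroup G) : Set G),
          t * u * t⁻¹ = u := fun v t ht =>
        hfix t ⟨ht.1, centralizer_anti le_sup_left ht.2⟩
      have hwu : ¬ ∀ t ∈ S, t * ((w : G) * u) * t⁻¹ = (w : G) * u := fun h => hnofix fun t ht => by
        have h1 := h t ht
        rw [show t * ((w : G) * u) * t⁻¹ = t * w * t⁻¹ * (t * u * t⁻¹) by group, hfix t ht] at h1
        exact mul_right_cancel h1
      have e1 := ih _ (hlt _ w.2 hnofix) _ rfl (sup_le hQP (Subgroup.zpowers_le.mpr w.2)) u hu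
        (hsub _)
      have e2 := ih _ (hlt _ (P.mul_mem w.2 hu) hwu) _ rfl
        (sup_le hQP (Subgroup.zpowers_le.mpr (P.mul_mem w.2 hu))) u hu (hsub _)
      have e3 : Q ⊔ Subgroup.zpowers (w : G) ⊔ Subgroup.zpowers u =
          Q ⊔ Subgroup.zpowers ((w : G) * u) ⊔ Subgroup.zpowers u := by
        simp only [sup_assoc]
        congr 1
        refine le_antisymm (sup_le ?_ le_sup_right) (sup_le ?_ le_sup_right)
        · refine Subgroup.zpowers_le.mpr ?_
          have := mul_mem ((le_sup_left : Subgroup.zpowers ((w : G) * u) ≤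
            Subgroup.zpowers ((w : G) * u) ⊔ Subgroup.zpowers u) (Subgroup.mem_zpowers _))
            (inv_mem ((le_sup_right : Subgroup.zpowers u ≤
              Subgroup.zpowers ((w : G) * u) ⊔ Subgroup.zpowers u) (Subgroup.mem_zpowers _)))
          rwa [mul_inv_cancel_right] at this
        · exact Subgroup.zpowers_le.mpr (mul_mem
            ((le_sup_left : Subgroup.zpowers (w : G) ≤
              Subgroup.zpowers (w : G) ⊔ Subgroup.zpowers u) (Subgroup.mem_zpowers _))
            ((le_sup_right : Subgroup.zpowers u ≤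
              Subgroup.zpowers (w : G) ⊔ Subgroup.zpowers u) (Subgroup.mem_zpowers _)))
      have hcent : S ⊓ Subgroup.centralizer ({((w * ⟨u, hu⟩ : P) : G)} : Set G) =
          S ⊓ Subgroup.centralizer ({(w : G)} : Set G) := by
        ext t
        simp only [Subgroup.mem_inf, Subgroup.mem_centralizer_singleton_iff, and_congr_right_iff]
        intro ht
        show t * ((w : G) * u) = (w : G) * u * t ↔ _
        rw [← mul_assoc, mul_assoc (w : G) u t, ← (hcu t ht).eq, ← mul_assoc, mul_left_inj]
      show (_ : ℂ) * _ = _ * _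
      rw [hcent]
      congr 2
      show R _ = R (Q ⊔ Subgroup.zpowers ((w : G) * u))
      rw [e1, e2, e3]
    rw [← Finset.add_sum_erase _ _ hF1, ← Finset.add_sum_erase _ _ hF1,
      Finset.sum_congr rfl hrest, add_left_inj, one_mul] at hkey
    have hS0 : (Nat.card S : ℂ) ≠ 0 := Nat.cast_ne_zero.mpr Nat.card_pos.ne'
    have hc1 : S ⊓ Subgroup.centralizer ({((1 : P) : G)} : Set G) = S :=
      inf_eq_left.mpr fun t _ => Subgroup.mem_centralizer_singleton_iff.mpr (by simp)
    have hc2 : S ⊓ Subgroup.centralizer ({u} : Set G) = S :=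
      inf_eq_left.mpr fun t ht => Subgroup.mem_centralizer_singleton_iff.mpr (hcu t ht).eq
    change (Nat.card (S ⊓ Subgroup.centralizer ({((1 : P) : G)} : Set G) : Subgroup G) : ℂ) * _ =
      (Nat.card (S ⊓ Subgroup.centralizer ({u} : Set G) : Subgroup G) : ℂ) * _ at hkey
    rw [hc1, hc2] at hkey
    have := mul_left_cancel₀ hS0 hkey
    simpa [Subgroup.coe_one, Subgroup.zpowers_one_eq_bot] using this

/-- The numbers of characters. -/
theorem card_eq {u : G} (hu : u ∈ P) (hfix : ∀ t ∈ stabT P c, t * u * t⁻¹ = u)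
    {f₀ : Set (IrrCharacter (Subgroup.centralizer ((⊥ : Subgroup G) : Set G)))}
    (hf₀ : SubpairLE p M ⊥ f₀ P c)
    {f : Set (IrrCharacter (Subgroup.centralizer ((Subgroup.zpowers u : Subgroup G) : Set G)))}
    (hf : SubpairLE p M (Subgroup.zpowers u) f P c) :
    blockRank p f₀ = blockRank p f ∧ Nat.card f₀ = Nat.card f := by
  have hT0 : stabT P c ⊓ Subgroup.centralizer ((⊥ : Subgroup G) : Set G) = stabT P c :=
    inf_eq_left.mpr fun t _ => Subgroup.mem_centralizer_iff.mpr fun q hq => by
      rw [Subgroup.coe_bot, Set.mem_singleton_iff] at hq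
      simp [hq]
  have hTu : stabT P c ⊓ Subgroup.centralizer ((Subgroup.zpowers u : Subgroup G) : Set G) =
      stabT P c := by
    rw [BlocksCore.centralizer_zpowers]
    exact inf_eq_left.mpr fun t ht =>
      Subgroup.mem_centralizer_singleton_iff.mpr (mul_inv_eq_iff_eq_mul.mp (hfix t ht))
  refine ⟨?_, ?_⟩
  · have h := rank_eq hM hmax hab R hR ⊥ bot_le u hu fun t ht => hfix t ht.1
    rwa [hR _ _ hf₀, bot_sup_eq, hR _ _ hf] at h
  · have h1 := local_sum hM hmax hab R hR hf₀ 1 fun _ _ _ _ _ => rfl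
    have h2 := local_sum hM hmax hab R hR hf 1 fun _ _ _ _ _ => rfl
    rw [if_pos rfl, hT0] at h1
    rw [if_pos rfl, hTu] at h2
    have h3 : (Nat.card (stabT P c) : ℂ) * (Nat.card f₀ : ℂ) =
        (Nat.card (stabT P c) : ℂ) * (Nat.card f : ℂ) := by
      rw [← h1, ← h2]
      refine Finset.sum_congr rfl fun v _ => ?_
      congr 3
      rw [bot_sup_eq, sup_comm (Subgroup.zpowers u)]
      exact rank_eq hM hmax hab R hR _ (Subgroup.zpowers_le.mpr v.2) u hu fun t ht => hfix t ht.1
    exact_mod_cast mul_left_cancel₀ (Nat.cast_ne_zero.mpr Nat.card_pos.ne') h3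

end Cfsg.Agent.BlkChar.AbelianWatanabe

namespace Cfsg.Agent.BlkChar.AbelianWatanabe

open BlocksCore BlocksDefect BC85
open scoped Classical

universe u

variable {G : Type u} [Group G] [Finite G] {p : ℕ} [Fact p.Prime] {M : Ideal AlgInt}

/-- Watanabe's theorem. -/
theorem counts (hM : IsPModular p M) {B : Set (IrrCharacter G)} (hB : IsPBlock M B)
    {P : Subgroup G} (hPD : IsDefectGroup p M B P) (hab : ∀ x ∈ P, ∀ y ∈ P, x * y = y * x)
    {c : Set (IrrCharacter (Subgroup.centralizer (P : Set G)))}
    (hc : IsInducedBlock M (Subgroup.centralizer (P : Set G)) c B) {T : Subgroup G}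
    (hT : ∀ g : G, g ∈ T ↔ (g ∈ Subgroup.normalizer (P : Set G) ∧
      StabilizesBlock (Subgroup.centralizer (P : Set G)) c g))
    {u : G} (hu : u ∈ P) (hfix : ∀ g ∈ T, g * u * g⁻¹ = u) {H : Subgroup G}
    (hH : H = Subgroup.centralizer ({u} : Set G)) {f : Set (IrrCharacter H)}
    (hf : IsInducedBlockIn M H (Subgroup.centralizer (P : Set G)) c f) :
    blockRank p B = blockRank p f ∧ Nat.card B = Nat.card f := by
  letI : Fintype G := Fintype.ofFinite G
  have := isPrime hM
  rw [← BlocksCore.centralizer_zpowers] at hH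
  subst hH
  have hmax := isMaximal_of_induced hM hPD hab hc
  have he := hmax.1.1
  obtain rfl : T = stabT P c := Subgroup.ext fun g => (hT g).trans mem_stabT_iff.symm
  have hPC : P ≤ Subgroup.centralizer ((Subgroup.zpowers u : Subgroup G) : Set G) := fun v hv =>
    Subgroup.mem_centralizer_iff.mpr fun q hq => hab q ((Subgroup.zpowers_le.mpr hu) hq) v hv
  have hle := subpairLE_of_inducedIn hM he (Subgroup.zpowers_le.mpr hu) hPC hf
  let R : Subgroup G → ℕ := fun S =>
    if h : S ≤ P then blockRank p (exists_below hM he h).choose else 0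
  have hR : ∀ (S : Subgroup G) (f : Set (IrrCharacter (Subgroup.centralizer (S : Set G)))),
      SubpairLE p M S f P c → R S = blockRank p f := by
    intro S f hSf
    simp only [R, dif_pos (subpairLE_le hSf)]
    rw [below_unique hM he (exists_below hM he (subpairLE_le hSf)).choose_spec hSf]
  obtain ⟨f₀, hf₀⟩ := exists_below hM he (bot_le : ⊥ ≤ P)
  have h := card_eq hM hmax hab R hR hu hfix hf₀ hle
  have htop : Subgroup.centralizer ((⊥ : Subgroup G) : Set G) = ⊤ := by
    simp [Subgroup.centralizer_eq_top_iff_subset]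
  have hbot : (⊥ : Subgroup G) ≤ Subgroup.centralizer ((⊥ : Subgroup G) : Set G) := bot_le
  have hp0 := (subpairLE_pairOf_iff hM hf₀ B).mp hmax.1
  have hind : IsInducedBlock M (Subgroup.centralizer ((⊥ : Subgroup G) : Set G)) f₀ B :=
    isInducedBlock_of_over hM hbot le_rfl hp0 hp0.1.2 fun θ hθ => by
      show θ ∈ unitSet M (pullFun (Subgroup.centralizer ((⊥ : Subgroup G) : Set G)).subtype
        (bp ⟨⊥, f₀⟩))
      rw [pullFun_bp, unitSet_blockCoeff hM]
      exact hθ
  have key : ∀ K : Subgroup G, K = ⊤ → ∀ β : Set (IrrCharacter K), IsInducedBlock M K β B →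
      blockRank p β = blockRank p B ∧ Nat.card β = Nat.card B := by
    rintro K rfl β hβ
    rw [(SubsectionSum.induced_top_iff hM hB).mp hβ]
    exact ⟨SubsectionSum.blockRank_pullIrr _ _,
      Nat.card_image_of_injective (SubsectionSum.pullIrr_injective _) B⟩
  obtain ⟨h1, h2⟩ := key _ htop f₀ hind
  exact ⟨h1.symm.trans h.1, h2.symm.trans h.2⟩

end Cfsg.Agent.BlkChar.AbelianWatanabe
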