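import Mathlib.LinearAlgebra.Matrix.Charpoly.Coeff
import Mathlib.LinearAlgebra.Matrix.PosDef
import Mathlib.LinearAlgebra.Matrix.SchurComplement
import Mathlib

/-!
# The minimum of the form of a block of defect one

Let `m` be a symmetric integer matrix with `m ^ 2 = p m` and trace `p l`, of rank one modulo `p`,
with a row without zeros.  A nonzero value `z m z` is at least `l`: it is `p ^ (1 - r)` times the
sum of the principal minors of size `r + 1` of `p - m + z zᵀ`, each of which is a multiple of
`p ^ (r - 1)`, and at least `l` of them are nonzero.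
-/

set_option autoImplicit false
set_option linter.unusedSectionVars false

namespace Cfsg.Agent.BlkChar.RankOneForm

open Matrix Finset

variable {ι : Type*} [Fintype ι] [DecidableEq ι]

/-- The determinant of a multiple of `p` plus a product through a space of dimension `a`. -/
theorem pow_dvd_det_smul_add_mul {κ : Type*} [Fintype κ] [DecidableEq κ] (p : ℤ)
    (N : Matrix ι ι ℤ) (U : Matrix ι κ ℤ) (W : Matrix κ ι ℤ) :
    p ^ (Fintype.card ι - Fintype.card κ) ∣ (p • N + U * W).det := by
  have h : (p • N + U * W).det = (fromBlocks (p • N) (-U) W 1).det := by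
    rw [det_fromBlocks_one₂₂, Matrix.neg_mul, sub_neg_eq_add]
  rw [h, Matrix.det_apply]
  refine Finset.dvd_sum fun σ _ => ?_
  rw [Units.smul_def, zsmul_eq_mul]
  refine dvd_mul_of_dvd_right ?_ _
  -- the points of `ι` sent to `ι`
  let S : Finset ι := univ.filter fun i => (σ (Sum.inl i)).isLeft
  have hS : Fintype.card ι - Fintype.card κ ≤ S.card := by
    have h1 : (univ.filter fun i => ¬ (σ (Sum.inl i)).isLeft).card ≤ Fintype.card κ := by
      rw [← Finset.card_univ (α := κ),
        ← Finset.card_map (Function.Embedding.inr (α := ι) (β := κ))]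
      refine Finset.card_le_card_of_injOn (fun i => σ (Sum.inl i)) (fun i hi => ?_)
        fun a _ b _ hab => Sum.inl_injective (σ.injective hab)
      have hi' := (Finset.mem_filter.mp hi).2
      rcases hσ : σ (Sum.inl i) with j | j
      · exact absurd (by simp [hσ]) hi'
      · simp [hσ]
    have h2 := Finset.card_filter_add_card_filter_not (s := (univ : Finset ι))
      (fun i => (σ (Sum.inl i)).isLeft)
    rw [Finset.card_univ] at h2
    simp only [S]
    omega
  rw [Fintype.prod_sum_type]
  refine dvd_mul_of_dvd_left (dvd_trans (pow_dvd_pow p hS) ?_) _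
  refine dvd_trans ?_ (Finset.prod_dvd_prod_of_subset _ _ _ (Finset.subset_univ S))
  rw [← Finset.prod_const]
  refine Finset.prod_dvd_prod_of_dvd _ _ fun i hi => ?_
  obtain ⟨j, hj⟩ := Sum.isLeft_iff.mp (Finset.mem_filter.mp hi).2
  rw [hj, fromBlocks_apply₁₁, Matrix.smul_apply, smul_eq_mul]
  exact dvd_mul_right _ _

/-- The top principal minors of `p • U V + z zᵀ` when `V U = 1`. -/
theorem sum_minors_update {κ : Type*} [Fintype κ] [DecidableEq κ] (p : ℝ) (hp : p ≠ 0)
    (U : Matrix ι κ ℝ) (V : Matrix κ ι ℝ) (hVU : V * U = 1) (z : ι → ℝ) :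
    ∑ s ∈ (univ : Finset ι).powersetCard (Fintype.card κ + 1),
        ((p • (U * V) + vecMulVec z z).submatrix (Subtype.val : s → ι) Subtype.val).det =
      p ^ Fintype.card κ * (z ⬝ᵥ z - z ⬝ᵥ ((U * V) *ᵥ z)) := by
  classical
  set A : Matrix ι (κ ⊕ Unit) ℝ := fromCols (p • U) (replicateCol Unit z) with hA
  set B : Matrix (κ ⊕ Unit) ι ℝ := fromRows V (replicateRow Unit z) with hB
  have hAB : A * B = p • (U * V) + vecMulVec z z := by
    rw [hA, hB, fromCols_mul_fromRows, Matrix.smul_mul, ← vecMulVec_eq]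
  have hdet : (B * A).det = p ^ Fintype.card κ * (z ⬝ᵥ z - z ⬝ᵥ ((U * V) *ᵥ z)) := by
    have hblk : B * A = fromBlocks (p • (1 : Matrix κ κ ℝ)) (V * replicateCol Unit z)
        (replicateRow Unit z * (p • U)) (replicateRow Unit z * replicateCol Unit z) := by
      rw [hA, hB, fromRows_mul_fromCols, Matrix.mul_smul, hVU]
    letI : Invertible (p • (1 : Matrix κ κ ℝ)) :=
      ⟨p⁻¹ • 1, by rw [Matrix.smul_mul, Matrix.one_mul, smul_smul, inv_mul_cancel₀ hp, one_smul],
        by rw [Matrix.smul_mul, Matrix.one_mul, smul_smul, mul_inv_cancel₀ hp, one_smul]⟩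
    rw [hblk, det_fromBlocks₁₁, det_smul, det_one, mul_one, det_unique,
      show ⅟(p • (1 : Matrix κ κ ℝ)) = p⁻¹ • 1 from rfl]
    congr 1
    simp only [Matrix.mul_smul, Matrix.smul_mul, Matrix.mul_one, smul_smul,
      mul_inv_cancel₀ hp, inv_mul_cancel₀ hp, one_smul, Matrix.sub_apply]
    congr 1
    rw [← Matrix.mul_assoc, Matrix.mul_assoc (replicateRow Unit z) U V]
    generalize U * V = W
    simp only [dotProduct, mulVec, Matrix.mul_apply, replicateRow_apply, replicateCol_apply,
      Finset.mul_sum, Finset.sum_mul]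
    rw [Finset.sum_comm]
    exact Finset.sum_congr rfl fun i _ => Finset.sum_congr rfl fun j _ => by ring
  have h1 := coeff_det_one_add_X_smul_eq_sum_minors (p • (U * V) + vecMulVec z z) (Fintype.card κ + 1)
  have h2 := coeff_det_one_add_X_smul_eq_sum_minors (B * A) (Fintype.card κ + 1)
  have hswap : (1 + (Polynomial.X : Polynomial ℝ) • (p • (U * V) + vecMulVec z z).map Polynomial.C).det =
      (1 + (Polynomial.X : Polynomial ℝ) • (B * A).map Polynomial.C).det := by
    rw [← hAB, Matrix.map_mul, Matrix.map_mul, ← Matrix.smul_mul, det_one_add_mul_comm,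
      Matrix.mul_smul]
  rw [hswap, h2] at h1
  rw [← h1, show Fintype.card κ + 1 = (univ : Finset (κ ⊕ Unit)).card by simp,
    Finset.powersetCard_self, Finset.sum_singleton, ← hdet]
  convert det_submatrix_equiv_self (Equiv.subtypeUnivEquiv fun x => Finset.mem_univ x) (B * A) <;>
    rfl

/-- The minimum of the form. -/
theorem le_form {p : ℕ} (hp : p.Prime) {l : ℕ} (m : Matrix ι ι ℤ) (hs : ∀ i j, m i j = m j i)
    (hi : m * m = (p : ℤ) • m) (htr : m.trace = (p : ℤ) * l) {θ : ι}
    (hu : ¬ (p : ℤ) ∣ m θ θ) (hne : ∀ i, m θ i ≠ 0)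
    (hr : ∀ i j, (p : ℤ) ∣ m i j * m θ θ - m θ i * m θ j)
    (z : ι → ℤ) (hz : z ⬝ᵥ (m *ᵥ z) ≠ 0) : (l : ℤ) ≤ z ⬝ᵥ (m *ᵥ z) := by
  classical
  have hpR : (0 : ℝ) < p := Nat.cast_pos.mpr hp.pos
  set n : Matrix ι ι ℤ := (p : ℤ) • 1 - m with hn
  have hnn : n * n = (p : ℤ) • n := by
    simp only [hn, Matrix.sub_mul, Matrix.mul_sub, Matrix.smul_mul, Matrix.mul_smul, Matrix.one_mul,
      Matrix.mul_one, hi, smul_sub]
    abel
  have hnapp : ∀ i j, n i j = (if i = j then (p : ℤ) else 0) - m i j := fun i j => by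
    rw [hn, Matrix.sub_apply, Matrix.smul_apply, Matrix.one_apply, smul_eq_mul, mul_ite, mul_one,
      mul_zero]
  have hns : ∀ i j, n i j = n j i := fun i j => by
    rw [hnapp, hnapp, hs i j]
    simp only [eq_comm]
  -- the diagonal is positive
  have hdiag : ∀ i, 0 < n i i := by
    intro i
    have h0 : ∀ j, (p : ℤ) * n j j = ∑ k, n j k ^ 2 := fun j => by
      have h := congrFun (congrFun hnn j) j
      rw [Matrix.mul_apply, Matrix.smul_apply, smul_eq_mul] at h
      rw [← h]
      exact Finset.sum_congr rfl fun k _ => by rw [sq, hns k j]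
    have hpos : 0 < (p : ℤ) * n i i := by
      rw [h0]
      refine Finset.sum_pos' (fun k _ => sq_nonneg _) ⟨θ, Finset.mem_univ _, ?_⟩
      have : n i θ ≠ 0 := by
        rw [hns]
        rcases eq_or_ne θ i with rfl | hθi
        · intro h
          apply hu
          rw [hnapp, if_pos rfl] at h
          exact ⟨1, by linarith⟩
        · rw [hnapp, if_neg hθi, zero_sub, neg_ne_zero]
          exact hne i
      positivity
    exact pos_of_mul_pos_right hpos (Int.natCast_nonneg p)
  -- pass to the real numbers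
  set P : Matrix ι ι ℝ := (p : ℝ)⁻¹ • n.map (Int.castRingHom ℝ) with hP
  have hPn : (p : ℝ) • P = n.map (Int.castRingHom ℝ) := by
    rw [hP, smul_smul, mul_inv_cancel₀ hpR.ne', one_smul]
  have hnnR : n.map (Int.castRingHom ℝ) * n.map (Int.castRingHom ℝ) =
      (p : ℝ) • n.map (Int.castRingHom ℝ) := by
    rw [← Matrix.map_mul, hnn]
    ext i j
    rw [Matrix.map_apply, Matrix.smul_apply, Matrix.smul_apply, Matrix.map_apply, smul_eq_mul,
      smul_eq_mul, map_mul, map_natCast]
  have hPP : P * P = P := by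
    rw [hP, Matrix.smul_mul, Matrix.mul_smul, hnnR, smul_smul, smul_smul, mul_assoc,
      inv_mul_cancel₀ hpR.ne', mul_one]
  have hff : (Matrix.toLin' P) ∘ₗ (Matrix.toLin' P) = Matrix.toLin' P := by
    rw [← Matrix.toLin'_mul, hPP]
  let R := LinearMap.range (Matrix.toLin' P)
  have hproj : LinearMap.IsProj R (Matrix.toLin' P) :=
    ⟨fun v => LinearMap.mem_range_self _ v, by rintro v ⟨w, rfl⟩; exact LinearMap.congr_fun hff w⟩
  set r := Module.finrank ℝ R with hrdef
  have hr1 : (r : ℝ) = P.trace := by rw [← Matrix.trace_toLin'_eq, hproj.trace]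
  have hrl : r + l = Fintype.card ι := by
    have h1 : (P.trace : ℝ) = (Fintype.card ι : ℝ) - l := by
      rw [hP, Matrix.trace_smul, smul_eq_mul, show (n.map (Int.castRingHom ℝ)).trace =
        (Int.castRingHom ℝ) n.trace from (map_sum (Int.castRingHom ℝ) _ _).symm, hn,
        Matrix.trace_sub, Matrix.trace_smul, Matrix.trace_one, htr]
      simp only [map_sub, map_mul, smul_eq_mul, map_natCast]
      field_simp
    rw [h1, eq_sub_iff_add_eq] at hr1
    exact_mod_cast hr1
  have hr0 : 1 ≤ r := by
    by_contra h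
    have h1 : (0 : ℝ) < P.trace := by
      rw [hP, Matrix.trace_smul, smul_eq_mul]
      refine mul_pos (inv_pos.mpr hpR) (Finset.sum_pos (fun i _ => ?_) ⟨θ, Finset.mem_univ _⟩)
      simpa using hdiag i
    rw [← hr1] at h1
    simp only [Nat.cast_pos] at h1
    omega
  -- factorisation
  let bR := Module.finBasis ℝ R
  let U : Matrix ι (Fin r) ℝ := fun i j => (bR j : ι → ℝ) i
  let Vf : (ι → ℝ) →ₗ[ℝ] (Fin r → ℝ) :=
    bR.equivFun.toLinearMap ∘ₗ (Matrix.toLin' P).rangeRestrict
  let V : Matrix (Fin r) ι ℝ := LinearMap.toMatrix' Vf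
  have hUv : ∀ w : Fin r → ℝ, U *ᵥ w = ((bR.equivFun.symm w : R) : ι → ℝ) := by
    intro w
    funext i
    rw [Module.Basis.equivFun_symm_apply, Submodule.coe_sum, Finset.sum_apply]
    simp [U, mulVec, dotProduct, mul_comm]
    rfl
  have hUV : U * V = P := by
    apply Matrix.toLin'.injective
    rw [Matrix.toLin'_mul, Matrix.toLin'_toMatrix']
    refine LinearMap.ext fun v => ?_
    show U *ᵥ (bR.equivFun ((Matrix.toLin' P).rangeRestrict v)) = _
    rw [hUv, LinearEquiv.symm_apply_apply]
    rfl
  have hVU : V * U = 1 := by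
    apply Matrix.toLin'.injective
    rw [Matrix.toLin'_mul, Matrix.toLin'_toMatrix', Matrix.toLin'_one]
    refine LinearMap.ext fun w => ?_
    show bR.equivFun ((Matrix.toLin' P).rangeRestrict (U *ᵥ w)) = w
    rw [hUv]
    refine (congrArg bR.equivFun (Subtype.ext ?_)).trans (LinearEquiv.apply_symm_apply _ w)
    exact hproj.map_id _ (Submodule.coe_mem _)
  -- the matrix of minors
  set zR : ι → ℝ := fun i => (z i : ℝ) with hzR
  set K : Matrix ι ι ℤ := n + vecMulVec z z with hK
  have hKR : K.map (Int.castRingHom ℝ) = (p : ℝ) • (U * V) + vecMulVec zR zR := by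
    rw [hUV, hPn]
    ext i j
    simp [hK, vecMulVec_apply, zR]
  set q : ℤ := z ⬝ᵥ (m *ᵥ z) with hq
  let D : Finset ι → ℤ := fun s => (K.submatrix (Subtype.val : s → ι) Subtype.val).det
  have hDR : ∀ s : Finset ι, (D s : ℝ) =
      ((K.map (Int.castRingHom ℝ)).submatrix (Subtype.val : s → ι) Subtype.val).det := fun s => by
    exact RingHom.map_det (Int.castRingHom ℝ) _
  have hsum : ∑ s ∈ (univ : Finset ι).powersetCard (r + 1), D s = (p : ℤ) ^ (r - 1) * q := by
    have h := sum_minors_update (p : ℝ) hpR.ne' U V hVU zR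
    rw [Fintype.card_fin, ← hKR] at h
    simp only [← hDR] at h
    have hzz : zR ⬝ᵥ zR - zR ⬝ᵥ ((U * V) *ᵥ zR) = (p : ℝ)⁻¹ * (q : ℝ) := by
      rw [hUV, hP, smul_mulVec, dotProduct_smul, smul_eq_mul, hq, hn]
      have e1 : zR ⬝ᵥ (((p : ℤ) • (1 : Matrix ι ι ℤ) - m).map (Int.castRingHom ℝ) *ᵥ zR) =
          (((z ⬝ᵥ (((p : ℤ) • (1 : Matrix ι ι ℤ) - m) *ᵥ z)) : ℤ) : ℝ) := by
        simp only [dotProduct, mulVec, zR, Matrix.map_apply, Int.coe_castRingHom, Int.cast_sum,
          Int.cast_mul]
      have e2 : zR ⬝ᵥ zR = ((z ⬝ᵥ z : ℤ) : ℝ) := by simp [dotProduct, zR]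
      rw [e1, e2, sub_mulVec, smul_mulVec, one_mulVec, dotProduct_sub, dotProduct_smul]
      push_cast [smul_eq_mul]
      field_simp
      ring
    rw [hzz, show (p : ℝ) ^ r = (p : ℝ) ^ (r - 1) * p by rw [← pow_succ, Nat.sub_add_cancel hr0],
      mul_assoc, ← mul_assoc (p : ℝ) (p : ℝ)⁻¹, mul_inv_cancel₀ hpR.ne', one_mul] at h
    exact_mod_cast h
  -- divisibility
  have hdvd : ∀ s ∈ (univ : Finset ι).powersetCard (r + 1), (p : ℤ) ^ (r - 1) ∣ D s := by
    intro s hs'
    obtain ⟨a, b, hab⟩ := (Int.prime_iff_natAbs_prime.mpr (by simpa using hp)).coprime_iff_not_dvd.mpr hu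
    have hdiv : ∀ i j, (p : ℤ) ∣ m i j - b * m θ i * m θ j := by
      intro i j
      obtain ⟨c, hc⟩ := hr i j
      refine ⟨m i j * a + b * c, ?_⟩
      linear_combination b * hc - m i j * hab
    choose N hN using hdiv
    let A : Matrix ι (Unit ⊕ Unit) ℤ := fun i x => Sum.elim (fun _ => -(b * m θ i)) (fun _ => z i) x
    let B : Matrix (Unit ⊕ Unit) ι ℤ := fun x j => Sum.elim (fun _ => m θ j) (fun _ => z j) x
    have hKN : K = (p : ℤ) • ((1 : Matrix ι ι ℤ) - Matrix.of fun i j => N i j) + A * B := by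
      ext i j
      have h1 := hN i j
      rw [hK, Matrix.add_apply, vecMulVec_apply, hnapp, Matrix.add_apply, Matrix.smul_apply,
        Matrix.sub_apply, Matrix.of_apply, Matrix.one_apply, smul_eq_mul, Matrix.mul_apply,
        Fintype.sum_sum_type]
      simp only [A, B, Sum.elim_inl, Sum.elim_inr, Finset.univ_unique, Finset.sum_singleton]
      split_ifs <;> linarith
    have h := pow_dvd_det_smul_add_mul (p : ℤ)
      (((1 : Matrix ι ι ℤ) - Matrix.of fun i j => N i j).submatrix (Subtype.val : s → ι) Subtype.val)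
      (A.submatrix Subtype.val id) (B.submatrix id Subtype.val)
    rw [Fintype.card_coe, (Finset.mem_powersetCard.mp hs').2] at h
    simp only [Fintype.card_sum, Fintype.card_unit] at h
    rw [show r + 1 - (1 + 1) = r - 1 by omega] at h
    convert h using 2
    rw [hKN]
    ext i j
    rfl
  -- positivity
  have hpsd : (K.map (Int.castRingHom ℝ)).PosSemidef := by
    have h1 : n.map (Int.castRingHom ℝ) =
        (p : ℝ)⁻¹ • ((n.map (Int.castRingHom ℝ))ᴴ * n.map (Int.castRingHom ℝ)) := by
      have hh : (n.map (Int.castRingHom ℝ))ᴴ = n.map (Int.castRingHom ℝ) := by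
        ext i j
        simp [hns i j]
      rw [hh, hnnR, smul_smul, inv_mul_cancel₀ hpR.ne', one_smul]
    rw [hKR, hUV, hPn, h1]
    refine ((posSemidef_conjTranspose_mul_self _).smul (inv_nonneg.mpr hpR.le)).add ?_
    have h2 := posSemidef_vecMulVec_self_star zR
    rwa [star_trivial] at h2
  have hD0 : ∀ s : Finset ι, 0 ≤ D s := fun s => by
    have h := (hpsd.submatrix (Subtype.val : s → ι)).det_nonneg
    rw [← hDR] at h
    exact_mod_cast h
  -- one nonzero minor, then exchange
  obtain ⟨S, hS, hS0⟩ : ∃ s ∈ (univ : Finset ι).powersetCard (r + 1), D s ≠ 0 :=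
    Finset.exists_ne_zero_of_sum_ne_zero (by
      rw [hsum]; exact mul_ne_zero (pow_ne_zero _ (Int.natCast_ne_zero.mpr hp.ne_zero)) hz)
  have hSc : S.card = r + 1 := (Finset.mem_powersetCard.mp hS).2
  set KR : Matrix ι ι ℝ := K.map (Int.castRingHom ℝ) with hKRdef
  have hcol : ∀ e, KR.col e ≠ 0 := by
    intro e h
    have h1 : (K e e : ℝ) = 0 := congrFun h e
    have h2 : K e e = n e e + z e * z e := by simp [hK, vecMulVec_apply]
    have h3 : 0 < K e e := by rw [h2]; nlinarith [hdiag e]
    exact absurd (Int.cast_eq_zero.mp h1) h3.ne'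
  have hrank : KR.rank ≤ r + 1 := by
    rw [hKR, show (p : ℝ) • (U * V) + vecMulVec zR zR =
      fromCols ((p : ℝ) • U) (replicateCol Unit zR) * fromRows V (replicateRow Unit zR) by
        rw [fromCols_mul_fromRows, Matrix.smul_mul, ← vecMulVec_eq]]
    refine (rank_mul_le_left _ _).trans ((rank_le_card_width _).trans ?_)
    simp
  have hind : ∀ s : Finset ι, D s ≠ 0 ↔ LinearIndepOn ℝ KR.col (s : Set ι) := by
    intro s
    rw [← Int.cast_ne_zero (α := ℝ), hDR]
    show (KR.submatrix (Subtype.val : s → ι) Subtype.val).det ≠ 0 ↔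
      LinearIndependent ℝ (fun e : s => KR.col e)
    constructor
    · intro hdet
      have h := Matrix.linearIndependent_cols_of_det_ne_zero hdet
      exact LinearIndependent.of_comp
        (LinearMap.funLeft ℝ ℝ (Subtype.val : s → ι)) h
    · intro hli hdet
      obtain ⟨v, hv, hv0⟩ := Matrix.exists_mulVec_eq_zero_iff.mpr hdet
      let y : ι → ℝ := fun i => if h : i ∈ s then v ⟨i, h⟩ else 0
      have hy : ∀ i, (KR *ᵥ y) i = ∑ e : s, KR i e * v e := by
        intro i
        rw [mulVec, dotProduct, ← Finset.sum_subset (Finset.subset_univ s)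
          (fun e _ he => by simp [y, he]), ← Finset.sum_coe_sort]
        exact Finset.sum_congr rfl fun e _ => by simp [y]
      have hKy : KR *ᵥ y = 0 := by
        refine (hpsd.dotProduct_mulVec_zero_iff y).mp ?_
        simp only [star_trivial, dotProduct]
        rw [← Finset.sum_subset (Finset.subset_univ s) (fun e _ he => by simp [y, he]),
          ← Finset.sum_coe_sort]
        refine Finset.sum_eq_zero fun e _ => ?_
        rw [hy, show ∑ e' : s, KR (e : ι) e' * v e' = 0 from congrFun hv0 e, mul_zero]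
      refine hv (funext fun e => Fintype.linearIndependent_iff.mp hli v (funext fun i => ?_) e)
      rw [Finset.sum_apply]
      simpa [hy i, Matrix.col, mul_comm] using congrFun hKy i
  have hex : ∀ e : ι, e ∉ S → ∃ f ∈ S, D (insert e (S.erase f)) ≠ 0 := by
    intro e he
    by_contra hno
    push Not at hno
    have hli := (hind S).mp hS0
    have hmem : KR.col e ∈ Submodule.span ℝ (KR.col '' (S : Set ι)) := by
      by_contra hnm
      have h1 : LinearIndepOn ℝ KR.col (insert e (S : Set ι)) :=
        hli.insert hnm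
      rw [← Finset.coe_insert] at h1
      have h2 : (insert e S).card ≤ KR.rank := by
        rw [Matrix.rank_eq_finrank_span_cols]
        have h3 := finrank_span_eq_card (b := fun x : (insert e S : Finset ι) => KR.col x) h1
        rw [Fintype.card_coe] at h3
        rw [← h3]
        exact Submodule.finrank_mono (Submodule.span_mono (Set.range_comp_subset_range _ KR.col))
      rw [Finset.card_insert_of_notMem he, hSc] at h2
      omega
    obtain ⟨a, ha⟩ := (Submodule.mem_span_image_finset_iff_exists_fun ℝ).mp hmem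
    apply hcol e
    rw [← ha]
    refine Finset.sum_eq_zero fun f _ => ?_
    by_contra hne'
    have haf : a f ≠ 0 := fun h => hne' (by rw [h, zero_smul])
    refine (hind (insert e (S.erase (f : ι)))).mpr ?_ (hno f f.2)
    rw [Finset.coe_insert, Finset.coe_erase]
    refine (hli.mono Set.sdiff_subset).insert fun hm => ?_
    -- otherwise the column `f` lies in the span of the others
    have hff : KR.col (f : ι) ∈ Submodule.span ℝ (KR.col '' ((S : Set ι) \ {(f : ι)})) := by
      rw [← ha, ← Finset.add_sum_erase _ _ (Finset.mem_univ f)] at hm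
      have h2 : ∑ g ∈ univ.erase f, a g • KR.col (g : ι) ∈
          Submodule.span ℝ (KR.col '' ((S : Set ι) \ {(f : ι)})) :=
        Submodule.sum_mem _ fun g hg => Submodule.smul_mem _ _ (Submodule.subset_span
          ⟨g, ⟨g.2, fun h => (Finset.ne_of_mem_erase hg) (Subtype.ext h)⟩, rfl⟩)
      exact (Submodule.smul_mem_iff _ haf).mp ((Submodule.add_mem_iff_left _ h2).mp hm)
    exact hli.notMem_span f.2 hff
  choose fe hfeS hfe using hex
  let g : {e // e ∉ S} → Finset ι := fun e => insert (e : ι) (S.erase (fe e e.2))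
  set T := ((univ : Finset ι).powersetCard (r + 1)).filter fun s => D s ≠ 0 with hT
  have hcard : l ≤ T.card := by
    have hsub : insert S (univ.image g) ⊆ T := by
      intro s hs'
      rcases Finset.mem_insert.mp hs' with h | hs''
      · rw [h]; exact Finset.mem_filter.mpr ⟨hS, hS0⟩
      · obtain ⟨e, -, rfl⟩ := Finset.mem_image.mp hs''
        refine Finset.mem_filter.mpr ⟨Finset.mem_powersetCard.mpr ⟨Finset.subset_univ _, ?_⟩, hfe _ e.2⟩
        rw [Finset.card_insert_of_notMem (fun h => e.2 (Finset.mem_of_mem_erase h)),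
          Finset.card_erase_of_mem (hfeS _ e.2), hSc]
        omega
    have hginj : Function.Injective g := by
      intro a b hab
      have h1 : (a : ι) ∈ g b := hab ▸ Finset.mem_insert_self _ _
      rcases Finset.mem_insert.mp h1 with h | h
      · exact Subtype.ext h
      · exact absurd (Finset.mem_of_mem_erase h) a.2
    have hSn : S ∉ univ.image g := by
      intro h
      obtain ⟨e, -, he⟩ := Finset.mem_image.mp h
      exact e.2 ((Finset.ext_iff.mp he (e : ι)).mp (Finset.mem_insert_self _ _))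
    have h1 := Finset.card_le_card hsub
    rw [Finset.card_insert_of_notMem hSn, Finset.card_image_of_injective _ hginj, Finset.card_univ,
      Fintype.card_subtype_compl, Fintype.card_coe, hSc] at h1
    omega
  -- conclusion
  have hpk : (0 : ℤ) < (p : ℤ) ^ (r - 1) := pow_pos (by exact_mod_cast hp.pos) _
  refine le_of_mul_le_mul_left ?_ hpk
  rw [← hsum]
  calc (p : ℤ) ^ (r - 1) * l ≤ ∑ _s ∈ T, (p : ℤ) ^ (r - 1) := by
        rw [Finset.sum_const, nsmul_eq_mul, mul_comm]
        exact mul_le_mul_of_nonneg_right (by exact_mod_cast hcard) hpk.le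
    _ ≤ ∑ s ∈ T, D s := Finset.sum_le_sum fun s hs' => by
        obtain ⟨hs1, hs2⟩ := Finset.mem_filter.mp hs'
        exact Int.le_of_dvd (lt_of_le_of_ne (hD0 s) (Ne.symm hs2)) (hdvd s hs1)
    _ ≤ _ := Finset.sum_le_sum_of_subset_of_nonneg (Finset.filter_subset _ _) fun s _ _ => hD0 s

end Cfsg.Agent.BlkChar.RankOneForm
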