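import Cfsg.Agent.BlkChar.BrauerFeitQuot
import Cfsg.Agent.BlkChar.RankOneForm
import Cfsg.Agent.BC84.WeightBound
import Cfsg.Agent.BC85.Counting
import Cfsg.Agent.BC86.SubsectionFusion
import Cfsg.Agent.Lib.CharCore.SubsectionRows
import Cfsg.Agent.S0973

/-!
# The bound `k(B) ≤ p ^ (2 d - 2)`
-/

set_option autoImplicit false
set_option linter.unusedSectionVars false

namespace Cfsg.Agent.BlkChar.BrauerFeit

open BlocksCore BlocksDefect CharCore.SubContrib CharCore.PPCyc
open scoped ComplexConjugate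

universe u

variable {C : Type u} [Group C] [Finite C] {p : ℕ} [Fact p.Prime] {M : Ideal Cfsg.AlgInt}

/-- A block has at least as many members as its regular rank. -/
theorem blockRank_le_card (b : Set (IrrCharacter C)) : blockRank p b ≤ Nat.card b := by
  classical
  have := Fintype.ofFinite C
  have := finite_irr (G := C)
  have := Fintype.ofFinite b
  refine le_trans (finrank_span_le_card _) ?_
  rw [Nat.card_eq_fintype_card, ← Set.toFinset_card]
  simp only [Set.toFinset_image]
  exact Finset.card_image_le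

/-- The minimum of the form of a block of defect one. -/
theorem min_form_defect_one (hM : IsPModular p M) {b : Set (IrrCharacter C)} (hb : IsPBlock M b)
    [Fintype b] (hd : blockDefect p b = 1) {m : b → b → ℤ}
    (hm : ∀ η η' : b, (m η η' : ℂ) = (p : ℂ) ^ blockDefect p b * BC85.prj p (η : IrrCharacter C) η')
    (z : b → ℤ) (hz : BC84.RankTwo.form m z z ≠ 0) :
    (blockRank p b : ℤ) ≤ BC84.RankTwo.form m z z := by
  classical
  have := Fintype.ofFinite C
  obtain ⟨m', hm', hsym, hidem, -, hu, -⟩ := BC85.exists_matrix hM hb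
  have hmm : m' = m := funext fun η => funext fun η' => Int.cast_injective (α := ℂ) (by rw [hm', hm])
  rw [hmm] at hsym hidem hu
  obtain ⟨θ, hθ, hθ0⟩ := exists_height_zero hM hb
  obtain ⟨h1, h2⟩ := BC84.RankTwo.matrix_congr hM hb hm (θ := ⟨θ, hθ⟩) hθ0
  have hform : BC84.RankTwo.form m z z = dotProduct z (Matrix.mulVec (Matrix.of m) z) := by
    rw [BC84.RankTwo.form_apply]
    simp only [dotProduct, Matrix.mulVec, Matrix.of_apply, Finset.mul_sum, mul_assoc]
  rw [hform] at hz ⊢
  refine RankOneForm.le_form (Fact.out : p.Prime) (Matrix.of m) hsym ?_ ?_ h1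
    (fun χ h => hu χ ⟨θ, hθ⟩ hθ0 (by rw [hsym, show m ⟨θ, hθ⟩ χ = 0 from h]; exact dvd_zero _)) h2 z hz
  · ext χ ψ
    rw [Matrix.mul_apply, Matrix.smul_apply, smul_eq_mul]
    simp only [Matrix.of_apply]
    rw [hidem, hd, pow_one]
  · apply Int.cast_injective (α := ℂ)
    simp only [Matrix.trace, Matrix.diag_apply, Matrix.of_apply, Int.cast_sum, hm, hd, pow_one,
      Int.cast_mul, Int.cast_natCast]
    rw [← Finset.mul_sum, BC85.blockRank_eq_sum hM hb]

variable {Q : Subgroup C} [Q.Normal]

/-- Inflation multiplies the regular inner product by `1 / |Q|`. -/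
theorem prj_inflate [Fintype (C ⧸ Q)] (hQ : IsPGroup p Q) (hQc : Q ≤ Subgroup.center C)
    (χ χ' : IrrCharacter (C ⧸ Q)) :
    (Nat.card Q : ℂ) * BC85.prj p (BlocksDefect.inflate Q χ) (BlocksDefect.inflate Q χ') =
      BC85.prj p χ χ' := by
  classical
  have := Fintype.ofFinite C
  have hidx : ∃ k : ℕ, (Subgroup.centralizer (Q : Set C)).index = p ^ k :=
    ⟨0, by rw [centralizer_eq_top hQc, Subgroup.index_top, pow_zero]⟩
  rw [BC85.prj_def, BC85.prj_def, classInner, classInner,
    Subgroup.card_eq_card_quotient_mul_card_subgroup Q, ← mul_assoc,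
    show (Nat.card Q : ℂ) * (((Nat.card (C ⧸ Q) * Nat.card Q : ℕ) : ℂ))⁻¹ =
      ((Nat.card (C ⧸ Q) : ℕ) : ℂ)⁻¹ by
      push_cast; field_simp [(Nat.cast_ne_zero.mpr Nat.card_pos.ne' : (Nat.card Q : ℂ) ≠ 0)]]
  congr 1
  rw [← Finset.sum_subset (Finset.subset_univ (Finset.univ.filter fun g : C => ¬ p ∣ orderOf g)) (fun g _ hg => by
      rw [BC85.pRegularPart_neg (by simpa using hg), zero_mul]),
    ← Finset.sum_subset (Finset.subset_univ (Finset.univ.filter fun q : C ⧸ Q => ¬ p ∣ orderOf q)) (fun q _ hq => by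
      rw [BC85.pRegularPart_neg (by simpa using hq), zero_mul])]
  refine Finset.sum_bij (fun g _ => (QuotientGroup.mk g : C ⧸ Q)) (fun g hg => ?_) (fun g hg g' hg' h => ?_)
    (fun q hq => ?_) (fun g hg => ?_)
  · refine Finset.mem_filter.mpr ⟨Finset.mem_univ _, fun h => (Finset.mem_filter.mp hg).2 ?_⟩
    exact h.trans (orderOf_map_dvd (QuotientGroup.mk' Q) g)
  · exact eq_of_regular_of_coset hQ (Finset.mem_filter.mp hg).2 (Finset.mem_filter.mp hg').2
      (regular_mem_centralizer hidx (Finset.mem_filter.mp hg).2) h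
  · obtain ⟨g0, rfl⟩ := QuotientGroup.mk'_surjective Q q
    obtain ⟨g, hg, hgq⟩ := exists_regular_in_coset (N := Q) (Finset.mem_filter.mp hq).2
    exact ⟨g, Finset.mem_filter.mpr ⟨Finset.mem_univ _, hg⟩, hgq⟩
  · have hg' : ¬ p ∣ orderOf g := (Finset.mem_filter.mp hg).2
    rw [BC85.pRegularPart_pos hg', BC85.pRegularPart_pos (show ¬ p ∣ orderOf (g : C ⧸ Q) from
      fun h => hg' (h.trans (orderOf_map_dvd (QuotientGroup.mk' Q) g))), inflate_apply, inflate_apply]

/-- What is needed about the dominated block. -/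
theorem exists_dominated (hM : IsPModular p M) (hQp : Nat.card Q = p)
    (hQc : Q ≤ Subgroup.center C) {b : Set (IrrCharacter C)} (hb : IsPBlock M b) :
    ∃ bb : Set (IrrCharacter (C ⧸ Q)), IsPBlock M bb ∧ blockDefect p bb + 1 = blockDefect p b ∧
      blockRank p b ≤ blockRank p bb ∧
      (blockDefect p b = 2 → ∀ [Fintype b] (m : b → b → ℤ),
        (∀ η η' : b, (m η η' : ℂ) = (p : ℂ) ^ blockDefect p b * BC85.prj p (η : IrrCharacter C) η') →
        ∀ z : b → ℤ, BC84.RankTwo.form m z z ≠ 0 →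
          (blockRank p bb : ℤ) ≤ BC84.RankTwo.form m z z) := by
  classical
  have := isPrime hM
  have hp : p.Prime := Fact.out
  have := Fintype.ofFinite C
  have := Fintype.ofFinite (C ⧸ Q)
  have := finite_irr (G := C)
  have := finite_irr (G := C ⧸ Q)
  have hQ : IsPGroup p Q := IsPGroup.of_card (n := 1) (by rw [pow_one, hQp])
  obtain ⟨bb, hbb, hmem⟩ := exists_quotient_block hM hQ hQc hb
  have := Fintype.ofFinite bb
  choose c hc using exists_int_comb hM hQ hQc hb hbb hmem
  have hdef : blockDefect p bb + 1 = blockDefect p b := by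
    obtain ⟨η, hη, hη0⟩ := exists_height_zero hM hb
    set s := sInf ((fun χ : IrrCharacter C => (charDegree (χ : C → ℂ)).factorization p) '' b)
    set t := sInf ((fun χ : IrrCharacter (C ⧸ Q) =>
      (charDegree (χ : C ⧸ Q → ℂ)).factorization p) '' bb)
    have hdeg : ∀ ψ : IrrCharacter (C ⧸ Q),
        charDegree (BlocksDefect.inflate Q ψ : C → ℂ) = charDegree (ψ : C ⧸ Q → ℂ) := fun ψ => by
      rw [charDegree, charDegree, inflate_apply, QuotientGroup.mk_one]
    have hηs : (charDegree (η : C → ℂ)).factorization p = s := by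
      have h1 := BC85.sInf_le_degree (p := p) (B := b) hη
      change (charDegree (η : C → ℂ)).factorization p - s = 0 at hη0
      change s ≤ _ at h1
      omega
    have hst : t = s := by
      apply le_antisymm
      · by_contra hlt
        push Not at hlt
        have hdvd : ∀ ψ : bb, p ^ (s + 1) ∣ charDegree ((ψ : IrrCharacter (C ⧸ Q)) : C ⧸ Q → ℂ) :=
          fun ψ => (Nat.Prime.pow_dvd_iff_le_factorization hp (charDegree_pos _).ne').mpr
            (Nat.succ_le_of_lt (lt_of_lt_of_le hlt (BC85.sInf_le_degree ψ.2)))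
        have h := hc ⟨η, hη⟩ 1 (by rw [orderOf_one]; exact hp.not_dvd_one)
        simp only [QuotientGroup.mk_one, irr_one_eq] at h
        have h' : (charDegree (η : C → ℂ) : ℤ) =
            ∑ ψ : bb, c ⟨η, hη⟩ ψ * (charDegree ((ψ : IrrCharacter (C ⧸ Q)) : C ⧸ Q → ℂ) : ℤ) := by
          exact_mod_cast h
        have h3 : ((p ^ (s + 1) : ℕ) : ℤ) ∣ (charDegree (η : C → ℂ) : ℤ) := by
          rw [h']
          exact Finset.dvd_sum fun ψ _ => dvd_mul_of_dvd_right (Int.natCast_dvd_natCast.mpr (hdvd ψ)) _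
        have h4 := (Nat.Prime.pow_dvd_iff_le_factorization hp (charDegree_pos η).ne').mp
          (Int.natCast_dvd_natCast.mp h3)
        omega
      · obtain ⟨ψ, hψ⟩ := isPBlock_nonempty hbb
        refine le_csInf ⟨_, ψ, hψ, rfl⟩ ?_
        rintro _ ⟨χ, hχ, rfl⟩
        exact (BC85.sInf_le_degree ((hmem χ).mp hχ)).trans (by rw [hdeg])
    have ha : (Nat.card C).factorization p = (Nat.card (C ⧸ Q)).factorization p + 1 := by
      rw [Subgroup.card_eq_card_quotient_mul_card_subgroup Q, hQp,
        Nat.factorization_mul Nat.card_pos.ne' hp.ne_zero, Finsupp.add_apply, hp.factorization_self]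
    show (Nat.card (C ⧸ Q)).factorization p - t + 1 = (Nat.card C).factorization p - s
    have hle : t ≤ (Nat.card (C ⧸ Q)).factorization p := by
      obtain ⟨ψ, hψ⟩ := isPBlock_nonempty hbb
      exact (BC85.sInf_le_degree hψ).trans (BC85.degree_factorization_le ψ)
    omega
  refine ⟨bb, hbb, hdef, ?_, ?_⟩
  · let L : (C ⧸ Q → ℂ) →ₗ[ℂ] (C → ℂ) :=
      { toFun := fun f g => if p ∣ orderOf g then 0 else f (QuotientGroup.mk g)
        map_add' := fun f f' => by funext g; simp only [Pi.add_apply]; split_ifs <;> simp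
        map_smul' := fun a f => by
          funext g; simp only [Pi.smul_apply, RingHom.id_apply]; split_ifs <;> simp }
    rw [BC84.blockRank_eq_finrank, BC84.blockRank_eq_finrank]
    refine le_trans (Submodule.finrank_mono (t := (BC84.regSpan p bb).map L) ?_)
      (Submodule.finrank_map_le L _)
    refine Submodule.span_le.mpr ?_
    rintro _ ⟨η, hη, rfl⟩
    refine ⟨∑ ψ : bb, (c ⟨η, hη⟩ ψ : ℂ) •
      pRegularPart p ((ψ : IrrCharacter (C ⧸ Q)) : C ⧸ Q → ℂ),
      Submodule.sum_mem _ fun ψ _ => Submodule.smul_mem _ _ (Submodule.subset_span ⟨ψ, ψ.2, rfl⟩), ?_⟩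
    funext g
    show (if p ∣ orderOf g then (0 : ℂ) else _) = pRegularPart p (η : C → ℂ) g
    by_cases hg : p ∣ orderOf g
    · rw [if_pos hg, BC85.pRegularPart_neg hg]
    · rw [if_neg hg, BC85.pRegularPart_pos hg, hc ⟨η, hη⟩ g hg, Finset.sum_apply]
      refine Finset.sum_congr rfl fun ψ _ => ?_
      rw [Pi.smul_apply, smul_eq_mul, BC85.pRegularPart_pos (show ¬ p ∣ orderOf (g : C ⧸ Q) from
        fun h => hg (h.trans (orderOf_map_dvd (QuotientGroup.mk' Q) g)))]
  · intro hd2 hfb m hm z hz
    have hd1 : blockDefect p bb = 1 := by omega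
    obtain ⟨mb, hmb, -⟩ := BC85.exists_matrix hM hbb
    have hrel : ∀ η η' : b, m η η' = ∑ ψ : bb, ∑ ψ' : bb, c η ψ * mb ψ ψ' * c η' ψ' := by
      intro η η'
      apply Int.cast_injective (α := ℂ)
      push_cast
      simp only [hmb, hd1, pow_one]
      rw [hm, hd2, BC85.prj_def, classInner]
      simp only [← prj_inflate hQ hQc, hQp, BC85.prj_def, classInner]
      rw [Finset.sum_congr rfl (g := fun g : C => ∑ ψ : bb, ∑ ψ' : bb, (c η ψ : ℂ) * (c η' ψ' : ℂ) *
          (pRegularPart p (BlocksDefect.inflate Q (ψ : IrrCharacter (C ⧸ Q)) : C → ℂ) g *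
            conj ((BlocksDefect.inflate Q (ψ' : IrrCharacter (C ⧸ Q)) : C → ℂ) g))) fun g _ => ?_]
      · simp only [Finset.mul_sum, Finset.sum_mul]
        rw [Finset.sum_comm]
        refine Finset.sum_congr rfl fun ψ _ => ?_
        rw [Finset.sum_comm]
        exact Finset.sum_congr rfl fun ψ' _ => Finset.sum_congr rfl fun g _ => by ring
      · by_cases hg : p ∣ orderOf g
        · rw [BC85.pRegularPart_neg hg, zero_mul]
          exact (Finset.sum_eq_zero fun χ _ => Finset.sum_eq_zero fun χ' _ => by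
            rw [BC85.pRegularPart_neg hg]; ring).symm
        · rw [BC85.pRegularPart_pos hg, hc η g hg, hc η' g hg, map_sum, Finset.sum_mul_sum]
          refine Finset.sum_congr rfl fun χ _ => Finset.sum_congr rfl fun χ' _ => ?_
          rw [map_mul, map_intCast, BC85.pRegularPart_pos hg, inflate_apply, inflate_apply]
          ring
    have hform : BC84.RankTwo.form m z z =
        BC84.RankTwo.form mb (fun ψ => ∑ η : b, z η * c η ψ) (fun ψ => ∑ η : b, z η * c η ψ) := by
      simp only [BC84.RankTwo.form_apply, hrel, Finset.mul_sum, Finset.sum_mul]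
      rw [Finset.sum_congr rfl fun η _ => Finset.sum_comm, Finset.sum_comm]
      refine Finset.sum_congr rfl fun ψ _ => ?_
      rw [Finset.sum_congr rfl fun η _ => Finset.sum_comm, Finset.sum_comm]
      refine Finset.sum_congr rfl fun ψ' _ => ?_
      rw [Finset.sum_comm]
      exact Finset.sum_congr rfl fun η _ => Finset.sum_congr rfl fun η' _ => by ring
    rw [hform] at hz ⊢
    exact min_form_defect_one hM hbb hd1 hmb _ hz

/-- The second inequality: rows of height zero against the trace. -/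
theorem height_zero_mul_le {G : Type u} [Group G] [Finite G] (hM : IsPModular p M) {u : G}
    (hu : orderOf u = p ^ 1) {B : Set (IrrCharacter G)}
    {e : Set (IrrCharacter (Subgroup.centralizer ({u} : Set G)))}
    (he : IsInducedBlock M (Subgroup.centralizer ({u} : Set G)) e B)
    (hd : blockDefect p e = blockDefect p B) {k0 kp : ℕ}
    (hk0 : k0 = Nat.card {χ : IrrCharacter G // χ ∈ B ∧ blockHeight p B (χ : G → ℂ) = 0})
    (hkp : k0 + kp = Nat.card B) :
    k0 * (k0 + p ^ 2 * kp) ≤ p ^ (2 * blockDefect p B) * blockRank p e := by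
  classical
  have := Fintype.ofFinite G
  have := Fintype.ofFinite (Subgroup.centralizer ({u} : Set G))
  have hk : u ^ p ^ (0 + 1) = 1 := by rw [zero_add, ← hu]; exact pow_orderOf_eq_one u
  have main : ((k0 * (k0 + p ^ 2 * kp) : ℕ) : ℝ) ≤
      ((p ^ (2 * blockDefect p B) * blockRank p e : ℕ) : ℝ) := by
    set Z := (mems B).filter fun χ : IrrCharacter G => blockHeight p B (χ : G → ℂ) = 0 with hZ
    have hZc : Z.card = k0 := by rw [hk0, card_height_zero]
    have hkc : k0 + kp = (mems B).card := by rw [hkp, card_eq_mems]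
    have hrow : ∀ χ ∈ Z, (k0 : ℝ) + (p : ℝ) ^ 2 * kp ≤
        (p : ℝ) ^ blockDefect p e * avg p 0 (contrib p e χ χ) := by
      intro χ hχ
      obtain ⟨hχB, hχ0⟩ := Finset.mem_filter.mp hχ
      rw [← row_sum e hM ⟨1, hu⟩ he]
      refine le_trans ?_ (Finset.sum_le_sum fun ψ hψ =>
        major_entry_bound e hM ⟨1, hu⟩ hk he hd (mem_mems.mp hχB) hχ0 (mem_mems.mp hψ))
      rw [← Finset.sum_filter_add_sum_filter_not (mems B)
        (fun ψ : IrrCharacter G => blockHeight p B (ψ : G → ℂ) = 0)]
      refine add_le_add (le_of_eq ?_) ?_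
      · rw [Finset.sum_congr rfl (g := fun _ => (1 : ℝ)) fun ψ hψ => by
          rw [(Finset.mem_filter.mp hψ).2]; simp]
        simp [← hZc, hZ]
      · have hn : ((mems B).filter fun ψ : IrrCharacter G =>
            ¬ blockHeight p B (ψ : G → ℂ) = 0).card = kp := by
          have h := Finset.card_filter_add_card_filter_not (s := mems B)
            (fun ψ : IrrCharacter G => blockHeight p B (ψ : G → ℂ) = 0)
          rw [← hZ, hZc, ← hkc] at h
          omega
        rw [← hn, mul_comm, ← nsmul_eq_mul]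
        refine Finset.card_nsmul_le_sum _ _ _ fun ψ hψ => ?_
        rw [← pow_mul]
        have hne := (Finset.mem_filter.mp hψ).2
        exact pow_le_pow_right₀ (by exact_mod_cast hM.1.one_lt.le) (by omega)
    have h1 := Finset.card_nsmul_le_sum Z _ _ hrow
    rw [nsmul_eq_mul, hZc] at h1
    push_cast
    refine h1.trans ?_
    rw [← Finset.mul_sum, two_mul (blockDefect p B), pow_add, ← hd, mul_assoc ((p : ℝ) ^ _)]
    refine mul_le_mul_of_nonneg_left ?_ (pow_nonneg (Nat.cast_nonneg p) _)
    rw [← sum_avg_self e hM ⟨1, hu⟩ he]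
    exact Finset.sum_le_sum_of_subset_of_nonneg (Finset.filter_subset _ _)
      fun χ _ _ => avg_self_nonneg e hM ⟨1, hu⟩ hk he χ
  exact_mod_cast main

/-- The numerical step. -/
theorem numeric {p N k0 kp : ℕ} (hp : 2 ≤ p) (hN : 4 ≤ N)
    (h1 : 4 * (k0 + p ^ 2 * kp) ≤ p ^ 2 * N + 4) (h2 : k0 * (k0 + p ^ 2 * kp) ≤ N ^ 2) :
    k0 + kp ≤ N := by
  have hp2 : 4 ≤ p ^ 2 := by nlinarith
  rcases le_or_gt (4 * k0) (3 * N) with h | h
  · by_contra hlt
    push Not at hlt
    nlinarith [Nat.mul_le_mul_left (p ^ 2) hlt, Nat.mul_le_mul_left (p ^ 2) h]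
  · have hk0 : k0 ≤ N := by
      refine Nat.mul_self_le_mul_self_iff.mp ?_
      rw [← sq N]
      exact le_trans (Nat.mul_le_mul_left _ (Nat.le_add_right _ _)) h2
    by_contra hlt
    push Not at hlt
    have h3 : p ^ 2 * k0 * (N + 1) ≤ p ^ 2 * k0 * (k0 + kp) := Nat.mul_le_mul_left _ hlt
    obtain ⟨a, ha⟩ : ∃ a, N = k0 + a := ⟨N - k0, by omega⟩
    subst ha
    have e1 := Nat.mul_le_mul_left (a * k0) hp2
    have e2 := Nat.mul_le_mul_left k0 hp2
    have e3 := Nat.mul_le_mul_left a (show 3 * a ≤ k0 by omega)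
    have e4 : 0 < k0 := by omega
    nlinarith

/-- Brauer and Feit. -/
theorem natCard_le (hM : IsPModular p M) (d : ℕ) :
    ∀ (G : Type u) [Group G] [Finite G] (B : Set (IrrCharacter G)), IsPBlock M B →
      blockDefect p B = d → (d ≤ 2 → Nat.card B ≤ p ^ d) ∧ (3 ≤ d → Nat.card B ≤ p ^ (2 * d - 2)) := by
  classical
  induction d using Nat.strong_induction_on with
  | _ d ih =>
  intro G _ _ B hB hd
  have := isPrime hM
  have hp : p.Prime := Fact.out
  have := Fintype.ofFinite G
  have := finite_irr (G := G)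
  have := Fintype.ofFinite B
  have hsum := BC85.sum_pow_height_le hM hB
  rw [BC85.finsum_block, hd] at hsum
  rcases Nat.eq_zero_or_pos d with rfl | hpos
  · refine ⟨fun _ => ?_, fun h => absurd h (by norm_num)⟩
    have h1 : Nat.card B ≤ ∑ χ : B, p ^ (2 * blockHeight p B ((χ : IrrCharacter G) : G → ℂ)) := by
      rw [Nat.card_eq_fintype_card, ← Finset.card_univ, Finset.card_eq_sum_ones]
      exact Finset.sum_le_sum fun χ _ => Nat.one_le_pow _ _ hp.pos
    simpa using h1.trans hsum
  obtain ⟨D, hD⟩ := exists_isDefectGroup hM hB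
  have hDp := isPGroup_of_isDefectGroup hD
  have hcard := defectGroup_natCard hM hB hD
  have : Nontrivial D := by
    rw [← Finite.one_lt_card_iff_nontrivial, hcard, hd]
    exact Nat.one_lt_pow (by omega) hp.one_lt
  have := hDp.center_nontrivial
  obtain ⟨j, hj, hcz⟩ := (hDp.to_subgroup (Subgroup.center D)).nontrivial_iff_card.mp this
  obtain ⟨w, hw⟩ := exists_prime_orderOf_dvd_card' (G := Subgroup.center D) p
    (hcz ▸ dvd_pow_self p (by omega))
  set z : G := ((w : D) : G) with hzdef
  have hz : orderOf z = p ^ 1 := by rw [hzdef, Subgroup.orderOf_coe, Subgroup.orderOf_coe, hw, pow_one]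
  have hzc : ∀ v ∈ D, v * z = z * v := fun v hv =>
    congrArg Subtype.val (Subgroup.mem_center_iff.mp w.2 ⟨v, hv⟩)
  obtain ⟨⟨b₀, -, hb₀⟩, -⟩ := S0973.result p M hM B hB D hD
  obtain ⟨b, -, hb, hbd, -⟩ := BC86.exists_major rfl hM hD hb₀ (w : D).2 hzc
  have := finite_irr (G := Subgroup.centralizer ({z} : Set G))
  have := Fintype.ofFinite b
  obtain ⟨m, hm, -⟩ := BC85.exists_matrix hM hb.1
  have hheight : d ≤ 2 → ∀ χ ∈ B, blockHeight p B ((χ : IrrCharacter G) : G → ℂ) = 0 := by
    intro h2 χ hχ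
    by_contra hne
    have := (BC85.height_bound hM hB).2 χ hχ (Nat.pos_of_ne_zero hne)
    omega
  have hall : d ≤ 2 →
      Nat.card {χ : IrrCharacter G // χ ∈ B ∧ blockHeight p B (χ : G → ℂ) = 0} = Nat.card B :=
    fun h2 => Nat.card_congr (Equiv.subtypeEquivRight fun χ => ⟨And.left, fun h => ⟨h, hheight h2 χ h⟩⟩)
  have hrpos : 0 < blockRank p b := by
    obtain ⟨χ, hχ, hχ0⟩ := exists_height_zero hM hB
    have h := height_zero_mul_le hM hz hb hbd (k0 := _) (kp := Nat.card B -
      Nat.card {χ : IrrCharacter G // χ ∈ B ∧ blockHeight p B (χ : G → ℂ) = 0}) rfl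
      (Nat.add_sub_cancel' (Nat.card_le_card_of_injective (fun χ => (⟨χ.1, χ.2.1⟩ : B))
        fun a c hac => Subtype.ext (congrArg (fun x : B => (x : IrrCharacter G)) hac)))
    have h0 : 0 < Nat.card {χ : IrrCharacter G // χ ∈ B ∧ blockHeight p B (χ : G → ℂ) = 0} := by
      haveI : Nonempty {χ : IrrCharacter G // χ ∈ B ∧ blockHeight p B (χ : G → ℂ) = 0} :=
        ⟨⟨χ, hχ, hχ0⟩⟩
      exact Nat.card_pos
    rcases Nat.eq_zero_or_pos (blockRank p b) with h' | h'
    · rw [h', mul_zero, Nat.le_zero, mul_eq_zero] at h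
      omega
    · exact h'
  by_cases hd1 : d = 1
  · subst hd1
    refine ⟨fun h2 => ?_, fun h => absurd h (by norm_num)⟩
    have h := BC84.RankTwo.height_zero_bound hM hz hb (blockRank p b) hm fun v hv =>
      min_form_defect_one hM hb.1 (hbd.trans hd) hm v hv
    rw [hall h2, hbd, hd, mul_comm (p ^ 1)] at h
    exact Nat.le_of_mul_le_mul_left h hrpos
  -- pass to the central quotient
  set zc : Subgroup.centralizer ({z} : Set G) := ⟨z, Subgroup.mem_centralizer_singleton_iff.mpr rfl⟩
  have hzC : zc ∈ Subgroup.center (Subgroup.centralizer ({z} : Set G)) := Subgroup.mem_center_iff.mpr fun g =>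
    Subtype.ext (Subgroup.mem_centralizer_singleton_iff.mp g.2)
  set Q := Subgroup.zpowers zc
  have hQn : Q.Normal := ⟨fun a ha g => by
    rw [Subgroup.mem_center_iff.mp ((Subgroup.zpowers_le.mpr hzC) ha) g, mul_inv_cancel_right]
    exact ha⟩
  have hQp : Nat.card Q = p := by
    rw [Nat.card_zpowers, Subgroup.orderOf_mk, hz, pow_one]
  obtain ⟨bb, hbb, hbbd, hrank, hform⟩ :=
    exists_dominated hM hQp (Subgroup.zpowers_le.mpr hzC) hb.1
  have hbd' : blockDefect p bb = d - 1 := by omega
  obtain ⟨ih2, ih3⟩ := ih (d - 1) (by omega) (Subgroup.centralizer ({z} : Set G) ⧸ Q) bb hbb hbd'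
  refine ⟨fun h2 => ?_, fun h3 => ?_⟩
  · have hd2 : d = 2 := by omega
    have h := BC84.RankTwo.height_zero_bound hM hz hb (blockRank p bb) hm
      (hform (by rw [hbd, hd, hd2]) m hm)
    rw [hall h2, hbd, hd] at h
    refine Nat.le_of_mul_le_mul_left (h.trans ?_) (lt_of_lt_of_le hrpos hrank)
    rw [mul_comm]
    exact Nat.mul_le_mul_right _ hrank
  · have hl : blockRank p b ≤ p ^ (2 * d - 4) := by
      refine hrank.trans ((blockRank_le_card bb).trans ?_)
      rcases Nat.eq_or_lt_of_le h3 with h | h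
      · exact (ih2 (by omega)).trans (le_of_eq (by congr 1; omega))
      · exact (ih3 (by omega)).trans (le_of_eq (by congr 1; omega))
    set k0 := Nat.card {χ : IrrCharacter G // χ ∈ B ∧ blockHeight p B (χ : G → ℂ) = 0} with hk0
    set kp := Nat.card B - k0
    have hk0le : k0 ≤ Nat.card B := Nat.card_le_card_of_injective (fun χ => (⟨χ.1, χ.2.1⟩ : B))
      fun a c hac => Subtype.ext (congrArg (fun x : B => (x : IrrCharacter G)) hac)
    have hkp : k0 + kp = Nat.card B := Nat.add_sub_cancel' hk0le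
    have h2' := height_zero_mul_le hM hz hb hbd hk0 hkp
    rw [hd] at h2'
    have hN : p ^ (2 * d) = p ^ 2 * p ^ (2 * d - 2) := by rw [← pow_add]; congr 1; omega
    rw [← hkp]
    refine numeric hp.two_le ?_ ?_ (h2'.trans ?_)
    · exact le_trans (Nat.pow_le_pow_left hp.two_le 2) (Nat.pow_le_pow_right hp.pos (by omega))
    · have h1 : k0 + p ^ 2 * kp ≤ (p ^ d) ^ 2 / 4 + 1 := by
        refine le_trans ?_ hsum
        rw [← Finset.sum_filter_add_sum_filter_not (Finset.univ : Finset B)
          (fun χ : B => blockHeight p B ((χ : IrrCharacter G) : G → ℂ) = 0)]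
        have hc : (Finset.univ.filter fun χ : B =>
            blockHeight p B ((χ : IrrCharacter G) : G → ℂ) = 0).card = k0 := by
          rw [hk0, ← Fintype.card_subtype, ← Nat.card_eq_fintype_card]
          exact Nat.card_congr (Equiv.subtypeSubtypeEquivSubtypeInter (fun χ : IrrCharacter G => χ ∈ B)
            (fun χ : IrrCharacter G => blockHeight p B (χ : G → ℂ) = 0))
        have hc' : (Finset.univ.filter fun χ : B =>
            ¬ blockHeight p B ((χ : IrrCharacter G) : G → ℂ) = 0).card = kp := by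
          have h := Finset.card_filter_add_card_filter_not (s := (Finset.univ : Finset B))
            (fun χ : B => blockHeight p B ((χ : IrrCharacter G) : G → ℂ) = 0)
          rw [hc, Finset.card_univ, ← Nat.card_eq_fintype_card, ← hkp] at h
          omega
        rw [← hc, ← hc']
        refine add_le_add ?_ ?_
        · rw [Finset.card_eq_sum_ones]
          exact Finset.sum_le_sum fun χ _ => Nat.one_le_pow _ _ hp.pos
        · rw [mul_comm, ← smul_eq_mul]
          refine Finset.card_nsmul_le_sum _ _ _ fun χ hχ => ?_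
          exact Nat.pow_le_pow_right hp.pos (by have := (Finset.mem_filter.mp hχ).2; omega)
      have e : (p ^ d) ^ 2 = p ^ 2 * p ^ (2 * d - 2) := by rw [← pow_mul, mul_comm d, hN]
      rw [e] at h1
      omega
    · rw [show (p ^ (2 * d - 2)) ^ 2 = p ^ (2 * d) * p ^ (2 * d - 4) by
        rw [← pow_mul, ← pow_add]; congr 1; omega]
      exact Nat.mul_le_mul_left _ hl

end Cfsg.Agent.BlkChar.BrauerFeit
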