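import Cfsg.Agent.CharDeep.Ext.Wrap
import Cfsg.Agent.CharB.CliffordDegree
import Cfsg.Agent.Lib.CharCore.Glauberman
import Cfsg.Agent.Lib.CharClifford.Clifford
import Cfsg.Agent.Lib.Transfer.Residual
import Cfsg.Prelude.Def_Blocks

/-!
# Characters of degree prime to `p` and the `p`-residual
-/

namespace Cfsg.Agent.BlkChar

open CharDeep.Ext (Inv detHom detOrder_eq)

open scoped ComplexConjugate

universe u

variable {G : Type u} [Group G] [Finite G] {p : ℕ}

theorem charDegree_of_eq {H : Type u} [Group H] {f : H → ℂ} {n : ℕ} (h : f 1 = n) :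
    charDegree f = n := by
  rw [charDegree, h, Complex.natCast_re, Nat.floor_natCast]

theorem exists_degree' (θ : IrrCharacter G) :
    ∃ d : ℕ, 0 < d ∧ (θ : G → ℂ) 1 = (d : ℂ) ∧ charDegree (θ : G → ℂ) = d := by
  haveI := Fintype.ofFinite G
  exact BlocksCore.exists_degree θ

/-- A character with an irreducible constituent of the same degree is that constituent. -/
theorem eq_of_constituent_of_degree [Fintype G] {φ : G → ℂ} (hφ : IsCharacter G φ)
    (θ : IrrCharacter G) (hne : classInner φ (θ : G → ℂ) ≠ 0)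
    (h1 : φ 1 = (θ : G → ℂ) 1) : φ = θ := by
  classical
  choose m hm using fun ψ => CharCore.IsCharacter.exists_classInner_irr_eq_natCast hφ ψ
  choose d hd0 hd1 hdd using fun ψ : IrrCharacter G => exists_degree' ψ
  have hsum := CharCore.IsCharacter.eq_sum_classInner hφ
  simp only [hm] at hsum
  have h : (∑ ψ, m ψ * d ψ : ℕ) = d θ := by
    have h2 := congrFun hsum 1
    simp only [Finset.sum_apply, Pi.smul_apply, smul_eq_mul, hd1, h1] at h2
    exact_mod_cast h2.symm
  have hmθ : m θ ≠ 0 := fun h0 => hne (by rw [hm, h0, Nat.cast_zero])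
  rw [← Finset.add_sum_erase _ _ (Finset.mem_univ θ)] at h
  have hge : d θ ≤ m θ * d θ := Nat.le_mul_of_pos_left _ (Nat.pos_of_ne_zero hmθ)
  have hm1 : m θ = 1 := by
    have : m θ * d θ = 1 * d θ := by omega
    exact Nat.eq_of_mul_eq_mul_right (hd0 θ) this
  have hrest : ∀ ψ, ψ ≠ θ → m ψ = 0 := by
    intro ψ hψ
    have h0 : ∑ χ ∈ Finset.univ.erase θ, m χ * d χ = 0 := by omega
    have := Finset.sum_eq_zero_iff.mp h0 ψ (Finset.mem_erase.mpr ⟨hψ, Finset.mem_univ ψ⟩)
    exact (Nat.mul_eq_zero.mp this).resolve_right (hd0 ψ).ne'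
  rw [hsum, Finset.sum_eq_single θ]
  · simp [hm1]
  · intro ψ _ hψ; simp [hrest ψ hψ]
  · simp

variable [hp : Fact p.Prime]

theorem pow_ordCompl_eq_one {A : Type*} [CommGroup A] {H : Type u} [Group H] [Finite H]
    (htop : pResidual p H = ⊤) (l : H →* A) : l ^ ordCompl[p] (Nat.card H) = 1 := by
  have hle : pResidual p H ≤ (l ^ ordCompl[p] (Nat.card H)).ker := by
    refine Transfer.pResidual_le_iff.mpr fun g hg => ?_
    rw [MonoidHom.mem_ker, MonoidHom.pow_apply, ← map_pow]
    have hd : orderOf g ∣ ordCompl[p] (Nat.card H) :=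
      (Nat.Coprime.pow_right _ hg).dvd_of_dvd_mul_left
        (by rw [Nat.ordProj_mul_ordCompl_eq_self]; exact orderOf_dvd_natCard g)
    rw [orderOf_dvd_iff_pow_eq_one.mp hd, map_one]
  rw [htop] at hle
  ext g
  exact hle (Subgroup.mem_top g)

theorem not_dvd_detOrder {H : Type u} [Group H] [Finite H] (htop : pResidual p H = ⊤)
    (θ : H → ℂ) : ¬ p ∣ detOrder θ := by
  rw [detOrder_eq]
  exact fun h => Nat.not_dvd_ordCompl hp.out Nat.card_pos.ne'
    (h.trans (orderOf_dvd_of_pow_eq_one (pow_ordCompl_eq_one htop _)))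

/-- A restriction to the `p`-residual of a character of degree prime to `p` is irreducible. -/
theorem restrict_isIrr_of_not_dvd [Fintype G] [Fintype (pResidual p G)] (χ : IrrCharacter G)
    (h : ¬ p ∣ charDegree (χ : G → ℂ)) :
    IsIrrCharacter (pResidual p G) (fun k : pResidual p G => (χ : G → ℂ) k) := by
  have hres := CharCore.isCharacter_restrict (CharCore.irr_isCharacter χ) (pResidual p G)
  obtain ⟨c, hc0, hc1, hcd⟩ := exists_degree' χ
  obtain ⟨θ, hθ⟩ := CharClifford.exists_constituent hres (by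
    show (χ : G → ℂ) ((1 : pResidual p G) : G) ≠ 0
    rw [OneMemClass.coe_one, hc1]; exact_mod_cast hc0.ne')
  obtain ⟨d, hd0, hd1, hdd⟩ := exists_degree' θ
  obtain ⟨hdvd, hidx⟩ := CharB.degree_dvd (pResidual p G) χ.2 θ.2 hθ hc1 hd1
  obtain ⟨n, hn⟩ := Transfer.exists_index_pResidual (p := p) (G := G)
  rw [hn] at hidx
  obtain ⟨i, -, hi⟩ := (Nat.dvd_prime_pow hp.out).mp hidx
  have hcd' : c = d := by
    obtain ⟨t, ht⟩ := hdvd
    rw [ht, Nat.mul_div_cancel_left _ hd0] at hi
    rcases i with _ | i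
    · rw [ht, hi, pow_zero, mul_one]
    · exact absurd (by rw [hcd, ht, hi]; exact dvd_mul_of_dvd_right (dvd_pow_self p i.succ_ne_zero) d) h
  rw [eq_of_constituent_of_degree hres θ hθ (by
    show (χ : G → ℂ) ((1 : pResidual p G) : G) = _
    rw [OneMemClass.coe_one, hc1, hd1, hcd'])]
  exact θ.2

/-- The invariant characters of degree prime to `p` of the `p`-residual. -/
def resSet (p : ℕ) (G : Type u) [Group G] [Fact p.Prime] [Finite G] : Set (IrrCharacter (pResidual p G)) :=
  {θ | Inv (pResidual p G) (θ : pResidual p G → ℂ) ∧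
    ¬ p ∣ charDegree (θ : pResidual p G → ℂ)}

theorem exists_ext_of_mem {θ : IrrCharacter (pResidual p G)} (hθ : θ ∈ resSet p G) :
    ∃ χ : IrrCharacter G, ((∀ k : pResidual p G, (χ : G → ℂ) k = (θ : pResidual p G → ℂ) k) ∧
      ¬ p ∣ detOrder (χ : G → ℂ) ∧
      charDegree (χ : G → ℂ) = charDegree (θ : pResidual p G → ℂ)) ∧
      ∀ χ' : IrrCharacter G, (∀ k : pResidual p G, (χ' : G → ℂ) k = (θ : pResidual p G → ℂ) k) →
        ¬ p ∣ detOrder (χ' : G → ℂ) → χ' = χ := by
  obtain ⟨d, hd0, hd1, hdd⟩ := exists_degree' θ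
  obtain ⟨n, hn⟩ := Transfer.exists_index_pResidual (p := p) (G := G)
  have hdet := not_dvd_detOrder (Transfer.pResidual_pResidual (G := G) (p := p)) (θ : pResidual p G → ℂ)
  have hcop : Nat.Coprime (pResidual p G).index (detOrder (θ : pResidual p G → ℂ) * d) := by
    rw [hn]
    exact Nat.Coprime.pow_left _ (Nat.Coprime.mul_right (hp.out.coprime_iff_not_dvd.mpr hdet)
      (hp.out.coprime_iff_not_dvd.mpr (hdd ▸ hθ.2)))
  obtain ⟨χ, ⟨hχ, hext, ho⟩, hu⟩ :=
    CharDeep.Ext.exists_ext_detOrder (pResidual p G) θ.2 hθ.1 hd1 hcop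
  refine ⟨⟨χ, hχ⟩, ⟨hext, ho ▸ hdet, ?_⟩, fun χ' h1 h2 => Subtype.ext (hu χ' χ'.2 h1 ?_)⟩
  · rw [hdd]
    refine charDegree_of_eq ?_
    rw [← hd1, ← hext 1]; rfl
  · rw [hn]; exact Nat.Coprime.pow_left _ (hp.out.coprime_iff_not_dvd.mpr h2)

/-- `|O^p(G)|` is congruent to the sum of the squares of the degrees over `resSet`. -/
theorem card_pResidual_modEq :
    (Nat.card (pResidual p G) : ℤ) ≡
      ∑ᶠ θ ∈ resSet p G, (charDegree (θ : pResidual p G → ℂ) : ℤ) ^ 2 [ZMOD p] := by
  classical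
  haveI := Fintype.ofFinite G
  obtain ⟨P⟩ : Nonempty (Sylow p G) := inferInstance
  let φ : (P : Subgroup G) →* MulAut (pResidual p G) :=
    (MulAut.conjNormal (H := pResidual p G)).comp (P : Subgroup G).subtype
  letI := CharCore.irrAction φ
  have hfix : ∀ θ : IrrCharacter (pResidual p G), (∀ a : (P : Subgroup G), a • θ = θ) ↔
      Inv (pResidual p G) (θ : pResidual p G → ℂ) := by
    intro θ
    constructor
    · intro h g n
      have hle : (P : Subgroup G) ⊔ pResidual p G ≤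
          CharDeep.Ext.inertia (pResidual p G) (θ : pResidual p G → ℂ) := by
        refine sup_le (fun a ha => ?_) (CharDeep.Ext.le_inertia _ (CharCore.irr_isClassFunction θ))
        funext k
        have h1 := congrArg (fun ψ : IrrCharacter (pResidual p G) => (ψ : pResidual p G → ℂ) k)
          (h (⟨a, ha⟩ : (P : Subgroup G))⁻¹)
        change (θ : pResidual p G → ℂ) ((φ (⟨a, ha⟩ : (P : Subgroup G))⁻¹)⁻¹ k) = _ at h1
        rw [map_inv, inv_inv] at h1
        exact h1
      rw [Transfer.sylow_sup_pResidual_eq_top] at hle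
      exact congrFun (hle (Subgroup.mem_top g)) n
    · intro h a
      refine Subtype.ext (funext fun k => ?_)
      show (θ : pResidual p G → ℂ) ((φ a)⁻¹ k) = _
      rw [← map_inv]
      exact h _ k
  choose d hd0 hd1 hdd using fun ψ : IrrCharacter (pResidual p G) => exists_degree' ψ
  have hmod := CharCore.modP_sum_sub_sum_fixed (p := p) (A := (P : Subgroup G)) P.2
    (fun θ : IrrCharacter (pResidual p G) => (θ : pResidual p G → ℂ) 1 ^ 2)
    (fun θ => by rw [hd1]; exact (CharCore.isIntegral_natCast _).pow 2)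
    (fun a θ => by
      show ((θ : pResidual p G → ℂ) ((φ a)⁻¹ 1)) ^ 2 = _
      rw [map_one])
  rw [CharCore.sum_degree_sq] at hmod
  set F := Finset.univ.filter (fun θ : IrrCharacter (pResidual p G) => ∀ a : (P : Subgroup G), a • θ = θ)
  have h2 : (∑ θ ∈ F, (θ : pResidual p G → ℂ) 1 ^ 2) = (((∑ θ ∈ F, (d θ : ℤ) ^ 2 : ℤ)) : ℂ) := by
    push_cast
    exact Finset.sum_congr rfl fun θ _ => by rw [hd1]
  have hmod' : CharCore.ModP p (((Nat.card (pResidual p G) : ℤ) : ℂ) -
      ((∑ θ ∈ F, (d θ : ℤ) ^ 2 : ℤ) : ℂ)) := by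
    rw [← h2]
    convert hmod using 3
    · simp
    · simp [F]
  rw [← Int.cast_sub, CharCore.modP_intCast_iff] at hmod'
  clear hmod
  have hmod := hmod'
  refine ((Int.modEq_iff_dvd.mpr hmod).symm).trans ?_
  have hR : ∑ᶠ θ ∈ resSet p G, (charDegree (θ : pResidual p G → ℂ) : ℤ) ^ 2 =
      ∑ θ ∈ F.filter (fun θ => ¬ p ∣ d θ), (d θ : ℤ) ^ 2 := by
    rw [finsum_mem_def, finsum_eq_sum_of_fintype, Finset.sum_filter, Finset.sum_filter]
    refine Finset.sum_congr rfl fun θ _ => ?_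
    rw [Set.indicator_apply]
    simp only [resSet, Set.mem_setOf_eq, hdd, ← hfix]
    split_ifs <;> simp_all
  rw [hR, ← Finset.sum_filter_add_sum_filter_not F (fun θ => ¬ p ∣ d θ)]
  conv_rhs => rw [← add_zero (∑ θ ∈ F.filter (fun θ => ¬ p ∣ d θ), (d θ : ℤ) ^ 2)]
  refine Int.ModEq.add_left _ (Int.modEq_zero_iff_dvd.mpr (Finset.dvd_sum fun θ hθ => ?_))
  simp only [Finset.mem_filter, not_not] at hθ
  exact dvd_pow (Int.natCast_dvd_natCast.mpr hθ.2) two_ne_zero

theorem card_pResidual_modEq_irr :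
    (Nat.card (pResidual p G) : ℤ) ≡
      ∑ᶠ χ ∈ {χ : IrrCharacter G | ¬ p ∣ charDegree (χ : G → ℂ) ∧ ¬ p ∣ detOrder (χ : G → ℂ)},
        (charDegree (χ : G → ℂ) : ℤ) ^ 2 [ZMOD p] := by
  classical
  haveI := Fintype.ofFinite G
  haveI := Fintype.ofFinite (pResidual p G)
  refine card_pResidual_modEq.trans (Eq.congr_right ?_ |>.mp rfl)
  choose e he hu using fun θ (h : θ ∈ resSet p G) => exists_ext_of_mem h
  refine congrArg (fun z => z % (p : ℤ)) ?_
  refine finsum_mem_eq_of_bijOn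
    (fun θ => if h : θ ∈ resSet p G then e θ h else ⟨fun _ => 1, CharCore.isIrrCharacter_one⟩)
    ⟨fun θ hθ => ?_, fun θ hθ θ' hθ' heq => ?_, fun χ hχ => ?_⟩ fun θ hθ => ?_
  · simp only [dif_pos hθ]
    exact ⟨(he θ hθ).2.2 ▸ hθ.2, (he θ hθ).2.1⟩
  · simp only [dif_pos hθ, dif_pos hθ'] at heq
    refine Subtype.ext (funext fun k => ?_)
    rw [← (he θ hθ).1 k, heq, (he θ' hθ').1 k]
  · let θ : IrrCharacter (pResidual p G) := ⟨_, restrict_isIrr_of_not_dvd χ hχ.1⟩
    have hθ : θ ∈ resSet p G := by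
      refine ⟨CharDeep.Ext.inv_restrict _ (CharCore.irr_isClassFunction χ), ?_⟩
      have : charDegree (θ : pResidual p G → ℂ) = charDegree (χ : G → ℂ) := rfl
      rw [this]; exact hχ.1
    exact ⟨θ, hθ, by simp only [dif_pos hθ]; exact (hu θ hθ χ (fun k => rfl) hχ.2).symm⟩
  · simp only [dif_pos hθ, (he θ hθ).2.2]

theorem not_dvd_card_pResidual_of_degrees
    (hdeg : ∀ χ : IrrCharacter G, charDegree (χ : G → ℂ) ≠ 1 → p ∣ charDegree (χ : G → ℂ)) :
    ¬ p ∣ Nat.card (pResidual p G) := by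
  classical
  haveI := Fintype.ofFinite G
  haveI := Fintype.ofFinite (pResidual p G)
  set K := pResidual p G with hK
  have hlin : ∀ θ ∈ resSet p G, charDegree ((θ : IrrCharacter K) : K → ℂ) = 1 := by
    intro θ hθ
    obtain ⟨χ, ⟨-, -, hd⟩, -⟩ := exists_ext_of_mem hθ
    by_contra hne
    exact hθ.2 (hd ▸ hdeg χ (hd ▸ hne))
  let T : Subgroup (K →* ℂˣ) :=
    { carrier := {l | ∀ (g : G) (n : K),
        l ⟨g * n * g⁻¹, (Transfer.pResidual_normal (p := p) (G := G)).conj_mem n n.2 g⟩ = l n}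
      one_mem' := fun g n => rfl
      mul_mem' := fun {a b} ha hb g n => by
        simp only [MonoidHom.mul_apply, ha g n, hb g n]
      inv_mem' := fun {a} ha g n => by
        simp only [MonoidHom.inv_apply, ha g n] }
  have hTcard : ¬ p ∣ Nat.card T := by
    intro h
    have : Finite (K →* ℂˣ) := by
      exact Finite.of_injective _ (linearHom_injective K)
    obtain ⟨l, hl⟩ := exists_prime_orderOf_dvd_card' p h
    rw [← Subgroup.orderOf_coe] at hl
    refine Nat.not_dvd_ordCompl hp.out (Nat.card_pos (α := K)).ne' ?_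
    have := orderOf_dvd_of_pow_eq_one
      (pow_ordCompl_eq_one (Transfer.pResidual_pResidual (G := G) (p := p)) (l : K →* ℂˣ))
    rwa [hl] at this
  have hbij : Nat.card T = Nat.card (resSet p G) := by
    refine Nat.card_congr (Equiv.ofBijective
      (fun l => ⟨⟨fun k => ((l : K →* ℂˣ) k : ℂ), CharCore.isIrrCharacter_hom _⟩, fun g n => ?_, ?_⟩)
      ⟨fun a b hab => ?_, fun θ => ?_⟩)
    · exact congrArg Units.val (l.2 g n)
    · rw [charDegree_of_eq (n := 1) (by simp)]
      exact hp.out.not_dvd_one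
    · refine Subtype.ext (MonoidHom.ext fun k => Units.ext ?_)
      exact congrFun (congrArg (fun z : resSet p G => ((z : IrrCharacter K) : K → ℂ)) hab) k
    · obtain ⟨d, -, hd1, hdd⟩ := exists_degree' θ.1
      rw [hlin _ θ.2] at hdd
      obtain ⟨m, hm⟩ := CharCore.IsCharacter.exists_hom_of_degree_one
        (CharCore.irr_isCharacter θ.1) (by rw [hd1, ← hdd, Nat.cast_one])
      refine ⟨⟨m, fun g n => Units.ext ?_⟩, Subtype.ext (Subtype.ext hm.symm)⟩
      have := θ.2.1 g n
      rw [hm] at this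
      exact this
  intro hdvd
  apply hTcard
  rw [hbij, ← Int.natCast_dvd_natCast]
  have h := card_pResidual_modEq (p := p) (G := G)
  have hsum : ∑ᶠ θ ∈ resSet p G, (charDegree ((θ : IrrCharacter K) : K → ℂ) : ℤ) ^ 2 =
      (Nat.card (resSet p G) : ℤ) := by
    rw [finsum_mem_congr rfl (fun θ hθ => by rw [hlin θ hθ, Nat.cast_one, one_pow]),
      finsum_mem_def, finsum_eq_sum_of_fintype, Nat.card_eq_fintype_card]
    simp [Set.indicator_apply, Finset.sum_boole, Fintype.card_subtype]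
  rw [hsum] at h
  exact Int.modEq_zero_iff_dvd.mp (h.symm.trans (Int.modEq_zero_iff_dvd.mpr (Int.natCast_dvd_natCast.mpr hdvd)))
where
  linearHom_injective (H : Type u) [Group H] [Finite H] :
      Function.Injective (fun l : H →* ℂˣ =>
        (⟨fun k => (l k : ℂ), CharCore.isIrrCharacter_hom l⟩ : IrrCharacter H)) :=
    fun a b hab => MonoidHom.ext fun k => Units.ext (congrFun (congrArg Subtype.val hab) k)

end Cfsg.Agent.BlkChar
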