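import Cfsg.Agent.BlkChar.AbelianSubsection
import Cfsg.Agent.BC85.Star.Focal

/-!
# Twisted sums over the subsections of a block with abelian defect group

A linear character of the defect group invariant under the inertial group permutes the characters
of the block without fixed points, unless it is trivial; hence the ranks of the local blocks,
weighted by it, sum to zero.
-/

set_option autoImplicit false
set_option linter.unusedSectionVars false
set_option linter.style.haveILetI false

namespace Cfsg.Agent.BlkChar.AbelianTwistSum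

open BlocksCore BlocksDefect BC85 BC85.Star
open scoped Classical ComplexConjugate

universe u

variable {G : Type u} [Group G] [Fintype G] {p : ℕ} [Fact p.Prime] {M : Ideal AlgInt}
  {B : Set (IrrCharacter G)} {P : Subgroup G}
  {c : Set (IrrCharacter (Subgroup.centralizer (P : Set G)))}

/-- The rank only depends on the coefficient function. -/
theorem rank_of_coe_eq {H H' : Subgroup G} (h : H = H') {b : Set (IrrCharacter H)}
    {b' : Set (IrrCharacter H')} (he : subgroupBlockCoeff H b = subgroupBlockCoeff H' b') :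
    blockRank p b = blockRank p b' := by
  subst h
  rw [show b = b' from blockCoeff_injective (funext fun x => by
    rw [← subgroupBlockCoeff_coe H b x, he, subgroupBlockCoeff_coe H b' x])]

/-- The contribution of one subsection to the trace of a twist. -/
theorem sum_proj_mul_conj (hM : IsPModular p M) (hB : IsPBlock M B) {v : G}
    (hv : ∃ n : ℕ, orderOf v = p ^ n) {a : BrauerPairIdx G}
    (ha : a ∈ pairsAt M (Subgroup.zpowers v)) (hpair : IsBrauerPairOf p M B a.1 a.2) :
    ∑ χ ∈ CharCore.SubContrib.mems B,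
      ∑ s ∈ Finset.univ.filter
          (fun s : Subgroup.centralizer ({v} : Set G) => ¬ p ∣ orderOf s),
        proj a v (χ : G → ℂ) s * conj ((χ : G → ℂ) (v * (s : G))) =
      (Nat.card (Subgroup.centralizer ({v} : Set G)) : ℂ) * (blockRank p a.2 : ℂ) := by
  have := isPrime hM
  obtain ⟨b, hb, hcoe, hiff⟩ := exists_block_induced hM hv ha
  have hrank : blockRank p a.2 = blockRank p b := by
    refine rank_of_coe_eq ?_ hcoe.symm
    rw [(mem_pairsAt.mp ha).1, BlocksCore.centralizer_zpowers]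
  rw [hrank, ← CharCore.SubContrib.sum_sub_self b hM hv ((hiff B).mp hpair), Finset.mul_sum]
  refine Finset.sum_congr rfl fun χ _ => ?_
  set f : Subgroup.centralizer ({v} : Set G) → ℂ :=
    fun k => (χ : G → ℂ) (v * (k : G)) with hf
  set g : Subgroup.centralizer ({v} : Set G) → ℂ :=
    pRegularPart p (CharCore.SubContrib.part b χ) with hg
  have h1 : ∑ s ∈ Finset.univ.filter
      (fun s : Subgroup.centralizer ({v} : Set G) => ¬ p ∣ orderOf s),
      proj a v (χ : G → ℂ) s * conj (f s) =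
      (Nat.card (Subgroup.centralizer ({v} : Set G)) : ℂ) * classInner g f := by
    rw [classInner, ← mul_assoc, mul_inv_cancel₀ (Nat.cast_ne_zero.mpr Nat.card_pos.ne'), one_mul,
      Finset.sum_filter]
    refine Finset.sum_congr (by congr!) fun s _ => ?_
    by_cases hs : p ∣ orderOf s
    · rw [if_neg (not_not.mpr hs), hg, BC85.pRegularPart_neg hs, zero_mul]
    · rw [if_pos hs, hg, BC85.pRegularPart_pos hs, CharCore.SubContrib.part,
        proj_eq_blockPart (irr_class χ) hcoe]
  rw [h1]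
  congr 1
  have hfc : IsClassFunction (Subgroup.centralizer ({v} : Set G)) f :=
    CharCore.BlockSections.isClassFunction_translate χ
  conv_lhs => rw [CharCore.eq_sum_classInner hfc, CharCore.classInner_sum_right]
  rw [CharCore.SubContrib.sub]
  refine (Finset.sum_subset (Finset.subset_univ _) fun θ _ hθ => ?_).symm.trans
    (Finset.sum_congr rfl fun θ _ => ?_)
  · rw [CharCore.classInner_smul_right, hg, ← CharCore.SubContrib.coord_eq_classInner,
      CharCore.SubContrib.coord_eq_zero b hM hb χ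
        (fun h => hθ (CharCore.SubContrib.mem_mems.mpr h)), mul_zero]
  · rw [CharCore.classInner_smul_right, hg, ← CharCore.SubContrib.coord_eq_classInner, mul_comm]
    rfl

/-- The trace of a star product on a block. -/
theorem trace_eq (hM : IsPModular p M) (hB : IsPBlock M B) (η : BrauerPairIdx G → G → ℂ) :
    (Nat.card G : ℂ) * ∑ χ ∈ CharCore.SubContrib.mems B,
        classInner (starFun p M η (χ : G → ℂ)) (χ : G → ℂ) =
      ∑ v ∈ Finset.univ.filter (fun v : G => ∃ n : ℕ, orderOf v = p ^ n),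
        ∑ a ∈ (pairsAt M (Subgroup.zpowers v)).filter
            (fun a => IsBrauerPairOf p M B a.1 a.2),
          η a v * ((Nat.card (Subgroup.centralizer ({v} : Set G)) : ℂ) *
            (blockRank p a.2 : ℂ)) := by
  have := isPrime hM
  rw [Finset.mul_sum, Finset.sum_congr rfl fun χ _ => by
    rw [classInner, ← mul_assoc, mul_inv_cancel₀ (Nat.cast_ne_zero.mpr Nat.card_pos.ne'), one_mul,
      ← Finset.sum_fiberwise_of_maps_to
        (t := Finset.univ.filter fun v : G => ∃ n : ℕ, orderOf v = p ^ n) (g := pp p (G := G))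
        fun g _ => Finset.mem_filter.mpr
          ⟨Finset.mem_univ _, (pp_spec (p := p) g).choose_spec.2.2.1⟩],
    Finset.sum_comm]
  refine Finset.sum_congr rfl fun v hv => ?_
  have hv' : ∃ n : ℕ, orderOf v = p ^ n := (Finset.mem_filter.mp hv).2
  have hfib : ∀ X : G → ℂ, ∑ g ∈ Finset.univ.filter (fun g => pp p g = v), X g =
      ∑ s ∈ Finset.univ.filter (fun s : Subgroup.centralizer ({v} : Set G) => ¬ p ∣ orderOf s),
        X (v * s) := by
    intro X
    refine (Finset.sum_bij (fun (s : Subgroup.centralizer ({v} : Set G)) _ => v * (s : G))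
      (fun s hs => Finset.mem_filter.mpr ⟨Finset.mem_univ _, pp_mul hv'
        (by rw [Subgroup.orderOf_coe]; exact (Finset.mem_filter.mp hs).2)
        (Subgroup.mem_centralizer_singleton_iff.mp s.2).symm⟩)
      (fun a _ b _ h => Subtype.ext (mul_left_cancel h)) (fun g hg => ?_) fun s _ => rfl).symm
    obtain ⟨hc, hr⟩ := regular_inv_pp_mul (p := p) g
    rw [(Finset.mem_filter.mp hg).2] at hc hr
    exact ⟨⟨_, Subgroup.mem_centralizer_singleton_iff.mpr hc.eq.symm⟩,
      Finset.mem_filter.mpr ⟨Finset.mem_univ _, by rwa [← Subgroup.orderOf_coe]⟩,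
      mul_inv_cancel_left v g⟩
  rw [Finset.sum_congr rfl fun χ _ => by
    rw [hfib, Finset.sum_congr rfl fun s hs => by
      rw [starFun_apply η _ hv' s.2
        (by rw [Subgroup.orderOf_coe]; exact (Finset.mem_filter.mp hs).2), Finset.sum_mul],
      Finset.sum_comm],
    Finset.sum_comm, Finset.sum_filter]
  refine Finset.sum_congr rfl fun a ha => ?_
  simp only [mul_assoc, ← Finset.mul_sum]
  split_ifs with hpair
  · rw [sum_proj_mul_conj hM hB hv' ha hpair]
  · refine mul_eq_zero_of_right _ (Finset.sum_eq_zero fun χ hχ => Finset.sum_eq_zero fun s hs => ?_)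
    rw [proj_eq_zero_of_not_pairOf hM hB (CharCore.SubContrib.mem_mems.mp hχ) hv' ha hpair
      (Finset.mem_filter.mp hs).2, zero_mul]

/-- Orbit and stabilizer of conjugation in the inertial group. -/
theorem card_orbit_mul (T : Subgroup G) (u : G) :
    Nat.card {v : G // ∃ t ∈ T, t * u * t⁻¹ = v} *
      Nat.card (T ⊓ Subgroup.centralizer ({u} : Set G) : Subgroup G) = Nat.card T := by
  set S := (Subgroup.centralizer ({u} : Set G)).subgroupOf T with hS
  have hmem : ∀ t : T, t ∈ S ↔ (t : G) * u * (t : G)⁻¹ = u := fun t => by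
    rw [hS, Subgroup.mem_subgroupOf, Subgroup.mem_centralizer_singleton_iff]
    exact (mul_inv_eq_iff_eq_mul).symm
  let φ : T ⧸ S → {v : G // ∃ t ∈ T, t * u * t⁻¹ = v} := fun q =>
    Quotient.liftOn' q (fun t => ⟨(t : G) * u * (t : G)⁻¹, t, t.2, rfl⟩) fun a b hab => by
      have h := (hmem _).mp (QuotientGroup.leftRel_apply.mp hab)
      refine Subtype.ext ?_
      show (a : G) * u * (a : G)⁻¹ = b * u * (b : G)⁻¹
      rw [show (b : G) * u * (b : G)⁻¹ =
        a * (((a⁻¹ * b : T) : G) * u * ((a⁻¹ * b : T) : G)⁻¹) * (a : G)⁻¹ by push_cast; group, h]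
  have hφ : Function.Bijective φ := by
    refine ⟨fun q q' => ?_, ?_⟩
    · refine Quotient.inductionOn₂' q q' fun a b h => ?_
      have h' : (a : G) * u * (a : G)⁻¹ = b * u * (b : G)⁻¹ := congrArg Subtype.val h
      refine QuotientGroup.eq.mpr ((hmem _).mpr ?_)
      push_cast
      calc (a : G)⁻¹ * b * u * ((a : G)⁻¹ * b)⁻¹ = (a : G)⁻¹ * (b * u * (b : G)⁻¹) * a := by group
        _ = u := by rw [← h']; group
    · rintro ⟨v, t, ht, rfl⟩
      exact ⟨Quotient.mk'' ⟨t, ht⟩, rfl⟩
  have hc : Nat.card (T ⊓ Subgroup.centralizer ({u} : Set G) : Subgroup G) = Nat.card S := by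
    rw [← Nat.card_congr (Subgroup.subgroupOfEquivOfLe
      (inf_le_left (a := T) (b := Subgroup.centralizer ({u} : Set G)))).toEquiv,
      Subgroup.inf_subgroupOf_left]
  rw [← Nat.card_eq_of_bijective φ hφ, hc, ← Subgroup.index_eq_card, mul_comm,
    Subgroup.card_mul_index]

section Orbits

variable (hM : IsPModular p M) (hmax : IsMaximalBrauerPair p M B P c)
  (hab : ∀ x ∈ P, ∀ y ∈ P, x * y = y * x)

include hM hmax hab

/-- A sum over the subsections as a sum over the defect group. -/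
theorem pairs_sum (Φ : G → BrauerPairIdx G → ℂ)
    (hΦ : ∀ (g v : G) (a : BrauerPairIdx G), (∃ n : ℕ, orderOf v = p ^ n) →
      a ∈ pairsAt M (Subgroup.zpowers v) → Φ (g * v * g⁻¹) (conjPair g a) = Φ v a)
    (fb : ∀ v : P, Set (IrrCharacter (Subgroup.centralizer
      ((Subgroup.zpowers (v : G) : Subgroup G) : Set G))))
    (hfb : ∀ v : P, SubpairLE p M (Subgroup.zpowers (v : G)) (fb v) P c) :
    (Nat.card G : ℂ) * ∑ v : P,
        (Nat.card (stabT P c ⊓ Subgroup.centralizer ({(v : G)} : Set G) : Subgroup G) : ℂ) *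
          Φ v ⟨Subgroup.zpowers (v : G), fb v⟩ =
      (Nat.card (stabT P c) : ℂ) *
        ∑ v ∈ Finset.univ.filter (fun v : G => ∃ n : ℕ, orderOf v = p ^ n),
          ∑ a ∈ (pairsAt M (Subgroup.zpowers v)).filter
              (fun a => IsBrauerPairOf p M B a.1 a.2),
            (Nat.card (Subgroup.centralizer ({v} : Set G)) : ℂ) * Φ v a := by
  have := isPrime hM
  set T := stabT P c with hT
  have hord : ∀ u : P, ∃ n : ℕ, orderOf (u : G) = p ^ n :=
    fun u => orderOf_pow_of_mem hmax.1.1.1 u.2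
  let Ψ : G × P → (_ : G) × BrauerPairIdx G := fun q =>
    ⟨q.1 * q.2 * q.1⁻¹, conjPair q.1 ⟨Subgroup.zpowers (q.2 : G), fb q.2⟩⟩
  let wt : G × P → ℂ := fun q =>
    (Nat.card (T ⊓ Subgroup.centralizer ({(q.2 : G)} : Set G) : Subgroup G) : ℂ) *
      Φ q.2 ⟨Subgroup.zpowers (q.2 : G), fb q.2⟩
  have hlhs : (Nat.card G : ℂ) * ∑ v : P,
      (Nat.card (T ⊓ Subgroup.centralizer ({(v : G)} : Set G) : Subgroup G) : ℂ) *
          Φ v ⟨Subgroup.zpowers (v : G), fb v⟩ = ∑ q : G × P, wt q := by
    rw [Fintype.sum_prod_type]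
    simp only [wt]
    rw [Finset.sum_const, Finset.card_univ, nsmul_eq_mul,
      Nat.card_eq_fintype_card]
  have hmaps : ∀ q : G × P, Ψ q ∈
      (Finset.univ.filter fun v : G => ∃ n : ℕ, orderOf v = p ^ n).sigma
        fun v => (pairsAt M (Subgroup.zpowers v)).filter
          fun a => IsBrauerPairOf p M B a.1 a.2 := fun q => by
    have hpair := pairOf_conj hM (a := ⟨Subgroup.zpowers (q.2 : G), fb q.2⟩)
      ((subpairLE_pairOf_iff hM (hfb q.2) B).mp hmax.1) q.1
    refine Finset.mem_sigma.mpr ⟨Finset.mem_filter.mpr ⟨Finset.mem_univ _, ?_⟩,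
      Finset.mem_filter.mpr ⟨mem_pairsAt.mpr
        ⟨AbelianSubsection.map_conj_zpowers q.1 q.2, hpair.1.2⟩, hpair⟩⟩
    obtain ⟨n, hn⟩ := hord q.2
    exact ⟨n, (orderOf_conjugate (q.2 : G) q.1).trans hn⟩
  rw [hlhs]
  simp only [Finset.mul_sum]
  rw [Finset.sum_sigma', ← Finset.sum_fiberwise_of_maps_to (fun q _ => hmaps q) wt]
  refine Finset.sum_congr rfl fun a ha => ?_
  obtain ⟨x, Q, f⟩ := a
  obtain ⟨hx, ha⟩ := Finset.mem_sigma.mp ha
  obtain ⟨hat, hof⟩ := Finset.mem_filter.mp ha
  obtain ⟨hQ, hf⟩ := mem_pairsAt.mp hat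
  dsimp only at hQ
  subst hQ
  obtain ⟨g, hg⟩ := exists_conj_below hM hmax hof
  have hgle : (Subgroup.zpowers x).map (MulAut.conj g).toMonoidHom ≤ P := subpairLE_le hg
  rw [AbelianSubsection.map_conj_zpowers] at hgle
  set u₀ : P := ⟨g * x * g⁻¹, hgle (Subgroup.mem_zpowers _)⟩
  have hu₀ : conjPair g (⟨Subgroup.zpowers x, f⟩ : BrauerPairIdx G) =
      ⟨Subgroup.zpowers (u₀ : G), fb u₀⟩ :=
    below_eq hM hmax.1.1 (a := conjPair g ⟨Subgroup.zpowers x, f⟩) hg (hfb u₀)
      (AbelianSubsection.map_conj_zpowers g x)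
  let O := {v : G // ∃ t ∈ T, t * (u₀ : G) * t⁻¹ = v}
  choose t ht htv using fun v : O => v.2
  have hvP : ∀ v : O, v.1 ∈ P := fun v => by
    rw [← htv v]
    exact (Subgroup.mem_normalizer_iff.mp (ht v).1 _).mp u₀.2
  have htpair : ∀ v : O, conjPair (t v) (⟨Subgroup.zpowers (u₀ : G), fb u₀⟩ : BrauerPairIdx G) =
      ⟨Subgroup.zpowers v.1, fb ⟨v.1, hvP v⟩⟩ := fun v => by
    refine below_eq hM hmax.1.1 (a := conjPair (t v) ⟨_, fb u₀⟩) ?_ (hfb ⟨v.1, hvP v⟩)
      ((AbelianSubsection.map_conj_zpowers (t v) (u₀ : G)).trans (by rw [htv v]))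
    show Relation.ReflTransGen (NormalSubpairRel p M) (conjPair (t v) ⟨_, fb u₀⟩) _
    have h := subpairLE_conj hM (a := ⟨_, fb u₀⟩) (b := ⟨P, c⟩) (hfb u₀) (t v)
    rwa [conjPair_eq_self_iff.mpr (ht v)] at h
  let C := Subgroup.centralizer ({x} : Set G)
  let ι : C × O → G × P := fun q => ((q.1 : G) * g⁻¹ * (t q.2)⁻¹, ⟨q.2.1, hvP q.2⟩)
  have hzC : Subgroup.centralizer ((Subgroup.zpowers x : Subgroup G) : Set G) = C :=
    BlocksCore.centralizer_zpowers x
  have hfib : (Finset.univ.filter fun q : G × P =>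
      Ψ q = (⟨x, ⟨Subgroup.zpowers x, f⟩⟩ : (_ : G) × BrauerPairIdx G)) =
      (Finset.univ : Finset (C × O)).image ι := by
    ext ⟨h, u⟩
    simp only [Finset.mem_filter, Finset.mem_univ, true_and, Finset.mem_image]
    constructor
    · intro hq
      have hq1 : h * (u : G) * h⁻¹ = x := congrArg Sigma.fst hq
      have hq2 : conjPair h (⟨Subgroup.zpowers (u : G), fb u⟩ : BrauerPairIdx G) =
          ⟨Subgroup.zpowers x, f⟩ :=
        congrArg (fun z : (_ : G) × BrauerPairIdx G => z.2) hq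
      have hgh : conjPair (g * h) (⟨Subgroup.zpowers (u : G), fb u⟩ : BrauerPairIdx G) =
          ⟨Subgroup.zpowers (u₀ : G), fb u₀⟩ := by
        rw [← conjPair_conjPair, hq2, hu₀]
      obtain ⟨y, hy, hyq⟩ := AbelianSubsection.exists_stab_of_below hM hmax hab (hfb u)
        (x := g * h) (by
          show Relation.ReflTransGen (NormalSubpairRel p M) (conjPair (g * h) ⟨_, fb u⟩) _
          rw [hgh]; exact hfb u₀)
      have hyu : y⁻¹ * (u₀ : G) * y⁻¹⁻¹ = u := by
        have h2 := hyq u (Subgroup.mem_zpowers _)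
        show y⁻¹ * (g * x * g⁻¹) * y⁻¹⁻¹ = u
        rw [← hq1]
        calc y⁻¹ * (g * (h * u * h⁻¹) * g⁻¹) * y⁻¹⁻¹
            = y⁻¹ * (g * h * u * (g * h)⁻¹) * y := by group
          _ = u := by rw [← h2]; group
      let v : O := ⟨(u : G), y⁻¹, inv_mem hy, hyu⟩
      have hkx : h * t v * g ∈ C := by
        refine Subgroup.mem_centralizer_singleton_iff.mpr (mul_inv_eq_iff_eq_mul.mp ?_)
        calc h * t v * g * x * (h * t v * g)⁻¹
            = h * (t v * (g * x * g⁻¹) * (t v)⁻¹) * h⁻¹ := by group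
          _ = x := by rw [show t v * (g * x * g⁻¹) * (t v)⁻¹ = (u : G) from htv v]; exact hq1
      refine ⟨(⟨_, hkx⟩, v), Prod.ext ?_ rfl⟩
      show h * t v * g * g⁻¹ * (t v)⁻¹ = h
      group
    · rintro ⟨q, hq⟩
      rw [← hq]
      have hkx : (q.1 : G) * x * (q.1 : G)⁻¹ = x :=
        mul_inv_eq_iff_eq_mul.mpr (Subgroup.mem_centralizer_singleton_iff.mp q.1.2)
      refine Sigma.ext ?_ (heq_of_eq ?_)
      · show (q.1 : G) * g⁻¹ * (t q.2)⁻¹ * q.2.1 * ((q.1 : G) * g⁻¹ * (t q.2)⁻¹)⁻¹ = x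
        rw [← htv q.2]
        show (q.1 : G) * g⁻¹ * (t q.2)⁻¹ * (t q.2 * (g * x * g⁻¹) * (t q.2)⁻¹) *
          ((q.1 : G) * g⁻¹ * (t q.2)⁻¹)⁻¹ = x
        calc _ = (q.1 : G) * x * (q.1 : G)⁻¹ := by group
          _ = x := hkx
      · show conjPair ((q.1 : G) * g⁻¹ * (t q.2)⁻¹) ⟨_, fb ⟨q.2.1, hvP q.2⟩⟩ = _
        rw [← htpair, ← hu₀, conjPair_conjPair, conjPair_conjPair,
          show (q.1 : G) * g⁻¹ * (t q.2)⁻¹ * t q.2 * g = q.1 by group]
        exact conjPair_eq_self_iff.mpr (le_sup_right.trans (le_stabT _ f) (by rw [hzC]; exact q.1.2))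
  have hinj : Function.Injective ι := by
    rintro ⟨k₁, v₁⟩ ⟨k₂, v₂⟩ h
    have hv : v₁ = v₂ := Subtype.ext (congrArg (fun z : G × P => ((z.2 : P) : G)) h)
    subst hv
    have h1 := congrArg Prod.fst h
    simp only [ι, mul_left_inj] at h1
    rw [Subtype.ext h1]
  have hΦconst : ∀ v : O, Φ (v : G) ⟨Subgroup.zpowers v.1, fb ⟨v.1, hvP v⟩⟩ =
      Φ x ⟨Subgroup.zpowers x, f⟩ := fun v => by
    obtain ⟨n, hn⟩ : ∃ n : ℕ, orderOf x = p ^ n := (Finset.mem_filter.mp hx).2
    rw [← htpair, ← hu₀, conjPair_conjPair,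
      show (v : G) = t v * g * x * (t v * g)⁻¹ by
        rw [← htv v]; show t v * (g * x * g⁻¹) * (t v)⁻¹ = _; group]
    exact hΦ _ _ _ ⟨n, hn⟩ hat
  have horb : ∀ v : O, Nat.card O *
      Nat.card (T ⊓ Subgroup.centralizer ({v.1} : Set G) : Subgroup G) = Nat.card T := fun v => by
    rw [← card_orbit_mul T v.1]
    congr 1
    refine Nat.card_congr (Equiv.subtypeEquivRight fun w => ?_)
    constructor
    · rintro ⟨s, hs, rfl⟩
      exact ⟨s * (t v)⁻¹, mul_mem hs (inv_mem (ht v)), by rw [← htv v]; group⟩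
    · rintro ⟨s, hs, rfl⟩
      exact ⟨s * t v, mul_mem hs (ht v), by rw [← htv v]; group⟩
  rw [hfib, Finset.sum_image fun a _ b _ h => hinj h, Fintype.sum_prod_type]
  rw [Finset.sum_congr rfl (g := fun _ : C => ∑ v : O,
    (Nat.card (T ⊓ Subgroup.centralizer ({v.1} : Set G) : Subgroup G) : ℂ) *
      Φ x ⟨Subgroup.zpowers x, f⟩) fun k _ => Finset.sum_congr rfl fun v _ => (by
        show (Nat.card (T ⊓ Subgroup.centralizer ({v.1} : Set G) : Subgroup G) : ℂ) * _ = _
        rw [hΦconst v]),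
    Finset.sum_const, Finset.card_univ, nsmul_eq_mul, ← Nat.card_eq_fintype_card]
  have hsum : ∑ v : O, (Nat.card (T ⊓ Subgroup.centralizer ({v.1} : Set G) : Subgroup G) : ℂ) =
      Nat.card T := by
    have hO : (Nat.card O : ℂ) ≠ 0 := by
      have : Nonempty O := ⟨⟨(u₀ : G), 1, T.one_mem, by simp⟩⟩
      exact Nat.cast_ne_zero.mpr Nat.card_pos.ne'
    refine mul_left_cancel₀ hO ?_
    rw [Finset.mul_sum, Finset.sum_congr rfl (g := fun _ : O => (Nat.card T : ℂ)) fun v _ => by
      rw [← Nat.cast_mul, horb v], Finset.sum_const, Finset.card_univ, nsmul_eq_mul,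
      Nat.card_eq_fintype_card (α := O)]
  rw [← Finset.sum_mul, hsum]
  ring

/-- The weighted ranks of the local blocks sum to zero, for a nontrivial invariant linear
character, and to `|T| k` for the trivial one. -/
theorem weighted_sum (R : G → ℕ)
    (hR : ∀ (v : G), v ∈ P → ∀ f : Set (IrrCharacter (Subgroup.centralizer
      ((Subgroup.zpowers v : Subgroup G) : Set G))),
      SubpairLE p M (Subgroup.zpowers v) f P c → R v = blockRank p f)
    (l : P →* ℂˣ)
    (hl : ∀ t ∈ stabT P c, ∀ v w : P, t * (v : G) * t⁻¹ = w → l v = l w) :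
    ∑ v : P, (l v : ℂ) *
        ((Nat.card (stabT P c ⊓ Subgroup.centralizer ({(v : G)} : Set G) : Subgroup G) : ℂ) *
          (R v : ℂ)) =
      (Nat.card (stabT P c) : ℂ) * if l = 1 then (Nat.card B : ℂ) else 0 := by
  have := isPrime hM
  have hB := hmax.1.2.1
  have hst : IsPairStable p M P c fun x => (l x : ℂ) := by
    intro v w g a ha h h' he
    obtain ⟨Q, f⟩ := a
    dsimp only at ha
    subst ha
    obtain ⟨y, hy, hyq⟩ := AbelianSubsection.exists_stab_of_below hM hmax hab h (x := g) h'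
    exact congrArg (fun z : ℂˣ => (z : ℂ))
      (hl y hy v w ((hyq v (Subgroup.mem_zpowers _)).trans he))
  choose fb hfb using fun v : P =>
    exists_below hM hmax.1.1 (Subgroup.zpowers_le.mpr v.2)
  have hPC : P ≤ Subgroup.centralizer (P : Set G) := fun a ha =>
    Subgroup.mem_centralizer_iff.mpr fun b hb => hab b hb a ha
  have htr : ∀ χ ∈ CharCore.SubContrib.mems B,
      classInner (starMul p M P c (fun x => (l x : ℂ)) (χ : G → ℂ)) (χ : G → ℂ) =
        if l = 1 then 1 else 0 := by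
    intro χ hχ
    have hχB := CharCore.SubContrib.mem_mems.mp hχ
    split_ifs with h1
    · subst h1
      simp only [MonoidHom.one_apply, Units.val_one]
      rw [starMul_one hM hmax hχB]
      exact CharCore.classInner_irr_self χ
    · obtain ⟨ψ, -, hψe, -⟩ := exists_twist hM hmax l hst hχB
      rw [← hψe]
      refine CharCore.classInner_irr_of_ne fun h => h1 ?_
      subst h
      refine MonoidHom.ext fun v => ?_
      obtain ⟨s, hsv, hs, hne⟩ :=
        exists_proj_ne_zero_of_central hM hmax hχB v (hPC v.2) (hfb v)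
      exact twist_fixed_apply hM hmax hst hψe.symm v (hfb v) hsv hs hne
  have h1 := trace_eq hM hB (etaOf p M P c fun x => (l x : ℂ))
  simp only [starMul] at htr
  rw [Finset.sum_congr rfl htr, Finset.sum_const, nsmul_eq_mul] at h1
  have h2 := pairs_sum hM hmax hab
    (fun v a => etaOf p M P c (fun x => (l x : ℂ)) a v * (blockRank p a.2 : ℂ))
    (fun g v a hv ha => by
      show _ * (blockRank p (conjPair g a).2 : ℂ) = _
      rw [etaOf_conj hM hmax hst a g v ha, AbelianSubsection.blockRank_conjPair]) fb hfb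
  have hG : (Nat.card G : ℂ) ≠ 0 := Nat.cast_ne_zero.mpr Nat.card_pos.ne'
  have hcard : (CharCore.SubContrib.mems B).card = Nat.card B := by
    have := finite_irr (G := G)
    rw [Nat.card_eq_card_finite_toFinset (Set.toFinite B)]
    exact congrArg Finset.card (Finset.ext fun χ => by simp [CharCore.SubContrib.mem_mems])
  refine mul_left_cancel₀ hG ?_
  rw [hcard] at h1
  calc (Nat.card G : ℂ) * ∑ v : P, (l v : ℂ) *
        ((Nat.card (stabT P c ⊓ Subgroup.centralizer ({(v : G)} : Set G) : Subgroup G) : ℂ) *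
          (R v : ℂ)) = _ := by
        refine Eq.trans (congrArg _ (Finset.sum_congr rfl fun v _ => ?_)) h2
        show _ = _ * (etaOf p M P c (fun x => (l x : ℂ)) ⟨Subgroup.zpowers (v : G), fb v⟩ v * _)
        rw [etaOf_eq hst rfl (x := 1) (by rw [conjPair_one]; exact hfb v) (by simp),
          hR v v.2 (fb v) (hfb v),
          show (⟨1 * (v : G) * 1⁻¹, by simp⟩ : P) = v from Subtype.ext (by simp)]
        ring
    _ = (Nat.card (stabT P c) : ℂ) *
        ((Nat.card G : ℂ) * ((Nat.card B : ℂ) * if l = 1 then 1 else 0)) := by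
        rw [h1]
        congr 1
        exact Finset.sum_congr rfl fun v _ => Finset.sum_congr rfl fun a _ => by ring
    _ = _ := by split_ifs <;> ring

end Orbits

end Cfsg.Agent.BlkChar.AbelianTwistSum
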