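import Cfsg.Agent.BlkChar.Jordan
import Cfsg.Agent.Lib.CharClifford.Central
import Mathlib.Analysis.InnerProductSpace.Projection.FiniteDimensional

/-!
# An element with eigenvalues close to one of them

In a finite simple group with a faithful irreducible unitary representation, no element `y ≠ 1` has
an eigenvalue `c` with every eigenvalue at distance less than one from `c`.
-/

set_option linter.unusedSectionVars false

open scoped InnerProductSpace

namespace Cfsg.Agent.BlkChar.Arc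

variable {G : Type*} [Group G] [Finite G] {V : Type*} [NormedAddCommGroup V]
  [InnerProductSpace ℂ V] [FiniteDimensional ℂ V] {u : G →* (V →L[ℂ] V)}

/-- The eigenspace of `u y` for `c`. -/
def eig (u : G →* (V →L[ℂ] V)) (y : G) (c : ℂ) : Submodule ℂ V where
  carrier := {v | u y v = c • v}
  zero_mem' := by simp
  add_mem' {a b} (ha : u y a = c • a) (hb : u y b = c • b) := by
    show u y (a + b) = c • (a + b)
    rw [map_add, ha, hb, smul_add]
  smul_mem' k a (ha : u y a = c • a) := by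
    show u y (k • a) = c • k • a
    rw [map_smul, ha, smul_comm]

theorem mem_eig {y : G} {c : ℂ} {v : V} : v ∈ eig u y c ↔ u y v = c • v := Iff.rfl

/-- The elements leaving the eigenspace invariant. -/
def stab (u : G →* (V →L[ℂ] V)) (y : G) (c : ℂ) : Subgroup G where
  carrier := {z | ∀ v ∈ eig u y c, u z v ∈ eig u y c}
  one_mem' v hv := by rw [map_one]; exact hv
  mul_mem' {a b} ha hb v hv := by rw [u_mul_apply]; exact ha _ (hb _ hv)
  inv_mem' {a} ha v hv := by
    have h : ∀ k : ℕ, ∀ w ∈ eig u y c, u (a ^ k) w ∈ eig u y c := by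
      intro k
      induction k with
      | zero => intro w hw; rw [pow_zero, map_one]; exact hw
      | succ k ih => intro w hw; rw [pow_succ, u_mul_apply]; exact ih _ (ha _ hw)
    rw [show a⁻¹ = a ^ (orderOf a - 1) by
      rw [inv_eq_iff_mul_eq_one, ← pow_succ', Nat.sub_add_cancel (orderOf_pos a),
        pow_orderOf_eq_one]]
    exact h _ v hv

/-- How far `z` moves the eigenspace. -/
noncomputable def spread (u : G →* (V →L[ℂ] V)) (y : G) (c : ℂ) (z : G) : ℝ :=
  ∑ i, ‖(eig u y c)ᗮ.starProjection (u z ((stdOrthonormalBasis ℂ (eig u y c)) i : V))‖ ^ 2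

variable (hu : ∀ g v, ‖u g v‖ = ‖v‖) {y : G} {c : ℂ}

include hu

theorem spread_inv (z : G) : spread u y c z⁻¹ = spread u y c z := by
  set W := eig u y c
  set e := stdOrthonormalBasis ℂ W
  have h : ∀ z : G, spread u y c z =
      ∑ i, (1 - ∑ j, ‖⟪((e j : W) : V), u z (e i : V)⟫_ℂ‖ ^ 2) := by
    intro z
    refine Finset.sum_congr rfl fun i _ => ?_
    have h1 := W.norm_sq_eq_add_norm_sq_starProjection (u z (e i : V))
    have h2 : ‖u z (e i : V)‖ = 1 := by rw [hu]; exact e.norm_eq_one i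
    rw [h2, one_pow] at h1
    have h3 : ‖W.starProjection (u z (e i : V))‖ ^ 2 =
        ∑ j, ‖⟪((e j : W) : V), u z (e i : V)⟫_ℂ‖ ^ 2 := by
      rw [Submodule.starProjection_apply, Submodule.norm_coe, ← e.sum_sq_norm_inner_right]
      refine Finset.sum_congr rfl fun j _ => ?_
      rw [Submodule.coe_inner, ← Submodule.starProjection_apply,
        ← Submodule.inner_starProjection_left_eq_right,
        Submodule.starProjection_eq_self_iff.mpr (e j).2]
    rw [← h3]
    linarith
  have hswap : ∀ (i j : Fin (Module.finrank ℂ W)),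
      ‖⟪((e j : W) : V), u z⁻¹ (e i : V)⟫_ℂ‖ = ‖⟪((e i : W) : V), u z (e j : V)⟫_ℂ‖ := by
    intro i j
    have h1 := inner_map_map_of_isometry (u z) (hu z) ((e j : W) : V) (u z⁻¹ (e i : V))
    rw [u_apply_inv_apply] at h1
    rw [← h1, norm_inner_symm]
  rw [h, h]
  simp only [hswap, Finset.sum_sub_distrib]
  rw [Finset.sum_comm]

omit hu in
theorem spread_nonneg (z : G) : 0 ≤ spread u y c z :=
  Finset.sum_nonneg fun _ _ => sq_nonneg _

omit hu in
theorem mem_stab_of_spread_eq_zero {z : G} (h : spread u y c z = 0) : z ∈ stab u y c := by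
  set W := eig u y c
  set e := stdOrthonormalBasis ℂ W
  intro v hv
  have hi : ∀ i, u z ((e i : W) : V) ∈ W := by
    intro i
    have h1 := (Finset.sum_eq_zero_iff_of_nonneg fun _ _ => sq_nonneg _).mp h i (Finset.mem_univ i)
    rw [pow_eq_zero_iff two_ne_zero, norm_eq_zero, Submodule.starProjection_apply_eq_zero_iff,
      Submodule.orthogonal_orthogonal] at h1
    exact h1
  have hv' : v = ∑ i, e.repr ⟨v, hv⟩ i • ((e i : W) : V) := by
    simpa using congrArg (Subtype.val : W → V) (e.sum_repr ⟨v, hv⟩).symm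
  rw [hv', map_sum]
  exact Submodule.sum_mem _ fun i _ => by rw [map_smul]; exact Submodule.smul_mem _ _ (hi i)

variable {r : ℝ} (hc : ‖c‖ = 1) (hr0 : 0 ≤ r) (hr : r < 1)
  (hy : ∀ v, ‖u y v - c • v‖ ≤ r * ‖v‖)

include hc hr0 hy

theorem spread_commutator_le (z : G) :
    spread u y c (y * z * y⁻¹ * z⁻¹) ≤ r ^ 2 * spread u y c z := by
  rw [← spread_inv hu z, spread, spread, Finset.mul_sum]
  set W := eig u y c
  refine Finset.sum_le_sum fun i _ => ?_
  set v := ((stdOrthonormalBasis ℂ W i : W) : V) with hv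
  have hvW : v ∈ W := (stdOrthonormalBasis ℂ W i).2
  have hc0 : c ≠ 0 := fun h => by rw [h, norm_zero] at hc; exact zero_ne_one hc
  set x := u z⁻¹ v with hx
  set b := Wᗮ.starProjection x with hb
  have hsplit : x = W.starProjection x + b := (Submodule.starProjection_add_starProjection_orthogonal (K := W) x).symm
  set a := W.starProjection x
  have ha : u y⁻¹ a = c⁻¹ • a := by
    have h1 : u y a = c • a := mem_eig.mp (W.starProjection_apply_mem x)
    have h2 := congrArg (fun w => c⁻¹ • u y⁻¹ w) h1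
    simp only [u_inv_apply_apply, map_smul, inv_smul_smul₀ hc0] at h2
    exact h2.symm
  set w := u (y * z * y⁻¹ * z⁻¹) v with hw
  have hwv : w - v = u (y * z) (u y⁻¹ b - c⁻¹ • b) := by
    have h1 : v = c⁻¹ • u (y * z) x := by
      rw [hx, u_mul_apply, u_apply_inv_apply, mem_eig.mp hvW, inv_smul_smul₀ hc0]
    have h2 : w = u (y * z) (u y⁻¹ x) := by
      rw [hw, hx, ← u_mul_apply u y⁻¹, ← u_mul_apply, ← mul_assoc]
    conv_lhs => rw [h2, h1, ← map_smul, ← map_sub, hsplit, map_add, smul_add, ha,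
      add_sub_add_left_eq_sub]
  have hproj : Wᗮ.starProjection w = Wᗮ.starProjection (w - v) := by
    have hv0 : Wᗮ.starProjection v = 0 := by
      rw [Submodule.starProjection_apply_eq_zero_iff, Submodule.orthogonal_orthogonal]
      exact hvW
    rw [map_sub, hv0, sub_zero]
  have hnorm : ‖u y⁻¹ b - c⁻¹ • b‖ ≤ r * ‖b‖ := by
    have h1 : ‖u y (u y⁻¹ b - c⁻¹ • b)‖ = ‖u y⁻¹ b - c⁻¹ • b‖ := hu _ _
    rw [← h1, map_sub, u_apply_inv_apply, map_smul]
    calc ‖b - c⁻¹ • u y b‖ = ‖(-c⁻¹) • (u y b - c • b)‖ := by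
          rw [smul_sub, neg_smul, neg_smul, inv_smul_smul₀ hc0]
          abel_nf
      _ ≤ r * ‖b‖ := by rw [norm_smul, norm_neg, norm_inv, hc, inv_one, one_mul]; exact hy b
  show ‖Wᗮ.starProjection w‖ ^ 2 ≤ r ^ 2 * ‖b‖ ^ 2
  calc ‖Wᗮ.starProjection w‖ ^ 2 ≤ ‖w - v‖ ^ 2 := by
        rw [hproj]
        exact pow_le_pow_left₀ (norm_nonneg _) (Submodule.norm_starProjection_apply_le _ _) 2
    _ ≤ (r * ‖b‖) ^ 2 := by
        rw [hwv, hu]
        exact pow_le_pow_left₀ (norm_nonneg _) hnorm 2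
    _ = r ^ 2 * ‖b‖ ^ 2 := mul_pow _ _ _

include hr

omit hr0 in
/-- If `y` preserves the translate of its eigenspace by a conjugate `d`, so does `d`. -/
theorem mem_stab_of_translate {z : G}
    (h : ∀ v ∈ eig u y c, u ((z * y * z⁻¹)⁻¹ * y * (z * y * z⁻¹)) v ∈ eig u y c) :
    z * y * z⁻¹ ∈ stab u y c := by
  set d := z * y * z⁻¹ with hd
  have hc0 : c ≠ 0 := fun h => by rw [h, norm_zero] at hc; exact zero_ne_one hc
  have hdn : ∀ w, ‖u d w - c • w‖ ≤ r * ‖w‖ := by
    intro w
    have h1 := hy (u z⁻¹ w)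
    rw [hu, ← hu z (u y (u z⁻¹ w) - c • u z⁻¹ w), map_sub, map_smul, u_apply_inv_apply,
      ← u_mul_apply, ← u_mul_apply] at h1
    exact h1
  intro v hv
  set w := u d v with hw
  rw [mem_eig]
  set v' := u (d⁻¹ * y * d) v with hv'
  have hv'W : v' ∈ eig u y c := h v hv
  have hAw : u y w = u d v' := by
    rw [hv', hw, ← u_mul_apply, ← u_mul_apply]
    congr 2
    group
  set a := v' - c • v with ha
  have haW : a ∈ eig u y c := sub_mem hv'W (Submodule.smul_mem _ _ hv)
  have hda : u y w - c • w = u d a := by rw [hAw, ha, map_sub, map_smul]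
  have horth : ⟪a, u d a⟫_ℂ = 0 := by
    have h2 := inner_map_map_of_isometry (u y) (hu y) a w
    rw [mem_eig.mp haW, inner_smul_left] at h2
    rw [← hda, inner_sub_right, inner_smul_right, ← h2, ← mul_assoc, Complex.mul_conj', hc]
    simp
  have ha0 : a = 0 := by
    by_contra hne
    have h2 : ‖⟪a, u d a - c • a⟫_ℂ‖ ≤ r * ‖a‖ ^ 2 := by
      refine (norm_inner_le_norm _ _).trans ?_
      calc ‖a‖ * ‖u d a - c • a‖ ≤ ‖a‖ * (r * ‖a‖) :=
            mul_le_mul_of_nonneg_left (hdn a) (norm_nonneg _)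
        _ = r * ‖a‖ ^ 2 := by ring
    rw [inner_sub_right, horth, zero_sub, norm_neg, inner_smul_right, norm_mul, hc, one_mul,
      inner_self_eq_norm_sq_to_K] at h2
    simp only [norm_pow, RCLike.norm_ofReal, abs_norm] at h2
    have : 0 < ‖a‖ ^ 2 := by positivity
    nlinarith
  rw [ha0, map_zero, sub_eq_zero] at hda
  exact hda

theorem conj_mem_stab (z : G) : z * y * z⁻¹ ∈ stab u y c := by
  classical
  haveI := Fintype.ofFinite G
  have hyS : y ∈ stab u y c := fun v hv => by
    rw [mem_eig.mp hv]; exact Submodule.smul_mem _ _ hv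
  have main : ∀ k : ℕ, ∀ z : G,
      (Finset.univ.filter fun x => spread u y c x < spread u y c z).card = k →
      z * y * z⁻¹ ∈ stab u y c := by
    intro k
    induction k using Nat.strong_induction_on with
    | _ k ih =>
      intro z hk
      by_cases h0 : spread u y c z = 0
      · have hz := mem_stab_of_spread_eq_zero h0
        exact mul_mem (mul_mem hz hyS) (inv_mem hz)
      have hpos : 0 < spread u y c z := lt_of_le_of_ne (spread_nonneg z) (Ne.symm h0)
      set w := y * z * y⁻¹ * z⁻¹ with hw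
      have hlt : spread u y c w < spread u y c z := by
        refine lt_of_le_of_lt (spread_commutator_le hu hc hr0 hy z) ?_
        have : r ^ 2 < 1 := by nlinarith
        nlinarith
      have hcard : (Finset.univ.filter fun x => spread u y c x < spread u y c w).card < k := by
        rw [← hk]
        refine Finset.card_lt_card (Finset.ssubset_iff_of_subset ?_ |>.mpr ⟨w, ?_, ?_⟩)
        · intro x hx
          simp only [Finset.mem_filter, Finset.mem_univ, true_and] at hx ⊢
          exact hx.trans hlt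
        · simpa using hlt
        · simp
      have h1 := ih _ hcard w rfl
      have h2 : (z * y * z⁻¹)⁻¹ * y * (z * y * z⁻¹) ∈ stab u y c := by
        have : (z * y * z⁻¹)⁻¹ * y * (z * y * z⁻¹) = y⁻¹ * (w * y * w⁻¹) * y := by
          rw [hw]; group
        rw [this]
        exact mul_mem (mul_mem (inv_mem hyS) h1) hyS
      exact mem_stab_of_translate hu hc hr hy h2
  exact main _ z rfl

/-- In a simple group the eigenspace is invariant. -/
theorem stab_eq_top [IsSimpleGroup G] (hy1 : y ≠ 1) : stab u y c = ⊤ := by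
  rcases (Subgroup.normalClosure_normal (s := ({y} : Set G))).eq_bot_or_eq_top with h | h
  · exact absurd (Subgroup.mem_bot.mp (h.le (Subgroup.subset_normalClosure rfl))) hy1
  · refine eq_top_iff.mpr (h.ge.trans ?_)
    rw [Subgroup.normalClosure, Subgroup.closure_le]
    intro x hx
    obtain ⟨a, ha, hax⟩ := Group.mem_conjugatesOfSet_iff.mp hx
    obtain rfl : a = y := ha
    obtain ⟨z, rfl⟩ := isConj_iff.mp hax
    exact conj_mem_stab hu hc hr0 hr hy z

omit hu hc hr0 hy hr in
/-- The operator bound from the eigenvalues. -/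
theorem exists_bound (hu : ∀ g v, ‖u g v‖ = ‖v‖) (y : G) (c : ℂ)
    (hall : ∀ μ : ℂ, (∃ v, v ≠ 0 ∧ u y v = μ • v) → ‖μ - c‖ < 1) :
    ∃ r : ℝ, 0 ≤ r ∧ r < 1 ∧ ∀ v, ‖u y v - c • v‖ ≤ r * ‖v‖ := by
  classical
  letI : CommGroup (Subgroup.zpowers y) :=
    { (inferInstance : Group (Subgroup.zpowers y)) with
      mul_comm := IsMulCommutative.is_comm.comm }
  haveI := Fintype.ofFinite (Subgroup.zpowers y)
  haveI := Fintype.ofFinite (Subgroup.zpowers y →* ℂˣ)
  set f := cycHom u y with hf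
  let y' : Subgroup.zpowers y := ⟨y, Subgroup.mem_zpowers y⟩
  let d : (Subgroup.zpowers y →* ℂˣ) → ℝ := fun l =>
    if ∃ w, isoProj f l w ≠ 0 then ‖((l y' : ℂˣ) : ℂ) - c‖ else 0
  have hd : ∀ l, d l < 1 := by
    intro l
    by_cases hl : ∃ w, isoProj f l w ≠ 0
    · simp only [d, if_pos hl]
      obtain ⟨w, hw⟩ := hl
      exact hall _ ⟨_, hw, isoProj_eigen f l w y'⟩
    · simp only [d, if_neg hl]; norm_num
  let r := max 0 (Finset.univ.sup' Finset.univ_nonempty d)
  have hr0 : 0 ≤ r := le_max_left _ _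
  refine ⟨r, hr0, max_lt (by norm_num) ((Finset.sup'_lt_iff _).mpr fun l _ => hd l), fun v => ?_⟩
  have hisov := isoProj_sum f v
  have hfn : ∀ h v, ‖f h v‖ = ‖v‖ := fun h v => hu h v
  have h1 : u y v - c • v = ∑ l, (((l y' : ℂˣ) : ℂ) - c) • isoProj f l v := by
    simp only [sub_smul, Finset.sum_sub_distrib, ← Finset.smul_sum, hisov]
    congr 1
    conv_lhs => rw [← hisov, map_sum]
    exact Finset.sum_congr rfl fun l _ => isoProj_eigen f l v y'
  rw [← sq_le_sq₀ (norm_nonneg _) (mul_nonneg hr0 (norm_nonneg _)), h1,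
    norm_sq_sum_isoProj f hfn, mul_pow]
  have h2 : ‖v‖ ^ 2 = ∑ l, ‖isoProj f l v‖ ^ 2 := by
    have := norm_sq_sum_isoProj f hfn (fun _ => 1) v
    simpa [hisov] using this
  rw [h2, Finset.mul_sum]
  refine Finset.sum_le_sum fun l _ => ?_
  by_cases hl : ∃ w, isoProj f l w ≠ 0
  · have hle : d l ≤ r := (Finset.le_sup' d (Finset.mem_univ l)).trans (le_max_right _ _)
    simp only [d, if_pos hl] at hle
    gcongr
  · have h0 : isoProj f l v = 0 := by_contra fun hne => hl ⟨v, hne⟩
    simp [h0]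

omit hu hc hr0 hy hr in
/-- No such element in a unitary model of a faithful irreducible representation. -/
theorem false_of_arc_aux [IsSimpleGroup G] (hu : ∀ g v, ‖u g v‖ = ‖v‖) {n : ℕ}
    (ρ : Representation ℂ G (Fin n → ℂ)) [ρ.IsIrreducible] (hinj : Function.Injective ρ)
    (hnc : ∀ g : G, g ∈ Subgroup.center G → g = 1) (E : (Fin n → ℂ) →ₗ[ℂ] V)
    (hE : Function.Injective E) (hEs : Function.Surjective E)
    (hcomm : ∀ g v, u g (E v) = E (ρ g v))
    {y : G} (hy1 : y ≠ 1) {c : ℂ} (hc : ‖c‖ = 1) {v₀ : Fin n → ℂ} (hv₀ : v₀ ≠ 0)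
    (hv : ρ y v₀ = c • v₀)
    (hall : ∀ μ : ℂ, (∃ v, v ≠ 0 ∧ ρ y v = μ • v) → ‖μ - c‖ < 1) : False := by
  obtain ⟨r, hr0, hr, hbound⟩ := exists_bound hu y c fun μ ⟨w, hw, he⟩ => by
    obtain ⟨v, rfl⟩ := hEs w
    refine hall μ ⟨v, fun h => hw (by rw [h, map_zero]), hE ?_⟩
    rw [← hcomm, he, map_smul]
  have htop := stab_eq_top hu hc hr0 hr hbound hy1
  let S : Submodule ℂ (Fin n → ℂ) := (eig u y c).comap E
  have hinv : ∀ g : G, ∀ v ∈ S, ρ g v ∈ S := by
    intro g v hvS
    show E (ρ g v) ∈ eig u y c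
    rw [← hcomm]
    exact (htop.ge (Subgroup.mem_top g)) _ hvS
  let SR : Subrepresentation ρ := ⟨S, hinv⟩
  have hSR : SR = ⊤ := by
    refine (IsSimpleOrder.eq_bot_or_eq_top SR).resolve_left fun h => hv₀ ?_
    have h1 : v₀ ∈ SR.toSubmodule := by
      show E v₀ ∈ eig u y c
      rw [mem_eig, hcomm, hv, map_smul]
    rw [h] at h1
    exact (Submodule.mem_bot ℂ).mp h1
  have hscal : ∀ v, ρ y v = c • v := fun v => by
    have h1 : v ∈ SR.toSubmodule := by rw [hSR]; trivial
    have h2 : u y (E v) = c • E v := h1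
    rw [hcomm, ← map_smul] at h2
    exact hE h2
  refine hy1 (hnc y (Subgroup.mem_center_iff.mpr fun g => hinj (LinearMap.ext fun v => ?_)))
  simp [map_mul, hscal, map_smul]

omit hu hc hr0 hy hr in
/-- A faithful irreducible representation of a simple group has no such element. -/
theorem false_of_arc [IsSimpleGroup G] {n : ℕ} (ρ : Representation ℂ G (Fin n → ℂ))
    [ρ.IsIrreducible] (hinj : Function.Injective ρ) (hnc : ∀ g : G, g ∈ Subgroup.center G → g = 1)
    {y : G} (hy1 : y ≠ 1) {c : ℂ} (hc : ‖c‖ = 1) {v₀ : Fin n → ℂ} (hv₀ : v₀ ≠ 0)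
    (hv : ρ y v₀ = c • v₀)
    (hall : ∀ μ : ℂ, (∃ v, v ≠ 0 ∧ ρ y v = μ • v) → ‖μ - c‖ < 1) : False := by
  haveI := Fintype.ofFinite G
  refine @false_of_arc_aux G _ _ (LinearMap.range (modelEmb ρ)) inferInstance inferInstance
    inferInstance (modelAct ρ) _ (modelAct_norm ρ) n ρ _ hinj hnc (modelEmb ρ).rangeRestrict
    (fun a b h => modelEmb_injective ρ (congrArg Subtype.val h))
    (LinearMap.surjective_rangeRestrict _)
    (fun g v => Subtype.ext (shiftIso_modelEmb ρ g v)) y hy1 c hc v₀ hv₀ hv hall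

end Cfsg.Agent.BlkChar.Arc

namespace Cfsg.Agent.BlkChar.Arc

variable {G : Type*} [Group G] [Finite G] {V : Type*} [NormedAddCommGroup V]
  [InnerProductSpace ℂ V] [FiniteDimensional ℂ V] {u : G →* (V →L[ℂ] V)}

/-- An element with two nearby eigenvalues commutes with its conjugates. -/
theorem commute_conj (hu : ∀ g v, ‖u g v‖ = ‖v‖) (hinj : Function.Injective u) {z : G} {c : ℂ}
    (hc : ‖c‖ = 1) (hc1 : c ≠ 1) (hclose : ‖c - 1‖ < 1)
    (hspan : ∀ v, ∃ a b, u z a = a ∧ u z b = c • b ∧ v = a + b) (g : G) :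
    Commute z (g * z * g⁻¹) := by
  have hall : ∀ μ : ℂ, (∃ v, v ≠ 0 ∧ u z v = μ • v) → μ = 1 ∨ μ = c := by
    rintro μ ⟨v, hv, he⟩
    obtain ⟨a, b, ha, hb, rfl⟩ := hspan v
    by_contra hne
    push Not at hne
    rw [map_add, ha, hb, smul_add] at he
    have he2 := congrArg (u z) he
    simp only [map_add, map_smul, ha, hb, smul_smul] at he2
    have h1 : ((c - μ) * (c - 1)) • b = 0 := by
      rw [show (c - μ) * (c - 1) = (c * c - μ * c) - (c - μ) by ring, sub_smul, sub_smul, sub_smul]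
      linear_combination (norm := module) he2 - he
    have hb0 : b = 0 := (smul_eq_zero.mp h1).resolve_left
      (mul_ne_zero (sub_ne_zero.mpr (Ne.symm hne.2)) (sub_ne_zero.mpr hc1))
    rw [hb0, smul_zero, smul_zero, add_zero, add_zero] at he
    have ha0 : a = 0 := by
      have h2 : (1 - μ) • a = 0 := by rw [sub_smul, one_smul, ← he, sub_self]
      exact (smul_eq_zero.mp h2).resolve_left (sub_ne_zero.mpr (Ne.symm hne.1))
    exact hv (by rw [ha0, hb0, add_zero])
  obtain ⟨r₁, h10, h11, hb1⟩ := exists_bound hu z 1 fun μ hμ => by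
    rcases hall μ hμ with rfl | rfl
    · simp
    · exact hclose
  obtain ⟨r₂, h20, h21, hb2⟩ := exists_bound hu z c fun μ hμ => by
    rcases hall μ hμ with rfl | rfl
    · rw [norm_sub_rev]; exact hclose
    · simp
  have hs1 := conj_mem_stab hu (c := (1 : ℂ)) (by simp) h10 h11 hb1 g
  have hs2 := conj_mem_stab hu hc h20 h21 hb2 g
  set w := g * z * g⁻¹ with hw
  refine hinj (ContinuousLinearMap.ext fun v => ?_)
  obtain ⟨a, b, ha, hb, rfl⟩ := hspan v
  have h3 : u z (u w a) = (1 : ℂ) • u w a :=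
    hs1 a (mem_eig.mpr (by rw [ha, one_smul]))
  have h4 : u z (u w b) = c • u w b := hs2 b (mem_eig.mpr hb)
  clear_value w
  simp only [u_mul_apply, map_add, ha, hb, h3, h4, map_smul, one_smul]

/-- The same in a faithful representation. -/
theorem commute_conj_rep {n : ℕ} (ρ : Representation ℂ G (Fin n → ℂ))
    (hρ : Function.Injective ρ) {z : G} {c : ℂ} (hc : ‖c‖ = 1) (hc1 : c ≠ 1)
    (hclose : ‖c - 1‖ < 1)
    (hspan : ∀ v, ∃ a b, ρ z a = a ∧ ρ z b = c • b ∧ v = a + b) (g : G) :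
    Commute z (g * z * g⁻¹) := by
  haveI := Fintype.ofFinite G
  refine @commute_conj G _ _ (LinearMap.range (modelEmb ρ)) inferInstance inferInstance
    inferInstance (modelAct ρ) (modelAct_norm ρ) (modelAct_injective ρ hρ) z c hc hc1 hclose
    (fun v => ?_) g
  obtain ⟨w, hw⟩ := v.2
  obtain ⟨a, b, ha, hb, rfl⟩ := hspan w
  refine ⟨⟨modelEmb ρ a, a, rfl⟩, ⟨modelEmb ρ b, b, rfl⟩, Subtype.ext ?_, Subtype.ext ?_,
    Subtype.ext (hw.symm.trans (map_add _ _ _))⟩
  · exact (shiftIso_modelEmb ρ z a).trans (by rw [ha])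
  · exact (shiftIso_modelEmb ρ z b).trans (by rw [hb, map_smul]; rfl)

end Cfsg.Agent.BlkChar.Arc
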