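import Mathlib.Analysis.InnerProductSpace.PiL2
import Mathlib.Analysis.InnerProductSpace.Adjoint
import Mathlib.GroupTheory.FiniteAbelian.Duality
import Mathlib.RingTheory.RootsOfUnity.AlgebraicallyClosed
import Mathlib.Analysis.Complex.Polynomial.Basic
import Mathlib.Analysis.SpecialFunctions.Complex.Arg
import Cfsg.Prelude.Def_Blocks

/-!
# Blichfeldt's commuting lemma and the uniform abelian normal subgroup bound

A finite group of unitary operators: the elements all of whose eigenvalues have real part above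
√3/2 commute pairwise, and an abelian subgroup meets the subgroup they generate in index at most
12 ^ n.
-/

namespace Cfsg.Agent.BlkChar

open scoped InnerProductSpace

section Spectral

variable {V : Type*} [NormedAddCommGroup V] [InnerProductSpace ℂ V]
variable {H : Type*} [CommGroup H] [Fintype H]

/-- The isotypic projection of a linear character of a finite abelian group. -/
noncomputable def isoProj (f : H →* (V →L[ℂ] V)) (l : H →* ℂˣ) (v : V) : V :=
  (Fintype.card H : ℂ)⁻¹ • ∑ h, ((l h⁻¹ : ℂˣ) : ℂ) • f h v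

theorem isoProj_eigen (f : H →* (V →L[ℂ] V)) (l : H →* ℂˣ) (v : V) (k : H) :
    f k (isoProj f l v) = (l k : ℂ) • isoProj f l v := by
  unfold isoProj
  rw [map_smul, map_sum, smul_comm ((l k : ℂˣ) : ℂ) ((Fintype.card H : ℂ)⁻¹),
    Finset.smul_sum (r := ((l k : ℂˣ) : ℂ))]
  congr 1
  refine Fintype.sum_equiv (Equiv.mulLeft k) _ _ fun h => ?_
  rw [map_smul, Equiv.coe_mulLeft, map_mul, mul_inv_rev, map_mul, smul_smul]
  congr 1
  rw [← Units.val_mul, ← mul_assoc, mul_comm (l k) (l h⁻¹), mul_assoc, ← map_mul l k k⁻¹,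
    mul_inv_cancel, map_one, mul_one]

theorem isoProj_comm (f : H →* (V →L[ℂ] V)) (l : H →* ℂˣ) (T : V →L[ℂ] V)
    (hT : ∀ h v, T (f h v) = f h (T v)) (v : V) :
    T (isoProj f l v) = isoProj f l (T v) := by
  simp [isoProj, map_sum, hT]

theorem sum_monoidHom_apply_ne_one {h : H} (hh : h ≠ 1) [Fintype (H →* ℂˣ)] :
    ∑ l : H →* ℂˣ, ((l h : ℂˣ) : ℂ) = 0 := by
  obtain ⟨m, hm⟩ := CommGroup.exists_apply_ne_one_of_hasEnoughRootsOfUnity H ℂ hh
  have key : ((m h : ℂˣ) : ℂ) * ∑ l : H →* ℂˣ, ((l h : ℂˣ) : ℂ) =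
      ∑ l : H →* ℂˣ, ((l h : ℂˣ) : ℂ) := by
    rw [Finset.mul_sum]
    exact Fintype.sum_equiv (Equiv.mulLeft m) _ _ fun l => by simp
  by_contra h0
  exact hm (Units.ext (mul_left_injective₀ h0 (by simpa using key)))

theorem isoProj_sum (f : H →* (V →L[ℂ] V)) [Fintype (H →* ℂˣ)] (v : V) :
    ∑ l : H →* ℂˣ, isoProj f l v = v := by
  classical
  simp only [isoProj]
  rw [← Finset.smul_sum, Finset.sum_comm]
  simp only [← Finset.sum_smul]
  rw [Finset.sum_eq_single (1 : H)]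
  · have hc : Fintype.card (H →* ℂˣ) = Fintype.card H := by
      rw [← Nat.card_eq_fintype_card, ← Nat.card_eq_fintype_card,
        CommGroup.card_monoidHom_of_hasEnoughRootsOfUnity H ℂ]
    simp [hc, smul_smul]
  · intro h _ hh
    rw [sum_monoidHom_apply_ne_one (inv_ne_one.mpr hh), zero_smul]
  · simp

theorem inner_map_map_of_isometry (T : V →L[ℂ] V) (hT : ∀ v, ‖T v‖ = ‖v‖) (a b : V) :
    ⟪T a, T b⟫_ℂ = ⟪a, b⟫_ℂ :=
  (⟨T.toLinearMap, hT⟩ : V →ₗᵢ[ℂ] V).inner_map_map a b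

theorem isoProj_orth (f : H →* (V →L[ℂ] V)) (hf : ∀ h v, ‖f h v‖ = ‖v‖) {l m : H →* ℂˣ}
    (hlm : l ≠ m) (v w : V) : ⟪isoProj f l v, isoProj f m w⟫_ℂ = 0 := by
  obtain ⟨k, hk⟩ : ∃ k, l k ≠ m k := by
    by_contra h
    exact hlm (MonoidHom.ext fun k => by_contra fun hne => h ⟨k, hne⟩)
  by_contra h0
  have hnorm : ‖(l k : ℂ)‖ = 1 := by
    have hpow : (l k : ℂ) ^ Fintype.card H = 1 := by
      rw [← Units.val_pow_eq_pow_val, ← map_pow, pow_card_eq_one, map_one, Units.val_one]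
    exact Complex.norm_eq_one_of_pow_eq_one hpow Fintype.card_ne_zero
  have h1 : starRingEnd ℂ (l k : ℂ) * (m k : ℂ) = 1 := by
    have := inner_map_map_of_isometry (f k) (hf k) (isoProj f l v) (isoProj f m w)
    rw [isoProj_eigen, isoProj_eigen, inner_smul_left, inner_smul_right, ← mul_assoc] at this
    exact mul_right_cancel₀ h0 (this.trans (one_mul _).symm)
  apply hk
  apply Units.ext
  have h2 : (l k : ℂ) * starRingEnd ℂ (l k : ℂ) = 1 := by
    rw [Complex.mul_conj', hnorm]; simp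
  calc (l k : ℂ) = (l k : ℂ) * (starRingEnd ℂ (l k : ℂ) * (m k : ℂ)) := by rw [h1, mul_one]
    _ = (m k : ℂ) := by rw [← mul_assoc, h2, one_mul]

theorem norm_sq_sum_isoProj (f : H →* (V →L[ℂ] V)) (hf : ∀ h v, ‖f h v‖ = ‖v‖)
    [Fintype (H →* ℂˣ)] (c : (H →* ℂˣ) → ℂ) (v : V) :
    ‖∑ l, c l • isoProj f l v‖ ^ 2 = ∑ l, ‖c l‖ ^ 2 * ‖isoProj f l v‖ ^ 2 := by
  have h := inner_self_eq_norm_sq_to_K (𝕜 := ℂ) (∑ l, c l • isoProj f l v)
  rw [sum_inner, Finset.sum_congr rfl fun l _ => inner_sum Finset.univ _ _] at h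
  have h2 : ∀ l : H →* ℂˣ,
      ∑ m : H →* ℂˣ, ⟪c l • isoProj f l v, c m • isoProj f m v⟫_ℂ =
        ((‖c l • isoProj f l v‖ : ℂ)) ^ 2 := by
    intro l
    rw [Finset.sum_eq_single l]
    · exact inner_self_eq_norm_sq_to_K _
    · intro m _ hml
      rw [inner_smul_left, inner_smul_right, isoProj_orth f hf (Ne.symm hml), mul_zero, mul_zero]
    · simp
  rw [Finset.sum_congr rfl fun l _ => h2 l] at h
  have h3 : ∑ l, ‖c l • isoProj f l v‖ ^ 2 = ‖∑ l, c l • isoProj f l v‖ ^ 2 := by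
    apply Complex.ofReal_injective
    simpa using h
  rw [← h3]
  simp [norm_smul, mul_pow]

end Spectral

section Good

variable {G : Type*} [Group G] {V : Type*} [NormedAddCommGroup V] [InnerProductSpace ℂ V]

/-- All eigenvalues of `u g` have real part above √3/2. -/
def Good (u : G →* (V →L[ℂ] V)) (g : G) : Prop :=
  ∀ μ : ℂ, ∀ v : V, v ≠ 0 → u g v = μ • v → Real.sqrt 3 / 2 < μ.re

variable {u : G →* (V →L[ℂ] V)}

theorem u_mul_apply (u : G →* (V →L[ℂ] V)) (a b : G) (v : V) : u (a * b) v = u a (u b v) := by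
  rw [map_mul]; rfl

theorem u_inv_apply_apply (u : G →* (V →L[ℂ] V)) (a : G) (v : V) : u a⁻¹ (u a v) = v := by
  rw [← u_mul_apply, inv_mul_cancel, map_one]; rfl

theorem u_apply_inv_apply (u : G →* (V →L[ℂ] V)) (a : G) (v : V) : u a (u a⁻¹ v) = v := by
  rw [← u_mul_apply, mul_inv_cancel, map_one]; rfl

theorem Good.conj {g : G} (h : Good u g) (z : G) : Good u (z * g * z⁻¹) := by
  intro μ v hv he
  apply h μ (u z⁻¹ v)
  · intro h0
    apply hv
    have := u_apply_inv_apply u z v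
    rwa [h0, map_zero, eq_comm] at this
  · have h1 := congrArg (u z⁻¹) he
    rw [u_mul_apply, u_mul_apply, u_inv_apply_apply, map_smul] at h1
    exact h1

variable [Finite G] (hu : ∀ g v, ‖u g v‖ = ‖v‖)
include hu

theorem eig_norm {g : G} {μ : ℂ} {v : V} (hv : v ≠ 0) (he : u g v = μ • v) : ‖μ‖ = 1 := by
  have h := hu g v
  rw [he, norm_smul] at h
  exact mul_right_cancel₀ (norm_ne_zero_iff.mpr hv) (h.trans (one_mul _).symm)

omit hu in
/-- The cyclic group generated by `x` as a homomorphism into operators. -/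
noncomputable def cycHom (u : G →* (V →L[ℂ] V)) (x : G) :
    Subgroup.zpowers x →* (V →L[ℂ] V) := u.comp (Subgroup.zpowers x).subtype

theorem good_bound {x : G} (hx : Good u x) :
    ∃ r : ℝ, 0 ≤ r ∧ r < 1 / 2 ∧
      ∀ v : V, ‖u x v - ((Real.sqrt 3 / 2 : ℝ) : ℂ) • v‖ ≤ r * ‖v‖ := by
  classical
  letI : CommGroup (Subgroup.zpowers x) :=
    { (inferInstance : Group (Subgroup.zpowers x)) with
      mul_comm := IsMulCommutative.is_comm.comm }
  haveI := Fintype.ofFinite (Subgroup.zpowers x)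
  haveI := Fintype.ofFinite (Subgroup.zpowers x →* ℂˣ)
  set f := cycHom u x with hfdef
  let x' : Subgroup.zpowers x := ⟨x, Subgroup.mem_zpowers x⟩
  let d : (Subgroup.zpowers x →* ℂˣ) → ℝ := fun l =>
    if ∃ w, isoProj f l w ≠ 0 then ‖((l x' : ℂˣ) : ℂ) - ((Real.sqrt 3 / 2 : ℝ) : ℂ)‖ else 0
  have hd : ∀ l, d l < 1 / 2 := by
    intro l
    by_cases hl : ∃ w, isoProj f l w ≠ 0
    · obtain ⟨w, hw⟩ := hl
      have he : u x (isoProj f l w) = ((l x' : ℂˣ) : ℂ) • isoProj f l w := isoProj_eigen f l w x'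
      have hre := hx _ _ hw he
      have hn := eig_norm hu hw he
      have hex : ∃ w, isoProj f l w ≠ 0 := ⟨w, hw⟩
      simp only [d, if_pos hex]
      rw [← sq_lt_sq₀ (norm_nonneg _) (by norm_num), ← Complex.normSq_eq_norm_sq]
      have hn2 : Complex.normSq ((l x' : ℂˣ) : ℂ) = 1 := by
        rw [Complex.normSq_eq_norm_sq, hn, one_pow]
      rw [Complex.normSq_apply] at hn2 ⊢
      simp only [Complex.sub_re, Complex.sub_im, Complex.ofReal_re, Complex.ofReal_im, sub_zero]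
      have h3 : Real.sqrt 3 ^ 2 = 3 := Real.sq_sqrt (by norm_num)
      nlinarith [Real.sqrt_pos.mpr (show (0:ℝ) < 3 by norm_num)]
    · simp only [d, if_neg hl]; norm_num
  let r := max 0 (Finset.univ.sup' Finset.univ_nonempty d)
  refine ⟨r, le_max_left _ _, max_lt (by norm_num)
    ((Finset.sup'_lt_iff _).mpr fun l _ => hd l), fun v => ?_⟩
  have hv := isoProj_sum f v
  have hf : ∀ h v, ‖f h v‖ = ‖v‖ := fun h v => hu h v
  have h1 : u x v - ((Real.sqrt 3 / 2 : ℝ) : ℂ) • v =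
      ∑ l, (((l x' : ℂˣ) : ℂ) - ((Real.sqrt 3 / 2 : ℝ) : ℂ)) • isoProj f l v := by
    simp only [sub_smul, Finset.sum_sub_distrib, ← Finset.smul_sum, hv]
    congr 1
    conv_lhs => rw [← hv, map_sum]
    exact Finset.sum_congr rfl fun l _ => isoProj_eigen f l v x'
  rw [← sq_le_sq₀ (norm_nonneg _) (mul_nonneg (le_max_left _ _) (norm_nonneg _)), h1,
    norm_sq_sum_isoProj f hf, mul_pow]
  have h2 : ‖v‖ ^ 2 = ∑ l, ‖isoProj f l v‖ ^ 2 := by
    have := norm_sq_sum_isoProj f hf (fun _ => 1) v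
    simpa [hv] using this
  rw [h2, Finset.mul_sum]
  refine Finset.sum_le_sum fun l _ => ?_
  by_cases hl : ∃ w, isoProj f l w ≠ 0
  · have hle : d l ≤ r := (Finset.le_sup' d (Finset.mem_univ l)).trans (le_max_right _ _)
    simp only [d, if_pos hl] at hle
    gcongr
  · have h0 : isoProj f l v = 0 := by_contra fun hne => hl ⟨v, hne⟩
    simp [h0]

theorem good_sub_one_lt {y : G} (hy : Good u y) : ‖u y - 1‖ < 1 := by
  obtain ⟨r, hr0, hr, hb⟩ := good_bound hu hy
  have h3 : Real.sqrt 3 ^ 2 = 3 := Real.sq_sqrt (by norm_num)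
  have hs : Real.sqrt 3 / 2 ≤ 1 := by nlinarith [Real.sqrt_nonneg 3]
  have hs' : 1 / 2 ≤ Real.sqrt 3 / 2 := by nlinarith [Real.sqrt_nonneg 3]
  refine lt_of_le_of_lt
    ((u y - 1).opNorm_le_bound (M := r + (1 - Real.sqrt 3 / 2)) (by linarith) fun v => ?_)
    (by linarith)
  have hn : ‖((Real.sqrt 3 / 2 : ℝ) : ℂ) • v - v‖ = (1 - Real.sqrt 3 / 2) * ‖v‖ := by
    have : ((Real.sqrt 3 / 2 : ℝ) : ℂ) • v - v = ((Real.sqrt 3 / 2 - 1 : ℝ) : ℂ) • v := by
      push_cast; rw [sub_smul, one_smul]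
    rw [this, norm_smul, Complex.norm_real, Real.norm_eq_abs, abs_of_nonpos (by linarith)]
    ring
  calc ‖(u y - 1) v‖ = ‖(u y v - ((Real.sqrt 3 / 2 : ℝ) : ℂ) • v) +
        (((Real.sqrt 3 / 2 : ℝ) : ℂ) • v - v)‖ := by
          rw [sub_add_sub_cancel]; rfl
    _ ≤ r * ‖v‖ + (1 - Real.sqrt 3 / 2) * ‖v‖ := (norm_add_le _ _).trans (by
          rw [hn]; linarith [hb v])
    _ = _ := by ring

theorem commutator_norm_le {x : G} (hx : Good u x) (z : G) :
    ‖u (x * z * x⁻¹ * z⁻¹) - 1‖ ≤ ‖u z - 1‖ ∧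
      (u z ≠ 1 → ‖u (x * z * x⁻¹ * z⁻¹) - 1‖ < ‖u z - 1‖) := by
  obtain ⟨r, hr0, hr, hb⟩ := good_bound hu hx
  set c : ℂ := ((Real.sqrt 3 / 2 : ℝ) : ℂ)
  have key : ‖u (x * z * x⁻¹ * z⁻¹) - 1‖ ≤ 2 * r * ‖u z - 1‖ := by
    refine ContinuousLinearMap.opNorm_le_bound _ (by positivity) fun v => ?_
    set w := u (x⁻¹ * z⁻¹) v with hw
    have hwn : ‖w‖ = ‖v‖ := hu _ _
    have hv : v = u z (u x w) := by
      rw [hw, ← u_mul_apply, ← u_mul_apply]
      have : z * x * (x⁻¹ * z⁻¹) = 1 := by group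
      rw [this, map_one]; rfl
    have h1 : (u (x * z * x⁻¹ * z⁻¹) - 1) v =
        (u x ((u z - 1) w) - c • (u z - 1) w) - (u z - 1) (u x w - c • w) := by
      have e : u (x * z * x⁻¹ * z⁻¹) v = u x (u z w) := by
        rw [hw, ← u_mul_apply, ← u_mul_apply]
        congr 2; group
      show u (x * z * x⁻¹ * z⁻¹) v - v = _
      rw [e]
      nth_rewrite 1 [hv]
      simp only [ContinuousLinearMap.sub_apply, one_apply_eq_self, map_sub, map_smul, smul_sub]
      abel
    rw [h1]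
    calc _ ≤ r * ‖(u z - 1) w‖ + ‖u z - 1‖ * ‖u x w - c • w‖ :=
          (norm_sub_le _ _).trans (add_le_add (hb _) ((u z - 1).le_opNorm _))
      _ ≤ r * (‖u z - 1‖ * ‖w‖) + ‖u z - 1‖ * (r * ‖w‖) := by
          gcongr
          · exact (u z - 1).le_opNorm _
          · exact hb _
      _ = 2 * r * ‖u z - 1‖ * ‖v‖ := by rw [hwn]; ring
  refine ⟨key.trans ?_, fun hz => lt_of_le_of_lt key ?_⟩
  · nlinarith [norm_nonneg (u z - 1)]
  · have : 0 < ‖u z - 1‖ := norm_pos_iff.mpr (sub_ne_zero.mpr hz)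
    nlinarith

theorem back_step {x z : G} (hx : Good u x) (hz : ‖u z - 1‖ < 1)
    (hc : Commute x (z * x * z⁻¹)) : u (x * z) = u (z * x) := by
  classical
  letI : CommGroup (Subgroup.zpowers x) :=
    { (inferInstance : Group (Subgroup.zpowers x)) with
      mul_comm := IsMulCommutative.is_comm.comm }
  haveI := Fintype.ofFinite (Subgroup.zpowers x)
  haveI := Fintype.ofFinite (Subgroup.zpowers x →* ℂˣ)
  set f := cycHom u x with hfdef
  have hf : ∀ h v, ‖f h v‖ = ‖v‖ := fun h v => hu h v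
  let x' : Subgroup.zpowers x := ⟨x, Subgroup.mem_zpowers x⟩
  set y := z * x * z⁻¹ with hy
  have hcomm : ∀ h v, u y (f h v) = f h (u y v) := by
    intro h v
    obtain ⟨k, hk⟩ := Subgroup.mem_zpowers_iff.mp h.2
    show u y (u (h : G) v) = u (h : G) (u y v)
    rw [← u_mul_apply, ← u_mul_apply, ← hk, ((hc.zpow_left k).symm).eq]
  ext v
  have hv := isoProj_sum f v
  rw [← hv, map_sum, map_sum]
  refine Finset.sum_congr rfl fun l _ => ?_
  set a := isoProj f l v
  set μ : ℂ := ((l x' : ℂˣ) : ℂ)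
  have hxa : u x a = μ • a := isoProj_eigen f l v x'
  have hya : u y (u z a) = μ • u z a := by
    rw [← u_mul_apply, show y * z = z * x by rw [hy]; group, u_mul_apply, hxa, map_smul]
  have hpart : ∀ m : Subgroup.zpowers x →* ℂˣ, ((m x' : ℂˣ) : ℂ) ≠ μ →
      isoProj f m (u z a) = 0 := by
    intro m hm
    set b := isoProj f m (u z a)
    have hxb : u x b = ((m x' : ℂˣ) : ℂ) • b := isoProj_eigen f m (u z a) x'
    have hyb : u y b = μ • b := by
      show u y (isoProj f m (u z a)) = _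
      rw [isoProj_comm f m (u y) hcomm, hya]
      simp only [b, isoProj, map_smul, smul_comm _ μ, ← Finset.smul_sum]
    set w := u z⁻¹ b with hw
    have hxw : u x w = μ • w := by
      rw [hw, ← u_mul_apply, show x * z⁻¹ = z⁻¹ * y by rw [hy]; group, u_mul_apply, hyb,
        map_smul]
    have horth : ⟪b, w⟫_ℂ = 0 := by
      by_contra h0
      apply hm
      have h1 := inner_map_map_of_isometry (u x) (hu x) b w
      rw [hxb, hxw, inner_smul_left, inner_smul_right, ← mul_assoc] at h1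
      have h2 := mul_right_cancel₀ h0 (h1.trans (one_mul _).symm)
      have hb0 : b ≠ 0 := fun hb => h0 (by rw [hb, inner_zero_left])
      have h3 : ((m x' : ℂˣ) : ℂ) * starRingEnd ℂ ((m x' : ℂˣ) : ℂ) = 1 := by
        rw [Complex.mul_conj', eig_norm hu hb0 hxb]; simp
      calc ((m x' : ℂˣ) : ℂ)
          = ((m x' : ℂˣ) : ℂ) * (starRingEnd ℂ ((m x' : ℂˣ) : ℂ) * μ) := by rw [h2, mul_one]
        _ = μ := by rw [← mul_assoc, h3, one_mul]
    have hbw : b = u z w := (u_apply_inv_apply u z b).symm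
    have h4 : ⟪w, w⟫_ℂ = -⟪(u z - 1) w, w⟫_ℂ := by
      rw [sub_apply, one_apply_eq_self, inner_sub_left,
        ← hbw, horth, zero_sub, neg_neg]
    have h5 : ‖w‖ ^ 2 ≤ ‖u z - 1‖ * ‖w‖ ^ 2 := by
      have := congrArg norm h4
      rw [norm_neg, inner_self_eq_norm_sq_to_K] at this
      simp only [norm_pow, RCLike.norm_ofReal, abs_norm] at this
      calc ‖w‖ ^ 2 = ‖⟪(u z - 1) w, w⟫_ℂ‖ := this
        _ ≤ ‖(u z - 1) w‖ * ‖w‖ := norm_inner_le_norm _ _
        _ ≤ ‖u z - 1‖ * ‖w‖ * ‖w‖ := by gcongr; exact (u z - 1).le_opNorm _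
        _ = _ := by ring
    have hw0 : ‖w‖ = 0 := by
      by_contra hne
      have : 0 < ‖w‖ ^ 2 := by positivity
      nlinarith
    rw [norm_eq_zero] at hw0
    rw [hbw, hw0, map_zero]
  have hxza : u x (u z a) = μ • u z a := by
    conv_lhs => rw [← isoProj_sum f (u z a), map_sum]
    conv_rhs => rw [← isoProj_sum f (u z a), Finset.smul_sum]
    refine Finset.sum_congr rfl fun m _ => ?_
    have hxb : u x (isoProj f m (u z a)) = ((m x' : ℂˣ) : ℂ) • isoProj f m (u z a) :=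
      isoProj_eigen f m (u z a) x'
    by_cases hm : ((m x' : ℂˣ) : ℂ) = μ
    · rw [hxb, hm]
    · rw [hpart m hm, map_zero, smul_zero]
  rw [u_mul_apply, u_mul_apply, hxa, map_smul, hxza]

theorem good_commute (hinj : Function.Injective u) {x y : G} (hx : Good u x) (hy : Good u y) :
    x * y = y * x := by
  classical
  haveI := Fintype.ofFinite G
  have main : ∀ k : ℕ, ∀ z : G,
      (Finset.univ.filter fun w => ‖u w - 1‖ < ‖u z - 1‖).card = k →
      ‖u z - 1‖ < 1 → x * z = z * x := by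
    intro k
    induction k using Nat.strong_induction_on with
    | _ k ih =>
      intro z hk hz
      by_cases hz1 : u z = 1
      · have : z = 1 := hinj (hz1.trans u.map_one.symm)
        simp [this]
      set w := x * z * x⁻¹ * z⁻¹ with hw
      have hlt := (commutator_norm_le hu hx z).2 hz1
      have hcard : (Finset.univ.filter fun t => ‖u t - 1‖ < ‖u w - 1‖).card < k := by
        rw [← hk]
        refine Finset.card_lt_card (Finset.ssubset_iff_of_subset ?_ |>.mpr ⟨w, ?_, ?_⟩)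
        · intro t ht
          simp only [Finset.mem_filter, Finset.mem_univ, true_and] at ht ⊢
          exact ht.trans hlt
        · simp [hlt]
          exact hlt
        · simp
      have hcomm := ih _ hcard w rfl (hlt.trans hz)
      have hc : Commute x (z * x * z⁻¹) := by
        show x * (z * x * z⁻¹) = z * x * z⁻¹ * x
        have h1 : w⁻¹ * x = x * w⁻¹ := by
          rw [inv_mul_eq_iff_eq_mul, ← mul_assoc, ← hcomm, mul_inv_cancel_right]
        have h2 : z * x * z⁻¹ = w⁻¹ * x := by rw [hw]; group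
        rw [h2, h1, mul_assoc, ← h1, h1]
      exact hinj (back_step hu hx hz hc)
  exact main _ y rfl (good_sub_one_lt hu hy)

end Good

section Cells

/-- Index in `Fin 12` of the arc containing `z`. -/
noncomputable def arcCell (z : ℂ) : Fin 12 :=
  ⟨(⌈(Complex.arg z + Real.pi) * 6 / Real.pi⌉ - 1).toNat, by
    have h1 := Complex.arg_le_pi z
    have : ⌈(Complex.arg z + Real.pi) * 6 / Real.pi⌉ ≤ 12 := by
      rw [Int.ceil_le, div_le_iff₀ Real.pi_pos]
      push_cast; linarith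
    omega⟩

theorem re_div_of_arcCell_eq {a b : ℂ} (ha : ‖a‖ = 1) (hb : ‖b‖ = 1)
    (h : arcCell a = arcCell b) : Real.sqrt 3 / 2 < (a⁻¹ * b).re := by
  have hpos : ∀ z : ℂ, 0 < ⌈(Complex.arg z + Real.pi) * 6 / Real.pi⌉ := by
    intro z
    rw [Int.ceil_pos]
    have := Complex.neg_pi_lt_arg z
    exact div_pos (by linarith) Real.pi_pos
  have hcell : ⌈(Complex.arg a + Real.pi) * 6 / Real.pi⌉ =
      ⌈(Complex.arg b + Real.pi) * 6 / Real.pi⌉ := by
    have h' : (⌈(Complex.arg a + Real.pi) * 6 / Real.pi⌉ - 1).toNat =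
        (⌈(Complex.arg b + Real.pi) * 6 / Real.pi⌉ - 1).toNat := congrArg Fin.val h
    have := hpos a
    have := hpos b
    omega
  have hlt : |Complex.arg b - Complex.arg a| < Real.pi / 6 := by
    have := Int.ceil_eq_iff.mp hcell
    have h2 := Int.ceil_lt_add_one ((Complex.arg b + Real.pi) * 6 / Real.pi)
    have h3 := Int.le_ceil ((Complex.arg b + Real.pi) * 6 / Real.pi)
    have hpi := Real.pi_pos
    have e1 : |(Complex.arg b + Real.pi) * 6 / Real.pi - (Complex.arg a + Real.pi) * 6 / Real.pi|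
        < 1 := by rw [abs_lt]; constructor <;> linarith [this.1, this.2]
    have e2 : (Complex.arg b + Real.pi) * 6 / Real.pi - (Complex.arg a + Real.pi) * 6 / Real.pi
        = (Complex.arg b - Complex.arg a) * (6 / Real.pi) := by ring
    rw [e2, abs_mul, abs_of_pos (show (0:ℝ) < 6 / Real.pi by positivity)] at e1
    calc |Complex.arg b - Complex.arg a|
        = |Complex.arg b - Complex.arg a| * (6 / Real.pi) * (Real.pi / 6) := by field_simp
      _ < 1 * (Real.pi / 6) := by gcongr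
      _ = _ := one_mul _
  have e : a⁻¹ * b = Complex.exp (((Complex.arg b - Complex.arg a : ℝ) : ℂ) * Complex.I) := by
    have ea := Complex.norm_mul_exp_arg_mul_I a
    have eb := Complex.norm_mul_exp_arg_mul_I b
    rw [ha, Complex.ofReal_one, one_mul] at ea
    rw [hb, Complex.ofReal_one, one_mul] at eb
    conv_lhs => rw [← ea, ← eb]
    rw [← Complex.exp_neg, ← Complex.exp_add]
    congr 1; push_cast; ring
  rw [e, Complex.exp_ofReal_mul_I_re, ← Real.cos_pi_div_six,
    ← Real.cos_abs (Complex.arg b - Complex.arg a)]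
  apply Real.cos_lt_cos_of_nonneg_of_le_pi_div_two (abs_nonneg _) (by linarith [Real.pi_pos]) hlt

end Cells

end Cfsg.Agent.BlkChar
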