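import Cfsg.Agent.BC85.Contribution
import Cfsg.Agent.Lib.BlocksDefect.Quotient
import Cfsg.Agent.Lib.BlocksDefect.Kernel
import Cfsg.Agent.Lib.BlocksDefect.Covering
import Cfsg.Agent.Lib.CharCore.Virtual
import Cfsg.Agent.Lib.CharInd.Brauer
import Cfsg.Agent.Lib.CharInd.Char
import Cfsg.Agent.BC84.MajorRankTwo
import Cfsg.Agent.BC84.SmallCentralizer
import Cfsg.Agent.Blocks88.CliffordGallagher

/-!
# Blocks and a central subgroup of order `p`

A block `b` of `C` is dominated by exactly one block `bb` of `C ⧸ Q`.  The regular part of a member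
of `b` is an integral combination of those of the members of `bb`, so `l(b) ≤ l(bb)`; the defect
drops by one and the contribution form is transported.
-/

set_option autoImplicit false
set_option linter.unusedSectionVars false

namespace Cfsg.Agent.BlkChar.BrauerFeit

open BlocksCore BlocksDefect
open scoped ComplexConjugate

universe u

variable {C : Type u} [Group C] [Finite C] {p : ℕ} [Fact p.Prime] {M : Ideal Cfsg.AlgInt}
  {Q : Subgroup C} [Q.Normal]

theorem inflate_apply (ψ : IrrCharacter (C ⧸ Q)) (g : C) :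
    (BlocksDefect.inflate Q ψ : C → ℂ) g = (ψ : C ⧸ Q → ℂ) (QuotientGroup.mk g) := rfl

theorem centralizer_eq_top (hQc : Q ≤ Subgroup.center C) :
    Subgroup.centralizer (Q : Set C) = ⊤ :=
  top_unique fun c _ => Subgroup.mem_centralizer_iff.mpr fun a ha =>
    (Subgroup.mem_center_iff.mp (hQc ha) c).symm

/-- The dominated block. -/
theorem exists_quotient_block (hM : IsPModular p M) (hQ : IsPGroup p Q) (hQc : Q ≤ Subgroup.center C)
    {b : Set (IrrCharacter C)} (hb : IsPBlock M b) :
    ∃ bb : Set (IrrCharacter (C ⧸ Q)), IsPBlock M bb ∧ ∀ ψ, ψ ∈ bb ↔ BlocksDefect.inflate Q ψ ∈ b := by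
  have := isPrime hM
  have hidx : ∃ k : ℕ, (Subgroup.centralizer (Q : Set C)).index = p ^ k :=
    ⟨0, by rw [centralizer_eq_top hQc, Subgroup.index_top, pow_zero]⟩
  obtain ⟨χ, hχ, hker⟩ := exists_mem_kernel_pSubgroup hM hb Q hQ
  obtain ⟨ψ₀, hψ₀⟩ := exists_inflate_eq (N := Q) χ hker
  refine ⟨blockOf M (ψ₀ : C ⧸ Q → ℂ), isPBlock_blockOf ψ₀, fun ψ => ?_⟩
  rw [isPBlock_eq_blockOf hb hχ, ← hψ₀]
  exact ⟨fun h => sameBlock_inflate (N := Q) hM h, fun h => sameBlock_of_inflate_pGroup hM hQ hidx h⟩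

/-- A character composed with the `p'`-part is a generalized character. -/
theorem isGeneralized_comp_pow {G : Type u} [Group G] [Finite G] {η : G → ℂ} (hη : IsCharacter G η)
    {N : ℕ} (hN0 : ∀ g : G, (∃ k : ℕ, orderOf g = p ^ k) → g ^ N = 1)
    (hN1 : ∀ g : G, ¬ p ∣ orderOf g → g ^ N = g) :
    IsGeneralizedCharacter G fun g => η (g ^ N) := by
  have := Fintype.ofFinite G
  refine CharInd.isGeneralizedCharacter_of_elementary (fun g h => ?_) fun E q hq hE => ?_
  · show η ((h * g * h⁻¹) ^ N) = η (g ^ N)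
    rw [conj_pow]
    exact CharCore.IsCharacter.isClassFunction hη _ _
  have := Fintype.ofFinite E
  have := Fact.mk hq
  obtain ⟨x, hx, hxq, k, hk⟩ := hE
  have hn : (Subgroup.zpowers x).Normal := ⟨fun n hn g => by
    rw [Subgroup.mem_center_iff.mp (Subgroup.zpowers_le.mpr hx hn) g, mul_inv_cancel_right]
    exact hn⟩
  obtain ⟨R⟩ : Nonempty (Sylow q E) := inferInstance
  have htop : Subgroup.zpowers x ⊔ (R : Subgroup E) = ⊤ := by
    rw [← Subgroup.index_eq_one]
    refine Nat.eq_one_of_dvd_coprimes (a := q ^ k) (b := (R : Subgroup E).index) ?_ ?_ ?_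
    · exact ((hq.coprime_iff_not_dvd).mpr R.not_dvd_index).pow_left k
    · rw [← hk]; exact Subgroup.index_dvd_of_le le_sup_left
    · exact Subgroup.index_dvd_of_le le_sup_right
  have hdec : ∀ e : E, ∃ c ∈ Subgroup.zpowers x, ∃ r ∈ (R : Subgroup E), c * r = e := fun e =>
    Subgroup.mem_sup_of_normal_left.mp (htop ▸ Subgroup.mem_top e)
  have hRpow : ∀ r ∈ (R : Subgroup E), r ^ N = if q = p then 1 else r := by
    intro r hr
    obtain ⟨j, hj⟩ := IsPGroup.iff_orderOf.mp R.2 ⟨r, hr⟩
    rw [Subgroup.orderOf_mk, ← Subgroup.orderOf_coe] at hj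
    split_ifs with h
    · exact Subtype.ext (by rw [Subgroup.coe_pow]; exact hN0 _ ⟨j, h ▸ hj⟩)
    · refine Subtype.ext (by
        rw [Subgroup.coe_pow]
        refine hN1 _ fun hd => h ?_
        rw [hj] at hd
        exact ((Nat.prime_dvd_prime_iff_eq (Fact.out : p.Prime) hq).mp
          ((Fact.out : p.Prime).dvd_of_dvd_pow hd)).symm)
  let φ : E →* G :=
    { toFun := fun e => ((e ^ N : E) : G)
      map_one' := by simp
      map_mul' := fun e f => by
        obtain ⟨c, hc, r, hr, rfl⟩ := hdec e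
        obtain ⟨c', hc', r', hr', rfl⟩ := hdec f
        have hcomm : ∀ {a : E}, a ∈ Subgroup.zpowers x → ∀ b : E, Commute a b := fun ha b =>
          (Subgroup.mem_center_iff.mp (Subgroup.zpowers_le.mpr hx ha) b).symm
        have e1 : c * r * (c' * r') = (c * c') * (r * r') := by
          rw [mul_assoc, ← mul_assoc r, (hcomm hc' r).eq.symm]; group
        rw [e1, (hcomm (mul_mem hc hc') _).mul_pow, (hcomm hc r).mul_pow, (hcomm hc' r').mul_pow,
          (hcomm hc c').mul_pow, hRpow r hr, hRpow r' hr', hRpow _ (mul_mem hr hr'),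
          ← Subgroup.coe_mul]
        congr 1
        split_ifs
        · simp
        · rw [mul_assoc (c ^ N) r, ← mul_assoc r, ((hcomm hc' r).pow_left N).eq.symm]; group }
  obtain ⟨n, ρ, hρ⟩ := hη
  refine CharCore.IsCharacter.isGeneralized ?_
  have h1 := CharInd.isCharacter_of_rep (ρ.comp φ)
  have e : Representation.character (ρ.comp φ) = fun e : E => η ((e : G) ^ N) := by
    funext e
    rw [← hρ]
    show LinearMap.trace ℂ _ (ρ (φ e)) = LinearMap.trace ℂ _ (ρ ((e : G) ^ N))
    rw [show φ e = (e : G) ^ N from Subgroup.coe_pow E e N]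
  exact e ▸ h1

/-- Lifting: the regular part of a member of `b` is an integral combination from the dominated
block. -/
theorem exists_int_comb (hM : IsPModular p M) (hQ : IsPGroup p Q) (hQc : Q ≤ Subgroup.center C)
    [Fintype (C ⧸ Q)]
    {b : Set (IrrCharacter C)} (hb : IsPBlock M b) {bb : Set (IrrCharacter (C ⧸ Q))}
    (hbb : IsPBlock M bb) (hmem : ∀ ψ, ψ ∈ bb ↔ BlocksDefect.inflate Q ψ ∈ b) [Fintype bb] (η : b) :
    ∃ c : bb → ℤ, ∀ g : C, ¬ p ∣ orderOf g → ((η : IrrCharacter C) : C → ℂ) g =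
      ∑ ψ : bb, (c ψ : ℂ) * ((ψ : IrrCharacter (C ⧸ Q)) : C ⧸ Q → ℂ) (QuotientGroup.mk g) := by
  classical
  have := isPrime hM
  have := Fintype.ofFinite C
  have hp : p.Prime := Fact.out
  set a := (Nat.card C).factorization p with ha
  set m := Nat.card C / p ^ a with hm
  obtain ⟨N, hN, hN'⟩ := Nat.chineseRemainder
    (show (p ^ a).Coprime m from ((hp.coprime_iff_not_dvd).mpr
      (Nat.not_dvd_ordCompl hp Nat.card_pos.ne')).pow_left a) 0 1
  have hN0 : ∀ g : C, (∃ k : ℕ, orderOf g = p ^ k) → g ^ N = 1 := by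
    rintro g ⟨k, hk⟩
    refine orderOf_dvd_iff_pow_eq_one.mp (dvd_trans ?_ (Nat.modEq_zero_iff_dvd.mp hN))
    rw [hk]
    exact pow_dvd_pow p ((Nat.Prime.pow_dvd_iff_le_factorization hp Nat.card_pos.ne').mp
      (hk ▸ orderOf_dvd_natCard g))
  have hN1 : ∀ g : C, ¬ p ∣ orderOf g → g ^ N = g := by
    intro g hg
    have hd : orderOf g ∣ m := by
      refine (((hp.coprime_iff_not_dvd).mpr hg).pow_left a).symm.dvd_of_dvd_mul_left ?_
      rw [hm, Nat.mul_div_cancel' (Nat.ordProj_dvd _ _)]
      exact orderOf_dvd_natCard g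
    exact pow_eq_pow_iff_modEq.mpr (hN'.of_dvd hd) |>.trans (pow_one g)
  set f : C ⧸ Q → ℂ := fun q => ((η : IrrCharacter C) : C → ℂ) (q.out ^ N) with hf
  have hfmk : ∀ g : C, f (QuotientGroup.mk g) = ((η : IrrCharacter C) : C → ℂ) (g ^ N) := by
    intro g
    obtain ⟨u, hu⟩ := QuotientGroup.mk_out_eq_mul Q g
    rw [hf]
    simp only [hu]
    have hcu : Commute g (u : C) := Subgroup.mem_center_iff.mp (hQc u.2) g
    rw [hcu.mul_pow, hN0 (u : C) (by
      obtain ⟨k, hk⟩ := IsPGroup.iff_orderOf.mp hQ u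
      exact ⟨k, by rw [Subgroup.orderOf_coe, hk]⟩), mul_one]
  have hF := isGeneralized_comp_pow (p := p) (CharCore.irr_isCharacter (η : IrrCharacter C)) hN0 hN1
  have hfg : IsGeneralizedCharacter (C ⧸ Q) f := by
    rw [CharCore.isGeneralizedCharacter_iff]
    refine ⟨fun q r => ?_, fun ψ => ?_⟩
    · induction q using QuotientGroup.induction_on with
      | H g =>
        induction r using QuotientGroup.induction_on with
        | H h =>
          rw [← QuotientGroup.mk_inv, ← QuotientGroup.mk_mul, ← QuotientGroup.mk_mul, hfmk, hfmk]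
          exact CharCore.IsGeneralizedCharacter.isClassFunction hF g h
    · obtain ⟨k, hk⟩ := CharCore.IsGeneralizedCharacter.exists_classInner_irr_eq_intCast hF
        (BlocksDefect.inflate Q ψ)
      refine ⟨k, ?_⟩
      rw [← hk, ← Blocks88.classInner_comp_mk Q f (ψ : C ⧸ Q → ℂ)]
      congr 1
      funext g
      exact hfmk g
  obtain ⟨kf, hkf⟩ := CharCore.IsGeneralizedCharacter.exists_sum hfg
  have := Fintype.ofFinite (IrrCharacter C)
  have := Fintype.ofFinite (IrrCharacter (C ⧸ Q))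
  -- the regular part of `η` as a combination over the whole quotient
  have h1 : pRegularPart p ((η : IrrCharacter C) : C → ℂ) =
      ∑ ψ : IrrCharacter (C ⧸ Q), (kf ψ : ℂ) • pRegularPart p (BlocksDefect.inflate Q ψ : C → ℂ) := by
    funext g
    rw [Finset.sum_apply]
    by_cases hg : p ∣ orderOf g
    · rw [BC85.pRegularPart_neg hg]
      exact (Finset.sum_eq_zero fun ψ _ => by simp [BC85.pRegularPart_neg hg]).symm
    · rw [BC85.pRegularPart_pos hg, ← hN1 g hg, ← hfmk, hkf, Finset.sum_apply]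
      refine Finset.sum_congr (Finset.ext fun _ => by simp) fun ψ _ => ?_
      rw [hN1 g hg]
      simp [BC85.pRegularPart_pos hg, inflate_apply]
  -- projection to the block
  let proj : (C → ℂ) → (C → ℂ) := fun F =>
    ∑ χ : IrrCharacter C, (if χ ∈ b then classInner F (χ : C → ℂ) else 0) • (χ : C → ℂ)
  have hproj : ∀ θ : IrrCharacter C, proj (pRegularPart p (θ : C → ℂ)) =
      if θ ∈ b then pRegularPart p (θ : C → ℂ) else 0 := by
    intro θ
    funext x
    simp only [proj, Finset.sum_apply, Pi.smul_apply, smul_eq_mul, ← BC85.prj_def]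
    split_ifs with hθ
    · rw [BC85.pRegularPart_eq_sum]
      refine Finset.sum_congr rfl fun χ _ => ?_
      split_ifs with hχ
      · rfl
      · rw [BC85.prj_eq_zero_of_notMem hM hb hθ hχ]
    · refine Finset.sum_eq_zero fun χ _ => ?_
      split_ifs with hχ
      · rw [BC85.prj_comm, BC85.prj_eq_zero_of_notMem hM hb hχ hθ, zero_mul]
      · rw [zero_mul]
  have h2 : pRegularPart p ((η : IrrCharacter C) : C → ℂ) =
      ∑ ψ : IrrCharacter (C ⧸ Q), (kf ψ : ℂ) • proj (pRegularPart p (BlocksDefect.inflate Q ψ : C → ℂ)) := by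
    have e := hproj (η : IrrCharacter C)
    rw [if_pos η.2] at e
    refine e.symm.trans ?_
    rw [h1]
    simp only [proj, CharCore.classInner_sum_left, CharCore.classInner_smul_left, Finset.smul_sum]
    rw [Finset.sum_comm]
    refine Finset.sum_congr rfl fun χ _ => ?_
    split_ifs with hχ
    · rw [Finset.sum_smul]
      exact Finset.sum_congr rfl fun ψ _ => by rw [mul_smul]
    · simp
  refine ⟨fun ψ => kf ψ, fun g hg => ?_⟩
  have h3 := congrFun h2 g
  rw [BC85.pRegularPart_pos hg, Finset.sum_apply,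
    ← Finset.sum_subset (Finset.subset_univ bb.toFinset) (fun ψ _ hψ => by
      rw [hproj, if_neg (fun h => hψ (by simpa using (hmem ψ).mpr h))]; simp)] at h3
  rw [h3]
  refine Eq.trans (Finset.sum_congr rfl fun ψ hψ => ?_)
    (Finset.sum_set_coe (f := fun ψ : IrrCharacter (C ⧸ Q) =>
      (kf ψ : ℂ) * (ψ : C ⧸ Q → ℂ) (QuotientGroup.mk g)) bb).symm
  rw [hproj, if_pos ((hmem ψ).mp (by simpa using hψ)), Pi.smul_apply, smul_eq_mul,
    BC85.pRegularPart_pos hg, inflate_apply]

end Cfsg.Agent.BlkChar.BrauerFeit
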