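import Mathlib.Analysis.SpecialFunctions.Complex.CircleAddChar
import Mathlib.LinearAlgebra.Matrix.Trace
import Mathlib.GroupTheory.Solvable
import Mathlib.GroupTheory.SpecificGroups.Cyclic
import Mathlib

/-!
# Groups of central type containing a given solvable group

Projective representations whose image is a system of `n ^ 2` matrices, all but the identity of
trace zero, with squarefree order of the scalars, are built along a normal subgroup of prime index
by tensor induction combined with the two generators of a Heisenberg group.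
-/

namespace Cfsg.Agent.BlkChar.CentralType

open Finset
open scoped commutatorElement

variable {r : ℕ} [NeZero r] {ι : Type} [Fintype ι] [DecidableEq ι]

/-- A tensor power times a monomial matrix. -/
noncomputable def mat (f : ZMod r → Matrix ι ι ℂ) (s t : ZMod r) (c : ℂ) :
    Matrix ((ZMod r → ι) × ZMod r) ((ZMod r → ι) × ZMod r) ℂ := fun x y =>
  if x.2 = y.2 + s then c * ZMod.stdAddChar (t * y.2) * ∏ i, f i (x.1 i) (y.1 (i - s)) else 0

theorem mat_mul (f f' : ZMod r → Matrix ι ι ℂ) (s t s' t' : ZMod r) (c c' : ℂ) :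
    mat f s t c * mat f' s' t' c' =
      mat (fun i => f i * f' (i - s)) (s + s') (t + t') (c * c' * ZMod.stdAddChar (t * s')) := by
  ext ⟨a, j⟩ ⟨d, l⟩
  rw [Matrix.mul_apply, Fintype.sum_prod_type, Finset.sum_comm]
  rw [Finset.sum_eq_single (l + s')]
  rotate_left
  · intro k _ hk
    refine Finset.sum_eq_zero fun b _ => ?_
    simp [mat, hk]
  · simp
  by_cases hj : j = l + (s + s')
  · have e1 : j = l + s' + s := by rw [hj]; ring
    simp only [mat, if_pos e1, if_pos hj, if_true, Matrix.mul_apply]
    rw [Fintype.prod_sum]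
    rw [Finset.mul_sum]
    refine Fintype.sum_equiv (Equiv.arrowCongr (Equiv.addRight s) (Equiv.refl ι)) _ _ fun b => ?_
    have e2 : ∏ i, f' i (b i) (d (i - s')) = ∏ i, f' (i - s) (b (i - s)) (d (i - (s + s'))) := by
      refine Fintype.prod_equiv (Equiv.addRight s) _ _ fun i => ?_
      simp only [Equiv.coe_addRight, add_sub_cancel_right]
      rw [show i + s - (s + s') = i - s' by ring]
    have e3 : ∀ i, (Equiv.arrowCongr (Equiv.addRight s) (Equiv.refl ι)) b i = b (i - s) := fun i => by
      simp [Equiv.arrowCongr, sub_eq_add_neg]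
    simp only [e3, e2, Finset.prod_mul_distrib]
    rw [show t * (l + s') = t * l + t * s' by ring, add_mul t t' l, AddChar.map_add_eq_mul,
      AddChar.map_add_eq_mul]
    ring
  · have e1 : ¬ j = l + s' + s := fun h => hj (by rw [h]; ring)
    simp [mat, e1, hj]

theorem mat_one : mat (fun _ : ZMod r => (1 : Matrix ι ι ℂ)) 0 0 1 = 1 := by
  ext ⟨a, j⟩ ⟨b, k⟩
  by_cases hj : j = k
  · subst hj
    by_cases ha : a = b
    · subst ha
      show (if j = j + 0 then _ else _) = _
      rw [if_pos (add_zero j).symm, Matrix.one_apply_eq, zero_mul, AddChar.map_zero_eq_one, one_mul,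
        one_mul]
      exact Finset.prod_eq_one fun x _ => by rw [sub_zero]; exact Matrix.one_apply_eq _
    · obtain ⟨i, hi⟩ := Function.ne_iff.mp ha
      show (if j = j + 0 then _ else _) = _
      rw [if_pos (add_zero j).symm,
        Matrix.one_apply_ne (show (a, j) ≠ (b, j) from fun h => ha (congrArg Prod.fst h))]
      refine mul_eq_zero_of_right _ (Finset.prod_eq_zero (Finset.mem_univ i) ?_)
      rw [sub_zero]
      exact Matrix.one_apply_ne hi
  · simp [mat, hj]

theorem mat_smul_family (z : ZMod r → ℂ) (f : ZMod r → Matrix ι ι ℂ) (s t : ZMod r) (c : ℂ) :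
    mat (fun i => z i • f i) s t c = mat f s t ((∏ i, z i) * c) := by
  ext ⟨a, j⟩ ⟨b, k⟩
  simp only [mat, Matrix.smul_apply, smul_eq_mul, Finset.prod_mul_distrib]
  split_ifs <;> ring

theorem smul_mat (x : ℂ) (f : ZMod r → Matrix ι ι ℂ) (s t : ZMod r) (c : ℂ) :
    x • mat f s t c = mat f s t (x * c) := by
  ext ⟨a, j⟩ ⟨b, k⟩
  simp only [mat, Matrix.smul_apply, smul_eq_mul]
  split_ifs <;> ring

theorem trace_mat (f : ZMod r → Matrix ι ι ℂ) (s t : ZMod r) (c : ℂ) :
    (mat f s t c).trace =
      if s = 0 ∧ t = 0 then c * r * ∏ i, (f i).trace else 0 := by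
  rw [Matrix.trace, Fintype.sum_prod_type, Finset.sum_comm]
  simp only [Matrix.diag_apply, mat]
  by_cases hs : s = 0
  · subst hs
    simp only [add_zero, sub_zero, if_true, true_and, ← Finset.mul_sum]
    rw [show (∑ a : ZMod r → ι, ∏ i, f i (a i) (a i)) = ∏ i, (f i).trace from
      (Fintype.prod_sum fun i x => f i x x).symm]
    rw [← Finset.sum_mul, ← Finset.mul_sum]
    by_cases ht : t = 0
    · subst ht; simp
    · have hne : (ZMod.stdAddChar (N := r)).mulShift t ≠ 1 := by
        intro h
        apply ht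
        have h1 := congrArg (fun ψ : AddChar (ZMod r) ℂ => ψ 1) h
        simp only [AddChar.mulShift_apply, mul_one, AddChar.one_apply] at h1
        exact ZMod.injective_stdAddChar (h1.trans (AddChar.map_zero_eq_one _).symm)
      have := AddChar.sum_eq_zero_of_ne_one hne
      simp only [AddChar.mulShift_apply] at this
      simp [this, ht]
  · simp [hs]

/-- A system of matrices of central type with an embedded group. -/
structure Sys (N : Type*) [Group N] where
  ι : Type
  [fι : Fintype ι]
  [dι : DecidableEq ι]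
  nι : Nonempty ι
  Q : Type
  [fQ : Fintype Q]
  m : ℕ
  rep : Q → Matrix ι ι ℂ
  one : Q
  mul : Q → Q → Q
  inv : Q → Q
  rep_one : rep one = 1
  mul_rep : ∀ a b, ∃ z : ℂ, z ^ m = 1 ∧ rep a * rep b = z • rep (mul a b)
  inv_rep : ∀ a, ∃ z : ℂ, z ^ m = 1 ∧ rep a * rep (inv a) = z • (1 : Matrix ι ι ℂ)
  distinct : ∀ (a b : Q) (z : ℂ), rep a = z • rep b → a = b
  trace_zero : ∀ a, a ≠ one → (rep a).trace = 0
  cardQ : Fintype.card Q = Fintype.card ι ^ 2
  sqfree : Squarefree m
  primes : ∀ q : ℕ, q.Prime → (q ∣ m ↔ q ∣ Nat.card N)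
  primesι : ∀ q : ℕ, q.Prime → q ∣ Fintype.card ι → q ∣ m
  φ : N → Q
  φ_inj : Function.Injective φ
  φ_mul : ∀ g h, φ (g * h) = mul (φ g) (φ h)

attribute [instance] Sys.fι Sys.dι Sys.fQ

theorem Sys.φ_one {N : Type*} [Group N] (S : Sys N) : S.φ 1 = S.one := by
  obtain ⟨z, hz, h⟩ := S.mul_rep (S.φ 1) (S.φ 1)
  rw [← S.φ_mul, one_mul] at h
  obtain ⟨w, hw, hinv⟩ := S.inv_rep (S.φ 1)
  have h2 := congrArg (fun A => A * S.rep (S.inv (S.φ 1))) h
  simp only [mul_assoc, hinv, smul_mul_assoc, mul_smul_comm, mul_one] at h2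
  refine S.distinct _ _ z ?_
  have hw0 : w ≠ 0 := fun h0 => by
    subst h0
    simp [zero_pow S.sqfree.ne_zero] at hw
  rw [S.rep_one]
  have h3 := congrArg (fun A => w⁻¹ • A) h2
  simp only [smul_smul, inv_mul_cancel₀ hw0, one_smul] at h3
  rwa [mul_comm z w, ← mul_assoc, inv_mul_cancel₀ hw0, one_mul] at h3

/-- One step: a normal subgroup with quotient of prime order `r`. -/
theorem step {G : Type*} [Group G] [Finite G] {r : ℕ} [hr : Fact r.Prime]
    (ψ : G →* Multiplicative (ZMod r)) (hψ : Function.Surjective ψ) (S : Sys ψ.ker) :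
    Nonempty (Sys G) := by
  classical
  haveI : NeZero r := ⟨hr.out.ne_zero⟩
  haveI := S.nι
  choose T hT using hψ
  let T' : ZMod r → G := fun i => T (Multiplicative.ofAdd i)
  let sh : G → ZMod r := fun g => Multiplicative.toAdd (ψ g)
  have hsh : ∀ g h, sh (g * h) = sh g + sh h := fun g h => by simp [sh]
  have hk : ∀ g i, (T' i)⁻¹ * g * T' (i - sh g) ∈ ψ.ker := by
    intro g i
    apply Multiplicative.toAdd.injective
    simp only [map_mul, map_inv, toAdd_mul, toAdd_inv, T', hT, toAdd_ofAdd, toAdd_one]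
    show -i + sh g + (i - sh g) = 0
    ring
  let k : G → ZMod r → ψ.ker := fun g i => ⟨_, hk g i⟩
  have hkmul : ∀ g h i, k (g * h) i = k g i * k h (i - sh g) := by
    intro g h i
    refine Subtype.ext ?_
    show (T' i)⁻¹ * (g * h) * T' (i - sh (g * h)) =
      (T' i)⁻¹ * g * T' (i - sh g) * ((T' (i - sh g))⁻¹ * h * T' (i - sh g - sh h))
    rw [hsh, sub_sub]
    group
  set m' := Nat.lcm S.m r with hm'
  have hm : S.m ∣ m' := Nat.dvd_lcm_left _ _
  have hrm : r ∣ m' := Nat.dvd_lcm_right _ _
  have hpow : ∀ z : ℂ, z ^ S.m = 1 → z ^ m' = 1 := fun z hz => by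
    obtain ⟨l, hl⟩ := hm
    rw [hl, pow_mul, hz, one_pow]
  have hchar : ∀ x : ZMod r, (ZMod.stdAddChar x : ℂ) ^ m' = 1 := by
    intro x
    obtain ⟨l, hl⟩ := hrm
    rw [hl, pow_mul, ← AddChar.map_nsmul_eq_pow, nsmul_eq_mul, ZMod.natCast_self, zero_mul,
      AddChar.map_zero_eq_one, one_pow]
  let Q' := (ZMod r → S.Q) × ZMod r × ZMod r
  let rep' : Q' → Matrix ((ZMod r → S.ι) × ZMod r) ((ZMod r → S.ι) × ZMod r) ℂ := fun a =>
    mat (fun i => S.rep (a.1 i)) a.2.1 a.2.2 1
  let mul' : Q' → Q' → Q' := fun a b =>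
    (fun i => S.mul (a.1 i) (b.1 (i - a.2.1)), a.2.1 + b.2.1, a.2.2 + b.2.2)
  let inv' : Q' → Q' := fun a => (fun i => S.inv (a.1 (i + a.2.1)), -a.2.1, -a.2.2)
  have hnpos : S.m ≠ 0 := S.sqfree.ne_zero
  have hne : ∀ z : ℂ, z ^ S.m = 1 → z ≠ 0 := fun z hz h0 => by
    simp [h0, zero_pow hnpos] at hz
  have hm'0 : m' ≠ 0 := Nat.lcm_ne_zero hnpos hr.out.ne_zero
  have hmul : ∀ a b, ∃ z : ℂ, z ^ m' = 1 ∧ rep' a * rep' b = z • rep' (mul' a b) := by
    intro a b
    choose z hz hzr using fun i => S.mul_rep (a.1 i) (b.1 (i - a.2.1))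
    refine ⟨(∏ i, z i) * ZMod.stdAddChar (a.2.2 * b.2.1), ?_, ?_⟩
    · rw [mul_pow, hchar, ← Finset.prod_pow, Finset.prod_eq_one fun i _ => hpow _ (hz i), one_mul]
    · show mat _ _ _ _ * mat _ _ _ _ = _
      rw [mat_mul]
      simp only [hzr]
      rw [mat_smul_family]
      show _ = _ • mat _ _ _ _
      rw [smul_mat]
      simp [mul_comm]
      rfl
  have hinv : ∀ a, ∃ z : ℂ, z ^ m' = 1 ∧
      rep' a * rep' (inv' a) = z • (1 : Matrix ((ZMod r → S.ι) × ZMod r) _ ℂ) := by
    intro a
    choose z hz hzr using fun i => S.inv_rep (a.1 i)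
    refine ⟨(∏ i, z i) * ZMod.stdAddChar (a.2.2 * -a.2.1), ?_, ?_⟩
    · rw [mul_pow, hchar, ← Finset.prod_pow, Finset.prod_eq_one fun i _ => hpow _ (hz i), one_mul]
    · show mat _ _ _ _ * mat _ _ _ _ = _
      rw [mat_mul, ← mat_one, smul_mat]
      simp only [inv', add_neg_cancel, sub_add_cancel, hzr]
      rw [mat_smul_family]
      simp [mul_comm]
  have hdist : ∀ (a b : Q') (z : ℂ), rep' a = z • rep' b → a = b := by
    intro a b z h
    obtain ⟨w, hw, hbinv⟩ := hinv b
    have h1 := congrArg (fun A => Matrix.trace (A * rep' (inv' b))) h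
    simp only [smul_mul_assoc, hbinv, smul_smul, Matrix.trace_smul, Matrix.trace_one,
      smul_eq_mul] at h1
    have hw0 : w ≠ 0 := fun h0 => by
      simp [h0, zero_pow hm'0] at hw
    have hcard : (Fintype.card ((ZMod r → S.ι) × ZMod r) : ℂ) ≠ 0 :=
      Nat.cast_ne_zero.mpr Fintype.card_ne_zero
    have hz0 : z ≠ 0 := by
      intro h0
      obtain ⟨wa, hwa, hainv⟩ := hinv a
      rw [h, h0, zero_smul, zero_mul] at hainv
      have hwa0 : wa ≠ 0 := fun h0 => by
        simp [h0, zero_pow hm'0] at hwa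
      exact one_ne_zero ((smul_eq_zero.mp hainv.symm).resolve_left hwa0)
    change Matrix.trace (mat _ _ _ _ * mat _ _ _ _) = _ at h1
    rw [mat_mul, trace_mat] at h1
    by_cases hst : a.2.1 + (inv' b).2.1 = 0 ∧ a.2.2 + (inv' b).2.2 = 0
    · rw [if_pos hst] at h1
      have hs : a.2.1 = b.2.1 := by have := hst.1; simpa [inv', ← sub_eq_add_neg, sub_eq_zero] using this
      have ht : a.2.2 = b.2.2 := by have := hst.2; simpa [inv', ← sub_eq_add_neg, sub_eq_zero] using this
      refine Prod.ext (funext fun i => ?_) (Prod.ext hs ht)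
      have hne0 : ∏ i, (S.rep (a.1 i) * S.rep ((inv' b).1 (i - a.2.1))).trace ≠ 0 := by
        intro h0
        rw [h0, mul_zero] at h1
        exact mul_ne_zero (mul_ne_zero hz0 hw0) hcard h1.symm
      have hi := Finset.prod_ne_zero_iff.mp hne0 i (Finset.mem_univ _)
      simp only [inv', hs, sub_add_cancel] at hi
      obtain ⟨u, hu, hur⟩ := S.mul_rep (a.1 i) (S.inv (b.1 i))
      have hq : S.mul (a.1 i) (S.inv (b.1 i)) = S.one := by
        by_contra hq
        rw [hur, Matrix.trace_smul, S.trace_zero _ hq, smul_zero] at hi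
        exact hi rfl
      rw [hq, S.rep_one] at hur
      obtain ⟨v, hv, hvr⟩ := S.inv_rep (b.1 i)
      -- left and right inverses agree
      have hright : S.rep (S.inv (b.1 i)) * (v⁻¹ • S.rep (b.1 i)) = 1 :=
        mul_eq_one_comm.mp (by rw [smul_mul_assoc, hvr, smul_smul, inv_mul_cancel₀ (hne v hv), one_smul])
      have h2 := congrArg (fun A => A * (v⁻¹ • S.rep (b.1 i))) hur
      simp only [mul_assoc, hright, mul_one, smul_mul_assoc, one_mul, smul_smul] at h2
      exact S.distinct _ _ _ h2
    · rw [if_neg hst] at h1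
      exact absurd h1.symm (mul_ne_zero (mul_ne_zero hz0 hw0) hcard)
  let φ' : G → Q' := fun g => (fun i => S.φ (k g i), sh g, 0)
  have hφmul : ∀ g h, φ' (g * h) = mul' (φ' g) (φ' h) := fun g h => by
    refine Prod.ext (funext fun i => ?_) (Prod.ext (hsh g h) (by simp [φ', mul']))
    show S.φ (k (g * h) i) = S.mul _ _
    rw [hkmul, S.φ_mul]
  refine ⟨
    { ι := (ZMod r → S.ι) × ZMod r, nι := inferInstance, Q := Q', m := m', rep := rep'
      one := (fun _ => S.one, 0, 0), mul := mul', inv := inv'
      rep_one := ?_, mul_rep := hmul, inv_rep := hinv, distinct := hdist, trace_zero := ?_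
      cardQ := ?_, sqfree := ?_, primes := ?_, primesι := ?_
      φ := φ', φ_inj := ?_, φ_mul := hφmul }⟩
  · show mat _ _ _ _ = _
    simp only [S.rep_one]
    exact mat_one
  · intro a ha
    show (mat _ _ _ _).trace = 0
    rw [trace_mat]
    split_ifs with h
    · have : ∃ i, a.1 i ≠ S.one := by
        by_contra hno
        push Not at hno
        exact ha (Prod.ext (funext hno) (Prod.ext h.1 h.2))
      obtain ⟨i, hi⟩ := this
      rw [Finset.prod_eq_zero (Finset.mem_univ i) (S.trace_zero _ hi), mul_zero]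
    · rfl
  · simp only [Q', Fintype.card_prod, Fintype.card_fun, ZMod.card, S.cardQ]
    ring
  · by_cases h : r ∣ S.m
    · rw [hm', Nat.lcm_eq_left h]; exact S.sqfree
    · have hco : S.m.Coprime r := ((hr.out.coprime_iff_not_dvd).mpr h).symm
      rw [hm', hco.lcm_eq_mul, Nat.squarefree_mul hco]
      exact ⟨S.sqfree, hr.out.squarefree⟩
  · intro q hq
    have hG : Nat.card G = Nat.card ψ.ker * r := by
      rw [← ψ.ker.card_mul_index, Subgroup.index_ker, MonoidHom.range_eq_top.mpr
        (fun x => ⟨T x, hT x⟩), Subgroup.card_top]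
      simp
    rw [hG, hq.dvd_mul, ← S.primes q hq, hm']
    constructor
    · intro h
      exact hq.dvd_mul.mp (h.trans (Nat.lcm_dvd_mul _ _))
    · rintro (h | h)
      exacts [h.trans hm, h.trans hrm]
  · intro q hq hd
    simp only [Fintype.card_prod, Fintype.card_fun, ZMod.card] at hd
    rcases hq.dvd_mul.mp hd with h | h
    · exact (S.primesι q hq (hq.dvd_of_dvd_pow h)).trans hm
    · exact h.trans hrm
  · intro g h hgh
    have h1 : sh g = sh h := congrArg (fun a => a.2.1) hgh
    have h2 : k g 0 = k h 0 := S.φ_inj (congrArg (fun a => a.1 0) hgh)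
    have h3 := congrArg Subtype.val h2
    simpa [k, h1] using h3

universe u

/-- Every finite solvable group has a system. -/
theorem exists_sys : ∀ (n : ℕ) (G : Type u) [Group G] [Finite G], Group.IsSolvable G →
    Nat.card G ≤ n → Nonempty (Sys G) := by
  intro n
  induction n with
  | zero => intro G _ _ _ h; exact absurd h (by simp [Nat.card_pos.ne'])
  | succ n ih =>
    intro G _ _ hsol hle
    classical
    rcases subsingleton_or_nontrivial G with hs | hnt
    · refine ⟨{ ι := Unit, nι := inferInstance, Q := Unit, m := 1, rep := fun _ => 1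
                one := (), mul := fun _ _ => (), inv := fun _ => ()
                rep_one := rfl, mul_rep := fun _ _ => ⟨1, by simp, by simp⟩
                inv_rep := fun _ => ⟨1, by simp, by simp⟩
                distinct := fun _ _ _ _ => rfl, trace_zero := fun a ha => absurd rfl ha
                cardQ := by simp, sqfree := squarefree_one
                primes := fun q hq => by simp [Nat.card_unique]
                primesι := fun q hq h => by simpa using h
                φ := fun _ => (), φ_inj := fun a b _ => Subsingleton.elim a b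
                φ_mul := fun _ _ => rfl }⟩
    · haveI := hsol
      obtain ⟨N, hN, hle'⟩ : ∃ N : Subgroup G, IsCoatom N ∧ commutator G ≤ N := by
        rcases eq_top_or_exists_le_coatom (commutator G) with h | h
        · exact absurd h (Group.IsSolvable.commutator_lt_top_of_nontrivial G).ne
        · exact h
      haveI hNn : N.Normal := ⟨fun a ha g => by
        have : ⁅g, a⁆ * a = g * a * g⁻¹ := by simp [commutatorElement_def, mul_assoc]
        rw [← this]
        exact N.mul_mem (hle' (Subgroup.commutator_mem_commutator (Subgroup.mem_top g) (Subgroup.mem_top a))) ha⟩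
      haveI : Nontrivial (G ⧸ N) := QuotientGroup.nontrivial_iff.mpr hN.1
      haveI : IsSimpleGroup (G ⧸ N) := ⟨fun K _ => by
        rcases eq_or_lt_of_le (QuotientGroup.le_comap_mk' N K) with h | h
        · left
          rw [← Subgroup.map_comap_eq_self_of_surjective (QuotientGroup.mk'_surjective N) K, ← h,
            QuotientGroup.map_mk'_self]
        · right
          rw [← Subgroup.map_comap_eq_self_of_surjective (QuotientGroup.mk'_surjective N) K,
            hN.2 _ h, Subgroup.map_top_of_surjective _ (QuotientGroup.mk'_surjective N)]⟩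
      letI : CommGroup (G ⧸ N) :=
        { (inferInstance : Group (G ⧸ N)) with
          mul_comm := fun a b => by
            obtain ⟨a, rfl⟩ := QuotientGroup.mk_surjective a
            obtain ⟨b, rfl⟩ := QuotientGroup.mk_surjective b
            rw [← QuotientGroup.mk_mul, ← QuotientGroup.mk_mul, QuotientGroup.eq]
            refine hle' ?_
            have : (a * b)⁻¹ * (b * a) = ⁅b⁻¹, a⁻¹⁆ := by simp [commutatorElement_def, mul_assoc]
            rw [this]
            exact Subgroup.commutator_mem_commutator (Subgroup.mem_top _) (Subgroup.mem_top _) }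
      haveI : Fact (Nat.card (G ⧸ N)).Prime := ⟨IsSimpleGroup.prime_card⟩
      let e := (zmodCyclicMulEquiv (G := G ⧸ N) (isCyclic_of_prime_card rfl)).symm
      let ψ : G →* Multiplicative (ZMod (Nat.card (G ⧸ N))) :=
        e.toMonoidHom.comp (QuotientGroup.mk' N)
      have hψ : Function.Surjective ψ := e.surjective.comp (QuotientGroup.mk'_surjective N)
      have hker : ψ.ker = N := by
        ext x
        simp [ψ, MonoidHom.mem_ker, QuotientGroup.eq_one_iff]
      obtain ⟨S⟩ := ih ψ.ker inferInstance (by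
        have h1 := ψ.ker.card_mul_index
        have h2 : 2 ≤ ψ.ker.index := by
          rw [hker, Subgroup.index_eq_card]; exact (Fact.out : (Nat.card (G ⧸ N)).Prime).two_le
        have := Nat.mul_le_mul_left (Nat.card ψ.ker) h2
        have := Nat.card_pos (α := ψ.ker)
        omega)
      exact step ψ hψ S

end Cfsg.Agent.BlkChar.CentralType
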