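import Cfsg.Agent.Lib.CharCore.Complete
import Cfsg.Agent.Lib.CharCore.Virtual
import Cfsg.Agent.Lib.BlocksCore.Local
import Cfsg.Agent.Lib.BlocksCore.Omega
import Cfsg.Agent.Lib.BlocksCore.Ortho
import Mathlib.GroupTheory.NoncommCoprod
import Mathlib.GroupTheory.Sylow

/-!
# A combination of characters vanishing at `p`-singular elements

Its value at a `p`-regular element is divisible, at `M`, by the order of the centralizer.
-/

set_option autoImplicit false

namespace Cfsg.Agent.BlkChar.CentralizerDvd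

open BlocksCore

attribute [local instance] Fintype.ofFinite

universe u

variable {G : Type u} [Group G] [Finite G]

/-- The mean of a character over the coset `Q y`, `y` centralizing `Q`, is integral. -/
theorem isIntegral_avg (χ : IrrCharacter G) {Q : Subgroup G} {y : G}
    (hy : ∀ q ∈ Q, Commute q y) :
    IsIntegral ℤ ((Nat.card Q : ℂ)⁻¹ * ∑ q : Q, (χ : G → ℂ) ((q : G) * y)) := by
  classical
  set Z := Subgroup.zpowers y with hZ
  have := finite_irr (G := Z)
  have hcomm : ∀ (q : Q) (z : Z), Commute (q : G) (z : G) := fun q z => by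
    obtain ⟨k, hk⟩ := Subgroup.mem_zpowers_iff.mp z.2
    exact hk ▸ (hy q q.2).zpow_right k
  set φ : Q × Z →* G := MonoidHom.noncommCoprod Q.subtype Z.subtype hcomm with hφ
  set θ : Z → ℂ := fun z => (Nat.card Q : ℂ)⁻¹ * ∑ q : Q, (χ : G → ℂ) ((q : G) * z) with hθ
  have hθc : IsClassFunction Z θ := fun a b => by
    have : b * a * b⁻¹ = a := by
      rw [mul_inv_eq_iff_eq_mul]
      exact mul_comm' b a
    rw [this]
  have hint : ∀ lam : IrrCharacter Z, IsIntegral ℤ (classInner θ (lam : Z → ℂ) * (lam : Z → ℂ) ⟨y, Subgroup.mem_zpowers y⟩) := by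
    intro lam
    refine IsIntegral.mul ?_ (isIntegral_irr lam _)
    have hL : classInner θ (lam : Z → ℂ) =
        classInner (fun w : Q × Z => (χ : G → ℂ) (φ w)) (fun w : Q × Z => (lam : Z → ℂ) (MonoidHom.snd Q Z w)) := by
      rw [CharCore.classInner_def, CharCore.classInner_def, Nat.card_prod, Fintype.sum_prod_type,
        Finset.sum_comm, Nat.cast_mul, mul_inv, mul_assoc, mul_left_comm]
      congr 1
      rw [Finset.mul_sum]
      refine Finset.sum_congr rfl fun z _ => ?_
      rw [hθ, mul_assoc, Finset.sum_mul]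
      rfl
    obtain ⟨n, hn⟩ := CharCore.IsGeneralizedCharacter.exists_classInner_eq_intCast
      (CharCore.isGeneralized_comp (CharCore.irr_isGeneralized χ) φ)
      (CharCore.isGeneralized_comp (CharCore.irr_isGeneralized lam) (MonoidHom.snd Q Z))
    rw [hL]
    erw [hn]
    exact isIntegral_algebraMap (x := n)
  have h := congrFun (CharCore.eq_sum_classInner hθc) ⟨y, Subgroup.mem_zpowers y⟩
  simp only [Finset.sum_apply, Pi.smul_apply, smul_eq_mul] at h
  have h2 : IsIntegral ℤ (θ ⟨y, Subgroup.mem_zpowers y⟩) := by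
    rw [h]
    exact IsIntegral.sum _ fun lam _ => hint lam
  convert h2 using 4

/-- A local combination of characters vanishing at `p`-singular elements, divided by the order of
the centralizer of a `p`-regular element, is local. -/
theorem memLocalRing_div_centralizer {p : ℕ} [Fact p.Prime] {M : Ideal AlgInt}
    (hM : IsPModular p M) {ι : Type*} (s : Finset ι) (Φ : ι → IrrCharacter G) (a : ι → ℂ)
    (ha : ∀ i ∈ s, MemLocalRing M (a i))
    (hvan : ∀ x : G, p ∣ orderOf x → ∑ i ∈ s, a i * (Φ i : G → ℂ) x = 0)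
    {y : G} (hy : ¬ p ∣ orderOf y) :
    MemLocalRing M ((∑ i ∈ s, a i * (Φ i : G → ℂ) y) /
      (Nat.card (Subgroup.centralizer ({y} : Set G)) : ℂ)) := by
  classical
  have := isPrime hM
  set K := Subgroup.centralizer ({y} : Set G) with hK
  obtain ⟨S⟩ : Nonempty (Sylow p K) := inferInstance
  set Q : Subgroup G := (S : Subgroup K).map K.subtype with hQ
  have hcard : Nat.card Q = Nat.card (S : Subgroup K) :=
    Subgroup.card_map_of_injective K.subtype_injective
  have hQK : ∀ q ∈ Q, Commute q y := by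
    rintro _ ⟨q, -, rfl⟩
    exact Subgroup.mem_centralizer_singleton_iff.mp q.2
  have hQp : IsPGroup p Q := S.2.map _
  have hsum : ∑ i ∈ s, a i * ((Nat.card Q : ℂ)⁻¹ * ∑ q : Q, (Φ i : G → ℂ) ((q : G) * y)) =
      (Nat.card Q : ℂ)⁻¹ * ∑ i ∈ s, a i * (Φ i : G → ℂ) y := by
    simp only [Finset.mul_sum]
    rw [Finset.sum_comm, Finset.sum_eq_single (1 : Q)]
    · exact Finset.sum_congr rfl fun i _ => by rw [Subgroup.coe_one, one_mul]; ring
    · intro q _ hq
      obtain ⟨k, hk⟩ := IsPGroup.iff_orderOf.mp hQp q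
      have hd : p ∣ orderOf ((q : G) * y) := by
        rw [(hQK q q.2).orderOf_mul_eq_mul_orderOf_of_coprime ?_]
        · refine Dvd.dvd.mul_right ?_ _
          rw [Subgroup.orderOf_coe, hk]
          refine dvd_pow_self p fun h0 => hq ?_
          rw [h0, pow_zero, orderOf_eq_one_iff] at hk
          exact hk
        · rw [Subgroup.orderOf_coe, hk]
          exact Nat.Coprime.pow_left _ ((Nat.Prime.coprime_iff_not_dvd Fact.out).mpr hy)
      calc _ = (Nat.card Q : ℂ)⁻¹ * ∑ i ∈ s, a i * (Φ i : G → ℂ) ((q : G) * y) := by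
            rw [Finset.mul_sum]
            exact Finset.sum_congr rfl fun i _ => by ring
        _ = 0 := by rw [hvan _ hd, mul_zero]
    · exact fun h => absurd (Finset.mem_univ _) h
  have hR : MemLocalRing M ((Nat.card Q : ℂ)⁻¹ * ∑ i ∈ s, a i * (Φ i : G → ℂ) y) := by
    rw [← hsum]
    exact memLocalRing_sum fun i hi => (localRing M).mul_mem (ha i hi)
      (memLocalRing_of_isIntegral (by convert isIntegral_avg (Φ i) hQK using 4))
  have hidx : Nat.card K = Nat.card Q * (S : Subgroup K).index := by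
    rw [hcard, Subgroup.card_mul_index]
  rw [hidx, Nat.cast_mul, div_eq_mul_inv, mul_inv,
    show (∑ i ∈ s, a i * (Φ i : G → ℂ) y) * ((Nat.card Q : ℂ)⁻¹ * ((S : Subgroup K).index : ℂ)⁻¹) =
      ((Nat.card Q : ℂ)⁻¹ * ∑ i ∈ s, a i * (Φ i : G → ℂ) y) * ((S : Subgroup K).index : ℂ)⁻¹ by ring]
  exact (localRing M).mul_mem hR (memLocalRing_natCast_inv hM S.not_dvd_index)

end Cfsg.Agent.BlkChar.CentralizerDvd
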