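import Mathlib

/-!
# Cancellation in alternating sums over chains of subgroups of prime power order

A chain is a nonempty totally ordered finite set of nontrivial `p`-subgroups, it is normal when every
member is normal in the largest one.  A function of the stabilizer has the same alternating sum over
all chains and over normal chains; the chains whose stabilizer contains a given `p`-element `x` cancel
except for the chain of `⟨x⟩`.
-/

set_option autoImplicit false
set_option linter.unusedSectionVars false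
set_option linter.unusedVariables false

namespace Cfsg.Agent.BlkChar.ChainPairing

variable {G : Type*} [Group G]

/-- A nonempty chain of nontrivial `p`-subgroups. -/
def IsChainP (p : ℕ) (s : Finset (Subgroup G)) : Prop :=
  s.Nonempty ∧ (∀ Q ∈ s, ∀ R ∈ s, Q ≤ R ∨ R ≤ Q) ∧ ∀ Q ∈ s, Q ≠ ⊥ ∧ IsPGroup p Q

/-- Every member is normal in the largest one. -/
def IsNormalChain (s : Finset (Subgroup G)) : Prop :=
  ∃ T ∈ s, ∀ Q ∈ s, Q ≤ T ∧ T ≤ Subgroup.normalizer ((Q : Subgroup G) : Set G)

/-- The stabilizer of a chain. -/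
def chainNormalizer (s : Finset (Subgroup G)) : Subgroup G :=
  ⨅ Q ∈ s, Subgroup.normalizer ((Q : Subgroup G) : Set G)

/-- The sign of a chain. -/
def sign (s : Finset (Subgroup G)) : ℤ := (-1) ^ (s.card - 1)

theorem mem_chainNormalizer {s : Finset (Subgroup G)} {g : G} :
    g ∈ chainNormalizer s ↔ ∀ Q ∈ s, g ∈ Subgroup.normalizer ((Q : Subgroup G) : Set G) := by
  simp [chainNormalizer]

theorem isPGroup_zpowers_aux {p : ℕ} {x : G} {k : ℕ} (hx : orderOf x = p ^ k) :
    IsPGroup p (Subgroup.zpowers x) :=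
  IsPGroup.of_card (n := k) (by rw [Nat.card_zpowers, hx])

variable [DecidableEq (Subgroup G)]

/-- Insert `R` or remove it. -/
def toggle (R : Subgroup G) (s : Finset (Subgroup G)) : Finset (Subgroup G) :=
  if R ∈ s then s.erase R else insert R s

theorem toggle_toggle (R : Subgroup G) (s : Finset (Subgroup G)) : toggle R (toggle R s) = s := by
  unfold toggle
  by_cases h : R ∈ s
  · simp [h]
  · simp [h]

theorem sign_toggle {R : Subgroup G} {s : Finset (Subgroup G)} (hs : s.Nonempty)
    (ht : (toggle R s).Nonempty) : sign (toggle R s) = - sign s := by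
  have h1 := hs.card_pos
  have h2 := ht.card_pos
  unfold toggle at h2
  unfold toggle sign
  by_cases h : R ∈ s
  · rw [if_pos h] at h2 ⊢
    rw [Finset.card_erase_of_mem h] at h2 ⊢
    obtain ⟨n, hn⟩ := Nat.exists_eq_add_of_le (show 2 ≤ s.card by omega)
    rw [hn, show 2 + n - 1 - 1 = n by omega, show 2 + n - 1 = n + 1 by omega, pow_succ]
    ring
  · rw [if_neg h, Finset.card_insert_of_notMem h]
    obtain ⟨n, hn⟩ := Nat.exists_eq_add_of_le (show 1 ≤ s.card by omega)
    rw [hn, show 1 + n + 1 - 1 = n + 1 by omega, show 1 + n - 1 = n by omega, pow_succ]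
    ring

theorem mem_toggle_of_ne {R Q : Subgroup G} {s : Finset (Subgroup G)} (h : Q ≠ R) :
    Q ∈ toggle R s ↔ Q ∈ s := by
  unfold toggle
  split_ifs <;> simp [h]

theorem toggle_ne (R : Subgroup G) (s : Finset (Subgroup G)) : toggle R s ≠ s := by
  unfold toggle
  split_ifs with h
  · exact fun e => Finset.notMem_erase R s (by rw [e]; exact h)
  · exact fun e => h (by rw [← e]; exact Finset.mem_insert_self R s)

theorem isChainP_toggle {p : ℕ} {R : Subgroup G} {s : Finset (Subgroup G)} (hs : IsChainP p s)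
    (hne : (toggle R s).Nonempty) (hR : R ≠ ⊥ ∧ IsPGroup p R)
    (hcmp : ∀ Q ∈ s, Q ≤ R ∨ R ≤ Q) : IsChainP p (toggle R s) := by
  refine ⟨hne, fun Q hQ Q' hQ' => ?_, fun Q hQ => ?_⟩
  · by_cases h : Q = R <;> by_cases h' : Q' = R
    · exact Or.inl (h.trans h'.symm).le
    · rw [h]; exact (hcmp Q' ((mem_toggle_of_ne h').mp hQ')).symm
    · rw [h']; exact hcmp Q ((mem_toggle_of_ne h).mp hQ)
    · exact hs.2.1 Q ((mem_toggle_of_ne h).mp hQ) Q' ((mem_toggle_of_ne h').mp hQ')
  · by_cases h : Q = R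
    · rw [h]; exact hR
    · exact hs.2.2 Q ((mem_toggle_of_ne h).mp hQ)

/-! ### Chains which are not normal -/

/-- `T` is a member which does not normalize all the members below it. -/
def Bad (s : Finset (Subgroup G)) (T : Subgroup G) : Prop :=
  T ∈ s ∧ ∃ Q ∈ s, Q ≤ T ∧ ¬ T ≤ Subgroup.normalizer ((Q : Subgroup G) : Set G)

/-- The least bad member. -/
def LeastBad (s : Finset (Subgroup G)) (T : Subgroup G) : Prop :=
  Bad s T ∧ ∀ Q, Bad s Q → T ≤ Q

/-- The elements of `T` normalizing the members below `T`. -/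
def lowerNormalizer (s : Finset (Subgroup G)) (T : Subgroup G) : Subgroup G :=
  T ⊓ ⨅ Q ∈ s, ⨅ (_ : Q < T), Subgroup.normalizer ((Q : Subgroup G) : Set G)

omit [DecidableEq (Subgroup G)] in
theorem mem_lowerNormalizer {s : Finset (Subgroup G)} {T : Subgroup G} {y : G} :
    y ∈ lowerNormalizer s T ↔
      y ∈ T ∧ ∀ Q ∈ s, Q < T → y ∈ Subgroup.normalizer ((Q : Subgroup G) : Set G) := by
  simp [lowerNormalizer]

variable {p : ℕ} {s : Finset (Subgroup G)}

omit [DecidableEq (Subgroup G)] in
theorem exists_leastBad (hs : IsChainP p s) (hn : ¬ IsNormalChain s) : ∃ T, LeastBad s T := by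
  classical
  obtain ⟨T₀, hT₀, hmax⟩ := s.exists_maximal hs.1
  have hne : (s.filter (Bad s)).Nonempty := by
    by_contra h
    refine hn ⟨T₀, hT₀, fun Q hQ => ?_⟩
    have hle : Q ≤ T₀ := (hs.2.1 Q hQ T₀ hT₀).elim id fun h' => hmax hQ h'
    refine ⟨hle, by_contra fun h' => h ⟨T₀, Finset.mem_filter.mpr ⟨hT₀, hT₀, Q, hQ, hle, h'⟩⟩⟩
  obtain ⟨T, hT, hmin⟩ := (s.filter (Bad s)).exists_minimal hne
  refine ⟨T, (Finset.mem_filter.mp hT).2, fun Q hQ => ?_⟩
  exact (hs.2.1 T (Finset.mem_filter.mp hT).1 Q hQ.1).elim id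
    fun h' => hmin (Finset.mem_filter.mpr ⟨hQ.1, hQ⟩) h'

omit [DecidableEq (Subgroup G)] in
theorem leastBad_unique {T T' : Subgroup G} (h : LeastBad s T) (h' : LeastBad s T') : T = T' :=
  le_antisymm (h.2 _ h'.1) (h'.2 _ h.1)

omit [DecidableEq (Subgroup G)] in
theorem not_isNormalChain_of_bad (hs : IsChainP p s) {T : Subgroup G} (hT : Bad s T) :
    ¬ IsNormalChain s := by
  rintro ⟨U, hU, hall⟩
  obtain ⟨hTs, Q, hQ, hQT, hn⟩ := hT
  exact hn ((hall T hTs).1.trans (hall Q hQ).2)

section NonNormal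

variable {T : Subgroup G} (hs : IsChainP p s) (hT : LeastBad s T)

include hs hT

omit [DecidableEq (Subgroup G)] in
theorem normal_below {Q Q' : Subgroup G} (hQ : Q ∈ s) (hQ' : Q' ∈ s) (hlt : Q < T) (hle : Q' ≤ Q) :
    Q ≤ Subgroup.normalizer ((Q' : Subgroup G) : Set G) :=
  by_contra fun h => not_le_of_gt hlt (hT.2 Q ⟨hQ, Q', hQ', hle, h⟩)

omit [DecidableEq (Subgroup G)] in
theorem le_lower {Q : Subgroup G} (hQ : Q ∈ s) (hlt : Q < T) : Q ≤ lowerNormalizer s T := by
  intro y hy
  refine mem_lowerNormalizer.mpr ⟨hlt.le hy, fun Q' hQ' hlt' => ?_⟩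
  rcases hs.2.1 Q hQ Q' hQ' with h | h
  · exact Subgroup.le_normalizer (h hy)
  · exact normal_below hs hT hQ hQ' hlt h hy

omit [DecidableEq (Subgroup G)] in
theorem lower_lt : lowerNormalizer s T < T := by
  refine lt_of_le_of_ne inf_le_left fun h => ?_
  obtain ⟨-, Q, hQ, hQT, hn⟩ := hT.1
  rcases eq_or_lt_of_le hQT with he | hlt
  · exact hn (he ▸ Subgroup.le_normalizer)
  · exact hn fun y hy => (mem_lowerNormalizer.mp (h.symm ▸ hy : y ∈ lowerNormalizer s T)).2 Q hQ hlt

omit [DecidableEq (Subgroup G)] in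
theorem lower_comparable {Q : Subgroup G} (hQ : Q ∈ s) :
    Q ≤ lowerNormalizer s T ∨ lowerNormalizer s T ≤ Q := by
  rcases hs.2.1 Q hQ T hT.1.1 with h | h
  · rcases eq_or_lt_of_le h with he | hlt
    · exact Or.inr (he ▸ inf_le_left)
    · exact Or.inl (le_lower hs hT hQ hlt)
  · exact Or.inr (inf_le_left.trans h)

omit [DecidableEq (Subgroup G)] in
theorem lower_pGroup : lowerNormalizer s T ≠ ⊥ ∧ IsPGroup p (lowerNormalizer s T) := by
  refine ⟨fun h => ?_, (hs.2.2 T hT.1.1).2.to_le inf_le_left⟩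
  obtain ⟨-, Q, hQ, hQT, hn⟩ := hT.1
  rcases eq_or_lt_of_le hQT with he | hlt
  · exact hn (he ▸ Subgroup.le_normalizer)
  · exact (hs.2.2 Q hQ).1 (le_bot_iff.mp (h ▸ le_lower hs hT hQ hlt))

omit [DecidableEq (Subgroup G)] in
theorem lower_le_normalizer {g : G} (hg : g ∈ chainNormalizer s) :
    g ∈ Subgroup.normalizer ((lowerNormalizer s T : Subgroup G) : Set G) := by
  rw [mem_chainNormalizer] at hg
  rw [Subgroup.mem_normalizer_iff]
  intro y
  rw [mem_lowerNormalizer, mem_lowerNormalizer, Subgroup.mem_normalizer_iff.mp (hg T hT.1.1) y]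
  refine and_congr_right fun _ => forall₂_congr fun Q hQ => imp_congr_right fun _ => ?_
  exact Subgroup.mem_normalizer_iff.mp (Subgroup.le_normalizer (hg Q hQ)) y

/-- Inserting or removing the lower normalizer leaves the least bad member and its lower normalizer. -/
theorem toggle_lower [Finite G] [Fact p.Prime] :
    IsChainP p (toggle (lowerNormalizer s T) s) ∧
      LeastBad (toggle (lowerNormalizer s T) s) T ∧
      lowerNormalizer (toggle (lowerNormalizer s T) s) T = lowerNormalizer s T ∧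
      chainNormalizer (toggle (lowerNormalizer s T) s) = chainNormalizer s := by
  set R := lowerNormalizer s T with hRdef
  have hRT : R < T := lower_lt hs hT
  have hTmem : T ∈ toggle R s := (mem_toggle_of_ne hRT.ne').mpr hT.1.1
  have hch : IsChainP p (toggle R s) :=
    isChainP_toggle hs ⟨T, hTmem⟩ (lower_pGroup hs hT) fun Q hQ => lower_comparable hs hT hQ
  -- the members below `T`
  have hbelow : ∀ Q ∈ toggle R s, Q < T → Q ≤ R := fun Q hQ hlt => by
    by_cases h : Q = R
    · exact h.le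
    · exact le_lower hs hT ((mem_toggle_of_ne h).mp hQ) hlt
  have hsub : lowerNormalizer (toggle R s) T = R := by
    by_cases hmem : R ∈ s
    · have htog : toggle R s = s.erase R := if_pos hmem
      have hle : R ≤ lowerNormalizer (toggle R s) T := fun y hy => by
        rw [hRdef, mem_lowerNormalizer] at hy
        refine mem_lowerNormalizer.mpr ⟨hy.1, fun Q hQ hlt => hy.2 Q ?_ hlt⟩
        rw [htog] at hQ
        exact Finset.mem_of_mem_erase hQ
      have hmeet : ∀ y ∈ lowerNormalizer (toggle R s) T,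
          y ∈ Subgroup.normalizer (R : Set G) → y ∈ R := by
        intro y hy hyN
        obtain ⟨hyT, hy'⟩ := mem_lowerNormalizer.mp hy
        refine mem_lowerNormalizer.mpr ⟨hyT, fun Q hQ hlt => ?_⟩
        by_cases h : Q = R
        · exact h ▸ hyN
        · exact hy' Q ((mem_toggle_of_ne h).mpr hQ) hlt
      set U := lowerNormalizer (toggle R s) T with hU
      by_contra hne
      have hlt : R < U := lt_of_le_of_ne hle (Ne.symm hne)
      haveI : Group.IsNilpotent U := ((hs.2.2 T hT.1.1).2.to_le inf_le_left).isNilpotent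
      have hnc : R.subgroupOf U < Subgroup.normalizer ((R.subgroupOf U : Subgroup U) : Set U) :=
        Group.normalizerCondition_of_isNilpotent _ (by
          refine lt_of_le_of_ne le_top fun h => ?_
          rw [Subgroup.subgroupOf_eq_top] at h
          exact not_le_of_gt hlt h)
      obtain ⟨y, hyN, hyR⟩ := SetLike.exists_of_lt hnc
      refine hyR (hmeet (y : G) y.2 (Subgroup.mem_normalizer_iff.mpr fun z => ?_))
      constructor
      · intro hz
        exact (Subgroup.mem_normalizer_iff.mp hyN ⟨z, hle hz⟩).mp hz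
      · intro hz
        have hzU : z ∈ U := by
          have := U.mul_mem (U.mul_mem (U.inv_mem y.2) (hle hz)) y.2
          simpa [mul_assoc] using this
        exact (Subgroup.mem_normalizer_iff.mp hyN ⟨z, hzU⟩).mpr hz
    · have htog : toggle R s = insert R s := if_neg hmem
      refine le_antisymm (fun y hy => ?_) (fun y hy => ?_)
      · obtain ⟨hyT, hy'⟩ := mem_lowerNormalizer.mp hy
        exact mem_lowerNormalizer.mpr ⟨hyT, fun Q hQ hlt =>
          hy' Q (by rw [htog]; exact Finset.mem_insert_of_mem hQ) hlt⟩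
      · refine mem_lowerNormalizer.mpr ⟨(mem_lowerNormalizer.mp hy).1, fun Q hQ hlt => ?_⟩
        rw [htog, Finset.mem_insert] at hQ
        rcases hQ with rfl | hQ
        · exact Subgroup.le_normalizer hy
        · exact (mem_lowerNormalizer.mp hy).2 Q hQ hlt
  have hbad : Bad (toggle R s) T := by
    refine ⟨hTmem, by_contra fun h => ?_⟩
    push Not at h
    refine not_le_of_gt hRT (hsub ▸ fun y hy => mem_lowerNormalizer.mpr ⟨hy, fun Q hQ hlt => ?_⟩)
    exact h Q hQ hlt.le hy
  have hleast : LeastBad (toggle R s) T := by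
    refine ⟨hbad, fun Q hQ => ?_⟩
    rcases hch.2.1 T hTmem Q hQ.1 with h | h
    · exact h
    · rcases eq_or_lt_of_le h with he | hlt
      · exact he.ge
      · exfalso
        obtain ⟨hQm, Q', hQ', hle, hn⟩ := hQ
        refine hn ?_
        by_cases hq : Q' = R
        · rw [hq] at hle ⊢
          rw [le_antisymm (hbelow Q hQm hlt) hle]
          exact Subgroup.le_normalizer
        · by_cases hq2 : Q = R
          · rw [hq2, hRdef]
            intro y hy
            exact (mem_lowerNormalizer.mp hy).2 Q' ((mem_toggle_of_ne hq).mp hQ')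
              (lt_of_le_of_lt hle hlt)
          · exact normal_below hs hT ((mem_toggle_of_ne hq2).mp hQm) ((mem_toggle_of_ne hq).mp hQ')
              hlt hle
  refine ⟨hch, hleast, hsub, ?_⟩
  · refine le_antisymm (fun g hg => ?_) (fun g hg => ?_)
    · have hg' : ∀ Q ∈ s, Q ≠ R → g ∈ Subgroup.normalizer ((Q : Subgroup G) : Set G) := fun Q hQ hne =>
        mem_chainNormalizer.mp hg Q ((mem_toggle_of_ne hne).mpr hQ)
      refine mem_chainNormalizer.mpr fun Q hQ => ?_
      by_cases h : Q = R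
      · rw [h, hsub.symm]
        exact lower_le_normalizer hch hleast hg
      · exact hg' Q hQ h
    · refine mem_chainNormalizer.mpr fun Q hQ => ?_
      by_cases h : Q = R
      · rw [h]; exact lower_le_normalizer hs hT hg
      · exact mem_chainNormalizer.mp hg Q ((mem_toggle_of_ne h).mp hQ)

end NonNormal

section Sums

variable [Finite G] [Fintype (Finset (Subgroup G))] [Fact p.Prime]

/-- A function of the stabilizer has alternating sum zero over the chains which are not normal. -/
theorem sum_not_normal (F : Subgroup G → ℤ) (S : Finset (Finset (Subgroup G)))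
    (hS : ∀ s, s ∈ S ↔ IsChainP p s ∧ ¬ IsNormalChain s) :
    ∑ s ∈ S, sign s * F (chainNormalizer s) = 0 := by
  classical
  have hch : ∀ s ∈ S, IsChainP p s := fun s hs => ((hS s).mp hs).1
  choose T hT using fun s (hs : s ∈ S) => exists_leastBad (hch s hs) ((hS s).mp hs).2
  refine Finset.sum_involution (fun s hs => toggle (lowerNormalizer s (T s hs)) s) ?_ ?_ ?_ ?_
  · intro s hs
    obtain ⟨hc, -, -, hN⟩ := toggle_lower (hch s hs) (hT s hs)
    rw [hN, sign_toggle (hch s hs).1 hc.1]
    ring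
  · exact fun s hs _ => toggle_ne _ _
  · intro s hs
    obtain ⟨hc, hl, -, -⟩ := toggle_lower (hch s hs) (hT s hs)
    exact (hS _).mpr ⟨hc, not_isNormalChain_of_bad hc hl.1⟩
  · intro s hs
    obtain ⟨hc, hl, hR, -⟩ := toggle_lower (hch s hs) (hT s hs)
    have hmem := (hS _).mpr ⟨hc, not_isNormalChain_of_bad hc hl.1⟩
    rw [leastBad_unique (hT _ hmem) hl, hR]
    exact toggle_toggle _ _

/-! ### Chains stabilized by a given element -/

/-- The join of `⟨x⟩` with the members avoiding `x`. -/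
def xJoin (x : G) (s : Finset (Subgroup G)) : Subgroup G :=
  Subgroup.zpowers x ⊔ ⨆ Q ∈ s, ⨆ (_ : x ∉ Q), Q

omit [DecidableEq (Subgroup G)] [Fintype (Finset (Subgroup G))] [Fact p.Prime] [Finite G] in
theorem mem_xJoin_self (x : G) (s : Finset (Subgroup G)) : x ∈ xJoin x s :=
  Subgroup.mem_sup_left (Subgroup.mem_zpowers x)

theorem xJoin_toggle (x : G) (s : Finset (Subgroup G)) :
    xJoin x (toggle (xJoin x s) s) = xJoin x s := by
  refine le_antisymm ?_ ?_
  all_goals
    refine sup_le_sup le_rfl (iSup₂_le fun Q hQ => iSup_le fun hx => ?_)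
    have hne : Q ≠ xJoin x s := fun h => hx (h ▸ mem_xJoin_self x s)
    refine le_iSup₂_of_le Q ?_ (le_iSup_of_le hx le_rfl)
    first
      | exact (mem_toggle_of_ne hne).mp hQ
      | exact (mem_toggle_of_ne hne).mpr hQ

theorem xJoin_properties {x : G} {k : ℕ} (hx : orderOf x = p ^ k) (hx1 : x ≠ 1)
    {s : Finset (Subgroup G)} (hs : IsChainP p s) (hxs : x ∈ chainNormalizer s) :
    (xJoin x s ≠ ⊥ ∧ IsPGroup p (xJoin x s)) ∧ (∀ Q ∈ s, Q ≤ xJoin x s ∨ xJoin x s ≤ Q) ∧
      ∀ g ∈ chainNormalizer s ⊓ Subgroup.centralizer ({x} : Set G),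
        g ∈ Subgroup.normalizer ((xJoin x s : Subgroup G) : Set G) := by
  classical
  have hX : IsPGroup p (Subgroup.zpowers x) := isPGroup_zpowers_aux hx
  -- the join of the members avoiding `x` is trivial or a member
  have hsup : (⨆ Q ∈ s, ⨆ (_ : x ∉ Q), Q) = ⊥ ∨
      ((⨆ Q ∈ s, ⨆ (_ : x ∉ Q), Q) ∈ s ∧ x ∉ (⨆ Q ∈ s, ⨆ (_ : x ∉ Q), Q)) := by
    by_cases hA : (s.filter fun Q => x ∉ Q).Nonempty
    · obtain ⟨U, hU, hmax⟩ := (s.filter fun Q => x ∉ Q).exists_maximal hA
      obtain ⟨hUs, hxU⟩ := Finset.mem_filter.mp hU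
      have he : (⨆ Q ∈ s, ⨆ (_ : x ∉ Q), Q) = U := by
        refine le_antisymm (iSup₂_le fun Q hQ => iSup_le fun hxQ => ?_)
          (le_iSup₂_of_le U hUs (le_iSup_of_le hxU le_rfl))
        exact (hs.2.1 Q hQ U hUs).elim id fun h => hmax (Finset.mem_filter.mpr ⟨hQ, hxQ⟩) h
      right; rw [he]; exact ⟨hUs, hxU⟩
    · left
      refine le_bot_iff.mp (iSup₂_le fun Q hQ => iSup_le fun hxQ => ?_)
      exact absurd ⟨Q, Finset.mem_filter.mpr ⟨hQ, hxQ⟩⟩ hA
  refine ⟨⟨fun h => hx1 (Subgroup.mem_bot.mp (h ▸ mem_xJoin_self x s)), ?_⟩, fun Q hQ => ?_, ?_⟩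
  · rcases hsup with h | ⟨h, -⟩
    · rw [xJoin, h, sup_bot_eq]; exact hX
    · rw [xJoin, sup_comm]
      exact (hs.2.2 _ h).2.to_sup_of_normal_left' hX
        (Subgroup.zpowers_le.mpr (mem_chainNormalizer.mp hxs _ h))
  · by_cases hxQ : x ∈ Q
    · refine Or.inr (sup_le (Subgroup.zpowers_le.mpr hxQ) (iSup₂_le fun Q' hQ' => iSup_le fun h => ?_))
      exact (hs.2.1 Q' hQ' Q hQ).elim id fun h' => absurd (h' hxQ) h
    · exact Or.inl (le_sup_of_le_right (le_iSup₂_of_le Q hQ (le_iSup_of_le hxQ le_rfl)))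
  · intro g hg
    have h1 : g ∈ Subgroup.normalizer ((Subgroup.zpowers x : Subgroup G) : Set G) :=
      Subgroup.centralizer_le_normalizer _ (Subgroup.mem_centralizer_iff.mpr fun z hz => by
        obtain ⟨n, rfl⟩ := hz
        exact (Commute.zpow_left (Subgroup.mem_centralizer_singleton_iff.mp hg.2).symm n))
    have h2 : g ∈ Subgroup.normalizer ((⨆ Q ∈ s, ⨆ (_ : x ∉ Q), Q : Subgroup G) : Set G) := by
      rcases hsup with h | ⟨h, -⟩
      · rw [h, Subgroup.mem_normalizer_iff]
        intro y; simp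
      · exact mem_chainNormalizer.mp hg.1 _ h
    rw [Subgroup.mem_normalizer_iff_map_conj_eq] at h1 h2 ⊢
    rw [xJoin, Subgroup.map_sup, h1, h2]

/-- The chains stabilized by `x` cancel, except for `{⟨x⟩}`. -/
theorem sum_fixed (F : Subgroup G → ℤ) {x : G} {k : ℕ} (hx : orderOf x = p ^ k) (hx1 : x ≠ 1)
    (S : Finset (Finset (Subgroup G)))
    (hS : ∀ s, s ∈ S ↔ IsChainP p s ∧ x ∈ chainNormalizer s) :
    ∑ s ∈ S, sign s * F (chainNormalizer s ⊓ Subgroup.centralizer ({x} : Set G)) =
      F (Subgroup.centralizer ({x} : Set G)) := by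
  classical
  set X := Subgroup.zpowers x with hXdef
  have hX : IsPGroup p X := isPGroup_zpowers_aux hx
  have hNX : chainNormalizer ({X} : Finset (Subgroup G)) = Subgroup.normalizer (X : Set G) := by
    simp [chainNormalizer]
  have hmem : ({X} : Finset (Subgroup G)) ∈ S := by
    refine (hS _).mpr ⟨⟨Finset.singleton_nonempty X, fun Q hQ R hR => ?_, fun Q hQ => ?_⟩, ?_⟩
    · rw [Finset.mem_singleton] at hQ hR
      exact Or.inl (hQ.trans hR.symm).le
    · rw [Finset.mem_singleton] at hQ
      rw [hQ]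
      exact ⟨fun h => hx1 (Subgroup.zpowers_eq_bot.mp h), hX⟩
    · rw [hNX]; exact Subgroup.le_normalizer (Subgroup.mem_zpowers x)
  have hCN : Subgroup.centralizer ({x} : Set G) ≤ chainNormalizer ({X} : Finset (Subgroup G)) := by
    rw [hNX]
    refine le_trans (fun g hg => ?_) (Subgroup.centralizer_le_normalizer _)
    refine Subgroup.mem_centralizer_iff.mpr fun z hz => ?_
    obtain ⟨n, rfl⟩ := hz
    exact Commute.zpow_left (Subgroup.mem_centralizer_singleton_iff.mp hg).symm n
  rw [← Finset.add_sum_erase _ _ hmem, inf_eq_right.mpr hCN]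
  have hsgn : sign ({X} : Finset (Subgroup G)) = 1 := by simp [sign]
  rw [hsgn, one_mul, add_eq_left]
  have key : ∀ s ∈ S.erase {X}, toggle (xJoin x s) s ∈ S.erase {X} ∧
      chainNormalizer (toggle (xJoin x s) s) ⊓ Subgroup.centralizer ({x} : Set G) =
        chainNormalizer s ⊓ Subgroup.centralizer ({x} : Set G) := by
    intro s hs
    obtain ⟨hne, hsS⟩ := Finset.mem_erase.mp hs
    obtain ⟨hc, hxs⟩ := (hS s).mp hsS
    obtain ⟨hR, hcmp, hnorm⟩ := xJoin_properties hx hx1 hc hxs
    have hxC : x ∈ chainNormalizer s ⊓ Subgroup.centralizer ({x} : Set G) :=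
      ⟨hxs, Subgroup.mem_centralizer_singleton_iff.mpr rfl⟩
    have heX : ∀ t : Finset (Subgroup G), (∀ Q ∈ t, Q = xJoin x s) → (∀ Q ∈ s, Q ≠ xJoin x s → Q ∈ t) →
        xJoin x s = X := fun t h1 h2 => by
      have : (⨆ Q ∈ s, ⨆ (_ : x ∉ Q), Q) = ⊥ := le_bot_iff.mp (iSup₂_le fun Q hQ => iSup_le fun hxQ => by
        exfalso
        have hne' : Q ≠ xJoin x s := fun h => hxQ (h ▸ mem_xJoin_self x s)
        exact hne' (h1 Q (h2 Q hQ hne')))
      rw [xJoin, this, sup_bot_eq]
    have hne' : (toggle (xJoin x s) s).Nonempty := by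
      by_contra h
      rw [Finset.not_nonempty_iff_eq_empty] at h
      have hall : ∀ Q ∈ s, Q = xJoin x s := fun Q hQ => by_contra fun hq => by
        have := (mem_toggle_of_ne (s := s) hq).mpr hQ
        rw [h] at this
        exact Finset.notMem_empty _ this
      refine hne (Finset.eq_singleton_iff_nonempty_unique_mem.mpr ⟨hc.1, fun Q hQ => ?_⟩)
      rw [hall Q hQ]
      exact heX s hall fun Q hQ _ => hQ
    have hN : ∀ g, g ∈ Subgroup.centralizer ({x} : Set G) →
        (g ∈ chainNormalizer (toggle (xJoin x s) s) ↔ g ∈ chainNormalizer s) := by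
      intro g hgC
      constructor
      · intro hg
        by_cases hmemR : xJoin x s ∈ s
        · have hc' := isChainP_toggle hc hne' hR hcmp
          have hx' : x ∈ chainNormalizer (toggle (xJoin x s) s) := mem_chainNormalizer.mpr fun Q hQ => by
            by_cases h : Q = xJoin x s
            · rw [h]; exact Subgroup.le_normalizer (mem_xJoin_self x s)
            · exact mem_chainNormalizer.mp hxs Q ((mem_toggle_of_ne h).mp hQ)
          have hg' := (xJoin_properties hx hx1 hc' hx').2.2 g ⟨hg, hgC⟩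
          rw [xJoin_toggle] at hg'
          refine mem_chainNormalizer.mpr fun Q hQ => ?_
          by_cases h : Q = xJoin x s
          · rw [h]; exact hg'
          · exact mem_chainNormalizer.mp hg Q ((mem_toggle_of_ne h).mpr hQ)
        · exact mem_chainNormalizer.mpr fun Q hQ =>
            mem_chainNormalizer.mp hg Q ((mem_toggle_of_ne (by rintro rfl; exact hmemR hQ)).mpr hQ)
      · intro hg
        refine mem_chainNormalizer.mpr fun Q hQ => ?_
        by_cases h : Q = xJoin x s
        · rw [h]; exact hnorm g ⟨hg, hgC⟩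
        · exact mem_chainNormalizer.mp hg Q ((mem_toggle_of_ne h).mp hQ)
    refine ⟨Finset.mem_erase.mpr ⟨fun h => ?_, (hS _).mpr ⟨isChainP_toggle hc hne' hR hcmp,
      ((hN x hxC.2).mpr hxs)⟩⟩, Subgroup.ext fun g => ?_⟩
    · -- the toggled chain is not `{X}`
      have hR' : xJoin x s = X := by
        have h' := xJoin_toggle x s
        rw [h] at h'
        rw [← h', xJoin, sup_eq_left]
        exact iSup₂_le fun Q hQ => iSup_le fun hxQ => by
          rw [Finset.mem_singleton] at hQ
          exact absurd (hQ ▸ Subgroup.mem_zpowers x) hxQ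
      have := congrArg (toggle (xJoin x s)) h
      rw [toggle_toggle, hR'] at this
      refine hc.1.ne_empty ?_
      rw [this]
      simp [toggle]
    · simp only [Subgroup.mem_inf]
      exact ⟨fun h => ⟨(hN g h.2).mp h.1, h.2⟩, fun h => ⟨(hN g h.2).mpr h.1, h.2⟩⟩
  refine Finset.sum_involution (fun s _ => toggle (xJoin x s) s) ?_ ?_ ?_ ?_
  · intro s hs
    obtain ⟨h1, h2⟩ := key s hs
    rw [h2, sign_toggle ((hS s).mp (Finset.mem_of_mem_erase hs)).1.1
      ((hS _).mp (Finset.mem_of_mem_erase h1)).1.1]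
    ring
  · exact fun s _ _ => toggle_ne _ _
  · exact fun s hs => (key s hs).1
  · intro s _
    show toggle (xJoin x (toggle (xJoin x s) s)) (toggle (xJoin x s) s) = s
    rw [xJoin_toggle, toggle_toggle]

end Sums

end Cfsg.Agent.BlkChar.ChainPairing
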