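import Cfsg.Agent.BlkChar.PResidualChar
import Cfsg.Agent.OddChar.Twist
import Cfsg.Agent.Lib.CharCore.Complete
import Cfsg.Agent.Lib.CharClifford.Central
import Cfsg.Agent.Lib.BlocksCore.DefectZero

/-!
# Coprime action of a cyclic group: values of the canonical extension on a coset
-/

namespace Cfsg.Agent.BlkChar

open CharDeep.Ext (Inv avg detHom)

open scoped ComplexConjugate

universe u

variable {Γ : Type u} [Group Γ]

/-- The function `c ↦ f (c * x)` on a subgroup `C`. -/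
def fnAt (C : Subgroup Γ) (f : Γ → ℂ) (x : Γ) : C → ℂ := fun c => f ((c : Γ) * x)

section Coset

variable [Fintype Γ] (G : Subgroup Γ) [hG : G.Normal] [Fintype G] (C : Subgroup Γ) [Fintype C]
variable (x : Γ) (hC : C = G ⊓ Subgroup.centralizer ({x} : Set Γ))
  (hcop : (Nat.card G).Coprime (orderOf x))

omit [Fintype Γ] hG [Fintype G] [Fintype C] in
include hC in
theorem mem_fixed_iff {c : Γ} : c ∈ C ↔ c ∈ G ∧ c * x = x * c := by
  rw [hC, Subgroup.mem_inf, Subgroup.mem_centralizer_singleton_iff]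

omit hG [Fintype G] [Fintype C] in
include hC hcop in
theorem conj_fix {y : Γ} {c c' : C} (h : y * ((c : Γ) * x) * y⁻¹ = (c' : Γ) * x) :
    y * x * y⁻¹ = x ∧ y * (c : Γ) * y⁻¹ = c' := by
  obtain ⟨K, hK1, hK0⟩ := Nat.chineseRemainder hcop.symm 1 0
  have hpow : ∀ d : C, ((d : Γ) * x) ^ K = x := by
    intro d
    have hd := (mem_fixed_iff G C x hC).mp d.2
    have hdG : (d : Γ) ^ Nat.card G = 1 := by
      exact congrArg Subtype.val (pow_card_eq_one' (G := G) (x := ⟨(d : Γ), hd.1⟩))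
    rw [Commute.mul_pow hd.2, pow_eq_pow_iff_modEq.mpr (hK0.of_dvd (orderOf_dvd_of_pow_eq_one hdG)),
      pow_zero, one_mul, pow_eq_pow_iff_modEq.mpr hK1, pow_one]
  have hx : y * x * y⁻¹ = x := by
    have := congrArg (fun z => z ^ K) h
    simp only [conj_pow, hpow] at this
    exact this
  refine ⟨hx, ?_⟩
  have h2 : y * (c : Γ) * y⁻¹ * (y * x * y⁻¹) = (c' : Γ) * x := by rw [← h]; group
  rw [hx] at h2
  exact mul_right_cancel h2

include hC hcop in
/-- Averaging a class function over the coset `G x` reduces to `C x`. -/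
theorem sum_coset_eq {F : Γ → ℂ} (hF : IsClassFunction Γ F) :
    (Nat.card C : ℂ) * ∑ g : G, F ((g : Γ) * x) = (Nat.card G : ℂ) * ∑ c : C, F ((c : Γ) * x) := by
  classical
  have hmem : ∀ t : G, ∀ c : C, (t : Γ) * ((c : Γ) * x) * (t : Γ)⁻¹ * x⁻¹ ∈ G := by
    intro t c
    have hc := ((mem_fixed_iff G C x hC).mp c.2).1
    have : (t : Γ) * ((c : Γ) * x) * (t : Γ)⁻¹ * x⁻¹ = (t : Γ) * c * (x * (t : Γ)⁻¹ * x⁻¹) := by
      group
    rw [this]
    exact G.mul_mem (G.mul_mem t.2 hc) (hG.conj_mem _ (G.inv_mem t.2) x)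
  let Φ : G × C → G := fun p => ⟨(p.1 : Γ) * ((p.2 : Γ) * x) * (p.1 : Γ)⁻¹ * x⁻¹, hmem p.1 p.2⟩
  have hle : ∀ g : G, (Finset.univ.filter fun p => Φ p = g).card ≤ Fintype.card C := by
    intro g
    by_cases hne : (Finset.univ.filter fun p => Φ p = g).Nonempty
    swap
    · rw [Finset.not_nonempty_iff_eq_empty.mp hne, Finset.card_empty]; exact Nat.zero_le _
    obtain ⟨p₀, hp₀⟩ := hne
    simp only [Finset.mem_filter, Finset.mem_univ, true_and] at hp₀
    have key : ∀ p : G × C, Φ p = g → ((p₀.1 : Γ)⁻¹ * p.1) ∈ C ∧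
        ((p₀.1 : Γ)⁻¹ * p.1) * (p.2 : Γ) * ((p₀.1 : Γ)⁻¹ * p.1)⁻¹ = p₀.2 := by
      intro p hp
      have h1 : ((p₀.1 : Γ)⁻¹ * p.1) * ((p.2 : Γ) * x) * ((p₀.1 : Γ)⁻¹ * p.1)⁻¹ =
          (p₀.2 : Γ) * x := by
        have h2 : (p.1 : Γ) * ((p.2 : Γ) * x) * (p.1 : Γ)⁻¹ * x⁻¹ =
            (p₀.1 : Γ) * ((p₀.2 : Γ) * x) * (p₀.1 : Γ)⁻¹ * x⁻¹ :=
          congrArg Subtype.val (hp.trans hp₀.symm)
        have h3 := mul_right_cancel h2
        calc _ = (p₀.1 : Γ)⁻¹ * ((p.1 : Γ) * ((p.2 : Γ) * x) * (p.1 : Γ)⁻¹) * (p₀.1 : Γ) := by group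
          _ = _ := by rw [h3]; group
      obtain ⟨h4, h5⟩ := conj_fix G C x hC hcop h1
      refine ⟨(mem_fixed_iff G C x hC).mpr ⟨G.mul_mem (G.inv_mem p₀.1.2) p.1.2, ?_⟩, h5⟩
      exact eq_mul_inv_iff_mul_eq.mp (h4.trans rfl).symm |>.symm
    rw [← Finset.card_univ]
    refine Finset.card_le_card_of_injOn
      (fun p => if h : Φ p = g then (⟨(p₀.1 : Γ)⁻¹ * p.1, (key p h).1⟩ : C) else 1)
      (fun p _ => Finset.mem_coe.mpr (Finset.mem_univ _)) ?_
    intro p hp q hq hpq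
    simp only [Finset.coe_filter, Finset.mem_univ, true_and] at hp hq
    simp only [dif_pos (show Φ p = g from hp), dif_pos (show Φ q = g from hq)] at hpq
    have h1 : (p.1 : Γ) = q.1 := mul_left_cancel (congrArg Subtype.val hpq)
    have h2 := (key p hp).2.trans (key q hq).2.symm
    rw [h1] at h2
    exact Prod.ext (Subtype.ext h1) (Subtype.ext (mul_left_cancel (mul_right_cancel h2)))
  have hsum := Finset.card_eq_sum_card_fiberwise (f := Φ) (s := Finset.univ) (t := Finset.univ)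
    (fun p _ => Finset.mem_coe.mpr (Finset.mem_univ _))
  have heq : ∀ g : G, (Finset.univ.filter fun p => Φ p = g).card = Fintype.card C := by
    have h1 := (Finset.sum_eq_sum_iff_of_le (s := (Finset.univ : Finset G))
      (f := fun g => (Finset.univ.filter fun p => Φ p = g).card) (g := fun _ => Fintype.card C)
      (fun g _ => hle g)).mp (by
        rw [← hsum, Finset.card_univ, Fintype.card_prod, Finset.sum_const, Finset.card_univ,
          smul_eq_mul])
    exact fun g => h1 g (Finset.mem_univ g)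
  have hval : ∀ p : G × C, F ((Φ p : Γ) * x) = F ((p.2 : Γ) * x) := by
    intro p
    show F ((p.1 : Γ) * ((p.2 : Γ) * x) * (p.1 : Γ)⁻¹ * x⁻¹ * x) = _
    rw [inv_mul_cancel_right]
    exact hF _ _
  have e1 : ∑ p : G × C, F ((Φ p : Γ) * x) = (Nat.card C : ℂ) * ∑ g : G, F ((g : Γ) * x) := by
    rw [Finset.mul_sum, ← Finset.sum_fiberwise Finset.univ Φ fun p => F ((Φ p : Γ) * x)]
    refine Finset.sum_congr rfl fun g _ => ?_
    rw [Finset.sum_congr rfl (g := fun _ => F ((g : Γ) * x)) fun p hp => by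
      rw [(Finset.mem_filter.mp hp).2]]
    rw [Finset.sum_const, heq g, nsmul_eq_mul, Nat.card_eq_fintype_card]
  rw [← e1, Finset.sum_congr rfl fun p _ => hval p, Fintype.sum_prod_type]
  dsimp only
  rw [Finset.sum_const,
    Finset.card_univ, nsmul_eq_mul, Nat.card_eq_fintype_card]

omit hG [Fintype G] [Fintype C] [Fintype Γ] in
include hC in
theorem isClassFunction_fnAt {F : Γ → ℂ} (hF : IsClassFunction Γ F) :
    IsClassFunction C (fnAt C F x) := by
  intro g h
  have hh := ((mem_fixed_iff G C x hC).mp h.2).2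
  show F ((h : Γ) * g * (h : Γ)⁻¹ * x) = F ((g : Γ) * x)
  have : (h : Γ) * g * (h : Γ)⁻¹ * x = (h : Γ) * ((g : Γ) * x) * (h : Γ)⁻¹ := by
    have h1 : (h : Γ)⁻¹ * x = x * (h : Γ)⁻¹ := (Commute.inv_left hh).eq
    simp only [mul_assoc, h1]
  rw [this]
  exact hF _ _

include hC hcop in
/-- Inner products on `C x` of two functions reduce to averages over `G x`. -/
theorem classInner_fnAt {φ ψ : Γ → ℂ} (hφ : IsClassFunction Γ φ) (hψ : IsClassFunction Γ ψ) :
    classInner (fnAt C φ x) (fnAt C ψ x) = avg G (fun y => φ y * conj (ψ y)) x := by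
  have h := sum_coset_eq G C x hC hcop (F := fun y => φ y * conj (ψ y))
    (fun g t => by simp only [hφ g t, hψ g t])
  have h1 : (Nat.card C : ℂ) ≠ 0 := Nat.cast_ne_zero.mpr Nat.card_pos.ne'
  have h2 : (Nat.card G : ℂ) ≠ 0 := Nat.cast_ne_zero.mpr Nat.card_pos.ne'
  rw [CharDeep.Ext.avg_apply, classInner]
  simp only [fnAt]
  field_simp
  linear_combination -h

include hC hcop in
theorem fnAt_norm {χh : Γ → ℂ} (hχ : IsIrrCharacter Γ χh)
    (hres : IsIrrCharacter G (fun g : G => χh g)) :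
    classInner (fnAt C χh x) (fnAt C χh x) = 1 := by
  have hcl := CharCore.irr_isClassFunction (⟨χh, hχ⟩ : IrrCharacter Γ)
  rw [classInner_fnAt G C x hC hcop hcl hcl, CharDeep.Ext.avg_mul_conj_self hχ hres]
  rfl

include hC hcop in
theorem fnAt_orth {χh χh' : Γ → ℂ} (hχ : IsIrrCharacter Γ χh) (hχ' : IsIrrCharacter Γ χh')
    (h0 : classInner (fun g : G => χh g) (fun g : G => χh' g) = 0) :
    classInner (fnAt C χh x) (fnAt C χh' x) = 0 := by
  rw [classInner_fnAt G C x hC hcop (CharCore.irr_isClassFunction (⟨χh, hχ⟩ : IrrCharacter Γ))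
    (CharCore.irr_isClassFunction (⟨χh', hχ'⟩ : IrrCharacter Γ)),
    CharDeep.Ext.avg_mul_conj_eq_zero hχ' hχ h0]
  rfl

include hC hcop in
/-- If all coefficients on `C x` are rational integers, the function is plus or minus an irreducible
character of `C`. -/
theorem exists_sign {χh : Γ → ℂ} (hχ : IsIrrCharacter Γ χh)
    (hres : IsIrrCharacter G (fun g : G => χh g))
    (hint : ∀ β : IrrCharacter C, ∃ k : ℤ, classInner (fnAt C χh x) (β : C → ℂ) = k) :
    ∃ (β₀ : IrrCharacter C) (ε : ℤ), (ε = 1 ∨ ε = -1) ∧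
      ∀ c : C, χh ((c : Γ) * x) = (ε : ℂ) * (β₀ : C → ℂ) c := by
  classical
  have hcl := isClassFunction_fnAt G C x hC (CharCore.irr_isClassFunction (⟨χh, hχ⟩ : IrrCharacter Γ))
  choose k hk using hint
  have h := CharCore.classInner_eq_sum hcl hcl
  rw [fnAt_norm G C x hC hcop hχ hres] at h
  simp only [hk, map_intCast] at h
  have h' : (∑ β, k β * k β : ℤ) = 1 := by
    have := h.symm; exact_mod_cast this
  obtain ⟨β₀, hβ₀⟩ : ∃ β₀, k β₀ ≠ 0 := by
    by_contra hall; push Not at hall; simp [hall] at h'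
  rw [← Finset.add_sum_erase _ _ (Finset.mem_univ β₀)] at h'
  have h1 : 1 ≤ k β₀ * k β₀ := by
    have : 0 < k β₀ * k β₀ := mul_self_pos.mpr hβ₀
    omega
  have h2 : 0 ≤ ∑ β ∈ Finset.univ.erase β₀, k β * k β := Finset.sum_nonneg fun β _ => mul_self_nonneg _
  have hzero : ∀ β, β ≠ β₀ → k β = 0 := by
    intro β hβ
    have := (Finset.sum_eq_zero_iff_of_nonneg fun γ _ => mul_self_nonneg (k γ)).mp
      (show ∑ γ ∈ Finset.univ.erase β₀, k γ * k γ = 0 by omega) β
      (Finset.mem_erase.mpr ⟨hβ, Finset.mem_univ β⟩)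
    exact mul_self_eq_zero.mp this
  refine ⟨β₀, k β₀, mul_self_eq_one_iff.mp (by omega), fun c => ?_⟩
  have h3 := congrFun (CharCore.eq_sum_classInner hcl) c
  rw [Finset.sum_apply, Finset.sum_eq_single β₀ (fun β _ hβ => by simp [hk, hzero β hβ])
    (by simp), Pi.smul_apply, smul_eq_mul, hk] at h3
  exact h3

omit [Fintype Γ] in
theorem sign_unique {β γ : IrrCharacter C} {ε δ : ℤ} (hε : ε = 1 ∨ ε = -1) (hδ : δ = 1 ∨ δ = -1)
    (h : ∀ c : C, (ε : ℂ) * (β : C → ℂ) c = (δ : ℂ) * (γ : C → ℂ) c) : β = γ ∧ ε = δ := by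
  have h' : (ε : ℂ) • (β : C → ℂ) = (δ : ℂ) • (γ : C → ℂ) := funext h
  have hi := congrArg (fun f => classInner f (γ : C → ℂ)) h'
  simp only [CharCore.classInner_smul_left, CharCore.classInner_irr_self, mul_one] at hi
  have hβ : β = γ := by
    by_contra hne
    rw [CharCore.classInner_irr_of_ne hne, mul_zero] at hi
    rcases hδ with rfl | rfl <;> simp at hi
  refine ⟨hβ, ?_⟩
  rw [hβ, CharCore.classInner_irr_self, mul_one] at hi
  exact_mod_cast hi

omit hG [Fintype G] [Fintype C] in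
include hC hcop in
theorem eq_one_of_isConj {c : C} (h : IsConj ((c : Γ) * x) x) : (c : Γ) = 1 := by
  obtain ⟨y, hy⟩ := isConj_iff.mp h
  have h1 : y * ((c : Γ) * x) * y⁻¹ = ((1 : C) : Γ) * x := by
    rw [hy, OneMemClass.coe_one, one_mul]
  exact (conj_eq_one_iff).mp ((conj_fix G C x hC hcop h1).2.trans (OneMemClass.coe_one _))

omit [Fintype C] in
/-- An irreducible character with reducible restriction vanishes on a generating coset. -/
theorem vanish_of_reducible (hgen : G ⊔ Subgroup.zpowers x = ⊤) {ψ : Γ → ℂ}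
    (hψ : IsIrrCharacter Γ ψ) (hred : ¬ IsIrrCharacter G (fun g : G => ψ g))
    (hcyc : IsCyclic (Γ ⧸ G)) : ∀ g : G, ψ ((g : Γ) * x) = 0 := by
  classical
  letI : CommGroup (Γ ⧸ G) := IsCyclic.commGroup
  haveI := Fintype.ofFinite (Γ ⧸ G)
  haveI := Fintype.ofFinite ((Γ ⧸ G) →* ℂˣ)
  have hcl := CharCore.irr_isClassFunction (⟨ψ, hψ⟩ : IrrCharacter Γ)
  by_contra hcon
  push Not at hcon
  obtain ⟨g₀, hg₀⟩ := hcon
  apply hred
  rw [CharCore.isIrrCharacter_iff]
  refine ⟨CharCore.isCharacter_restrict (CharCore.IsIrrCharacter.isCharacter hψ) G, ?_⟩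
  have hfix : ∀ l : (Γ ⧸ G) →* ℂˣ,
      (fun y : Γ => ((l (QuotientGroup.mk y) : ℂˣ) : ℂ) * ψ y) = ψ → l = 1 := by
    intro l hl
    have h1 := congrFun hl ((g₀ : Γ) * x)
    simp only [QuotientGroup.mk_mul, (QuotientGroup.eq_one_iff _).mpr g₀.2, one_mul] at h1
    have h2 : l (QuotientGroup.mk x) = 1 := Units.ext (mul_right_cancel₀ hg₀ (h1.trans (one_mul _).symm))
    have hle : (⊤ : Subgroup Γ) ≤ (l.comp (QuotientGroup.mk' G)).ker := by
      rw [← hgen]
      refine sup_le (fun y hy => ?_) (Subgroup.zpowers_le.mpr h2)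
      show l (QuotientGroup.mk y) = 1
      rw [(QuotientGroup.eq_one_iff _).mpr hy, map_one]
    refine MonoidHom.ext fun q => ?_
    obtain ⟨y, rfl⟩ := QuotientGroup.mk'_surjective G q
    exact hle (Subgroup.mem_top y)
  have hsum : ∑ l : (Γ ⧸ G) →* ℂˣ,
      classInner (fun y : Γ => ((l (QuotientGroup.mk y) : ℂˣ) : ℂ) * ψ y) ψ =
      classInner (fun g : G => ψ g) (fun g : G => ψ g) := by
    simp only [classInner]
    rw [← Finset.mul_sum, Finset.sum_comm]
    have h1 : ∀ y : Γ, ∑ l : (Γ ⧸ G) →* ℂˣ,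
        ((l (QuotientGroup.mk y) : ℂˣ) : ℂ) * ψ y * conj (ψ y) =
        if y ∈ G then (Nat.card (Γ ⧸ G) : ℂ) * (ψ y * conj (ψ y)) else 0 := by
      intro y
      simp only [mul_assoc, ← Finset.sum_mul]
      split_ifs with hy
      · rw [(QuotientGroup.eq_one_iff _).mpr hy]
        simp only [map_one, Units.val_one, Finset.sum_const, Finset.card_univ, nsmul_eq_mul, mul_one,
          ← CommGroup.card_monoidHom_of_hasEnoughRootsOfUnity (Γ ⧸ G) ℂ, Nat.card_eq_fintype_card]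
      · obtain ⟨m, hm⟩ := CommGroup.exists_apply_ne_one_of_hasEnoughRootsOfUnity (Γ ⧸ G) ℂ
          (fun h => hy ((QuotientGroup.eq_one_iff y).mp h))
        have h0 : ∑ l : (Γ ⧸ G) →* ℂˣ, ((l (QuotientGroup.mk y) : ℂˣ) : ℂ) = 0 := by
          by_contra hne
          refine hm (Units.ext (mul_left_injective₀ hne ?_))
          simp only [Units.val_one, one_mul, Finset.mul_sum]
          exact Fintype.sum_equiv (Equiv.mulLeft m) _ _ fun l => by simp
        rw [h0, zero_mul]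
    rw [Finset.sum_congr rfl fun y _ => h1 y, ← Finset.sum_filter]
    rw [Finset.sum_subtype (Finset.univ.filter fun y : Γ => y ∈ G) (p := fun y => y ∈ G) (by simp)
      (fun y => (Nat.card (Γ ⧸ G) : ℂ) * (ψ y * conj (ψ y)))]
    rw [← Finset.mul_sum]
    have hcard : (Nat.card Γ : ℂ) = (Nat.card G : ℂ) * (Nat.card (Γ ⧸ G) : ℂ) := by
      rw [← Nat.cast_mul, ← Subgroup.index_eq_card, Subgroup.card_mul_index]
    have hq : (Nat.card (Γ ⧸ G) : ℂ) ≠ 0 := Nat.cast_ne_zero.mpr Nat.card_pos.ne'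
    rw [hcard]
    field_simp
  rw [← hsum, Finset.sum_eq_single 1]
  · have e : (fun y : Γ => (((1 : (Γ ⧸ G) →* ℂˣ) (QuotientGroup.mk y) : ℂˣ) : ℂ) * ψ y) = ψ := by
      funext y; simp
    rw [e]
    exact CharCore.classInner_irr_self (⟨ψ, hψ⟩ : IrrCharacter Γ)
  · intro l _ hl
    let ψ' : IrrCharacter Γ := ⟨_, CharCore.isIrrCharacter_hom_mul (l.comp (QuotientGroup.mk' G)) hψ⟩
    exact CharCore.classInner_irr_of_ne (χ := ψ') (ψ := ⟨ψ, hψ⟩)
      (fun h => hl (hfix l (congrArg Subtype.val h)))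
  · simp

end Coset

section Invariance

variable [Fintype Γ] (G S : Subgroup Γ) [hG : G.Normal] [Fintype G]
  (hcop : (Nat.card G).Coprime (Nat.card S)) (htop : G ⊔ S = ⊤)

omit [Fintype Γ] [Fintype G] in
include htop in
theorem index_dvd_card : G.index ∣ Nat.card S := by
  rw [← Subgroup.relIndex_top_right, ← htop, sup_comm, Subgroup.relIndex_sup_right]
  exact Subgroup.relIndex_dvd_card G S

omit [Fintype Γ] [Fintype G] in
include htop in
theorem inv_of_forall {χ : G → ℂ} (hcl : IsClassFunction G χ)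
    (h : ∀ s ∈ S, ∀ g g' : G, (g' : Γ) = s * g * s⁻¹ → χ g' = χ g) : Inv G χ := by
  have hle : (⊤ : Subgroup Γ) ≤ CharDeep.Ext.inertia G χ := by
    rw [← htop]
    exact sup_le (CharDeep.Ext.le_inertia _ hcl) fun s hs => funext fun g => h s hs g _ rfl
  exact fun y n => congrFun (hle (Subgroup.mem_top y)) n

include hcop htop in
/-- Existence and uniqueness of the canonical extension. -/
theorem exists_canonical (χ : IrrCharacter G)
    (hinv : ∀ s ∈ S, ∀ g g' : G, (g' : Γ) = s * g * s⁻¹ → (χ : G → ℂ) g' = (χ : G → ℂ) g) :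
    ∃ χh : Γ → ℂ, (IsIrrCharacter Γ χh ∧ (∀ g : G, χh g = (χ : G → ℂ) g) ∧
      (detOrder χh).Coprime (Nat.card S)) ∧
      ∀ χ' : Γ → ℂ, IsIrrCharacter Γ χ' → (∀ g : G, χ' g = (χ : G → ℂ) g) →
        (detOrder χ').Coprime G.index → χ' = χh := by
  obtain ⟨d, hd0, hd1, hdd⟩ := exists_degree' χ
  have hdvd : d ∣ Nat.card G := hdd ▸ BlocksCore.charDegree_dvd_card χ
  have ho : detOrder (χ : G → ℂ) ∣ Nat.card G := by
    rw [CharDeep.Ext.detOrder_eq]
    refine orderOf_dvd_of_pow_eq_one (MonoidHom.ext fun g => ?_)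
    rw [MonoidHom.pow_apply, ← map_pow, pow_card_eq_one', map_one, MonoidHom.one_apply]
  have hS : ∀ m, m ∣ Nat.card G → Nat.Coprime G.index m := fun m hm =>
    (hcop.symm.coprime_dvd_left (index_dvd_card G S htop)).coprime_dvd_right hm
  obtain ⟨χh, ⟨h1, h2, h3⟩, h4⟩ := CharDeep.Ext.exists_ext_detOrder G χ.2
    (inv_of_forall G S htop (CharCore.irr_isClassFunction χ) hinv) hd1
    (Nat.Coprime.mul_right (hS _ ho) (hS _ hdvd))
  refine ⟨χh, ⟨h1, h2, ?_⟩, fun χ' a b c => h4 χ' a b c.symm⟩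
  rw [h3]
  exact hcop.coprime_dvd_left ho

theorem detHom_map_pow {χh χ' : Γ → ℂ} (hχ : IsCharacter Γ χh) (hχ' : IsCharacter Γ χ') {m : ℕ}
    (h : ∀ y, χ' y = χh (y ^ m)) : detHom χ' = detHom χh ^ m := by
  obtain ⟨a, ρ, rfl⟩ := hχ
  obtain ⟨b, σ, rfl⟩ := hχ'
  rw [CharDeep.Ext.detHom_eq, CharDeep.Ext.detHom_eq]
  refine MonoidHom.ext fun y => Units.ext ?_
  have hn : Nat.card Γ ≠ 0 := Nat.card_pos.ne'
  obtain ⟨bρ, μ, hμ, hev, hsum⟩ := CharClifford.exists_eigenvalues ρ y hn pow_card_eq_one'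
  obtain ⟨bσ, ν, hν, hev', hsum'⟩ := CharClifford.exists_eigenvalues σ y hn pow_card_eq_one'
  rw [MonoidHom.pow_apply, Units.val_pow_eq_pow_val]
  show LinearMap.det (σ y) = LinearMap.det (ρ y) ^ m
  rw [CharDeep.Ext.det_eq_prod_eigen bσ ν _ hev', CharDeep.Ext.det_eq_prod_eigen bρ μ _ hev,
    ← Finset.prod_pow]
  refine CharDeep.Ext.prod_eq_of_power_sums ν (fun i => μ i ^ m) (Nat.pos_of_ne_zero hn) hν
    (fun i => by rw [← pow_mul, mul_comm, pow_mul, hμ i, one_pow]) fun k => ?_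
  rw [← hsum' k, h, ← pow_mul, mul_comm k m, hsum]
  exact Finset.sum_congr rfl fun i _ => by rw [pow_mul]

include hcop htop in
/-- The canonical extension is invariant under the power maps fixing `G` pointwise. -/
theorem canonical_pow {χh : Γ → ℂ} (hχ : IsIrrCharacter Γ χh)
    (hres : IsIrrCharacter G (fun g : G => χh g)) (hdet : (detOrder χh).Coprime (Nat.card S))
    {m : ℕ} (hm : m.Coprime (Nat.card Γ)) (hm1 : m ≡ 1 [MOD Nat.card G]) (y : Γ) :
    χh (y ^ m) = χh y := by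
  obtain ⟨σ, hσ⟩ := CharClifford.exists_ringHom_map_isCharacter (G := Γ) hm
  have hc := CharCore.IsIrrCharacter.isCharacter hχ
  have h1 : IsIrrCharacter Γ (fun z => σ (χh z)) := OddChar.isIrrCharacter_map σ hχ
  have hpow : ∀ z, σ (χh z) = χh (z ^ m) := fun z => hσ χh hc z
  let χ : IrrCharacter G := ⟨_, hres⟩
  have hinv : ∀ s ∈ S, ∀ g g' : G, (g' : Γ) = s * g * s⁻¹ → (χ : G → ℂ) g' = (χ : G → ℂ) g := by
    intro s _ g g' e
    show χh (g' : Γ) = χh (g : Γ)
    rw [e]; exact CharCore.IsCharacter.isClassFunction hc _ _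
  obtain ⟨χ₀, -, hu⟩ := exists_canonical G S hcop htop χ hinv
  have hi : (detOrder χh).Coprime G.index :=
    hdet.coprime_dvd_right (index_dvd_card G S htop)
  have e0 := hu χh hχ (fun g => rfl) hi
  have e1 : (fun z => σ (χh z)) = χ₀ := by
    refine hu _ h1 (fun g => ?_) ?_
    · show σ (χh g) = χh g
      rw [hpow]
      congr 1
      have hg : (g : Γ) ^ Nat.card G = 1 := by
        rw [← SubmonoidClass.coe_pow, pow_card_eq_one', OneMemClass.coe_one]
      conv_rhs => rw [← pow_one (g : Γ)]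
      exact pow_eq_pow_iff_modEq.mpr (hm1.of_dvd (orderOf_dvd_of_pow_eq_one hg))
    · rw [CharDeep.Ext.detOrder_eq, detHom_map_pow hc (CharCore.IsIrrCharacter.isCharacter h1) hpow]
      refine hi.coprime_dvd_left ?_
      rw [CharDeep.Ext.detOrder_eq]
      exact orderOf_pow_dvd m
  rw [← hpow]
  exact congrFun (e1.trans e0.symm) y

variable (C : Subgroup Γ) [Fintype C] (hCG : C ≤ G)
  (hCS : ∀ c ∈ C, ∀ x ∈ S, c * x = x * c) (hSab : ∀ a ∈ S, ∀ b ∈ S, a * b = b * a)

/-- The multiplicity function of `β` along `S`. -/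
noncomputable def mult (χh : Γ → ℂ) (β : C → ℂ) : S → ℂ := fun x => classInner (fnAt C χh x) β

omit [Fintype G] hG in
include hCS hSab in
theorem isCharacter_mult {χh : Γ → ℂ} (hχ : IsCharacter Γ χh) {β : C → ℂ}
    (hβ : IsCharacter C β) : IsCharacter S (mult S C χh β) := by
  classical
  haveI := Fintype.ofFinite S
  let ι : C × S →* Γ :=
    { toFun := fun q => (q.1 : Γ) * q.2
      map_one' := by simp
      map_mul' := fun a b => by
        simp only [Prod.fst_mul, Prod.snd_mul, Subgroup.coe_mul]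
        rw [mul_assoc, ← mul_assoc (b.1 : Γ), hCS b.1 b.1.2 a.2 a.2.2]
        simp only [mul_assoc] }
  rw [CharCore.isCharacter_iff_classInner]
  refine ⟨fun g h => ?_, fun l => ?_⟩
  · have : h * g * h⁻¹ = g := by
      rw [Subtype.ext (hSab h h.2 g g.2) (a1 := h * g) (a2 := g * h)]
      simp
    rw [this]
  obtain ⟨k, hk⟩ := CharCore.IsCharacter.exists_classInner_eq_natCast
    (CharCore.isCharacter_comp hχ ι)
    (CharCore.isCharacter_mul (CharCore.isCharacter_comp hβ (MonoidHom.fst C S))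
      (CharCore.isCharacter_comp (CharCore.irr_isCharacter l) (MonoidHom.snd C S)))
  refine ⟨k, Eq.trans ?_ hk⟩
  simp only [classInner, mult, fnAt, Nat.card_prod, Nat.cast_mul, mul_inv, Finset.mul_sum,
    Fintype.sum_prod_type, Finset.sum_mul]
  rw [Finset.sum_comm]
  refine Finset.sum_congr rfl fun c _ => Finset.sum_congr rfl fun x _ => ?_
  simp [ι]
  ring

include hcop htop hCG hCS in
/-- The values on `C x` do not change if `x` is replaced by another generator of `⟨x⟩`. -/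
theorem apply_pow {χh : Γ → ℂ} (hχ : IsIrrCharacter Γ χh)
    (hres : IsIrrCharacter G (fun g : G => χh g)) (hdet : (detOrder χh).Coprime (Nat.card S))
    (c : C) (x : S) {k : ℕ} (hk : k.Coprime (Nat.card S)) :
    χh ((c : Γ) * ((x ^ k : S) : Γ)) = χh ((c : Γ) * x) := by
  obtain ⟨m, hmk, hm1⟩ := Nat.chineseRemainder hcop.symm k 1
  have hmΓ : m.Coprime (Nat.card Γ) := by
    rw [← G.card_mul_index]
    refine Nat.Coprime.mul_right ?_ (Nat.Coprime.coprime_dvd_right (index_dvd_card G S htop) ?_)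
    · exact (Nat.ModEq.gcd_eq hm1).trans (Nat.gcd_one_left _)
    · exact (Nat.ModEq.gcd_eq hmk).trans hk
  have hxk : (x : Γ) ^ k = (x : Γ) ^ m := by
    have hx : (x : Γ) ^ Nat.card S = 1 := by
      rw [← SubmonoidClass.coe_pow, pow_card_eq_one', OneMemClass.coe_one]
    exact pow_eq_pow_iff_modEq.mpr ((hmk.symm).of_dvd (orderOf_dvd_of_pow_eq_one hx))
  have hc : (c : Γ) ^ m = c := by
    have hg : (c : Γ) ^ Nat.card G = 1 := by
      exact congrArg Subtype.val (pow_card_eq_one' (G := G) (x := ⟨(c : Γ), hCG c.2⟩))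
    conv_rhs => rw [← pow_one (c : Γ)]
    exact pow_eq_pow_iff_modEq.mpr (hm1.of_dvd (orderOf_dvd_of_pow_eq_one hg))
  rw [SubmonoidClass.coe_pow, hxk]
  conv_lhs => rw [← hc, ← Commute.mul_pow (hCS c c.2 x x.2)]
  exact canonical_pow G S hcop htop hχ hres hdet hmΓ hm1 _

include hcop htop hCG hCS in
theorem mult_pow {χh : Γ → ℂ} (hχ : IsIrrCharacter Γ χh)
    (hres : IsIrrCharacter G (fun g : G => χh g)) (hdet : (detOrder χh).Coprime (Nat.card S))
    (β : C → ℂ) (x : S) {k : ℕ} (hk : k.Coprime (Nat.card S)) :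
    mult S C χh β (x ^ k) = mult S C χh β x :=
  congrArg (fun f => classInner f β)
    (funext fun c => apply_pow G S hcop htop C hCG hCS hχ hres hdet c x hk)

include hcop htop hCG hCS hSab in
theorem mult_isInt {χh : Γ → ℂ} (hχ : IsIrrCharacter Γ χh)
    (hres : IsIrrCharacter G (fun g : G => χh g)) (hdet : (detOrder χh).Coprime (Nat.card S))
    (β : IrrCharacter C) (x : S) : ∃ k : ℤ, mult S C χh (β : C → ℂ) x = k := by
  have hc := isCharacter_mult S C hCS hSab (CharCore.IsIrrCharacter.isCharacter hχ)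
    (CharCore.irr_isCharacter β)
  refine CharClifford.exists_int_of_fixed (CharCore.IsCharacter.isIntegral hc x) fun σ => ?_
  obtain ⟨m, hm, hσ⟩ := CharClifford.exists_coprime_map_isCharacter hc σ
  rw [hσ, mult_pow G S hcop htop C hCG hCS hχ hres hdet _ _ hm]

theorem mult_one (χh : Γ → ℂ) (β : C → ℂ) :
    mult S C χh β 1 = classInner (fun c : C => χh c) β := by
  unfold mult fnAt
  simp

include hcop htop hCG hCS hSab in
/-- On `C x` the canonical extension is plus or minus an irreducible character. -/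
theorem exists_value {χh : Γ → ℂ} (hχ : IsIrrCharacter Γ χh)
    (hres : IsIrrCharacter G (fun g : G => χh g)) (hdet : (detOrder χh).Coprime (Nat.card S))
    (x : S) (hCx : C = G ⊓ Subgroup.centralizer ({(x : Γ)} : Set Γ)) :
    ∃ (β₀ : IrrCharacter C) (ε : ℤ), (ε = 1 ∨ ε = -1) ∧
      ∀ c : C, χh ((c : Γ) * x) = (ε : ℂ) * (β₀ : C → ℂ) c := by
  have hox : orderOf (x : Γ) ∣ Nat.card S := by
    rw [Subgroup.orderOf_coe]; exact orderOf_dvd_natCard x
  exact exists_sign G C (x : Γ) hCx (hcop.coprime_dvd_right hox) hχ hres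
    fun β => mult_isInt G S hcop htop C hCG hCS hSab hχ hres hdet β x

end Invariance

end Cfsg.Agent.BlkChar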