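import Cfsg.Agent.BlkChar.PResidualChar
import Cfsg.Agent.Lib.CharCore.Linear
import Cfsg.Agent.Lib.CharClifford.Galois
import Cfsg.Agent.Lib.Transfer.Abelian
import Cfsg.Agent.OddChar.Twist
import Cfsg.Agent.Lib.BlocksCore.DefectZero
import Mathlib.GroupTheory.SchurZassenhaus

/-!
# Linear groups of degree less than `p - 1`: abelian Hall subgroups for large primes
-/

namespace Cfsg.Agent.BlkChar

open scoped ComplexConjugate commutatorElement

universe u

section Constituents

variable {G : Type u} [Group G] [Fintype G] {χ : G → ℂ}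

theorem eq_one_of_constituents (hχ : IsCharacter G χ) (hfaith : ∀ g : G, χ g = χ 1 → g = 1) {g : G}
    (h : ∀ ξ : IrrCharacter G, classInner χ (ξ : G → ℂ) ≠ 0 → (ξ : G → ℂ) g = (ξ : G → ℂ) 1) :
    g = 1 := by
  refine hfaith g ?_
  rw [CharCore.IsCharacter.eq_sum_classInner hχ]
  simp only [Finset.sum_apply, Pi.smul_apply, smul_eq_mul]
  refine Finset.sum_congr rfl fun ξ _ => ?_
  by_cases h0 : classInner χ (ξ : G → ℂ) = 0
  · rw [h0, zero_mul, zero_mul]
  · rw [h ξ h0]

theorem degree_le_of_constituent (hχ : IsCharacter G χ) {n : ℕ} (hn : χ 1 = n) (ξ : IrrCharacter G)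
    (h : classInner χ (ξ : G → ℂ) ≠ 0) : charDegree (ξ : G → ℂ) ≤ n := by
  classical
  choose m hm using fun ψ => CharCore.IsCharacter.exists_classInner_irr_eq_natCast hχ ψ
  choose d hd0 hd1 hdd using fun ψ : IrrCharacter G => exists_degree' ψ
  have h1 := congrFun (CharCore.IsCharacter.eq_sum_classInner hχ) 1
  simp only [Finset.sum_apply, Pi.smul_apply, smul_eq_mul, hm, hd1, hn] at h1
  have h2 : n = ∑ ψ, m ψ * d ψ := by exact_mod_cast h1
  have hmξ : m ξ ≠ 0 := fun h0 => h (by rw [hm, h0, Nat.cast_zero])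
  rw [hdd, h2]
  exact le_trans (Nat.le_mul_of_pos_left _ (Nat.pos_of_ne_zero hmξ))
    (Finset.single_le_sum (f := fun ψ => m ψ * d ψ) (fun _ _ => Nat.zero_le _) (Finset.mem_univ ξ))

omit [Fintype G] in
theorem isMulCommutative_of_forall {H : Subgroup G} (h : ∀ x ∈ H, ∀ y ∈ H, x * y = y * x) :
    IsMulCommutative H :=
  ⟨⟨fun a b => Subtype.ext (h a a.2 b b.2)⟩⟩

/-- A linear group all of whose prime divisors exceed the degree is abelian. -/
theorem commute_of_primes_gt (hχ : IsCharacter G χ) (hfaith : ∀ g : G, χ g = χ 1 → g = 1) {n : ℕ}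
    (hn : χ 1 = n) (hpr : ∀ q : ℕ, q.Prime → q ∣ Nat.card G → n < q) (x y : G) :
    x * y = y * x := by
  refine commutatorElement_eq_one_iff_mul_comm.mp (eq_one_of_constituents hχ hfaith fun ξ hξ => ?_)
  have hle := degree_le_of_constituent hχ hn ξ hξ
  obtain ⟨d, hd0, hd1, hdd⟩ := exists_degree' ξ
  have hd : d = 1 := by
    by_contra hne
    have hq := Nat.minFac_prime hne
    have h1 := hpr _ hq ((Nat.minFac_dvd d).trans (hdd ▸ BlocksCore.charDegree_dvd_card ξ))
    have h2 := Nat.minFac_le hd0
    omega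
  rw [hd, Nat.cast_one] at hd1
  obtain ⟨f, hf⟩ := CharCore.IsCharacter.exists_hom_of_degree_one (CharCore.irr_isCharacter ξ) hd1
  rw [hf]
  simp only [map_commutatorElement, map_one]
  rw [commutatorElement_eq_one_iff_mul_comm.mpr (mul_comm _ _)]

/-- Characters of degree below `p - 1` constant on the generators of subgroups of order `p`. -/
theorem apply_eq_degree_of_rational {p : ℕ} (hp : p.Prime) {ψ : G → ℂ} (hψ : IsCharacter G ψ)
    {d : ℕ} (hd : ψ 1 = d) (hdp : d + 1 < p) {x : G} (hx : orderOf x = p)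
    (hconst : ∀ a : ℕ, ¬ p ∣ a → ψ (x ^ a) = ψ x) : ψ x = ψ 1 := by
  classical
  haveI := Fact.mk hp
  obtain ⟨m, ρ, rfl⟩ := hψ
  obtain ⟨b, μ, hμ, -, h⟩ :=
    CharClifford.exists_eigenvalues ρ x hp.ne_zero (hx ▸ pow_orderOf_eq_one x)
  have hcard : ∀ i, ∑ a ∈ Finset.range p, μ i ^ a = if μ i = 1 then (p : ℂ) else 0 := by
    intro i
    split_ifs with h1
    · simp [h1]
    · rw [geom_sum_eq h1, hμ i, sub_self, zero_div]
  have hd' : d = Module.finrank ℂ (Fin m → ℂ) := by
    rw [Representation.char_one] at hd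
    exact_mod_cast hd.symm
  set k := (Finset.univ.filter fun i => μ i = 1).card with hk
  have hkd : k ≤ d := by
    rw [hd', hk]
    exact (Finset.card_filter_le _ _).trans_eq (by simp)
  have hsum : ∑ a ∈ Finset.range p, ρ.character (x ^ a) = (k : ℂ) * p := by
    simp only [h]
    rw [Finset.sum_comm, Finset.sum_congr rfl fun i _ => hcard i, ← Finset.sum_filter,
      Finset.sum_const, nsmul_eq_mul]
  rw [← Finset.add_sum_erase _ _ (Finset.mem_range.mpr hp.pos), pow_zero, hd,
    Finset.sum_congr rfl (fun a ha => hconst a fun hdvd => by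
      obtain ⟨ha0, hap⟩ := Finset.mem_erase.mp ha
      exact (Nat.not_lt.mpr (Nat.le_of_dvd (Nat.pos_of_ne_zero ha0) hdvd)) (Finset.mem_range.mp hap)),
    Finset.sum_const, Finset.card_erase_of_mem (Finset.mem_range.mpr hp.pos), Finset.card_range,
    nsmul_eq_mul, Nat.cast_sub hp.one_le, Nat.cast_one] at hsum
  have hq : ((p : ℂ) - 1) ≠ 0 := by
    rw [sub_ne_zero]; exact_mod_cast hp.ne_one
  obtain ⟨a, ha⟩ := CharClifford.exists_int_of_fixed
    (CharCore.IsCharacter.isIntegral ⟨m, ρ, rfl⟩ x) fun σ => by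
      rw [show ρ.character x = ((k : ℂ) * p - d) / ((p : ℂ) - 1) by
        rw [eq_div_iff hq]; linear_combination hsum]
      simp
  rw [ha] at hsum
  have h1 : (d : ℤ) + ((p : ℤ) - 1) * a = k * p := by exact_mod_cast hsum
  have h2 : ((p : ℤ) - 1) ∣ (d : ℤ) - k := ⟨(k : ℤ) - a, by linear_combination h1⟩
  have h3 : (d : ℤ) - k = 0 := by
    refine Int.eq_zero_of_dvd_of_natAbs_lt_natAbs h2 ?_
    omega
  have h4 : a = d := by
    have h5 : ((p : ℤ) - 1) * (a - d) = 0 := by linear_combination h1 - (p : ℤ) * h3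
    rcases mul_eq_zero.mp h5 with h6 | h6
    · have := hp.one_lt; omega
    · omega
  rw [hd, ha, h4]
  simp

end Constituents

/-- Two primes exceeding `n + 1` and dividing the order of a linear group of degree `n` are the orders
of two commuting elements. -/
theorem exists_commute_of_primes {G : Type u} [Group G] [Fintype G] {χ : G → ℂ}
    (hχ : IsCharacter G χ) (hfaith : ∀ g : G, χ g = χ 1 → g = 1) {n : ℕ} (hn : χ 1 = n)
    {p q : ℕ} (hp : p.Prime) (hq : q.Prime) (hpq : p ≠ q) (hpn : n + 1 < p) (hqn : n + 1 < q)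
    (hpG : p ∣ Nat.card G) (hqG : q ∣ Nat.card G) :
    ∃ x y : G, orderOf x = p ∧ orderOf y = q ∧ x * y = y * x := by
  classical
  haveI := Fact.mk hp
  haveI := Fact.mk hq
  obtain ⟨x, hx⟩ := exists_prime_orderOf_dvd_card' p hpG
  obtain ⟨y, hy⟩ := exists_prime_orderOf_dvd_card' q hqG
  by_contra hno
  push Not at hno
  have hnopq : ∀ g : G, p ∣ orderOf g → q ∣ orderOf g → False := by
    intro g h1 h2
    refine hno (g ^ (orderOf g / p)) (g ^ (orderOf g / q)) ?_ ?_ ((Commute.refl g).pow_pow _ _)
    · exact orderOf_pow_orderOf_div (orderOf_pos g).ne' h1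
    · exact orderOf_pow_orderOf_div (orderOf_pos g).ne' h2
  refine hno x y hx hy (commutatorElement_eq_one_iff_mul_comm.mp
    (eq_one_of_constituents hχ hfaith fun ξ hξ => ?_))
  have hle := degree_le_of_constituent hχ hn ξ hξ
  obtain ⟨d, hd0, hd1, hdd⟩ := exists_degree' ξ
  have hc := CharCore.irr_isCharacter ξ
  -- the twists
  have hmk : ∀ (r : ℕ), r.Prime → ∀ (a : ℕ), ¬ r ∣ a → ∃ m : ℕ, m.Coprime (Nat.card G) ∧
      (∀ g : G, ¬ r ∣ orderOf g → g ^ m = g) ∧ ∀ z : G, orderOf z = r → z ^ m = z ^ a := by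
    intro r hr a ha
    have hN : Nat.card G ≠ 0 := Nat.card_pos.ne'
    by_cases hrG : r ∣ Nat.card G
    swap
    · exact ⟨1, Nat.coprime_one_left _, fun g _ => pow_one g,
        fun z hz => absurd (hz ▸ orderOf_dvd_natCard z) hrG⟩
    have hco : (r ^ (Nat.card G).factorization r).Coprime (ordCompl[r] (Nat.card G)) :=
      Nat.Coprime.pow_left _ (Nat.coprime_ordCompl hr hN)
    obtain ⟨m, hm1, hm2⟩ := Nat.chineseRemainder hco a 1
    refine ⟨m, ?_, fun g hg => ?_, fun z hz => ?_⟩
    · rw [← Nat.ordProj_mul_ordCompl_eq_self (Nat.card G) r]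
      refine Nat.Coprime.mul_right ((Nat.ModEq.gcd_eq hm1).trans ?_) ?_
      · exact Nat.Coprime.pow_right _ (hr.coprime_iff_not_dvd.mpr ha).symm
      · exact (Nat.ModEq.gcd_eq hm2).trans (Nat.gcd_one_left _)
    · conv_rhs => rw [← pow_one g]
      refine pow_eq_pow_iff_modEq.mpr (hm2.of_dvd ?_)
      refine ((hr.coprime_iff_not_dvd.mpr hg).symm.pow_right
        ((Nat.card G).factorization r)).dvd_of_dvd_mul_left ?_
      rw [Nat.ordProj_mul_ordCompl_eq_self]
      exact orderOf_dvd_natCard g
    · refine pow_eq_pow_iff_modEq.mpr (hm1.of_dvd ?_)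
      rw [hz]
      exact dvd_pow_self r (hr.factorization_pos_of_dvd hN hrG).ne'
  have hint : ∀ m : ℕ, m.Coprime (Nat.card G) → IsIrrCharacter G (fun g => (ξ : G → ℂ) (g ^ m)) := by
    intro m hm
    obtain ⟨σ, hσ⟩ := CharClifford.exists_ringHom_map_isCharacter (G := G) hm
    rw [show (fun g => (ξ : G → ℂ) (g ^ m)) = fun g => σ ((ξ : G → ℂ) g) from
      funext fun g => (hσ _ hc g).symm]
    exact OddChar.isIrrCharacter_map σ ξ.2
  have key : (∀ a : ℕ, ¬ p ∣ a → (ξ : G → ℂ) (x ^ a) = (ξ : G → ℂ) x) ∨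
      (∀ a : ℕ, ¬ q ∣ a → (ξ : G → ℂ) (y ^ a) = (ξ : G → ℂ) y) := by
    by_contra hcon
    push Not at hcon
    obtain ⟨⟨a, ha, hxa⟩, c, hcq, hyc⟩ := hcon
    obtain ⟨m, hm, hmreg, hmx⟩ := hmk p hp a ha
    obtain ⟨k, hk, hkreg, hky⟩ := hmk q hq c hcq
    let ξ₁ : IrrCharacter G := ⟨_, hint m hm⟩
    let ξ₂ : IrrCharacter G := ⟨_, hint k hk⟩
    have h1 : ξ₁ ≠ ξ := fun h => hxa (by
      have := congrFun (congrArg Subtype.val h) x
      simp only [ξ₁, hmx x hx] at this
      exact this)
    have h2 : ξ₂ ≠ ξ := fun h => hyc (by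
      have := congrFun (congrArg Subtype.val h) y
      simp only [ξ₂, hky y hy] at this
      exact this)
    have h0 : classInner ((ξ₁ : G → ℂ) - (ξ : G → ℂ)) ((ξ₂ : G → ℂ) - (ξ : G → ℂ)) = 0 := by
      rw [CharCore.classInner_def]
      refine mul_eq_zero_of_right _ (Finset.sum_eq_zero fun g _ => ?_)
      by_cases hgp : p ∣ orderOf g
      · simp [ξ₂, hkreg g (fun h => hnopq g hgp h)]
      · simp [ξ₁, hmreg g hgp]
    rw [CharCore.classInner_sub_left, CharCore.classInner_sub_right, CharCore.classInner_sub_right,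
      CharCore.classInner_irr_of_ne h1, CharCore.classInner_irr_of_ne h2.symm,
      CharCore.classInner_irr_self] at h0
    by_cases h12 : ξ₁ = ξ₂
    · rw [h12, CharCore.classInner_irr_self] at h0; norm_num at h0
    · rw [CharCore.classInner_irr_of_ne h12] at h0; norm_num at h0
  let K := CharCore.charKernel hc
  haveI : K.Normal := CharCore.charKernel_normal hc
  rw [← CharCore.mem_charKernel hc]
  change ⁅x, y⁆ ∈ K
  rw [hdd] at hle
  rcases key with h | h
  · have hxK : x ∈ K := apply_eq_degree_of_rational hp hc hd1 (by omega) hx h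
    have he : ⁅x, y⁆ = x * (y * x⁻¹ * y⁻¹) := by rw [commutatorElement_def]; group
    rw [he]
    exact K.mul_mem hxK (Subgroup.Normal.conj_mem inferInstance _ (K.inv_mem hxK) y)
  · have hyK : y ∈ K := apply_eq_degree_of_rational hq hc hd1 (by omega) hy h
    have he : ⁅x, y⁆ = (x * y * x⁻¹) * y⁻¹ := by rw [commutatorElement_def]
    rw [he]
    exact K.mul_mem (Subgroup.Normal.conj_mem inferInstance _ hyK x) (K.inv_mem hyK)

theorem exists_sylow_le {G : Type u} [Group G] [Finite G] {q : ℕ} [Fact q.Prime] (H : Subgroup G)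
    (h : ¬ q ∣ H.index) : ∃ Q : Sylow q G, (Q : Subgroup G) ≤ H := by
  obtain ⟨Q⟩ : Nonempty (Sylow q H) := inferInstance
  have h1 : IsPGroup q ((Q : Subgroup H).map H.subtype) := Q.2.map _
  have h2 : ¬ q ∣ ((Q : Subgroup H).map H.subtype).index := by
    rw [Subgroup.index_map_subtype]
    exact fun h' => (Fact.out : q.Prime).dvd_mul.mp h' |>.elim Q.not_dvd_index h
  exact ⟨h1.toSylow h2, Subgroup.map_subtype_le _⟩

theorem not_dvd_index_of_sylow_le {G : Type u} [Group G] [Finite G] {q : ℕ} [Fact q.Prime]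
    (Q : Sylow q G) {H : Subgroup G} (h : (Q : Subgroup G) ≤ H) : ¬ q ∣ H.index :=
  fun h' => Q.not_dvd_index (h'.trans (Subgroup.index_dvd_of_le h))

/-- The property shown by induction. -/
def HasLargeHall (n : ℕ) (G : Type u) [Group G] : Prop :=
  ∃ A : Subgroup G, (∀ x ∈ A, ∀ y ∈ A, x * y = y * x) ∧
    (∀ q : ℕ, q.Prime → q ∣ Nat.card A → n + 1 < q) ∧
    ∀ q : ℕ, q.Prime → n + 1 < q → ¬ q ∣ A.index

theorem hasLargeHall_of_subgroup {G : Type u} [Group G] [Finite G] {n : ℕ} (H : Subgroup G)
    (h : HasLargeHall n H) (hidx : ∀ q : ℕ, q.Prime → n + 1 < q → ¬ q ∣ H.index) :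
    HasLargeHall n G := by
  obtain ⟨A, h1, h2, h3⟩ := h
  refine ⟨A.map H.subtype, ?_, fun q hq hd => h2 q hq ?_, fun q hq hqn hd => ?_⟩
  · rintro _ ⟨a, ha, rfl⟩ _ ⟨b, hb, rfl⟩
    rw [← map_mul, h1 a ha b hb, map_mul]
  · rwa [Subgroup.card_map_of_injective H.subtype_injective] at hd
  · rw [Subgroup.index_map_subtype] at hd
    exact (hq.dvd_mul.mp hd).elim (h3 q hq hqn) (hidx q hq hqn)

/-- Linear groups of degree `n` have abelian Hall subgroups for the primes exceeding `n + 1`. -/
theorem hasLargeHall (n : ℕ) : ∀ (N : ℕ) (G : Type u) [Group G] [Finite G] (χ : G → ℂ),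
    IsCharacter G χ → (∀ g : G, χ g = χ 1 → g = 1) → χ 1 = n → Nat.card G = N →
    HasLargeHall n G := by
  intro N
  induction N using Nat.strong_induction_on with
  | _ N ih =>
  intro G _ _ χ hχ hfaith hn hN
  classical
  haveI := Fintype.ofFinite G
  have sub : ∀ H : Subgroup G, H ≠ ⊤ → HasLargeHall n H := fun H hH =>
    ih (Nat.card H) (hN ▸ lt_of_le_of_ne H.card_le_card_group (fun h => hH (Subgroup.eq_top_of_card_eq H h)))
      H (fun h => χ h) (CharCore.isCharacter_restrict hχ H)
      (fun h hh => Subtype.ext (hfaith (h : G) (hh.trans (congrArg χ H.coe_one))))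
      ((congrArg χ H.coe_one).trans hn) rfl
  have habelian : ∀ H : Subgroup G, (∀ q : ℕ, q.Prime → q ∣ Nat.card H → n < q) →
      ∀ x ∈ H, ∀ y ∈ H, x * y = y * x := fun H hH x hx y hy => by
    haveI := Fintype.ofFinite H
    exact congrArg Subtype.val (commute_of_primes_gt (CharCore.isCharacter_restrict hχ H)
      (fun h hh => Subtype.ext (hfaith (h : G) (hh.trans (congrArg χ H.coe_one))))
      ((congrArg χ H.coe_one).trans hn) hH (⟨x, hx⟩ : H) ⟨y, hy⟩)
  by_cases hder : commutator G = ⊤
  · -- perfect group: no central element of large prime order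
    have hsyl : ∀ (q : ℕ) [Fact q.Prime], n + 1 < q → ∀ P : Sylow q G,
        ∀ a ∈ (P : Subgroup G), ∀ b ∈ (P : Subgroup G), a * b = b * a := by
      intro q hq hqn P
      refine habelian _ fun r hr hrd => ?_
      obtain ⟨k, hk⟩ := IsPGroup.iff_card.mp P.2
      rw [hk] at hrd
      rw [(Nat.prime_dvd_prime_iff_eq hr hq.out).mp (hr.dvd_of_dvd_pow hrd)]
      omega
    have hZ : ∀ (q : ℕ) [Fact q.Prime], n + 1 < q → ∀ z : G, orderOf z = q →
        Subgroup.centralizer ({z} : Set G) ≠ ⊤ := by
      intro q hq hqn z hz htop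
      have hzp : IsPGroup q (Subgroup.zpowers z) :=
        IsPGroup.of_card (n := 1) (by rw [Nat.card_zpowers, hz, pow_one])
      obtain ⟨P, hP⟩ := hzp.exists_le_sylow
      have hcomm := hsyl q hqn P
      have hbot := Transfer.inf_commutator_inf_center_eq_bot (H := (P : Subgroup G))
        (isMulCommutative_of_forall hcomm) P.card_coprime_index
      have hzc : z ∈ Subgroup.center G := Subgroup.mem_center_iff.mpr fun g => by
        have hg : g ∈ Subgroup.centralizer ({z} : Set G) := htop ▸ Subgroup.mem_top g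
        exact (Subgroup.mem_centralizer_singleton_iff.mp hg).symm ▸ rfl
      have : z ∈ (P : Subgroup G) ⊓ commutator G ⊓ Subgroup.center G :=
        ⟨⟨hP (Subgroup.mem_zpowers z), hder ▸ Subgroup.mem_top z⟩, hzc⟩
      rw [hbot, Subgroup.mem_bot] at this
      rw [this, orderOf_one] at hz
      exact hq.out.ne_one hz.symm
    by_cases hno : ∀ q : ℕ, q.Prime → n + 1 < q → ¬ q ∣ Nat.card G
    · exact ⟨⊥, fun x hx y hy => by rw [Subgroup.mem_bot] at hx hy; rw [hx, hy],
        fun q hq hd => by rw [Subgroup.card_bot] at hd; exact absurd (Nat.dvd_one.mp hd) hq.ne_one,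
        fun q hq hqn => by rw [Subgroup.index_bot]; exact hno q hq hqn⟩
    push Not at hno
    obtain ⟨p, hp, hpn, hpG⟩ := hno
    haveI := Fact.mk hp
    obtain ⟨P⟩ : Nonempty (Sylow p G) := inferInstance
    obtain ⟨z, hzP, hz⟩ : ∃ z ∈ (P : Subgroup G), orderOf z = p := by
      obtain ⟨z, hz⟩ := exists_prime_orderOf_dvd_card' (G := (P : Subgroup G)) p
        (P.dvd_card_of_dvd_card hpG)
      exact ⟨z, z.2, (Subgroup.orderOf_coe z).trans hz⟩
    set C := Subgroup.centralizer ((P : Subgroup G) : Set G) with hCdef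
    have hCtop : C ≠ ⊤ := fun h => hZ p hpn z hz (eq_top_iff.mpr (h ▸
      Subgroup.centralizer_le (Set.singleton_subset_iff.mpr hzP)))
    refine hasLargeHall_of_subgroup C (sub C hCtop) fun q hq hqn hqd => ?_
    haveI := Fact.mk hq
    by_cases hpq : q = p
    · subst hpq
      refine not_dvd_index_of_sylow_le P (fun a ha => ?_) hqd
      exact Subgroup.mem_centralizer_iff.mpr fun b hb => hsyl q hqn P b hb a ha
    have hqG : q ∣ Nat.card G := hqd.trans C.index_dvd_card
    obtain ⟨x, y, hx, hy, hxy⟩ :=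
      exists_commute_of_primes hχ hfaith hn hp hq (Ne.symm hpq) hpn hqn hpG hqG
    obtain ⟨P₁, hP₁⟩ := (IsPGroup.of_card (G := Subgroup.zpowers x) (n := 1)
      (p := p) (by rw [Nat.card_zpowers, hx, pow_one])).exists_le_sylow
    have hP₁C : (P₁ : Subgroup G) ≤ Subgroup.centralizer ({x} : Set G) := fun a ha =>
      Subgroup.mem_centralizer_singleton_iff.mpr
        (hsyl p hpn P₁ a ha x (hP₁ (Subgroup.mem_zpowers x)))
    obtain ⟨A₁, hA1, -, hA3⟩ := sub _ (hZ p hpn x hx)
    set A' := A₁.map (Subgroup.centralizer ({x} : Set G)).subtype with hA'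
    have hA'p : ¬ p ∣ A'.index := by
      rw [hA', Subgroup.index_map_subtype]
      exact fun h' => (hp.dvd_mul.mp h').elim (hA3 p hp hpn) (not_dvd_index_of_sylow_le P₁ hP₁C)
    have hqA : q ∣ Nat.card A₁ := by
      have h1 : q ∣ Nat.card (Subgroup.centralizer ({x} : Set G)) := by
        rw [← hy]
        have hmem : y ∈ Subgroup.centralizer ({x} : Set G) :=
          Subgroup.mem_centralizer_singleton_iff.mpr hxy.symm
        have := orderOf_dvd_natCard (⟨y, hmem⟩ : Subgroup.centralizer ({x} : Set G))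
        rwa [Subgroup.orderOf_mk] at this
      rw [← A₁.card_mul_index] at h1
      exact (hq.dvd_mul.mp h1).resolve_right (hA3 q hq hqn)
    obtain ⟨w, hw⟩ := exists_prime_orderOf_dvd_card' (G := A₁) q hqA
    have hw' : orderOf ((w : Subgroup.centralizer ({x} : Set G)) : G) = q := by
      rw [Subgroup.orderOf_coe, Subgroup.orderOf_coe, hw]
    have hA'le : A' ≤ Subgroup.centralizer ({((w : Subgroup.centralizer ({x} : Set G)) : G)} : Set G) := by
      rintro _ ⟨a, ha, rfl⟩
      exact Subgroup.mem_centralizer_singleton_iff.mpr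
        (congrArg Subtype.val (hA1 a ha w w.2))
    obtain ⟨Q₁, hQ₁⟩ := (IsPGroup.of_card (G := Subgroup.zpowers
      ((w : Subgroup.centralizer ({x} : Set G)) : G)) (n := 1)
      (p := q) (by rw [Nat.card_zpowers, hw', pow_one])).exists_le_sylow
    have hQ₁C : (Q₁ : Subgroup G) ≤
        Subgroup.centralizer ({((w : Subgroup.centralizer ({x} : Set G)) : G)} : Set G) := fun a ha =>
      Subgroup.mem_centralizer_singleton_iff.mpr
        (hsyl q hqn Q₁ a ha _ (hQ₁ (Subgroup.mem_zpowers _)))
    obtain ⟨B, hB1, -, hB3⟩ := sub _ (hZ q hqn _ hw')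
    set B' := B.map (Subgroup.centralizer
      ({((w : Subgroup.centralizer ({x} : Set G)) : G)} : Set G)).subtype with hB'
    have hB'p : ¬ p ∣ B'.index := by
      rw [hB', Subgroup.index_map_subtype]
      exact fun h' => (hp.dvd_mul.mp h').elim (hB3 p hp hpn)
        (fun h'' => hA'p (h''.trans (Subgroup.index_dvd_of_le hA'le)))
    have hB'q : ¬ q ∣ B'.index := by
      rw [hB', Subgroup.index_map_subtype]
      exact fun h' => (hq.dvd_mul.mp h').elim (hB3 q hq hqn) (not_dvd_index_of_sylow_le Q₁ hQ₁C)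
    obtain ⟨P₂, hP₂⟩ := exists_sylow_le B' hB'p
    obtain ⟨Q₂, hQ₂⟩ := exists_sylow_le B' hB'q
    have hcB : (Q₂ : Subgroup G) ≤ Subgroup.centralizer ((P₂ : Subgroup G) : Set G) := fun a ha => by
      refine Subgroup.mem_centralizer_iff.mpr fun b hb => ?_
      obtain ⟨a', ha', rfl⟩ := hQ₂ ha
      obtain ⟨b', hb', rfl⟩ := hP₂ hb
      exact congrArg Subtype.val (hB1 b' hb' a' ha')
    obtain ⟨g, hg⟩ := MulAction.exists_smul_eq G P₂ P
    have hcard : Nat.card (Subgroup.centralizer ((P₂ : Subgroup G) : Set G)) = Nat.card C := by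
      have hP : (P : Subgroup G) = (P₂ : Subgroup G).map (MulAut.conj g).toMonoidHom := by
        rw [← hg]; rfl
      rw [hCdef, hP]
      refine Nat.card_congr ((Equiv.subtypeEquiv (MulAut.conj g).toEquiv fun a => ?_))
      simp only [Subgroup.mem_centralizer_iff, Subgroup.coe_map, Set.forall_mem_image]
      refine forall₂_congr fun b _ => ?_
      show b * a = a * b ↔ (MulAut.conj g) b * (MulAut.conj g) a = (MulAut.conj g) a * (MulAut.conj g) b
      rw [← map_mul, ← map_mul, (MulAut.conj g).injective.eq_iff]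
    have h1 := not_dvd_index_of_sylow_le Q₂ hcB
    have h2 : (Subgroup.centralizer ((P₂ : Subgroup G) : Set G)).index = C.index := by
      have e1 := Subgroup.card_mul_index (Subgroup.centralizer ((P₂ : Subgroup G) : Set G))
      have e2 := Subgroup.card_mul_index C
      rw [hcard, ← e2] at e1
      exact Nat.eq_of_mul_eq_mul_left Nat.card_pos e1
    exact h1 (h2 ▸ hqd)
  · -- a proper derived subgroup
    by_cases hL : ∀ r : ℕ, r.Prime → r ∣ (commutator G).index → n + 1 < r
    swap
    · push Not at hL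
      obtain ⟨r, hr, hrd, hrn⟩ := hL
      haveI := Fact.mk hr
      let Q := G ⧸ commutator G
      letI : CommGroup Q := { (inferInstance : Group Q) with
        mul_comm := (inferInstance : IsMulCommutative (Abelianization G)).is_comm.comm }
      let k := (Nat.card Q).factorization r
      let R := (powMonoidHom (r ^ k) : Q →* Q).range
      have hR : R ≠ ⊤ := by
        intro h
        have hbij : Function.Bijective (powMonoidHom (r ^ k) : Q →* Q) :=
          (Finite.injective_iff_bijective).mp
            (Finite.injective_iff_surjective.mpr (MonoidHom.range_eq_top.mp h))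
        obtain ⟨v, hv⟩ := exists_prime_orderOf_dvd_card' (G := Q) r hrd
        have hk : 0 < k := hr.factorization_pos_of_dvd Nat.card_pos.ne' hrd
        have hv1 : v ^ (r ^ k) = 1 :=
          orderOf_dvd_iff_pow_eq_one.mp (hv ▸ dvd_pow_self r hk.ne')
        have := hbij.1 (show (powMonoidHom (r ^ k) : Q →* Q) v = (powMonoidHom (r ^ k) : Q →* Q) 1 by
          simp [hv1])
        rw [this, orderOf_one] at hv
        exact hr.ne_one hv.symm
      have hRp : IsPGroup r (Q ⧸ R) := fun t => by
        obtain ⟨t, rfl⟩ := QuotientGroup.mk_surjective t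
        exact ⟨k, by rw [← QuotientGroup.mk_pow, QuotientGroup.eq_one_iff]; exact ⟨t, rfl⟩⟩
      obtain ⟨j, hj⟩ := IsPGroup.iff_card.mp hRp
      have hidx : (R.comap (QuotientGroup.mk' (commutator G))).index = r ^ j := by
        rw [Subgroup.index_comap_of_surjective _ (QuotientGroup.mk'_surjective _),
          Subgroup.index_eq_card, hj]
      refine hasLargeHall_of_subgroup (R.comap (QuotientGroup.mk' (commutator G)))
        (sub _ fun h => hR ?_) fun q hq hqn hd => ?_
      · rw [← Subgroup.map_comap_eq_self_of_surjective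
          (QuotientGroup.mk'_surjective (commutator G)) R, h,
          Subgroup.map_top_of_surjective _ (QuotientGroup.mk'_surjective _)]
      · rw [hidx] at hd
        have := (Nat.prime_dvd_prime_iff_eq hq hr).mp (hq.dvd_of_dvd_pow hd)
        omega
    obtain ⟨A₀, hA1, hA2, hA3⟩ := sub _ hder
    set A := A₀.map (commutator G).subtype with hAdef
    have hAc : ∀ x ∈ A, ∀ y ∈ A, x * y = y * x := by
      rintro _ ⟨a, ha, rfl⟩ _ ⟨b, hb, rfl⟩
      rw [← map_mul, hA1 a ha b hb, map_mul]
    have hAcard : Nat.card A = Nat.card A₀ :=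
      Subgroup.card_map_of_injective (commutator G).subtype_injective
    by_cases hAn : A.Normal
    · let Gd := (commutator G).map (QuotientGroup.mk' A)
      haveI : Gd.Normal := Subgroup.Normal.map inferInstance _ (QuotientGroup.mk'_surjective A)
      have hAle : A ≤ commutator G := Subgroup.map_subtype_le _
      have hGdidx : Gd.index = (commutator G).index :=
        Subgroup.index_map_eq _ (QuotientGroup.mk'_surjective A)
          (by rw [QuotientGroup.ker_mk']; exact hAle)
      have hGdcard : Nat.card Gd = A₀.index := by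
        have e1 := Subgroup.card_mul_index Gd
        have e3 := Subgroup.card_mul_index (commutator G)
        have e4 := A₀.card_mul_index
        have e5 := A.card_mul_index
        rw [hGdidx, ← Subgroup.index_eq_card A] at e1
        rw [hAcard, ← e1, ← mul_assoc] at e5
        rw [← e4] at e3
        have e6 := mul_right_cancel₀ (Subgroup.FiniteIndex.index_ne_zero) (e5.trans e3.symm)
        exact Nat.eq_of_mul_eq_mul_left Nat.card_pos e6
      have hcop : (Nat.card Gd).Coprime Gd.index := Nat.coprime_of_dvd fun q hq h1 h2 =>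
        hA3 q hq (hL q hq (hGdidx ▸ h2)) (hGdcard ▸ h1)
      obtain ⟨B, hB⟩ := Subgroup.exists_right_complement'_of_coprime hcop
      let H := B.comap (QuotientGroup.mk' A)
      have hHi : H.index = A₀.index := by
        rw [Subgroup.index_comap_of_surjective _ (QuotientGroup.mk'_surjective _), hB.index_eq_card,
          hGdcard]
      have hHcard : Nat.card H = Nat.card A * (commutator G).index := by
        have e1 := H.card_mul_index
        have e2 := Subgroup.card_mul_index (commutator G)
        rw [hHi, ← e2, ← A₀.card_mul_index, ← hAcard, mul_right_comm] at e1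
        exact mul_right_cancel₀ Subgroup.FiniteIndex.index_ne_zero e1
      have hHp : ∀ q : ℕ, q.Prime → q ∣ Nat.card H → n + 1 < q := fun q hq hd => by
        rw [hHcard, hAcard] at hd
        exact (hq.dvd_mul.mp hd).elim (hA2 q hq) (hL q hq)
      exact ⟨H, habelian H fun q hq hd => by have := hHp q hq hd; omega, hHp,
        fun q hq hqn => hHi ▸ hA3 q hq hqn⟩
    · obtain ⟨q, hq, hqn, P, hPA, hPn⟩ : ∃ (q : ℕ) (_ : q.Prime), n + 1 < q ∧
          ∃ P : Sylow q (commutator G), (P : Subgroup (commutator G)) ≤ A₀ ∧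
            ¬ ((P : Subgroup (commutator G)).map (commutator G).subtype).Normal := by
        by_contra hall
        push Not at hall
        apply hAn
        suffices h : A ≤ A.normalCore by
          rw [le_antisymm h A.normalCore_le]; infer_instance
        rw [← Subgroup.relIndex_eq_one]
        by_contra hne
        have hq := Nat.minFac_prime hne
        haveI := Fact.mk hq
        set q := (A.normalCore.relIndex A).minFac
        have hqd : q ∣ A.normalCore.relIndex A := Nat.minFac_dvd _
        have hqn := hA2 q hq (hAcard ▸ hqd.trans (Subgroup.relIndex_dvd_card _ _))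
        obtain ⟨P, hP⟩ := exists_sylow_le A₀ (hA3 q hq hqn)
        set P' := (P : Subgroup (commutator G)).map (commutator G).subtype with hP'
        have hle : P' ≤ A.normalCore := by
          haveI := hall q hq hqn P hP
          exact Subgroup.normal_le_normalCore.mpr (Subgroup.map_mono hP)
        have h1 : P'.relIndex A = (P : Subgroup (commutator G)).relIndex A₀ :=
          Subgroup.relIndex_map_map_of_injective _ _ (commutator G).subtype_injective
        have h2 : q ∣ P'.relIndex A :=
          hqd.trans ⟨P'.relIndex A.normalCore, by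
            rw [mul_comm, Subgroup.relIndex_mul_relIndex _ _ _ hle A.normalCore_le]⟩
        rw [h1] at h2
        exact P.not_dvd_index (h2.trans ⟨A₀.index, (Subgroup.relIndex_mul_index hP).symm⟩)
      haveI := Fact.mk hq
      set P' := (P : Subgroup (commutator G)).map (commutator G).subtype with hP'
      set M := Subgroup.normalizer (P' : Set G) with hM
      have hMtop : M ≠ ⊤ := fun h => hPn (Subgroup.normalizer_eq_top_iff.mp h)
      have hsup : M ⊔ commutator G = ⊤ := Sylow.normalizer_sup_eq_top P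
      refine hasLargeHall_of_subgroup M (sub M hMtop) fun r hr hrn hrd => ?_
      have hidxM : M.index = M.relIndex (commutator G) := by
        have h1 : (commutator G).relIndex M = (commutator G).index := by
          rw [← Subgroup.relIndex_sup_left, sup_comm, hsup, Subgroup.relIndex_top_right]
        have h2 := (Subgroup.relIndex_mul_index (inf_le_left : M ⊓ commutator G ≤ M)).trans
          (Subgroup.relIndex_mul_index (inf_le_right : M ⊓ commutator G ≤ commutator G)).symm
        rw [Subgroup.inf_relIndex_left, Subgroup.inf_relIndex_right, h1,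
          mul_comm (M.relIndex (commutator G))] at h2
        exact mul_left_cancel₀ Subgroup.FiniteIndex.index_ne_zero h2
      rw [hidxM] at hrd
      have hAM : A₀ ≤ M.subgroupOf (commutator G) := fun a ha => by
        rw [Subgroup.mem_subgroupOf]
        refine Subgroup.centralizer_le_normalizer _ (Subgroup.mem_centralizer_iff.mpr ?_)
        rintro _ ⟨b, hb, rfl⟩
        exact congrArg Subtype.val (hA1 b (hPA hb) a ha)
      exact hA3 r hr hrn (hrd.trans (Subgroup.index_dvd_of_le hAM))

end Cfsg.Agent.BlkChar
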