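import Cfsg.Agent.BlkChar.SmallCofactor
import Cfsg.Agent.BlkChar.LargePrimes
import Cfsg.Agent.Lib.PGroup.Basic
import Cfsg.Agent.Lib.Thompson.Cores
import Cfsg.Agent.Lib.CharClifford.Clifford
import Cfsg.Agent.CharB.CentralExt
import Mathlib.NumberTheory.Padics.PadicVal.Basic

/-!
# Characters of degree less than `2p` and non-abelian Sylow subgroups
-/

set_option linter.unusedSectionVars false

open Cfsg
open scoped ComplexConjugate commutatorElement

namespace Cfsg.Agent.BlkChar.TwoP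

open Cofactor (stdChar)

universe u

variable {p : ℕ} [hp : Fact p.Prime]

theorem exists_stdChar_eq {μ : ℂ} (hμ : μ ^ p = 1) : ∃ j : ZMod p, stdChar p j = μ := by
  obtain ⟨l, -, hl⟩ := (Complex.isPrimitiveRoot_exp p hp.out.ne_zero).eq_pow_of_pow_eq_one hμ
  exact ⟨(l : ZMod p), by rw [Cofactor.stdChar_natCast]; exact hl⟩

/-- Two lists of `p`-th roots of unity with the same length and sum have the same multiplicities. -/
theorem multiplicity_eq {ι κ : Type*} [Fintype ι] [Fintype κ] (a : ι → ℕ) (b : κ → ℕ)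
    (j : ι → ZMod p) (k : κ → ZMod p) (hlen : ∑ i, a i = ∑ i, b i)
    (hsum : ∑ i, (a i : ℂ) * stdChar p (j i) = ∑ i, (b i : ℂ) * stdChar p (k i)) (x : ZMod p) :
    ∑ i ∈ Finset.univ.filter (fun i => j i = x), a i =
      ∑ i ∈ Finset.univ.filter (fun i => k i = x), b i := by
  classical
  set f : ZMod p → ℤ := fun x => (∑ i ∈ Finset.univ.filter (fun i => j i = x), (a i : ℤ)) -
    ∑ i ∈ Finset.univ.filter (fun i => k i = x), (b i : ℤ) with hf
  have h0 : ∑ x, (f x : ℂ) * stdChar p x = 0 := by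
    simp only [hf, Int.cast_sub, Int.cast_sum, Int.cast_natCast, sub_mul, Finset.sum_mul,
      Finset.sum_sub_distrib]
    rw [sub_eq_zero]
    calc ∑ x, ∑ i ∈ Finset.univ.filter (fun i => j i = x), (a i : ℂ) * stdChar p x
        = ∑ x, ∑ i ∈ Finset.univ.filter (fun i => j i = x), (a i : ℂ) * stdChar p (j i) :=
          Finset.sum_congr rfl fun x _ => Finset.sum_congr rfl fun i hi => by
            rw [(Finset.mem_filter.mp hi).2]
      _ = _ := by rw [Finset.sum_fiberwise, hsum, ← Finset.sum_fiberwise Finset.univ k]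
      _ = _ := Finset.sum_congr rfl fun x _ => Finset.sum_congr rfl fun i hi => by
            rw [(Finset.mem_filter.mp hi).2]
  have hconst := Cofactor.eq_const_of_relation f h0
  have htot : ∑ x, f x = 0 := by
    simp only [hf, Finset.sum_sub_distrib, Finset.sum_fiberwise]
    rw [sub_eq_zero]
    exact_mod_cast hlen
  rw [Finset.sum_congr rfl fun x _ => hconst x, Finset.sum_const, Finset.card_univ, ZMod.card,
    nsmul_eq_mul, mul_eq_zero] at htot
  have hx : f x = 0 := (hconst x).trans (htot.resolve_left (by exact_mod_cast hp.out.ne_zero))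
  simp only [hf, sub_eq_zero] at hx
  exact_mod_cast hx

set_option maxHeartbeats 1000000 in
theorem not_sq_dvd_index {G : Type u} [Group G] [Finite G] (χ : IrrCharacter G)
    (hfaith : ∀ g : G, (χ : G → ℂ) g = (χ : G → ℂ) 1 → g = 1) {n : ℕ}
    (hn : (χ : G → ℂ) 1 = (n : ℂ)) (h7 : 7 ≤ p) (hn2 : n < 2 * p) (hnp : n ≠ p) (P : Sylow p G)
    (hP : ∃ x ∈ (P : Subgroup G), ∃ y ∈ (P : Subgroup G), x * y ≠ y * x) :
    ¬ p ^ 2 ∣ (pCore p G).index := by
  classical
  have hpp : p.Prime := hp.out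
  haveI : NeZero p := ⟨hpp.ne_zero⟩
  letI := Fintype.ofFinite G
  letI := Fintype.ofFinite (P : Subgroup G)
  have hχc := CharCore.irr_isCharacter χ
  have hres := CharCore.isCharacter_restrict hχc (P : Subgroup G)
  have hrfaith : ∀ x : (P : Subgroup G), (χ : G → ℂ) x = (χ : G → ℂ) ((1 : (P : Subgroup G)) : G) →
      x = 1 := fun x hx => Subtype.ext (hfaith _ hx)
  obtain ⟨a, ha⟩ := CharCore.IsCharacter.exists_sum hres
  choose d hd0 hd using fun ξ : IrrCharacter (P : Subgroup G) =>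
    CharCore.IsIrrCharacter.exists_degree ξ.2
  have hdeg : ∑ ξ, a ξ * d ξ = n := by
    apply Nat.cast_injective (R := ℂ)
    have h := congrFun ha 1
    simp only [OneMemClass.coe_one, hn, Finset.sum_apply, Pi.smul_apply, smul_eq_mul, hd] at h
    push_cast
    exact h.symm
  have hdp : ∀ ξ, a ξ ≠ 0 → d ξ = 1 ∨ d ξ = p := by
    intro ξ hξ
    have hdvd : d ξ ∣ Nat.card (P : Subgroup G) := by
      have := BlocksCore.charDegree_dvd_card ξ
      rwa [charDegree, hd, Complex.natCast_re, Nat.floor_natCast] at this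
    obtain ⟨k, hk⟩ := IsPGroup.iff_card.mp P.isPGroup'
    obtain ⟨i, -, hi⟩ := (Nat.dvd_prime_pow hpp).mp (hk ▸ hdvd)
    have hle : d ξ < 2 * p := by
      refine lt_of_le_of_lt ?_ hn2
      calc d ξ ≤ a ξ * d ξ := Nat.le_mul_of_pos_left _ (Nat.pos_of_ne_zero hξ)
        _ ≤ n := hdeg ▸ Finset.single_le_sum (fun i _ => Nat.zero_le (a i * d i)) (Finset.mem_univ ξ)
    rcases i with _ | _ | i
    · exact Or.inl hi
    · exact Or.inr (by rw [hi, zero_add, pow_one])
    · exfalso
      have : p ^ 2 ≤ d ξ := hi ▸ Nat.pow_le_pow_right hpp.pos (by omega)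
      nlinarith
  obtain ⟨ξ₀, hξ₀, hdξ₀⟩ : ∃ ξ, a ξ ≠ 0 ∧ d ξ = p := by
    by_contra hno
    push Not at hno
    obtain ⟨x, hx, y, hy, hne⟩ := hP
    suffices h1 : ⁅(⟨x, hx⟩ : (P : Subgroup G)), (⟨y, hy⟩ : (P : Subgroup G))⁆ =
        (1 : (P : Subgroup G)) from
      hne (congrArg Subtype.val (commutatorElement_eq_one_iff_mul_comm.mp h1))
    refine eq_one_of_constituents hres hrfaith fun ξ hξ => ?_
    have hξ' : a ξ ≠ 0 := fun h0 => hξ (by rw [ha, CharCore.classInner_sum_all, h0, Nat.cast_zero])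
    obtain ⟨f, hf⟩ := CharCore.IsCharacter.exists_hom_of_degree_one (CharCore.irr_isCharacter ξ)
      (by rw [hd, (hdp ξ hξ').resolve_right (hno ξ hξ'), Nat.cast_one])
    rw [hf]
    simp only [map_commutatorElement, map_one]
    rw [commutatorElement_eq_one_iff_mul_comm.mpr (mul_comm (f _) (f _)), Units.val_one]
  have hpn : p < n := by
    refine lt_of_le_of_ne ?_ (Ne.symm hnp)
    calc p = d ξ₀ := hdξ₀.symm
      _ ≤ a ξ₀ * d ξ₀ := Nat.le_mul_of_pos_left _ (Nat.pos_of_ne_zero hξ₀)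
      _ ≤ n := hdeg ▸ Finset.single_le_sum (fun i _ => Nat.zero_le (a i * d i)) (Finset.mem_univ ξ₀)
  have hsum₀ : a ξ₀ * d ξ₀ + ∑ ξ ∈ Finset.univ.erase ξ₀, a ξ * d ξ = n := by
    rw [Finset.add_sum_erase Finset.univ (fun ξ => a ξ * d ξ) (Finset.mem_univ ξ₀), hdeg]
  have ha₀ : a ξ₀ = 1 := by
    rw [hdξ₀] at hsum₀
    have : a ξ₀ * p < 2 * p := by omega
    have := Nat.lt_of_mul_lt_mul_right this
    omega
  have hlin : ∀ ξ, ξ ≠ ξ₀ → a ξ ≠ 0 → d ξ = 1 := by
    intro ξ hne hξ
    refine (hdp ξ hξ).resolve_right fun h => ?_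
    have h1 : a ξ * d ξ ≤ ∑ ξ ∈ Finset.univ.erase ξ₀, a ξ * d ξ :=
      Finset.single_le_sum (fun i _ => Nat.zero_le (a i * d i))
        (Finset.mem_erase.mpr ⟨hne, Finset.mem_univ ξ⟩)
    rw [h] at h1
    have : p ≤ a ξ * p := Nat.le_mul_of_pos_left _ (Nat.pos_of_ne_zero hξ)
    rw [ha₀, hdξ₀] at hsum₀
    omega
  -- the element `z`
  have hcomm0 : commutator (P : Subgroup G) ≠ ⊥ := by
    intro h
    obtain ⟨x, hx, y, hy, hne⟩ := hP
    have h1 : ⁅(⟨x, hx⟩ : (P : Subgroup G)), (⟨y, hy⟩ : (P : Subgroup G))⁆ =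
        (1 : (P : Subgroup G)) := Subgroup.mem_bot.mp
      (h.le (Subgroup.commutator_mem_commutator (Subgroup.mem_top _) (Subgroup.mem_top _)))
    exact hne (congrArg Subtype.val (commutatorElement_eq_one_iff_mul_comm.mp h1))
  have hne' := PGroup.inf_center_ne_bot P.isPGroup' hcomm0
  obtain ⟨⟨⟨z₁, hz₁P⟩, hz₁⟩, hz₁o⟩ := exists_prime_orderOf_dvd_card'
    (G := (commutator (P : Subgroup G) ⊓ Subgroup.center (P : Subgroup G) :
      Subgroup (P : Subgroup G))) p (by
      obtain ⟨k, hk⟩ := IsPGroup.iff_card.mp (P.isPGroup'.to_subgroup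
        (commutator (P : Subgroup G) ⊓ Subgroup.center (P : Subgroup G)))
      rcases Nat.eq_zero_or_pos k with h | h
      · exact absurd (Subgroup.card_eq_one.mp (by rw [hk, h, pow_zero])) hne'
      · exact hk ▸ dvd_pow_self p h.ne')
  set zP : (P : Subgroup G) := ⟨z₁, hz₁P⟩ with hzP
  rw [← Subgroup.orderOf_coe, ← Subgroup.orderOf_coe] at hz₁o
  change orderOf z₁ = p at hz₁o
  -- the value at a power of `z`
  obtain ⟨θrep, ρ₀, hirr₀, hρ₀⟩ := ξ₀.2
  haveI := hirr₀
  obtain ⟨c₀, hc₀⟩ := CharClifford.exists_scalar_of_mem_center ρ₀ hz₁.2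
  have hθrep : θrep = p := by
    have h1 : (ξ₀ : ↥(P : Subgroup G) → ℂ) 1 = (θrep : ℂ) := by rw [← hρ₀]; simp
    rw [hd, hdξ₀] at h1
    exact_mod_cast h1.symm
  have hval : ∀ k : ℕ, (χ : G → ℂ) (z₁ ^ k) = (p : ℂ) * c₀ ^ k + ((n - p : ℕ) : ℂ) := by
    intro k
    have h := congrFun ha (zP ^ k)
    rw [show ((zP ^ k : (P : Subgroup G)) : G) = z₁ ^ k from rfl] at h
    rw [h]
    simp only [Finset.sum_apply, Pi.smul_apply, smul_eq_mul]
    rw [← Finset.add_sum_erase _ _ (Finset.mem_univ ξ₀), ha₀, Nat.cast_one, one_mul]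
    congr 1
    · rw [← hρ₀, Representation.character, map_pow, hc₀, smul_pow, one_pow, map_smul,
        LinearMap.trace_one, smul_eq_mul, Module.finrank_fin_fun, hθrep, mul_comm]
    · rw [ha₀, hdξ₀, one_mul] at hsum₀
      rw [show n - p = ∑ ξ ∈ Finset.univ.erase ξ₀, a ξ * d ξ by omega, Nat.cast_sum]
      refine Finset.sum_congr rfl fun ξ hξ => ?_
      by_cases hξ0 : a ξ = 0
      · simp [hξ0]
      have hd1 := hlin ξ (Finset.ne_of_mem_erase hξ) hξ0
      obtain ⟨f, hf⟩ := CharCore.IsCharacter.exists_hom_of_degree_one (CharCore.irr_isCharacter ξ)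
        (by rw [hd, hd1, Nat.cast_one])
      have h1 : f zP = 1 := MonoidHom.mem_ker.mp (Abelianization.commutator_subset_ker f hz₁.1)
      rw [hf, hd1, mul_one]
      simp [h1]
  have hc₀p : c₀ ^ p = 1 := by
    have h1 := hval p
    rw [← hz₁o, pow_orderOf_eq_one, hn, hz₁o, Nat.cast_sub hpn.le] at h1
    have hpC : (p : ℂ) ≠ 0 := Nat.cast_ne_zero.mpr hpp.ne_zero
    exact mul_left_cancel₀ hpC (by linear_combination -h1)
  obtain ⟨j₀, hj₀⟩ := exists_stdChar_eq hc₀p
  have hj₀0 : j₀ ≠ 0 := by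
    intro h
    have h1 := hval 1
    rw [← hj₀, h, AddChar.map_zero_eq_one, pow_one, one_pow, mul_one, ← Nat.cast_add,
      Nat.add_sub_cancel' hpn.le, ← hn] at h1
    rw [hfaith _ h1, orderOf_one] at hz₁o
    exact hpp.ne_one hz₁o.symm
  -- normalise the eigenvalue
  set z := z₁ ^ (j₀⁻¹ : ZMod p).val with hz
  have hzval : (χ : G → ℂ) z = (p : ℂ) * stdChar p 1 + ((n - p : ℕ) : ℂ) := by
    rw [hz, hval, ← hj₀, ← AddChar.map_nsmul_eq_pow, nsmul_eq_mul, ZMod.natCast_zmod_val,
      inv_mul_cancel₀ hj₀0]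
  have hzp : z ^ p = 1 := by
    rw [hz, ← pow_mul, mul_comm, pow_mul,
      (show z₁ ^ p = 1 from hz₁o ▸ pow_orderOf_eq_one z₁), one_pow]
  obtain ⟨N', ρ, hirr, hρ⟩ := χ.2
  have hN' : N' = n := by
    have h1 : (χ : G → ℂ) 1 = (N' : ℂ) := by rw [← hρ]; simp
    rw [hn] at h1
    exact_mod_cast h1.symm
  haveI := hirr
  obtain ⟨e₀, μ, hμ, hμb, hμk⟩ := CharClifford.exists_eigenvalues ρ z hpp.ne_zero hzp
  choose j hj using fun i => exists_stdChar_eq (hμ i)
  let tgt : Bool → ZMod p := fun b => if b then 1 else 0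
  let cnt : Bool → ℕ := fun b => if b then p else n - p
  have hmult := multiplicity_eq (fun _ : Fin (Module.finrank ℂ (Fin N' → ℂ)) => 1) cnt j tgt
    (by simp [cnt, Module.finrank_fin_fun, hN']; omega) (by
      have h1 := hμk 1
      rw [pow_one, hρ, hzval] at h1
      simp only [Nat.cast_one, one_mul, hj]
      simp only [pow_one] at h1
      rw [← h1]
      simp [cnt, tgt])
  have htwo : ∀ i, j i = 0 ∨ j i = 1 := by
    intro i
    by_contra h
    push Not at h
    have h1 := hmult (j i)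
    rw [Finset.sum_eq_zero (s := Finset.univ.filter fun b => tgt b = j i) (fun b hb => by
      exfalso
      have h2 := (Finset.mem_filter.mp hb).2
      cases b
      · exact h.1 h2.symm
      · exact h.2 h2.symm), Finset.sum_const, smul_eq_mul, mul_one, Finset.card_eq_zero,
      Finset.filter_eq_empty_iff] at h1
    exact h1 (Finset.mem_univ i) rfl
  set c := stdChar p 1 with hc
  have hζ := Complex.isPrimitiveRoot_exp p hpp.ne_zero
  have hc1 : c ≠ 1 := by
    intro h
    have h1 := hzval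
    rw [h, mul_one, ← Nat.cast_add, Nat.add_sub_cancel' hpn.le, ← hn] at h1
    have h2 := hfaith _ h1
    rw [hz, ← orderOf_dvd_iff_pow_eq_one, hz₁o, ← ZMod.natCast_eq_zero_iff, ZMod.natCast_zmod_val,
      inv_eq_zero] at h2
    exact hj₀0 h2
  have hclose : ‖c - 1‖ < 1 := by
    have h1 := Cofactor.norm_stdChar_sub_one_lt (p := p) 1 0 (by
      rw [ZMod.val_zero, ZMod.val_one, mul_one, mul_zero, Nat.zero_div,
        Nat.div_eq_of_lt (by omega : 6 < p)])
    rwa [sub_zero] at h1
  have hcn : ‖c‖ = 1 := by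
    rw [hc, Cofactor.stdChar_apply, norm_pow, hζ.norm'_eq_one hpp.ne_zero, one_pow]
  have hρinj : Function.Injective ρ := by
    rw [injective_iff_map_eq_one]
    intro g hg
    refine hfaith g ?_
    rw [← hρ]
    simp only [Representation.character, hg, map_one]
  have hspan : ∀ v, ∃ a b, ρ z a = a ∧ ρ z b = c • b ∧ v = a + b := by
    intro v
    refine ⟨∑ i ∈ Finset.univ.filter (fun i => j i = 0), e₀.repr v i • e₀ i,
      ∑ i ∈ Finset.univ.filter (fun i => ¬ j i = 0), e₀.repr v i • e₀ i, ?_, ?_, ?_⟩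
    · rw [map_sum]
      refine Finset.sum_congr rfl fun i hi => ?_
      rw [map_smul, hμb, ← hj, (Finset.mem_filter.mp hi).2, AddChar.map_zero_eq_one, one_smul]
    · rw [map_sum, Finset.smul_sum]
      refine Finset.sum_congr rfl fun i hi => ?_
      rw [map_smul, hμb, ← hj, (htwo i).resolve_left (Finset.mem_filter.mp hi).2, smul_comm]
    · rw [Finset.sum_filter_add_sum_filter_not, e₀.sum_repr]
  have hcc := Arc.commute_conj_rep ρ hρinj hcn hc1 hclose hspan
  -- the normal closure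
  set N := Subgroup.normalClosure ({z} : Set G) with hN
  haveI : N.Normal := Subgroup.normalClosure_normal
  have hgen : ∀ x ∈ Group.conjugatesOfSet ({z} : Set G), ∃ g, x = g * z * g⁻¹ := by
    intro x hx
    obtain ⟨w, hw, hwx⟩ := Group.mem_conjugatesOfSet_iff.mp hx
    obtain rfl : w = z := hw
    obtain ⟨g, rfl⟩ := isConj_iff.mp hwx
    exact ⟨g, rfl⟩
  have hNab : ∀ x y : N, x * y = y * x := by
    have h1 : IsMulCommutative N := Subgroup.isMulCommutative_closure fun x hx y hy => by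
      obtain ⟨g, rfl⟩ := hgen x hx
      obtain ⟨g', rfl⟩ := hgen y hy
      have h2 := (hcc (g⁻¹ * g')).map (MulAut.conj g)
      simp only [MulAut.conj_apply] at h2
      have e : g * (g⁻¹ * g' * z * (g⁻¹ * g')⁻¹) * g⁻¹ = g' * z * g'⁻¹ := by group
      rw [e] at h2
      exact h2
    exact fun x y => h1.is_comm.comm x y
  have hzN : z ∈ N := Subgroup.subset_normalClosure rfl
  letI := Fintype.ofFinite N
  obtain ⟨θ, e, hθ, he, -, hcl⟩ := CharClifford.clifford_restrict N χ.2
  have hlinN : ∀ ψ ∈ CharClifford.conjOrbit N θ, ∃ f : N →* ℂˣ, ψ = fun a => (f a : ℂ) := by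
    intro ψ hψ
    obtain ⟨x, rfl⟩ := (CharClifford.mem_conjOrbit N).mp hψ
    exact CharB.exists_hom_of_isIrr_comm hNab (CharClifford.isIrrCharacter_conjFun N hθ x)
  choose fl hfl using hlinN
  have hcard : n = e * (CharClifford.conjOrbit N θ).card := by
    have h1 := congrFun hcl 1
    simp only [Pi.smul_apply, smul_eq_mul, Finset.sum_apply, OneMemClass.coe_one, hn] at h1
    rw [Finset.sum_congr rfl (g := fun _ => (1 : ℂ)) fun ψ hψ => by rw [hfl ψ hψ]; simp,
      Finset.sum_const, nsmul_one] at h1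
    exact_mod_cast h1
  have hroot : ∀ ψ : {ψ // ψ ∈ CharClifford.conjOrbit N θ}, ∃ j : ZMod p,
      stdChar p j = ψ.1 ⟨z, hzN⟩ := fun ψ => exists_stdChar_eq (by
    rw [hfl ψ.1 ψ.2, ← Units.val_pow_eq_pow_val, ← map_pow,
      show (⟨z, hzN⟩ : N) ^ p = 1 from Subtype.ext hzp, map_one, Units.val_one])
  choose jN hjN using hroot
  have hmultN := multiplicity_eq (fun _ : {ψ // ψ ∈ CharClifford.conjOrbit N θ} => e) cnt jN tgt
    (by
      rw [Finset.sum_const, Finset.card_univ, Fintype.card_coe, smul_eq_mul, mul_comm, ← hcard]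
      simp [cnt]
      omega) (by
      have h1 := congrFun hcl ⟨z, hzN⟩
      simp only [Pi.smul_apply, smul_eq_mul, Finset.sum_apply, hzval] at h1
      simp only [hjN, ← Finset.mul_sum]
      rw [Finset.univ_eq_attach,
        show ∑ ψ ∈ (CharClifford.conjOrbit N θ).attach, (ψ : N → ℂ) ⟨z, hzN⟩ =
            ∑ ψ ∈ CharClifford.conjOrbit N θ, ψ ⟨z, hzN⟩ from
          Finset.sum_attach _ (fun ψ : N → ℂ => ψ ⟨z, hzN⟩), ← h1]
      simp [cnt, tgt, hc])
  have hep : e ∣ p := by
    have h1 := hmultN 1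
    rw [Finset.sum_const, smul_eq_mul, Finset.sum_filter (s := (Finset.univ : Finset Bool)),
      Fintype.sum_bool] at h1
    simp only [tgt, cnt, Bool.false_eq_true, if_true, if_false, zero_ne_one, add_zero] at h1
    exact ⟨_, h1.symm.trans (mul_comm _ _)⟩
  have he1 : e = 1 := by
    rcases hpp.eq_one_or_self_of_dvd e hep with h | h
    · exact h
    · exfalso
      rw [h] at hcard
      have h2 : (CharClifford.conjOrbit N θ).card < 2 := by
        by_contra h2
        have := Nat.mul_le_mul_left p (not_lt.mp h2)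
        omega
      have h3 := Nat.mul_le_mul_left p (Nat.lt_succ_iff.mp h2)
      omega
  subst he1
  rw [one_mul] at hcard
  -- the centralizer
  set C := Subgroup.centralizer (N : Set G) with hC
  haveI : C.Normal := Subgroup.normal_centralizer
  letI := Fintype.ofFinite C
  have hNC : N ≤ C := fun x hx => Subgroup.mem_centralizer_iff.mpr fun y hy =>
    congrArg Subtype.val (hNab ⟨y, hy⟩ ⟨x, hx⟩)
  have hCab : ∀ x y : C, x * y = y * x := by
    intro x y
    have hresC := CharCore.isCharacter_restrict hχc C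
    refine commutatorElement_eq_one_iff_mul_comm.mp
      (eq_one_of_constituents hresC (fun g hg => Subtype.ext (hfaith _ hg)) fun ξ hξ => ?_)
    obtain ⟨b, hb⟩ := CharCore.IsCharacter.exists_sum hresC
    have hbξ : b ξ ≠ 0 := fun h0 => hξ (by rw [hb, CharCore.classInner_sum_all, h0, Nat.cast_zero])
    choose D hD0 hD using fun ζ : IrrCharacter C => CharCore.IsIrrCharacter.exists_degree ζ.2
    have hcent : ∀ (ζ : IrrCharacter C), ∃ f : N →* ℂˣ, ∀ m : N,
        (ζ : C → ℂ) ⟨m, hNC m.2⟩ = (D ζ : ℂ) * (f m : ℂ) := by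
      intro ζ
      obtain ⟨k, σ, hσ, hσc⟩ := ζ.2
      haveI := hσ
      have hk : k = D ζ := by
        have h1 : (ζ : C → ℂ) 1 = (k : ℂ) := by rw [← hσc]; simp
        rw [hD] at h1
        exact_mod_cast h1.symm
      have hsc : ∀ m : N, ∃ s : ℂ, σ ⟨m, hNC m.2⟩ = s • 1 := fun m =>
        CharClifford.exists_scalar_of_mem_center σ (Subgroup.mem_center_iff.mpr fun w =>
          Subtype.ext (Subgroup.mem_centralizer_iff.mp w.2 m m.2).symm)
      choose s hs using hsc
      have hne : (1 : Module.End ℂ (Fin k → ℂ)) ≠ 0 := fun h0 => by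
        have h1 := congrArg (LinearMap.trace ℂ _) h0
        rw [LinearMap.trace_one, map_zero, Module.finrank_fin_fun, hk, Nat.cast_eq_zero] at h1
        exact (hD0 ζ).ne' h1
      let f₀ : N →* ℂ :=
        { toFun := s
          map_one' := smul_left_injective ℂ hne (by
            simp only [one_smul, ← hs]
            exact map_one σ)
          map_mul' := fun m m' => smul_left_injective ℂ hne (by
            simp only [← hs]
            rw [show (⟨((m * m' : N) : G), hNC (m * m').2⟩ : C) =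
              ⟨(m : G), hNC m.2⟩ * ⟨(m' : G), hNC m'.2⟩ from rfl, map_mul, hs, hs, smul_mul_smul_comm,
              one_mul]) }
      refine ⟨f₀.toHomUnits, fun m => ?_⟩
      rw [← hσc, Representation.character, hs, map_smul, LinearMap.trace_one,
        Module.finrank_fin_fun, hk, smul_eq_mul, mul_comm]
      rfl
    choose f hf using hcent
    have hinner : ∀ ζ, classInner (fun m : N => ((f ζ m : ℂˣ) : ℂ)) (fun m : N => ((f ξ m : ℂˣ) : ℂ)) =
        ((if (fun m : N => ((f ζ m : ℂˣ) : ℂ)) = (fun m : N => ((f ξ m : ℂˣ) : ℂ)) then 1 else 0 : ℕ) : ℂ) := by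
      intro ζ
      have h1 := CharCore.classInner_irr (G := N) ⟨_, CharCore.isIrrCharacter_hom (f ζ)⟩
        ⟨_, CharCore.isIrrCharacter_hom (f ξ)⟩
      refine h1.trans ?_
      simp only [Subtype.mk.injEq]
      split_ifs <;> simp
    have hle : b ξ * D ξ ≤ 1 := by
      have h1 : classInner (fun m : N => (χ : G → ℂ) m) (fun m : N => ((f ξ m : ℂˣ) : ℂ)) =
          ((∑ ζ, b ζ * D ζ *
            (if (fun m : N => ((f ζ m : ℂˣ) : ℂ)) = (fun m : N => ((f ξ m : ℂˣ) : ℂ)) then 1 else 0) : ℕ) : ℂ) := by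
        rw [show (fun m : N => (χ : G → ℂ) m) =
          ∑ ζ, ((b ζ * D ζ : ℕ) : ℂ) • (fun m : N => ((f ζ m : ℂˣ) : ℂ)) from funext fun m => by
            have h := congrFun hb ⟨m, hNC m.2⟩
            simp only [Finset.sum_apply, Pi.smul_apply, smul_eq_mul, hf] at h ⊢
            rw [h]
            push_cast
            exact Finset.sum_congr rfl fun ζ _ => (mul_assoc _ _ _).symm,
          CharCore.classInner_sum_left, Nat.cast_sum]
        refine Finset.sum_congr rfl fun ζ _ => ?_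
        rw [CharCore.classInner_smul_left, hinner ζ]
        push_cast
        ring
      have h2 : classInner (fun m : N => (χ : G → ℂ) m) (fun m : N => ((f ξ m : ℂˣ) : ℂ)) =
          (((CharClifford.conjOrbit N θ).filter
            (fun ψ => ψ = fun m : N => ((f ξ m : ℂˣ) : ℂ))).card : ℂ) := by
        rw [hcl, Nat.cast_one, one_smul, CharCore.classInner_sum_left, ← Finset.sum_boole]
        refine Finset.sum_congr rfl fun ψ hψ => ?_
        obtain ⟨x, hx⟩ := (CharClifford.mem_conjOrbit N).mp hψ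
        have h3 := CharCore.classInner_irr (G := N) ⟨ψ, hx ▸ CharClifford.isIrrCharacter_conjFun N hθ x⟩
          ⟨_, CharCore.isIrrCharacter_hom (f ξ)⟩
        refine h3.trans ?_
        simp only [Subtype.mk.injEq]
      have h3 := h1.symm.trans h2
      have h4 : ((CharClifford.conjOrbit N θ).filter
            (fun ψ => ψ = fun m : N => ((f ξ m : ℂˣ) : ℂ))).card ≤ 1 :=
        Finset.card_le_one.mpr fun u hu v hv =>
          (Finset.mem_filter.mp hu).2.trans (Finset.mem_filter.mp hv).2.symm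
      have h5 := Finset.single_le_sum (f := fun ζ => b ζ * D ζ *
        (if (fun m : N => ((f ζ m : ℂˣ) : ℂ)) = (fun m : N => ((f ξ m : ℂˣ) : ℂ)) then 1 else 0))
        (fun _ _ => Nat.zero_le _) (Finset.mem_univ ξ)
      simp only [if_true, mul_one] at h5
      have h6 := Nat.cast_injective h3
      omega
    have hD1 : D ξ = 1 := by
      have := Nat.le_mul_of_pos_left (D ξ) (Nat.pos_of_ne_zero hbξ)
      have := hD0 ξ
      omega
    obtain ⟨g, hg⟩ := CharCore.IsCharacter.exists_hom_of_degree_one (CharCore.irr_isCharacter ξ)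
      (by rw [hD, hD1, Nat.cast_one])
    rw [hg]
    simp only [map_commutatorElement, map_one]
    rw [commutatorElement_eq_one_iff_mul_comm.mpr (mul_comm (g _) (g _)), Units.val_one]
  -- the permutation action
  let O := {ψ // ψ ∈ CharClifford.conjOrbit N θ}
  letI : MulAction G O :=
    { smul := fun g ψ => ⟨CharClifford.conjFun N g⁻¹ ψ.1, by
        obtain ⟨x, hx⟩ := (CharClifford.mem_conjOrbit N).mp ψ.2
        refine (CharClifford.mem_conjOrbit N).mpr ⟨x * g⁻¹, ?_⟩
        rw [← hx, CharClifford.conjFun_conjFun]⟩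
      one_smul := fun ψ => Subtype.ext (by
        show CharClifford.conjFun N (1 : G)⁻¹ ψ.1 = ψ.1
        rw [inv_one, CharClifford.conjFun_one])
      mul_smul := fun g g' ψ => Subtype.ext (by
        show CharClifford.conjFun N (g * g')⁻¹ ψ.1 =
          CharClifford.conjFun N g⁻¹ (CharClifford.conjFun N g'⁻¹ ψ.1)
        rw [CharClifford.conjFun_conjFun, mul_inv_rev]) }
  set K := (MulAction.toPermHom G O).ker with hK
  have hKC : K ≤ C := by
    intro g hg
    have hgi := inv_mem hg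
    refine Subgroup.mem_centralizer_iff.mpr fun m hm => ?_
    set m' : N := ⟨g * m * g⁻¹, ‹N.Normal›.conj_mem m hm g⟩
    have hw : (χ : G → ℂ) ((m' * (⟨m, hm⟩ : N)⁻¹ : N) : G) = (χ : G → ℂ) 1 := by
      rw [congrFun hcl _, hn, hcard]
      simp only [Nat.cast_one, one_smul, Finset.sum_apply]
      rw [Finset.sum_congr rfl (g := fun _ => (1 : ℂ)) fun ψ hψ => ?_, Finset.sum_const, nsmul_one]
      have h1 := congrArg Subtype.val (Equiv.Perm.ext_iff.mp (MonoidHom.mem_ker.mp hgi) ⟨ψ, hψ⟩)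
      change CharClifford.conjFun N g⁻¹⁻¹ ψ = ψ at h1
      rw [inv_inv] at h1
      have h2 := congrFun h1 ⟨m, hm⟩
      rw [CharClifford.conjFun_apply] at h2
      rw [hfl ψ hψ] at h2 ⊢
      simp only [map_mul, map_inv, Units.val_mul, Units.val_inv_eq_inv_val]
      rw [show ((fl ψ hψ m' : ℂˣ) : ℂ) = ((fl ψ hψ ⟨m, hm⟩ : ℂˣ) : ℂ) from h2,
        mul_inv_cancel₀ (Units.ne_zero _)]
    have h3 : g * m * g⁻¹ * m⁻¹ = 1 := hfaith _ hw
    rw [mul_inv_eq_one, mul_inv_eq_iff_eq_mul] at h3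
    exact h3.symm
  have hKidx : K.index ∣ n.factorial := by
    rw [hK, Subgroup.index_ker, hcard]
    refine (Subgroup.card_subgroup_dvd_card _).trans ?_
    rw [Nat.card_perm, Nat.card_eq_fintype_card, Fintype.card_coe]
  have hfact : ¬ p ^ 2 ∣ n.factorial := by
    intro h
    have h1 : 2 ≤ padicValNat p n.factorial :=
      (padicValNat_dvd_iff_le n.factorial_ne_zero).mp h
    rw [padicValNat_factorial (b := 2) (Nat.log_lt_of_lt_pow (by omega) (by nlinarith))] at h1
    simp only [Nat.Ico_succ_singleton, Finset.sum_singleton, pow_one] at h1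
    have : n / p < 2 := Nat.div_lt_of_lt_mul (by omega)
    omega
  have hCidx : ¬ p ^ 2 ∣ C.index := fun h =>
    hfact ((h.trans (Subgroup.index_dvd_of_le hKC)).trans hKidx)
  letI : CommGroup C := { (inferInstance : Group C) with mul_comm := hCab }
  obtain ⟨S⟩ := (inferInstance : Nonempty (Sylow p C))
  haveI : (S : Subgroup C).Normal := ⟨fun y hy g => by
    rwa [show g * y * g⁻¹ = y by rw [hCab g y, mul_inv_cancel_right]]⟩
  haveI := Sylow.characteristic_of_normal S inferInstance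
  set Q := (S : Subgroup C).map C.subtype
  have hQ : Q ≤ pCore p G := Thompson.le_pCore inferInstance (S.isPGroup'.map C.subtype)
  intro h
  have h1 : p ^ 2 ∣ (S : Subgroup C).index * C.index := by
    rw [← Subgroup.index_map_subtype]
    exact h.trans (Subgroup.index_dvd_of_le hQ)
  refine hCidx ((Nat.Coprime.dvd_of_dvd_mul_left ?_) h1)
  exact Nat.Coprime.pow_left 2 (hpp.coprime_iff_not_dvd.mpr S.not_dvd_index)

theorem main {G : Type u} [Group G] [Finite G] (χ : IrrCharacter G)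
    (hfaith : ∀ g : G, (χ : G → ℂ) g = (χ : G → ℂ) 1 → g = 1) {n : ℕ}
    (hn : (χ : G → ℂ) 1 = (n : ℂ)) (h7 : 7 ≤ p) (hn2 : n < 2 * p) (hnp : n ≠ p) :
    ((∃ P : Sylow p G, ∃ x ∈ (P : Subgroup G), ∃ y ∈ (P : Subgroup G), x * y ≠ y * x) →
      ¬ p ^ 2 ∣ (pCore p G).index) ∧
    ∀ Q : Sylow p (G ⧸ pCore p G), ∀ x ∈ (Q : Subgroup (G ⧸ pCore p G)),
      ∀ y ∈ (Q : Subgroup (G ⧸ pCore p G)), x * y = y * x := by
  have hmain : (∃ P : Sylow p G, ∃ x ∈ (P : Subgroup G), ∃ y ∈ (P : Subgroup G), x * y ≠ y * x) →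
      ¬ p ^ 2 ∣ (pCore p G).index := fun ⟨P, hP⟩ =>
    not_sq_dvd_index χ hfaith hn h7 hn2 hnp P hP
  refine ⟨hmain, fun Q => ?_⟩
  by_cases hex : ∃ P : Sylow p G, ∃ x ∈ (P : Subgroup G), ∃ y ∈ (P : Subgroup G), x * y ≠ y * x
  · have hnd := hmain hex
    obtain ⟨k, hk⟩ := IsPGroup.iff_card.mp Q.isPGroup'
    have hk1 : k ≤ 1 := by
      by_contra h
      refine hnd ((pow_dvd_pow p (show 2 ≤ k by omega)).trans (hk ▸ ?_))
      exact Subgroup.card_subgroup_dvd_card _
    have hcyc : IsCyclic (Q : Subgroup (G ⧸ pCore p G)) := by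
      rcases Nat.le_one_iff_eq_zero_or_eq_one.mp hk1 with h | h
      · haveI : Subsingleton (Q : Subgroup (G ⧸ pCore p G)) :=
          (Nat.card_eq_one_iff_unique.mp (by rw [hk, h, pow_zero])).1
        exact isCyclic_of_subsingleton
      · exact isCyclic_of_prime_card (p := p) (by rw [hk, h, pow_one])
    intro x hx y hy
    letI := hcyc.commGroup
    exact congrArg Subtype.val (mul_comm (⟨x, hx⟩ : (Q : Subgroup (G ⧸ pCore p G))) ⟨y, hy⟩)
  · obtain ⟨P, hP⟩ := Sylow.mapSurjective_surjective (QuotientGroup.mk'_surjective (pCore p G)) p Q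
    push Not at hex
    subst hP
    rintro _ ⟨a, ha, rfl⟩ _ ⟨b, hb, rfl⟩
    rw [← map_mul, ← map_mul, hex P a ha b hb]

end Cfsg.Agent.BlkChar.TwoP
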