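import Cfsg.Agent.FPFStructure.Counting
import Cfsg.Agent.Lib.CharClifford.Central
import Cfsg.Agent.Lib.CharClifford.Eigen
import Cfsg.Agent.Lib.CharClifford.Clifford
import Cfsg.Agent.Lib.CharCore.Basic
import Cfsg.Agent.Lib.CharInd.Char
import Cfsg.Agent.CharB.CentralExt

/-!
# Primitive linear groups of degree two
-/

set_option linter.unusedSectionVars false

open Cfsg Matrix
open scoped ComplexConjugate

namespace Cfsg.Agent.BlkChar.DegTwo

local notation "M₂" => Matrix (Fin 2) (Fin 2) ℂ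

/-- The off-scalar part of a `2 × 2` matrix. -/
def vec3 (A : M₂) : Fin 3 → ℂ := ![A 0 1, A 1 0, A 0 0 - A 1 1]

theorem vec3_ne_zero {A : M₂} (h : ∀ s : ℂ, A ≠ s • 1) : vec3 A ≠ 0 := by
  intro h0
  refine h (A 0 0) ?_
  have h1 := congrFun h0 0
  have h2 := congrFun h0 1
  have h3 := congrFun h0 2
  simp [vec3, sub_eq_zero] at h1 h2 h3
  ext i j
  fin_cases i <;> fin_cases j <;> simp [h1, h2, h3]

theorem vec3_parallel {A B : M₂} (hA : ∀ s : ℂ, A ≠ s • 1) (hc : B * A = A * B) :
    ∃ y : ℂ, vec3 B = y • vec3 A := by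
  have e00 := congrFun (congrFun hc 0) 0
  have e01 := congrFun (congrFun hc 0) 1
  have e10 := congrFun (congrFun hc 1) 0
  simp [Matrix.mul_apply, Fin.sum_univ_two] at e00 e01 e10
  have hx : ∀ i j : Fin 3, vec3 B i * vec3 A j = vec3 A i * vec3 B j := by
    intro i j
    fin_cases i <;> fin_cases j <;> simp [vec3] <;>
      first
        | linear_combination e00
        | linear_combination -e00
        | linear_combination e01
        | linear_combination -e01
        | linear_combination e10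
        | linear_combination -e10
        | ring
  obtain ⟨j, hj⟩ : ∃ j, vec3 A j ≠ 0 := by
    by_contra h
    push Not at h
    exact vec3_ne_zero hA (funext h)
  refine ⟨vec3 B j / vec3 A j, funext fun i => ?_⟩
  rw [Pi.smul_apply, smul_eq_mul, div_mul_eq_mul_div, eq_div_iff hj, hx i j, mul_comm]

theorem commute_of_commute {A B C : M₂} (hA : ∀ s : ℂ, A ≠ s • 1) (hB : B * A = A * B)
    (hC : C * A = A * C) : B * C = C * B := by
  obtain ⟨y, hy⟩ := vec3_parallel hA hB
  obtain ⟨z, hz⟩ := vec3_parallel hA hC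
  have y0 := congrFun hy 0
  have y1 := congrFun hy 1
  have y2 := congrFun hy 2
  have z0 := congrFun hz 0
  have z1 := congrFun hz 1
  have z2 := congrFun hz 2
  simp [vec3] at y0 y1 y2 z0 z1 z2
  ext i j
  fin_cases i <;> fin_cases j <;>
    simp [Matrix.mul_apply, Fin.sum_univ_two, y0, y1, z0, z1]
  · ring
  · linear_combination (z * A 0 1) * y2 - (y * A 0 1) * z2
  · linear_combination -(z * A 1 0) * y2 + (y * A 1 0) * z2
  · ring

theorem eq_one_or_neg_one {A : M₂} (hdet : A.det = 1) (hA : A * A = 1) : A = 1 ∨ A = -1 := by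
  rw [Matrix.det_fin_two] at hdet
  have e00 := congrFun (congrFun hA 0) 0
  have e01 := congrFun (congrFun hA 0) 1
  have e10 := congrFun (congrFun hA 1) 0
  have e11 := congrFun (congrFun hA 1) 1
  simp [Matrix.mul_apply, Fin.sum_univ_two] at e00 e01 e10 e11
  have t00 : (A 0 0 + A 1 1) * A 0 0 = 2 := by linear_combination e00 + hdet
  have t11 : (A 0 0 + A 1 1) * A 1 1 = 2 := by linear_combination e11 + hdet
  have ht : A 0 0 + A 1 1 ≠ 0 := fun h => by simp [h] at t00
  have hb : A 0 1 = 0 := by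
    refine (mul_eq_zero.mp (show (A 0 0 + A 1 1) * A 0 1 = 0 from ?_)).resolve_left ht
    linear_combination e01
  have hc : A 1 0 = 0 := by
    refine (mul_eq_zero.mp (show (A 0 0 + A 1 1) * A 1 0 = 0 from ?_)).resolve_left ht
    linear_combination e10
  have hd : A 0 0 = A 1 1 := mul_left_cancel₀ ht (t00.trans t11.symm)
  have h1 : A 0 0 * A 0 0 = 1 := by rw [hb, zero_mul, add_zero] at e00; exact e00
  rcases mul_self_eq_one_iff.mp h1 with h | h
  · left; ext i j; fin_cases i <;> fin_cases j <;> simp [hb, hc, ← hd, h]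
  · right; ext i j; fin_cases i <;> fin_cases j <;> simp [hb, hc, ← hd, h]

theorem disc_ne_zero {A : M₂} (hA : ∀ s : ℂ, A ≠ s • 1) (hdet : A.det = 1) {n : ℕ} (hn : 0 < n)
    (hpow : A ^ n = 1) : (A 0 0 - A 1 1) ^ 2 + 4 * A 0 1 * A 1 0 ≠ 0 := by
  intro hD
  set s := (A 0 0 + A 1 1) / 2 with hs
  set N := A - s • 1 with hN
  have hA' : A = s • 1 + N := by rw [hN]; abel
  have hN2 : N * N = 0 := by
    ext i j
    fin_cases i <;> fin_cases j <;>
      simp [hN, Matrix.mul_apply, Fin.sum_univ_two, hs] <;>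
      first
        | linear_combination hD / 4
        | ring
  have hs2 : s * s = 1 := by
    rw [Matrix.det_fin_two] at hdet
    rw [hs]
    linear_combination hdet + hD / 4
  have hs0 : s ≠ 0 := fun h => by rw [h, mul_zero] at hs2; exact zero_ne_one hs2
  have hp : ∀ k : ℕ, A ^ (k + 1) = s ^ (k + 1) • (1 : M₂) + ((k + 1 : ℕ) * s ^ k) • N := by
    intro k
    induction k with
    | zero => simp [← hA']
    | succ k ih =>
      rw [pow_succ, ih]
      nth_rw 1 [hA']
      simp only [add_mul, mul_add, smul_mul_assoc, mul_smul_comm, one_mul, mul_one, hN2, smul_zero,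
        add_zero, smul_add, smul_smul]
      push_cast
      rw [add_assoc, ← add_smul]
      congr 2 <;> ring
  obtain ⟨k, rfl⟩ : ∃ k, n = k + 1 := ⟨n - 1, by omega⟩
  rw [hp] at hpow
  have hc : ((k + 1 : ℕ) : ℂ) * s ^ k ≠ 0 :=
    mul_ne_zero (Nat.cast_ne_zero.mpr (by omega)) (pow_ne_zero _ hs0)
  refine hA ((s ^ (k + 1) - 1) * -(((k + 1 : ℕ) : ℂ) * s ^ k)⁻¹ * -1 * -1 + s) ?_
  have hN1 : N = (-(s ^ (k + 1) - 1) * (((k + 1 : ℕ) : ℂ) * s ^ k)⁻¹) • (1 : M₂) := by
    have h : ((k + 1 : ℕ) * s ^ k : ℂ) • N = (-(s ^ (k + 1) - 1)) • (1 : M₂) := by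
      rw [neg_smul, sub_smul, one_smul, eq_neg_iff_add_eq_zero, add_comm, sub_add_eq_add_sub,
        hpow, sub_self]
    rw [mul_comm, ← smul_smul, ← h, inv_smul_smul₀ hc]
  conv_lhs => rw [hA', hN1, ← add_smul]
  congr 1
  ring

theorem eq_or_mul_eq_one {A B : M₂} (hA : ∀ s : ℂ, A ≠ s • 1) (hdet : A.det = 1) {n : ℕ}
    (hn : 0 < n) (hpow : A ^ n = 1) (hdetB : B.det = 1) (htr : B.trace = A.trace)
    (hc : B * A = A * B) : B = A ∨ B * A = 1 := by
  have hD := disc_ne_zero hA hdet hn hpow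
  obtain ⟨y, hy⟩ := vec3_parallel hA hc
  have y0 := congrFun hy 0
  have y1 := congrFun hy 1
  have y2 := congrFun hy 2
  simp [vec3] at y0 y1 y2
  simp [Matrix.trace_fin_two] at htr
  rw [Matrix.det_fin_two] at hdet hdetB
  have hy2 : (y * y - 1) * ((A 0 0 - A 1 1) ^ 2 + 4 * A 0 1 * A 1 0) = 0 := by
    linear_combination (-4) * hdetB + 4 * hdet + (B 0 0 + B 1 1 + (A 0 0 + A 1 1)) * htr
      - (B 0 0 - B 1 1 + y * (A 0 0 - A 1 1)) * y2 - 4 * B 1 0 * y0 - 4 * y * A 0 1 * y1
  have hyy : y * y = 1 := sub_eq_zero.mp ((mul_eq_zero.mp hy2).resolve_right hD)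
  rcases mul_self_eq_one_iff.mp hyy with h | h <;> rw [h] at y0 y1 y2
  · left
    ext i j
    fin_cases i <;> fin_cases j <;> simp [y0, y1]
    · linear_combination (htr + y2) / 2
    · linear_combination (htr - y2) / 2
  · right
    have b00 : B 0 0 = A 1 1 := by linear_combination (htr + y2) / 2
    have b11 : B 1 1 = A 0 0 := by linear_combination (htr - y2) / 2
    ext i j
    fin_cases i <;> fin_cases j <;>
      simp [Matrix.mul_apply, Fin.sum_univ_two, y0, y1, b00, b11] <;>
      first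
        | linear_combination hdet
        | ring

variable {G : Type*} [Group G] [Fintype G]

/-- Matrices of a representation, together with a scalar. -/
noncomputable def scaleHom (ρ : Representation ℂ G (Fin 2 → ℂ)) : G × ℂˣ →* M₂ˣ :=
  MonoidHom.toHomUnits
    { toFun := fun x => (x.2 : ℂ) • LinearMap.toMatrixAlgEquiv' (ρ x.1)
      map_one' := by simp
      map_mul' := fun x y => by
        simp only [Prod.fst_mul, Prod.snd_mul, map_mul, Units.val_mul, smul_mul_assoc,
          mul_smul_comm, smul_smul]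
        congr 1
        ring }

/-- The pairs whose matrix has determinant one. -/
noncomputable def detOne (ρ : Representation ℂ G (Fin 2 → ℂ)) : Subgroup (G × ℂˣ) :=
  ((Units.map (Matrix.detMonoidHom : M₂ →* ℂ)).comp (scaleHom ρ)).ker

theorem index_center_of_primitive (χ : IrrCharacter G)
    (hfaith : ∀ g : G, (χ : G → ℂ) g = (χ : G → ℂ) 1 → g = 1) (h2 : (χ : G → ℂ) 1 = 2)
    (hprim : ∀ H : Subgroup G, H ≠ ⊤ → ∀ θ : H → ℂ, IsCharacter H θ →
      (χ : G → ℂ) ≠ indFun H θ) :
    (Subgroup.center G).index = 12 ∨ (Subgroup.center G).index = 24 ∨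
      (Subgroup.center G).index = 60 := by
  classical
  obtain ⟨n, ρ, hirr, hρ⟩ := χ.2
  have h1 : ρ.character 1 = (n : ℂ) := by simp
  rw [hρ, h2] at h1
  obtain rfl : n = 2 := by exact_mod_cast h1.symm
  haveI := hirr
  let R : G →* M₂ :=
    (LinearMap.toMatrixAlgEquiv' (R := ℂ) (n := Fin 2)).toRingEquiv.toMonoidHom.comp ρ
  have hRinj : Function.Injective R := by
    rw [injective_iff_map_eq_one]
    intro g hg
    have hg' : ρ g = 1 := (LinearMap.toMatrixAlgEquiv' (R := ℂ) (n := Fin 2)).injective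
      (hg.trans (map_one _).symm)
    refine hfaith g ?_
    rw [← hρ]
    simp only [Representation.character, hg', map_one]
  have hscal : ∀ g : G, (∃ s : ℂ, R g = s • 1) ↔ g ∈ Subgroup.center G := by
    intro g
    constructor
    · rintro ⟨s, hs⟩
      refine Subgroup.mem_center_iff.mpr fun x => hRinj ?_
      rw [map_mul, map_mul, hs, smul_mul_assoc, mul_smul_comm, one_mul, mul_one]
    · intro hg
      obtain ⟨c, hc⟩ := CharClifford.exists_scalar_of_mem_center ρ hg
      refine ⟨c, ?_⟩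
      show LinearMap.toMatrixAlgEquiv' (ρ g) = _
      rw [hc, map_smul, map_one]
  have hdetR : ∀ g : G, (R g).det ≠ 0 := fun g =>
    (((Group.isUnit g).map R).map (Matrix.detMonoidHom : M₂ →* ℂ)).ne_zero
  set F := scaleHom ρ with hF
  have hFval : ∀ x : G × ℂˣ, (F x : M₂) = (x.2 : ℂ) • R x.1 := fun x => rfl
  set K' := detOne ρ with hK'
  have hmemK : ∀ x : G × ℂˣ, x ∈ K' ↔ (x.2 : ℂ) ^ 2 * (R x.1).det = 1 := fun x => by
    rw [hK', detOne, MonoidHom.mem_ker, Units.ext_iff, Units.val_one, MonoidHom.comp_apply,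
      Units.coe_map]
    show ((F x : M₂).det = 1) ↔ _
    rw [hFval, Matrix.det_smul, Fintype.card_fin]
  let fst : K' →* G := (MonoidHom.fst G ℂˣ).comp K'.subtype
  have hfst : Function.Surjective fst := fun g => by
    obtain ⟨t, ht⟩ := IsAlgClosed.exists_pow_nat_eq ((R g).det)⁻¹ (show 0 < 2 by norm_num)
    have ht0 : t ≠ 0 := fun h => by
      rw [h, zero_pow two_ne_zero] at ht
      exact inv_ne_zero (hdetR g) ht.symm
    refine ⟨⟨(g, Units.mk0 t ht0), (hmemK _).mpr ?_⟩, rfl⟩
    show t ^ 2 * (R g).det = 1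
    rw [ht, inv_mul_cancel₀ (hdetR g)]
  have hfker : Nat.card fst.ker = 2 := by
    have hm : ((1 : G), (-1 : ℂˣ)) ∈ K' := (hmemK _).mpr (by simp)
    rw [Nat.card_eq_two_iff]
    refine ⟨⟨1, one_mem _⟩, ⟨⟨((1 : G), (-1 : ℂˣ)), hm⟩, rfl⟩, fun h => ?_, ?_⟩
    · have := congrArg (fun x : fst.ker => (((x : K') : G × ℂˣ).2 : ℂ)) h
      norm_num at this
    · refine Set.eq_univ_iff_forall.mpr fun ⟨⟨⟨g, t⟩, hgt⟩, hg⟩ => ?_
      obtain rfl : g = 1 := hg
      have ht := (hmemK _).mp hgt
      simp only [map_one, Matrix.det_one, mul_one, sq] at ht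
      rcases mul_self_eq_one_iff.mp ht with h | h
      · exact Or.inl (Subtype.ext (Subtype.ext (Prod.ext rfl (Units.ext h))))
      · exact Or.inr (Subtype.ext (Subtype.ext (Prod.ext rfl (Units.ext (by simpa using h)))))
  haveI : Finite fst.ker := Nat.finite_of_card_ne_zero (by omega)
  haveI : Finite K' := by
    haveI : Finite (K' ⧸ fst.ker) :=
      Finite.of_equiv G (QuotientGroup.quotientKerEquivOfSurjective fst hfst).symm.toEquiv
    exact Finite.of_subgroup_quotient fst.ker
  let π : K' →* M₂ˣ := F.comp K'.subtype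
  set K := π.range
  let p : K' →* K := π.rangeRestrict
  have hps : Function.Surjective p := MonoidHom.rangeRestrict_surjective π
  haveI : Finite K := Finite.of_surjective p hps
  have hval : ∀ x : K', ((p x : M₂ˣ) : M₂) = ((x : G × ℂˣ).2 : ℂ) • R (x : G × ℂˣ).1 :=
    fun x => hFval _
  have hdetK : ∀ k : K, ((k : M₂ˣ) : M₂).det = 1 := by
    intro k
    obtain ⟨x, rfl⟩ := hps k
    rw [hval, Matrix.det_smul, Fintype.card_fin]
    exact (hmemK _).mp x.2
  have hext : ∀ a b : K, ((a : M₂ˣ) : M₂) = ((b : M₂ˣ) : M₂) → a = b := fun a b h =>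
    Subtype.ext (Units.ext h)
  let ζ : K := p ⟨((1 : G), (-1 : ℂˣ)), (hmemK _).mpr (by simp)⟩
  have hζ : ((ζ : M₂ˣ) : M₂) = -1 := by
    rw [hval]; simp
  have hnonscal : ∀ k : K, k ≠ 1 → k ≠ ζ → ∀ s : ℂ, ((k : M₂ˣ) : M₂) ≠ s • 1 := by
    intro k hk1 hkζ s hs
    have hd := hdetK k
    rw [hs, Matrix.det_smul, Matrix.det_one, mul_one, Fintype.card_fin, sq] at hd
    rcases mul_self_eq_one_iff.mp hd with h | h
    · exact hk1 (hext _ _ (by rw [hs, h, one_smul]; rfl))
    · exact hkζ (hext _ _ (by rw [hs, h, hζ, neg_smul, one_smul]))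
  have hcomm : ∀ a b : K, Commute a b ↔
      ((a : M₂ˣ) : M₂) * ((b : M₂ˣ) : M₂) = ((b : M₂ˣ) : M₂) * ((a : M₂ˣ) : M₂) :=
    fun a b => ⟨fun h => congrArg (fun k : K => ((k : M₂ˣ) : M₂)) h.eq,
      fun h => hext (a * b) (b * a) h⟩
  have hT : FPFStructure.TwoDim ζ := by
    refine ⟨fun h => ?_, hext _ _ ?_, fun g => hext _ _ ?_, fun g hg => ?_,
      fun k h1 h2 a b ha hb => ?_, fun k h1 h2 g hg => ?_⟩
    · have h' := congrArg (fun k : K => ((k : M₂ˣ) : M₂) 0 0) h
      simp [hζ] at h'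
      norm_num at h'
    · simp [hζ]
    · simp [hζ]
    · rcases eq_one_or_neg_one (hdetK g) (congrArg (fun k : K => ((k : M₂ˣ) : M₂)) hg) with h | h
      · exact Or.inl (hext _ _ h)
      · exact Or.inr (hext _ _ (h.trans hζ.symm))
    · exact (hcomm a b).mpr (commute_of_commute (hnonscal k h1 h2) ((hcomm a k).mp ha)
        ((hcomm b k).mp hb))
    · have htr : (((g * k * g⁻¹ : K) : M₂ˣ) : M₂).trace = ((k : M₂ˣ) : M₂).trace := by
        show ((g : M₂ˣ) * (k : M₂ˣ) * (g : M₂ˣ)⁻¹ : M₂ˣ).val.trace = _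
        rw [Units.val_mul, Units.val_mul, Matrix.trace_units_conj]
      rcases eq_or_mul_eq_one (hnonscal k h1 h2) (hdetK k) (orderOf_pos k)
        (show ((k : M₂ˣ) : M₂) ^ orderOf k = 1 from
          congrArg (fun j : K => ((j : M₂ˣ) : M₂)) (pow_orderOf_eq_one k))
        (hdetK _) htr ((hcomm _ _).mp hg) with h | h
      · exact Or.inl (hext _ _ h)
      · exact Or.inr (eq_inv_of_mul_eq_one_left (hext (g * k * g⁻¹ * k) 1 h))
  -- orders
  have hkerp : Nat.card p.ker = Nat.card (Subgroup.center G) := by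
    refine Nat.card_congr (Equiv.ofBijective
      (fun x => (⟨((x : K') : G × ℂˣ).1, ?_⟩ : Subgroup.center G)) ⟨?_, ?_⟩)
    · refine (hscal _).mp ⟨((((x : K') : G × ℂˣ).2 : ℂ))⁻¹, ?_⟩
      have h : ((p (x : K') : M₂ˣ) : M₂) = 1 := by rw [MonoidHom.mem_ker.mp x.2]; rfl
      rw [hval] at h
      rw [← h, inv_smul_smul₀ (Units.ne_zero _)]
    · intro x y h
      have hg : ((x : K') : G × ℂˣ).1 = ((y : K') : G × ℂˣ).1 := congrArg Subtype.val h
      refine Subtype.ext (Subtype.ext (Prod.ext hg (Units.ext ?_)))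
      have hx : ((p (x : K') : M₂ˣ) : M₂) = 1 := by rw [MonoidHom.mem_ker.mp x.2]; rfl
      have hy : ((p (y : K') : M₂ˣ) : M₂) = 1 := by rw [MonoidHom.mem_ker.mp y.2]; rfl
      rw [hval] at hx hy
      rw [hg] at hx
      have hne : R ((y : K') : G × ℂˣ).1 ≠ 0 := fun h0 => hdetR _ (by rw [h0, Matrix.det_zero])
      exact smul_left_injective ℂ hne (hx.trans hy.symm)
    · rintro ⟨z, hz⟩
      obtain ⟨s, hs⟩ := (hscal z).mpr hz
      have hd : (R z).det = s ^ 2 := by
        rw [hs, Matrix.det_smul, Matrix.det_one, mul_one, Fintype.card_fin]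
      have hs0 : s ≠ 0 := fun h => hdetR z (by rw [hd, h, zero_pow two_ne_zero])
      refine ⟨⟨⟨(z, (Units.mk0 s hs0)⁻¹), (hmemK _).mpr ?_⟩, MonoidHom.mem_ker.mpr
        (hext _ _ ?_)⟩, rfl⟩
      · simp [hd, hs0]
      · rw [hval]
        simp [hs, smul_smul, hs0]
  have hcardK : Nat.card K = 2 * (Subgroup.center G).index := by
    have e1 := Subgroup.card_mul_index fst.ker
    rw [hfker, Subgroup.index_ker, MonoidHom.range_eq_top.mpr hfst, Subgroup.card_top] at e1
    have e2 := Subgroup.card_mul_index p.ker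
    rw [hkerp, Subgroup.index_ker, MonoidHom.range_eq_top.mpr hps, Subgroup.card_top, ← e1,
      ← Subgroup.card_mul_index (Subgroup.center G), mul_left_comm] at e2
    exact Nat.eq_of_mul_eq_mul_left Nat.card_pos e2
  -- a non-scalar element
  have hne : ∃ k : K, k ≠ 1 ∧ k ≠ ζ := by
    by_contra h
    push Not at h
    have hall : ∀ g : G, g ∈ Subgroup.center G := by
      intro g
      obtain ⟨x, rfl⟩ := hfst g
      refine (hscal _).mp ?_
      have hs : ∃ s : ℂ, ((p x : M₂ˣ) : M₂) = s • 1 := by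
        by_cases h1 : p x = 1
        · exact ⟨1, by rw [h1, one_smul]; rfl⟩
        · exact ⟨-1, by rw [h _ h1, hζ, neg_smul, one_smul]⟩
      obtain ⟨s, hs⟩ := hs
      rw [hval] at hs
      exact ⟨((x : G × ℂˣ).2 : ℂ)⁻¹ * s, by
        rw [← smul_smul, ← hs, inv_smul_smul₀ (Units.ne_zero _)]; rfl⟩
    obtain ⟨f, hf⟩ := CharB.exists_hom_of_isIrr_comm
      (fun a b => (Subgroup.mem_center_iff.mp (hall b) a)) χ.2
    rw [hf] at h2
    norm_num at h2
  rcases hT.order hne with ⟨k, hk1, hkζ, hk⟩ | h | h | h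
  · exfalso
    obtain ⟨x, rfl⟩ := hps k
    set g₀ := (x : G × ℂˣ).1 with hg₀
    set H := Subgroup.centralizer ({g₀} : Set G) with hH
    have hnons : ∀ s : ℂ, R g₀ ≠ s • 1 := by
      intro s hs
      refine hnonscal _ hk1 hkζ (((x : G × ℂˣ).2 : ℂ) * s) ?_
      rw [hval, ← hg₀, hs, smul_smul]
    have hHne : H ≠ ⊤ := by
      intro htop
      obtain ⟨s, hs⟩ := (hscal g₀).mpr (Subgroup.mem_center_iff.mpr fun y =>
        (Subgroup.mem_centralizer_singleton_iff.mp (show y ∈ H from htop.symm ▸ Subgroup.mem_top y)))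
      exact hnons s hs
    have hidx : H.index = 2 := by
      have hcomap : (Subgroup.centralizer ({p x} : Set K)).comap p = H.comap fst := by
        ext y
        simp only [Subgroup.mem_comap, Subgroup.mem_centralizer_singleton_iff, hH]
        show p y * p x = p x * p y ↔ (y : G × ℂˣ).1 * g₀ = g₀ * (y : G × ℂˣ).1
        constructor
        · intro h
          apply hRinj
          have h' := (hcomm _ _).mp h
          rw [hval, hval, smul_mul_smul_comm, smul_mul_smul_comm, mul_comm ((x : G × ℂˣ).2 : ℂ)]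
            at h'
          rw [map_mul, map_mul]
          exact smul_right_injective M₂ (mul_ne_zero (Units.ne_zero _) (Units.ne_zero _)) h'
        · intro h
          refine (hcomm _ _).mpr ?_
          rw [hval, hval, smul_mul_smul_comm, smul_mul_smul_comm, mul_comm ((x : G × ℂˣ).2 : ℂ),
            ← map_mul, ← hg₀, h, map_mul]
      have hi : (Subgroup.centralizer ({p x} : Set K)).index = H.index := by
        rw [← Subgroup.index_comap_of_surjective _ hps, hcomap,
          Subgroup.index_comap_of_surjective _ hfst]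
      have e := Subgroup.card_mul_index (Subgroup.centralizer ({p x} : Set K))
      rw [hi] at e
      have hpos : 0 < Nat.card (Subgroup.centralizer ({p x} : Set K)) := Nat.card_pos
      rcases hk with hk | hk
      · exact absurd (Nat.eq_of_mul_eq_mul_left hpos
          (e.trans (hk.symm.trans (mul_one _).symm))) fun h => hHne (Subgroup.index_eq_one.mp h)
      · exact Nat.eq_of_mul_eq_mul_left hpos (e.trans (hk.symm.trans (mul_comm _ _)))
    letI := Fintype.ofFinite H
    have hHab : ∀ a b : H, a * b = b * a := fun a b => Subtype.ext (hRinj (by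
      rw [Subgroup.coe_mul, Subgroup.coe_mul, map_mul, map_mul]
      refine commute_of_commute hnons ?_ ?_
      · rw [← map_mul, ← map_mul, Subgroup.mem_centralizer_singleton_iff.mp a.2]
      · rw [← map_mul, ← map_mul, Subgroup.mem_centralizer_singleton_iff.mp b.2]))
    have hres := CharCore.isCharacter_restrict (CharCore.irr_isCharacter χ) H
    obtain ⟨θ, hθ⟩ := CharClifford.exists_constituent hres
      (by show (χ : G → ℂ) 1 ≠ 0; exact CharCore.irr_apply_one_ne_zero χ)
    obtain ⟨l, hl⟩ := CharB.exists_hom_of_isIrr_comm hHab θ.2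
    have hθ1 : (θ : H → ℂ) 1 = 1 := by rw [hl]; simp
    have hθc := CharCore.irr_isCharacter θ
    have hindc := CharInd.isCharacter_indFun H hθc
    obtain ⟨a, ha⟩ := CharCore.IsCharacter.exists_sum hindc
    have haχ : a χ ≠ 0 := by
      intro h0
      apply hθ
      rw [← CharInd.classInner_indFun_right H (θ : H → ℂ) (CharCore.irr_isClassFunction χ),
        ← CharInd.classInner_swap, ha, CharCore.classInner_sum_all, h0, Nat.cast_zero, map_zero]
    refine hprim H hHne θ hθc ?_
    have hdeg : ∀ ψ : IrrCharacter G, ∃ d : ℕ, 0 < d ∧ (ψ : G → ℂ) 1 = d :=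
      fun ψ => CharCore.IsIrrCharacter.exists_degree ψ.2
    choose d hd0 hd using hdeg
    have hsum : ∑ ψ, a ψ * d ψ = 2 := by
      apply Nat.cast_injective (R := ℂ)
      have h := congrFun ha 1
      rw [CharInd.indFun_apply_one, hidx, hθ1, mul_one] at h
      push_cast
      refine Eq.trans ?_ h.symm
      simp [hd]
    have hdχ : d χ = 2 := by exact_mod_cast (hd χ).symm.trans h2
    rw [← Finset.add_sum_erase _ _ (Finset.mem_univ χ), hdχ] at hsum
    have haχ1 : a χ = 1 := by
      have := Nat.pos_of_ne_zero haχ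
      omega
    have hrest : ∑ ψ ∈ Finset.univ.erase χ, a ψ * d ψ = 0 := by
      rw [haχ1] at hsum
      omega
    rw [ha, ← Finset.add_sum_erase _ _ (Finset.mem_univ χ), haχ1, Nat.cast_one, one_smul,
      Finset.sum_eq_zero fun ψ hψ => ?_, add_zero]
    rw [(Nat.mul_eq_zero.mp (Finset.sum_eq_zero_iff.mp hrest ψ hψ)).resolve_right (hd0 ψ).ne',
      Nat.cast_zero, zero_smul]
  · have := h.1; rw [hcardK] at this; left; omega
  · have := h.1; rw [hcardK] at this; right; left; omega
  · have := h.1; rw [hcardK] at this; right; right; omega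

end Cfsg.Agent.BlkChar.DegTwo
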