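import Cfsg.Agent.BlkChar.Jordan
import Cfsg.Agent.BlkChar.LargePrimes
import Cfsg.Agent.Lib.CharCore.Glauberman
import Cfsg.Agent.Lib.CharCore.InvariantOver
import Cfsg.Agent.Lib.PGroup.NormalAbelian
import Mathlib.NumberTheory.PrimeCounting
import Mathlib.GroupTheory.GroupAction.SubMulAction

/-!
# The explicit bound for the index of an abelian normal subgroup of a linear group
-/

namespace Cfsg.Agent.BlkChar

universe u

/-- A self-centralizing normal abelian subgroup of a linear group of degree `n` has index dividing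
`n!`. -/
theorem index_dvd_factorial {P : Type u} [Group P] [Finite P] {χ : P → ℂ} (hχ : IsCharacter P χ)
    (hfaith : ∀ g : P, χ g = χ 1 → g = 1) {n : ℕ} (hn : χ 1 = n) (A : Subgroup P) [A.Normal]
    (hab : ∀ x ∈ A, ∀ y ∈ A, x * y = y * x)
    (hself : Subgroup.centralizer (A : Set P) = A) : A.index ∣ n.factorial := by
  classical
  haveI := Fintype.ofFinite P
  haveI := Fintype.ofFinite A
  let φ : P →* MulAut A := MulAut.conjNormal
  letI : MulAction P (IrrCharacter A) := CharCore.irrAction φ
  have hsm : ∀ (g : P) (l : IrrCharacter A) (a : A),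
      ((g • l : IrrCharacter A) : A → ℂ) a = (l : A → ℂ) ((φ g)⁻¹ a) := fun _ _ _ => rfl
  have hres := CharCore.isCharacter_restrict hχ A
  let L : SubMulAction P (IrrCharacter A) :=
    { carrier := {l | classInner (fun a : A => χ a) (l : A → ℂ) ≠ 0}
      smul_mem' := fun g l hl => by
        refine (fun h => hl (Eq.trans ?_ h) : classInner (fun a : A => χ a)
          ((g • l : IrrCharacter A) : A → ℂ) ≠ 0)
        simp only [CharCore.classInner_def, hsm]
        congr 1
        refine Fintype.sum_equiv (φ g).toEquiv _ _ fun a => ?_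
        have h1 : χ ((φ g a : A) : P) = χ (a : P) := by
          show χ (g * (a : P) * g⁻¹) = χ (a : P)
          exact CharCore.IsCharacter.isClassFunction hχ _ _
        simp only [MulEquiv.toEquiv_eq_coe, MulEquiv.coe_toEquiv]
        rw [h1, MulAut.inv_apply, MulEquiv.symm_apply_apply] }
  let f : P →* Equiv.Perm L := MulAction.toPermHom P L
  have hker : f.ker ≤ A := by
    intro g hg
    rw [← hself, Subgroup.mem_centralizer_iff]
    intro a ha
    have h0 : ∀ l : IrrCharacter A, classInner (fun a : A => χ a) (l : A → ℂ) ≠ 0 →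
        ∀ b : A, (l : A → ℂ) b = (l : A → ℂ) ((φ g)⁻¹ b) := by
      intro l hl b
      have h1 : (⟨l, hl⟩ : L) = g • (⟨l, hl⟩ : L) :=
        (DFunLike.congr_fun (MonoidHom.mem_ker.mp hg) (⟨l, hl⟩ : L)).symm
      have h2 : l = g • l := congrArg Subtype.val h1
      exact (congrFun (congrArg Subtype.val h2) b).trans (hsm g l b)
    have h3 : (⟨a, ha⟩ : A)⁻¹ * (φ g) ⟨a, ha⟩ = 1 := by
      refine eq_one_of_constituents (G := A) hres
        (fun b hb => Subtype.ext (hfaith (b : P) (hb.trans (congrArg χ A.coe_one)))) fun l hl => ?_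
      have hlin : (l : A → ℂ) 1 = 1 := by
        haveI := Fintype.ofFinite (⊥ : Subgroup A)
        refine CharCore.degree_one_of_inv (⊥ : Subgroup A) ?_ l fun z g => by
          rw [Subgroup.mem_bot.mp z.2, one_mul]
        rw [commutator_def, Subgroup.commutator_le]
        intro x _ y _
        rw [Subgroup.mem_bot, commutatorElement_eq_one_iff_mul_comm]
        exact Subtype.ext (hab x x.2 y y.2)
      obtain ⟨h, hh⟩ := CharCore.IsCharacter.exists_hom_of_degree_one (CharCore.irr_isCharacter l) hlin
      have h4 := h0 l hl ((φ g) ⟨a, ha⟩)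
      rw [MulAut.inv_apply, MulEquiv.symm_apply_apply, hh] at h4
      rw [hh]
      have h5 : h ((φ g) ⟨a, ha⟩) = h ⟨a, ha⟩ := Units.ext h4
      simp [h5]
    have h6 : g * a * g⁻¹ = a := (congrArg Subtype.val (inv_mul_eq_one.mp h3)).symm
    calc a * g = (g * a * g⁻¹) * g := by rw [h6]
      _ = g * a := by group
  refine (Subgroup.index_dvd_of_le hker).trans ?_
  rw [Subgroup.index_ker]
  refine (Subgroup.card_subgroup_dvd_card f.range).trans ?_
  rw [Nat.card_perm]
  refine Nat.factorial_dvd_factorial ?_
  choose m hm using fun l => CharCore.IsCharacter.exists_classInner_irr_eq_natCast hres l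
  choose d hd0 hd1 hdd using fun l : IrrCharacter A => exists_degree' l
  have h1 := congrFun (CharCore.IsCharacter.eq_sum_classInner hres) 1
  simp only [Finset.sum_apply, Pi.smul_apply, smul_eq_mul, hm, hd1, OneMemClass.coe_one, hn] at h1
  have h2 : n = ∑ l, m l * d l := by exact_mod_cast h1
  have h3 : Nat.card L = (Finset.univ.filter fun l => m l ≠ 0).card := by
    rw [← Fintype.card_subtype, ← Nat.card_eq_fintype_card]
    refine Nat.card_congr (Equiv.subtypeEquivRight fun l => ?_)
    show classInner (fun a : A => χ a) (l : A → ℂ) ≠ 0 ↔ _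
    rw [hm, Nat.cast_ne_zero]
  rw [h3, h2, Finset.card_eq_sum_ones]
  exact (Finset.sum_le_sum fun l hl => Nat.one_le_iff_ne_zero.mpr
    (Nat.mul_ne_zero (Finset.mem_filter.mp hl).2 (hd0 l).ne')).trans
    (Finset.sum_le_sum_of_subset (Finset.subset_univ _))

/-- Assembling the bound from the primes up to `n + 1` and one Hall subgroup for the others. -/
theorem index_le_of_local {G : Type u} [Group G] [Finite G] (A H : Subgroup G) [A.Normal] (n c : ℕ)
    (hsmall : ∀ p : ℕ, p.Prime → p ≤ n + 1 →
      p ^ A.index.factorization p ≤ p ^ n.factorial.factorization p * c)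
    (hH : A.relIndex H ≤ c) (hHi : ∀ q : ℕ, q.Prime → n + 1 < q → ¬ q ∣ H.index) :
    A.index ≤ n.factorial * c ^ (Nat.primeCounting (n + 1) + 1) := by
  classical
  set s := (Finset.range (n + 2)).filter Nat.Prime with hs
  set S := ∏ p ∈ s, p ^ A.index.factorization p with hS
  have hI : A.index ≠ 0 := Subgroup.FiniteIndex.index_ne_zero
  have hR : A.relIndex H ≠ 0 := ((A.subgroupOf H).index_ne_zero_of_finite)
  have hS0 : S ≠ 0 := Finset.prod_ne_zero_iff.mpr fun p hp =>
    pow_ne_zero _ (Finset.mem_filter.mp hp).2.ne_zero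
  have hdvd : A.index ∣ S * A.relIndex H := by
    rw [Nat.dvd_iff_prime_pow_dvd_dvd]
    intro p k hp hk
    by_cases hpn : p ≤ n + 1
    · refine Dvd.dvd.mul_right (((Nat.pow_dvd_pow_iff_le_right hp.one_lt).mpr
        ((hp.pow_dvd_iff_le_factorization hI).mp hk)).trans ?_) _
      exact Finset.dvd_prod_of_mem (fun p => p ^ A.index.factorization p)
        (Finset.mem_filter.mpr ⟨Finset.mem_range.mpr (by omega), hp⟩)
    · refine Dvd.dvd.mul_left ?_ _
      have h1 : A.index ∣ A.relIndex H * H.index := by
        rw [← Subgroup.inf_relIndex_right, Subgroup.relIndex_mul_index inf_le_right]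
        exact Subgroup.index_dvd_of_le inf_le_left
      exact (((hp.coprime_iff_not_dvd).mpr (hHi p hp (by omega))).pow_left k).dvd_of_dvd_mul_right
        (hk.trans h1)
  have hfac : ∏ p ∈ s, p ^ n.factorial.factorization p ≤ n.factorial := by
    conv_rhs => rw [Nat.prod_primeFactors_pow_factorization (Nat.factorial_ne_zero n)]
    rw [← Finset.prod_filter_of_ne (p := fun p => p ∈ n.factorial.primeFactors) (fun p _ h => by
      by_contra hc
      exact h (by rw [← Nat.support_factorization, Finsupp.notMem_support_iff] at hc; rw [hc, pow_zero]))]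
    exact Finset.prod_le_prod_of_subset_of_one_le' (fun p hp => (Finset.mem_filter.mp hp).2)
      (fun p hp _ => Nat.one_le_pow _ _ (Nat.prime_of_mem_primeFactors hp).pos)
  have hcard : s.card = Nat.primeCounting (n + 1) := by
    rw [hs, Nat.primeCounting, Nat.primeCounting', Nat.count_eq_card_filter_range]
  calc A.index ≤ S * A.relIndex H :=
        Nat.le_of_dvd (Nat.pos_of_ne_zero (Nat.mul_ne_zero hS0 hR)) hdvd
    _ ≤ (∏ p ∈ s, (p ^ n.factorial.factorization p * c)) * c := by
        refine Nat.mul_le_mul (Finset.prod_le_prod' fun p hp => ?_) hH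
        have := Finset.mem_filter.mp hp
        exact hsmall p this.2 (by have := Finset.mem_range.mp this.1; omega)
    _ ≤ n.factorial * c ^ (Nat.primeCounting (n + 1) + 1) := by
        rw [Finset.prod_mul_distrib, Finset.prod_const, hcard, mul_assoc, ← pow_succ]
        exact Nat.mul_le_mul_right _ hfac

end Cfsg.Agent.BlkChar
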