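import Cfsg.Agent.BlkChar.SmallCofactor
import Cfsg.Agent.BlkChar.DegreeTwo
import Cfsg.Agent.BlkChar.JordanBound
import Cfsg.Agent.Lib.PGroup.NormalAbelian
import Cfsg.Agent.Lib.SmallGroups.Basic

/-!
# Simple groups with a faithful irreducible representation of degree three

Abelian subgroups have at most `36` elements, the automiser of a self-centralizing subgroup of
prime order `r ≥ 5` has order dividing `2` or `3`, and some configurations with a Sylow
`5`-subgroup of order `25` do not occur.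
-/

set_option linter.unusedSectionVars false

open Cfsg Module
open scoped ComplexConjugate commutatorElement

namespace Cfsg.Agent.BlkChar.Three

open Cofactor

variable {G : Type*} [Group G] [Finite G] [IsSimpleGroup G]
  {ρ : Representation ℂ G (Fin 3 → ℂ)} [ρ.IsIrreducible]

theorem sq_zmod_five : ∀ x : ZMod 5, x ^ 3 = 1 → x ^ 2 = 1 := by decide

theorem eigen_mem {V : Type*} [AddCommGroup V] [Module ℂ V] {ι : Type*} [Fintype ι]
    (T : V →ₗ[ℂ] V) (b : Basis ι ℂ V) (μ : ι → ℂ) (hb : ∀ i, T (b i) = μ i • b i) {c : ℂ} {v : V}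
    (hv : v ≠ 0) (he : T v = c • v) : ∃ i, c = μ i := by
  classical
  obtain ⟨i, hi⟩ : ∃ i, b.repr v i ≠ 0 := by
    by_contra h
    push Not at h
    exact hv (b.repr.map_eq_zero_iff.mp (Finsupp.ext h))
  refine ⟨i, mul_right_cancel₀ hi ?_⟩
  have h1 : b.repr (T v) i = μ i * b.repr v i := by
    conv_lhs => rw [← b.sum_repr v]
    simp only [map_sum, map_smul, hb, smul_smul, b.repr_self, Finsupp.coe_finsetSum,
      Finset.sum_apply, Finsupp.smul_apply, smul_eq_mul]
    rw [Finset.sum_eq_single i]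
    · rw [Finsupp.single_eq_same, mul_one, mul_comm]
    · intro k _ hk
      rw [Finsupp.single_eq_of_ne (Ne.symm hk), mul_zero]
    · simp
  rw [he, map_smul, Finsupp.smul_apply, smul_eq_mul] at h1
  exact h1

theorem stdChar_injective (n : ℕ) [NeZero n] : Function.Injective (stdChar n) := fun x y h => by
  rw [stdChar_apply, stdChar_apply] at h
  exact ZMod.val_injective n
    ((Complex.isPrimitiveRoot_exp n (NeZero.ne n)).pow_inj (ZMod.val_lt x) (ZMod.val_lt y) h)

theorem norm_stdChar (n : ℕ) [NeZero n] (x : ZMod n) : ‖stdChar n x‖ = 1 := by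
  rw [stdChar_apply, norm_pow,
    Complex.norm_eq_one_of_pow_eq_one (Complex.isPrimitiveRoot_exp n (NeZero.ne n)).pow_eq_one
      (NeZero.ne n), one_pow]

variable (hinj : Function.Injective ρ) (hZ : ∀ g : G, g ∈ Subgroup.center G → g = 1)

theorem exists_exps (ρ : Representation ℂ G (Fin 3 → ℂ)) {r : ℕ} [Fact r.Prime] {y : G}
    (hy : orderOf y = r) :
    ∃ (b : Basis (Fin (finrank ℂ (Fin 3 → ℂ))) ℂ (Fin 3 → ℂ))
      (j : Fin (finrank ℂ (Fin 3 → ℂ)) → ZMod r),
      ∀ (k : ℕ) i, ρ (y ^ k) (b i) = stdChar r ((k : ZMod r) * j i) • b i := by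
  haveI : NeZero r := ⟨(Fact.out : r.Prime).ne_zero⟩
  obtain ⟨b, μ, hμ, hb, -⟩ := CharClifford.exists_eigenvalues ρ y (NeZero.ne r)
    (hy ▸ pow_orderOf_eq_one y)
  have hjex : ∀ i, ∃ j : ZMod r, stdChar r j = μ i := fun i => by
    obtain ⟨l, -, hl⟩ :=
      (Complex.isPrimitiveRoot_exp r (NeZero.ne r)).eq_pow_of_pow_eq_one (hμ i)
    exact ⟨(l : ZMod r), by rw [stdChar_natCast]; exact hl⟩
  choose j hj using hjex
  refine ⟨b, j, fun k i => ?_⟩
  rw [← nsmul_eq_mul, AddChar.map_nsmul_eq_pow, hj]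
  induction k with
  | zero => simp
  | succ k ih => rw [pow_succ' y, map_mul, Module.End.mul_apply, ih, map_smul, hb, smul_smul, ← pow_succ]

include hinj hZ

/-- No element has an eigenvalue near all its eigenvalues. -/
theorem false_of_basis {y : G} (hy1 : y ≠ 1) {ι : Type} [Fintype ι]
    (b : Basis ι ℂ (Fin 3 → ℂ)) (μ : ι → ℂ) (hb : ∀ i, ρ y (b i) = μ i • b i) (i₀ : ι)
    (hn : ‖μ i₀‖ = 1) (h : ∀ i, ‖μ i - μ i₀‖ < 1) : False := by
  refine Arc.false_of_arc ρ hinj hZ hy1 hn (b.ne_zero i₀) (hb i₀) ?_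
  rintro c ⟨v, hv, he⟩
  obtain ⟨i, rfl⟩ := eigen_mem (ρ y) b μ hb hv he
  exact h i

section Prime

variable {r : ℕ} [hr : Fact r.Prime] {y : G} (hy : orderOf y = r)
  {b : Basis (Fin (finrank ℂ (Fin 3 → ℂ))) ℂ (Fin 3 → ℂ)}
  {j : Fin (finrank ℂ (Fin 3 → ℂ)) → ZMod r}
  (hb : ∀ (k : ℕ) i, ρ (y ^ k) (b i) = stdChar r ((k : ZMod r) * j i) • b i)

include hy hb

theorem false_of_exps (k : ZMod r) (hk : k ≠ 0) (i₀ : Fin (finrank ℂ (Fin 3 → ℂ)))
    (h : ∀ i, ‖stdChar r (k * (j i - j i₀)) - 1‖ < 1) : False := by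
  refine false_of_basis hinj hZ (y := y ^ k.val) ?_ b (fun i => stdChar r (k * j i))
    (fun i => ?_) i₀ (norm_stdChar r _) fun i => ?_
  · rw [Ne, ← orderOf_dvd_iff_pow_eq_one, hy, ← ZMod.natCast_eq_zero_iff, ZMod.natCast_zmod_val]
    exact hk
  · rw [hb, ZMod.natCast_zmod_val]
  · show ‖stdChar r (k * j i) - stdChar r (k * j i₀)‖ < 1
    have e : stdChar r (k * j i) = stdChar r (k * j i₀) * stdChar r (k * (j i - j i₀)) := by
      rw [← AddChar.map_add_eq_mul]
      congr 1
      ring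
    rw [e, ← mul_sub_one, norm_mul, norm_stdChar, one_mul]
    exact h i

theorem exists_exp_ne_zero : ∃ i, j i ≠ 0 := by
  by_contra h
  push Not at h
  have h1 : ρ y = 1 := b.ext fun i => by
    have h2 := hb 1 i
    rw [pow_one, h i, mul_zero, AddChar.map_zero_eq_one, one_smul] at h2
    rw [h2]
    rfl
  have h3 := hinj (h1.trans (map_one ρ).symm)
  rw [h3, orderOf_one] at hy
  exact hr.out.ne_one hy.symm

theorem mul_exp_mem {g : G} {s : ℕ} (hg : g * y * g⁻¹ = y ^ s) (i) :
    ∃ i', (s : ZMod r) * j i = j i' := by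
  set v := ρ g⁻¹ (b i) with hv
  have hv0 : v ≠ 0 := fun h => b.ne_zero i (by
    have := congrArg (ρ g) h
    rwa [map_zero, hv, ← Module.End.mul_apply, ← map_mul, mul_inv_cancel, map_one,
      Module.End.one_apply] at this)
  have he : ρ (y ^ 1) v = stdChar r ((s : ZMod r) * j i) • v := by
    rw [hv, ← Module.End.mul_apply, ← map_mul, pow_one,
      show y * g⁻¹ = g⁻¹ * y ^ s by rw [← hg]; group, map_mul, Module.End.mul_apply, hb, map_smul]
  obtain ⟨i', hi'⟩ := eigen_mem (ρ (y ^ 1)) b _ (hb 1) hv0 he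
  exact ⟨i', stdChar_injective r (hi'.trans (by rw [Nat.cast_one, one_mul]))⟩

theorem pow_mul_exp_mem {g : G} {s : ℕ} (hg : g * y * g⁻¹ = y ^ s) (t : ℕ) (i) :
    (s : ZMod r) ^ t * j i ∈ Finset.univ.image j := by
  classical
  induction t with
  | zero => simp
  | succ t ih =>
    obtain ⟨i', -, hi'⟩ := Finset.mem_image.mp ih
    obtain ⟨i'', hi''⟩ := mul_exp_mem hinj hZ hy hb hg i'
    refine Finset.mem_image.mpr ⟨i'', Finset.mem_univ _, ?_⟩
    rw [← hi'', hi', pow_succ']
    ring

theorem exists_pow_eq_one {g : G} {s : ℕ} (hg : g * y * g⁻¹ = y ^ s) :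
    (s : ZMod r) = 1 ∨ (s : ZMod r) ^ 2 = 1 ∨ (s : ZMod r) ^ 3 = 1 := by
  classical
  obtain ⟨i, hi⟩ := exists_exp_ne_zero hinj hZ hy hb
  have hcard : (Finset.univ.image j).card < (Finset.range 4).card := by
    refine lt_of_le_of_lt Finset.card_image_le ?_
    simp
  obtain ⟨t, ht, u, hu, htu, he⟩ := Finset.exists_ne_map_eq_of_card_lt_of_maps_to hcard
    (f := fun t => (s : ZMod r) ^ t * j i) fun t _ => pow_mul_exp_mem hinj hZ hy hb hg t i
  have h1 := mul_right_cancel₀ hi he
  have hs0 : (s : ZMod r) ≠ 0 := by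
    rw [Ne, ZMod.natCast_eq_zero_iff]
    intro hdvd
    rw [orderOf_dvd_iff_pow_eq_one.mp (hy.symm ▸ hdvd), mul_inv_eq_one] at hg
    have hy1 : y = 1 := mul_eq_left.mp hg
    rw [hy1, orderOf_one] at hy
    exact hr.out.ne_one hy.symm
  have key : ∀ a c : ℕ, a < c → (s : ZMod r) ^ a = (s : ZMod r) ^ c →
      (s : ZMod r) ^ (c - a) = 1 := fun a c hac h => by
    refine mul_left_cancel₀ (pow_ne_zero a hs0) ?_
    rw [← pow_add, Nat.add_sub_cancel' hac.le, mul_one, h]
  simp only [Finset.mem_range] at ht hu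
  rcases Nat.lt_or_ge t u with h | h
  · have h2 := key t u h h1
    rcases (by omega : u - t = 1 ∨ u - t = 2 ∨ u - t = 3) with e | e | e <;> rw [e] at h2
    · exact Or.inl (by rwa [pow_one] at h2)
    · exact Or.inr (Or.inl h2)
    · exact Or.inr (Or.inr h2)
  · have h2 := key u t (by omega) h1.symm
    rcases (by omega : t - u = 1 ∨ t - u = 2 ∨ t - u = 3) with e | e | e <;> rw [e] at h2
    · exact Or.inl (by rwa [pow_one] at h2)
    · exact Or.inr (Or.inl h2)
    · exact Or.inr (Or.inr h2)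

/-- No element of order at least `7` is inverted. -/
theorem cube_eq_one (h7 : 7 ≤ r) {g : G} {s : ℕ} (hg : g * y * g⁻¹ = y ^ s) :
    (s : ZMod r) ^ 3 = 1 := by
  classical
  rcases exists_pow_eq_one hinj hZ hy hb hg with h | h | h
  · rw [h, one_pow]
  · rcases mul_self_eq_one_iff.mp ((pow_two _).symm.trans h) with h1 | h1
    · rw [h1, one_pow]
    exfalso
    have hneg : ∀ i, ∃ i', j i' = -j i := fun i => by
      obtain ⟨i', hi'⟩ := mul_exp_mem hinj hZ hy hb hg i
      exact ⟨i', by rw [← hi', h1, neg_one_mul]⟩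
    obtain ⟨i, hi⟩ := exists_exp_ne_zero hinj hZ hy hb
    have h20 : (2 : ZMod r) ≠ 0 := by
      rw [show (2 : ZMod r) = ((2 : ℕ) : ZMod r) from rfl, Ne, ZMod.natCast_eq_zero_iff]
      exact fun h => by have := Nat.le_of_dvd two_pos h; omega
    have hcell : 6 * 1 / r = 0 := Nat.div_eq_of_lt (by omega)
    have hpos : ‖stdChar r (1 : ZMod r) - 1‖ < 1 := by
      have := norm_stdChar_sub_one_lt (1 : ZMod r) 0 (by
        haveI : Fact (1 < r) := ⟨hr.out.one_lt⟩
        rw [ZMod.val_one, ZMod.val_zero, mul_zero, Nat.zero_div, hcell])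
      rwa [sub_zero] at this
    have hmin : ‖stdChar r (-1 : ZMod r) - 1‖ < 1 := by
      have := norm_stdChar_sub_one_lt (0 : ZMod r) 1 (by
        haveI : Fact (1 < r) := ⟨hr.out.one_lt⟩
        rw [ZMod.val_one, ZMod.val_zero, mul_zero, Nat.zero_div, hcell])
      rwa [zero_sub] at this
    have hzero : ‖stdChar r (0 : ZMod r) - 1‖ < 1 := by simp
    obtain ⟨i', hi'⟩ := hneg i
    have hne : ∀ x : ZMod r, x ≠ 0 → x ≠ -x := fun x hx he => hx (by
      have : (2 : ZMod r) * x = 0 := by linear_combination he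
      exact (mul_eq_zero.mp this).resolve_left h20)
    have hcard : (Finset.univ.image j).card ≤ 3 :=
      Finset.card_image_le.trans (by simp)
    -- the exponents are `0`, `u`, `-u`
    have hthree : ∀ l, j l = 0 ∨ j l = j i ∨ j l = -j i := by
      intro l
      by_contra hl
      push Not at hl
      obtain ⟨l', hl'⟩ := hneg l
      have hsub : ({j i, -j i, j l, -j l} : Finset (ZMod r)) ⊆ Finset.univ.image j := by
        intro x hx
        simp only [Finset.mem_insert, Finset.mem_singleton] at hx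
        rcases hx with rfl | rfl | rfl | rfl
        · exact Finset.mem_image_of_mem _ (Finset.mem_univ i)
        · exact hi' ▸ Finset.mem_image_of_mem _ (Finset.mem_univ i')
        · exact Finset.mem_image_of_mem _ (Finset.mem_univ l)
        · exact hl' ▸ Finset.mem_image_of_mem _ (Finset.mem_univ l')
      have h4 := (Finset.card_le_card hsub).trans hcard
      rw [Finset.card_insert_of_notMem, Finset.card_insert_of_notMem,
        Finset.card_pair (hne _ hl.1)] at h4
      · omega
      · simp only [Finset.mem_insert, Finset.mem_singleton, not_or]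
        exact ⟨fun he => hl.2.2 he.symm, fun he => hl.2.1 (neg_inj.mp he).symm⟩
      · simp only [Finset.mem_insert, Finset.mem_singleton, not_or]
        exact ⟨hne _ hi, fun he => hl.2.1 he.symm, fun he => hl.2.2 (by rw [he, neg_neg])⟩
    by_cases h0 : ∃ l, j l = 0
    · obtain ⟨l₀, hl₀⟩ := h0
      refine false_of_exps hinj hZ hy hb (j i)⁻¹ (inv_ne_zero hi) l₀ fun l => ?_
      rw [hl₀, sub_zero]
      rcases hthree l with e | e | e <;> rw [e]
      · rwa [mul_zero]
      · rwa [inv_mul_cancel₀ hi]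
      · rwa [mul_neg, inv_mul_cancel₀ hi]
    · push Not at h0
      refine false_of_exps hinj hZ hy hb (2 * j i)⁻¹ (inv_ne_zero (mul_ne_zero h20 hi)) i
        fun l => ?_
      rcases hthree l with e | e | e
      · exact absurd e (h0 l)
      · rw [e, sub_self, mul_zero]; exact hzero
      · rw [e, show -j i - j i = -(2 * j i) by ring, mul_neg,
          inv_mul_cancel₀ (mul_ne_zero h20 hi)]
        exact hmin
  · exact h

theorem sq_eq_one (h5 : r = 5) {g : G} {s : ℕ} (hg : g * y * g⁻¹ = y ^ s) :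
    (s : ZMod r) ^ 2 = 1 := by
  subst h5
  rcases exists_pow_eq_one hinj hZ hy hb hg with h | h | h
  · rw [h, one_pow]
  · exact h
  · exact sq_zmod_five _ h

end Prime

/-- The automiser of a self-centralizing subgroup of prime order. -/
theorem relIndex_dvd {r : ℕ} [Fact r.Prime] (h5 : 5 ≤ r) (S : Subgroup G) (hS : Nat.card S = r) :
    (r = 5 → (Subgroup.centralizer (S : Set G)).relIndex (Subgroup.normalizer (S : Set G)) ∣ 2) ∧
    (7 ≤ r → (Subgroup.centralizer (S : Set G)).relIndex (Subgroup.normalizer (S : Set G)) ∣ 3) := by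
  classical
  haveI : IsCyclic S := isCyclic_of_prime_card hS
  obtain ⟨⟨y, hyS⟩, hgen⟩ := IsCyclic.exists_generator (α := S)
  have hy : orderOf y = r := by
    rw [← hS, ← orderOf_eq_card_of_forall_mem_zpowers hgen, Subgroup.orderOf_mk]
  obtain ⟨b, j, hb⟩ := exists_exps ρ hy
  set φ := S.normalizerMonoidHom with hφ
  have hrel : (Subgroup.centralizer (S : Set G)).relIndex (Subgroup.normalizer (S : Set G)) =
      Nat.card φ.range := by
    rw [Subgroup.relIndex, ← Subgroup.index_ker, hφ, Subgroup.normalizerMonoidHom_ker]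
  haveI : IsCyclic φ.range := by
    haveI : IsCyclic (ZMod (Nat.card S))ˣ := by
      rw [hS]; exact ZMod.isCyclic_units_prime (Fact.out : r.Prime)
    haveI : IsCyclic (MulAut S) :=
      isCyclic_of_surjective (IsCyclic.mulAutMulEquiv S).symm.toMonoidHom
        (IsCyclic.mulAutMulEquiv S).symm.surjective
    exact Subgroup.isCyclic _
  obtain ⟨⟨_, g, rfl⟩, hggen⟩ := IsCyclic.exists_generator (α := φ.range)
  have hcard : Nat.card φ.range = orderOf (φ g) := by
    exact ((orderOf_eq_card_of_forall_mem_zpowers hggen).symm.trans (Subgroup.orderOf_coe _).symm)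
  set w := φ g ⟨y, hyS⟩ with hw
  obtain ⟨s, hs⟩ : ∃ s : ℕ, (⟨y, hyS⟩ : S) ^ s = w :=
    mem_powers_iff_mem_zpowers.mpr (hgen w)
  have hg : (g : G) * y * (g : G)⁻¹ = y ^ s := by
    have := congrArg Subtype.val hs
    simpa [hw, hφ] using this.symm
  have hpow : ∀ o : ℕ, (s : ZMod r) ^ o = 1 → orderOf (φ g) ∣ o := by
    intro o ho
    refine orderOf_dvd_of_pow_eq_one (MulEquiv.ext fun z => ?_)
    obtain ⟨m, rfl⟩ : ∃ m : ℕ, (⟨y, hyS⟩ : S) ^ m = z := mem_powers_iff_mem_zpowers.mpr (hgen z)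
    have hn : ∀ n : ℕ, ((φ g) ^ n : MulAut S) ⟨y, hyS⟩ = (⟨y, hyS⟩ : S) ^ (s ^ n) := by
      intro n
      induction n with
      | zero => simp
      | succ n ih => rw [pow_succ', MulAut.mul_apply, ih, map_pow, ← hw, ← hs, ← pow_mul,
          pow_succ']
    rw [map_pow, hn, MulAut.one_apply]
    congr 1
    refine Subtype.ext ?_
    rw [SubmonoidClass.coe_pow]
    refine Eq.trans (pow_eq_pow_iff_modEq.mpr ?_) (pow_one y)
    rw [hy, ← ZMod.natCast_eq_natCast_iff, Nat.cast_pow, ho, Nat.cast_one]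
  refine ⟨fun h => ?_, fun h => ?_⟩ <;> rw [hrel, hcard]
  · exact hpow 2 (sq_eq_one hinj hZ hy hb h hg)
  · exact hpow 3 (cube_eq_one hinj hZ hy hb h hg)

/-- Abelian subgroups are small: a pigeonhole on the discrete torus of eigenvalue ratios. -/
theorem sq_le_of_comm (A : Subgroup G) (hA : IsMulCommutative A) :
    ((Nat.card A - 1) / 6 + 1) ^ 2 ≤ Nat.card A := by
  classical
  letI : CommGroup A := { (inferInstance : Group A) with mul_comm := fun a b => hA.is_comm.comm a b }
  haveI := Fintype.ofFinite A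
  haveI : Finite (A →* ℂˣ) := Nat.finite_of_card_ne_zero (by
    rw [CommGroup.card_monoidHom_of_hasEnoughRootsOfUnity A ℂ]; exact Nat.card_pos.ne')
  haveI := Fintype.ofFinite (A →* ℂˣ)
  obtain ⟨P, hP⟩ : ∃ P : (A →* ℂˣ) → Module.End ℂ (Fin 3 → ℂ), ∀ l v, P l v =
      (Fintype.card A : ℂ)⁻¹ • ∑ h : A, ((l h⁻¹ : ℂˣ) : ℂ) • ρ (h : G) v :=
    ⟨fun l => (Fintype.card A : ℂ)⁻¹ • ∑ h : A, ((l h⁻¹ : ℂˣ) : ℂ) • ρ (h : G),
      fun l v => by simp⟩
  have heig : ∀ (l : A →* ℂˣ) v (k : A), ρ (k : G) (P l v) = (l k : ℂ) • P l v := by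
    intro l v k
    simp only [hP]
    rw [map_smul, map_sum, smul_comm ((l k : ℂˣ) : ℂ) ((Fintype.card A : ℂ)⁻¹),
      Finset.smul_sum (r := ((l k : ℂˣ) : ℂ))]
    congr 1
    refine Fintype.sum_equiv (Equiv.mulLeft k) _ _ fun h => ?_
    rw [map_smul, Equiv.coe_mulLeft, Subgroup.coe_mul, map_mul, Module.End.mul_apply, mul_inv_rev,
      map_mul, smul_smul]
    congr 1
    rw [← Units.val_mul, ← mul_assoc, mul_comm (l k) (l h⁻¹), mul_assoc, ← map_mul l k k⁻¹,
      mul_inv_cancel, map_one, mul_one]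
  have hsum : ∀ v, ∑ l : A →* ℂˣ, P l v = v := by
    intro v
    simp only [hP]
    rw [← Finset.smul_sum, Finset.sum_comm]
    simp only [← Finset.sum_smul]
    rw [Finset.sum_eq_single (1 : A)]
    · have hc : Fintype.card (A →* ℂˣ) = Fintype.card A := by
        rw [← Nat.card_eq_fintype_card, ← Nat.card_eq_fintype_card,
          CommGroup.card_monoidHom_of_hasEnoughRootsOfUnity A ℂ]
      simp [hc, smul_smul]
    · intro h _ hh
      rw [BlkChar.sum_monoidHom_apply_ne_one (inv_ne_one.mpr hh), zero_smul]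
    · simp
  have horth : ∀ (l m : A →* ℂˣ) v, l ≠ m → P m (P l v) = 0 := by
    intro l m v hlm
    rw [hP m]
    simp only [heig, smul_smul, ← Finset.sum_smul]
    let f : A →* ℂ := (Units.coeHom ℂ).comp (m⁻¹ * l)
    have hf : f ≠ 1 := fun he => hlm (MonoidHom.ext fun a => by
      have h1 : ((m a)⁻¹ * l a : ℂˣ) = 1 := Units.ext (by simpa [f] using DFunLike.congr_fun he a)
      exact (inv_mul_eq_one.mp h1).symm)
    have h0 : ∑ h : A, ((m h⁻¹ : ℂˣ) : ℂ) * (l h : ℂ) = 0 := by
      rw [← sum_hom_units_eq_zero f hf]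
      exact Finset.sum_congr rfl fun h _ => by simp [f]
    rw [h0, mul_zero, zero_smul]
  have hPcomm : ∀ l (a : A) v, P l (ρ (a : G) v) = ρ (a : G) (P l v) := by
    intro l a v
    simp only [hP, map_smul, map_sum]
    congr 1
    refine Finset.sum_congr rfl fun h _ => ?_
    rw [← Module.End.mul_apply, ← map_mul, ← Module.End.mul_apply, ← map_mul,
      ← Subgroup.coe_mul, ← Subgroup.coe_mul, mul_comm]
  set L := Finset.univ.filter (fun l : A →* ℂˣ => ∃ v, P l v ≠ 0) with hL
  choose v hv using fun l : L => (Finset.mem_filter.mp l.2).2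
  have hLcard : L.card ≤ 3 := by
    have hind : LinearIndependent ℂ (fun l : L => P (l : A →* ℂˣ) (v l)) := by
      rw [Fintype.linearIndependent_iff]
      intro c hc m
      have h1 := congrArg (P (m : A →* ℂˣ)) hc
      rw [map_sum, map_zero, Finset.sum_eq_single m (fun l _ hne => by
        rw [map_smul, horth _ _ _ (fun he => hne (Subtype.ext he)), smul_zero]) (by simp),
        map_smul] at h1
      have h2 : P (m : A →* ℂˣ) (P (m : A →* ℂˣ) (v m)) = P (m : A →* ℂˣ) (v m) := by
        conv_rhs => rw [← hsum (v m), map_sum, Finset.sum_eq_single (m : A →* ℂˣ)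
          (fun l _ hne => horth _ _ _ hne) (by simp)]
      rw [h2] at h1
      exact (smul_eq_zero.mp h1).resolve_right (hv m)
    have := hind.fintype_card_le_finrank
    rwa [Fintype.card_coe, finrank_fin_fun] at this
  obtain ⟨w, hw⟩ := exists_ne (0 : Fin 3 → ℂ)
  obtain ⟨l₁, hl₁⟩ : ∃ l, l ∈ L := by
    by_contra h
    push Not at h
    refine hw ((hsum w).symm.trans (Finset.sum_eq_zero fun l _ => ?_))
    by_contra h0
    exact h l (Finset.mem_filter.mpr ⟨Finset.mem_univ _, w, h0⟩)
  set N := Fintype.card A with hN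
  haveI : NeZero N := ⟨Fintype.card_ne_zero⟩
  have hjex : ∀ (l : A →* ℂˣ) (a : A), ∃ x : ZMod N,
      stdChar N x = ((l * l₁⁻¹) a : ℂ) := by
    intro l a
    obtain ⟨i, -, hi⟩ := (Complex.isPrimitiveRoot_exp N (NeZero.ne N)).eq_pow_of_pow_eq_one
      (ξ := ((l * l₁⁻¹) a : ℂ)) (by
        rw [← Units.val_pow_eq_pow_val, ← map_pow, hN, pow_card_eq_one, map_one, Units.val_one])
    exact ⟨(i : ZMod N), by rw [stdChar_natCast]; exact hi⟩
  choose x hx using hjex
  set w' := (Nat.card A - 1) / 6 + 1 with hw'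
  by_contra hgt
  have hNA : Nat.card A = N := Nat.card_eq_fintype_card
  have hw2 : 2 ≤ w' := by
    by_contra h
    have h1 : w' = 1 := by omega
    have h2 : 0 < Nat.card A := Nat.card_pos
    rw [h1] at hgt
    omega
  let F : A × (↥(L.erase l₁) → Fin w') → (↥(L.erase l₁) → ZMod N) :=
    fun q l => x l q.1 - ((q.2 l : ℕ) : ZMod N)
  obtain ⟨⟨a, β⟩, ⟨a', β'⟩, hne', heq⟩ := Fintype.exists_ne_map_eq_of_card_lt F (by
    rw [Fintype.card_prod, Fintype.card_fun, Fintype.card_fun, Fintype.card_fin, Fintype.card_coe,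
      Finset.card_erase_of_mem hl₁, ZMod.card, ← hN]
    have hN2 : N < w' ^ 2 := by omega
    rcases (by omega : L.card - 1 = 0 ∨ L.card - 1 = 1 ∨ L.card - 1 = 2) with e | e | e <;> rw [e]
    · simp only [pow_zero, mul_one]
      by_contra h
      have h1 : N = 1 := by
        have := NeZero.pos N
        omega
      have h3 : w' = 1 := by rw [hw', hNA, h1]
      omega
    · rw [pow_one, pow_one]
      exact lt_mul_of_one_lt_right (NeZero.pos N) (by omega)
    · rw [pow_two N]
      exact Nat.mul_lt_mul_of_pos_left hN2 (NeZero.pos N))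
  have hne : a ≠ a' := by
    rintro rfl
    refine hne' (Prod.ext rfl (funext fun l => Fin.ext ?_))
    have h1 := congrFun heq l
    simp only [F, sub_right_inj] at h1
    have h3 : ∀ i : Fin w', (i : ℕ) < N := fun i => lt_of_lt_of_le i.2 (by
      rw [hw', hNA]
      have := NeZero.pos N
      omega)
    exact Nat.ModEq.eq_of_lt_of_lt ((ZMod.natCast_eq_natCast_iff _ _ _).mp h1) (h3 _) (h3 _)
  have hclose : ∀ l : ↥(L.erase l₁), ‖stdChar N (x l a - x l a') - 1‖ < 1 := by
    intro l
    have h1 := congrFun heq l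
    simp only [F] at h1
    have h3 : ∀ i : Fin w', 6 * (i : ℕ) < N ∧ (i : ℕ) < N := fun i => by
      have := i.2
      have hle : (i : ℕ) ≤ (N - 1) / 6 := by rw [← hNA]; omega
      have := NeZero.pos N
      omega
    have h2 : x l a - x l a' = ((β l : ℕ) : ZMod N) - ((β' l : ℕ) : ZMod N) := by
      linear_combination h1
    rw [h2]
    have hb0 := h3 (β l)
    have hb1 := h3 (β' l)
    rcases le_total (β' l : ℕ) (β l : ℕ) with h | h
    · rw [← Nat.cast_sub h, ← sub_zero (((β l : ℕ) - (β' l : ℕ) : ℕ) : ZMod N)]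
      refine norm_stdChar_sub_one_lt _ _ ?_
      rw [ZMod.val_natCast_of_lt (by omega), ZMod.val_zero, mul_zero, Nat.zero_div]
      exact Nat.div_eq_of_lt (by omega)
    · rw [show ((β l : ℕ) : ZMod N) - ((β' l : ℕ) : ZMod N) =
          0 - (((β' l : ℕ) - (β l : ℕ) : ℕ) : ZMod N) by rw [Nat.cast_sub h]; ring]
      refine norm_stdChar_sub_one_lt _ _ ?_
      rw [ZMod.val_natCast_of_lt (by omega), ZMod.val_zero, mul_zero, Nat.zero_div]
      exact (Nat.div_eq_of_lt (by omega)).symm
  set z := a * a'⁻¹ with hz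
  obtain ⟨v₁, hv₁⟩ := (Finset.mem_filter.mp hl₁).2
  refine Arc.false_of_arc ρ hinj hZ (y := (z : G))
    (fun h => hne (mul_inv_eq_one.mp (OneMemClass.coe_eq_one.mp h))) (c := (l₁ z : ℂ))
    (Complex.norm_eq_one_of_pow_eq_one (by
      rw [← Units.val_pow_eq_pow_val, ← map_pow, pow_card_eq_one, map_one, Units.val_one])
      (Fintype.card_ne_zero (α := A))) hv₁ (heig l₁ v₁ z) ?_
  rintro μ ⟨u, hu, he⟩
  obtain ⟨l, hl⟩ : ∃ l, P l u ≠ 0 := by
    by_contra h
    push Not at h
    exact hu ((hsum u).symm.trans (Finset.sum_eq_zero fun l _ => h l))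
  have hμ : μ = (l z : ℂ) := by
    have h1 := hPcomm l z u
    rw [he, heig] at h1
    rw [map_smul] at h1
    exact smul_left_injective ℂ hl h1
  subst hμ
  have hn1 : ‖(l₁ z : ℂ)‖ = 1 := Complex.norm_eq_one_of_pow_eq_one (by
    rw [← Units.val_pow_eq_pow_val, ← map_pow, pow_card_eq_one, map_one, Units.val_one])
    (Fintype.card_ne_zero (α := A))
  by_cases hll : l = l₁
  · simp [hll]
  have hmem : l ∈ L.erase l₁ :=
    Finset.mem_erase.mpr ⟨hll, Finset.mem_filter.mpr ⟨Finset.mem_univ _, u, hl⟩⟩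
  have h1 := hclose ⟨l, hmem⟩
  have h2 : stdChar N (x l a - x l a') = ((l * l₁⁻¹) z : ℂ) := by
    rw [sub_eq_add_neg, AddChar.map_add_eq_mul, AddChar.map_neg_eq_inv, hx, hx, hz, map_mul,
      map_inv, Units.val_mul, Units.val_inv_eq_inv_val]
  rw [h2] at h1
  have h3 : (l z : ℂ) - (l₁ z : ℂ) = (l₁ z : ℂ) * (((l * l₁⁻¹) z : ℂ) - 1) := by
    rw [MonoidHom.mul_apply, MonoidHom.inv_apply, Units.val_mul, Units.val_inv_eq_inv_val]
    field_simp
  rw [h3, norm_mul, hn1, one_mul]
  exact h1

/-- Abelian subgroups have order at most `30`, or exactly `36`. -/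
theorem card_le_of_comm (A : Subgroup G) (hA : IsMulCommutative A) :
    Nat.card A ≤ 30 ∨ Nat.card A = 36 := by
  have h := sq_le_of_comm hinj hZ A hA
  generalize Nat.card A = N at h
  by_contra hN
  push Not at hN
  have hw : N ≤ 6 * ((N - 1) / 6 + 1) := by omega
  have h36 : N ≤ 36 := by
    set w := (N - 1) / 6 + 1
    nlinarith
  have : N = 31 ∨ N = 32 ∨ N = 33 ∨ N = 34 ∨ N = 35 := by omega
  rcases this with rfl | rfl | rfl | rfl | rfl <;> norm_num at h

theorem faithful : ∀ g : G, ρ.character g = ρ.character 1 → g = 1 := fun g hg => by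
  have h1 := CharClifford.eq_one_of_character_eq_finrank ρ g (hg.trans ρ.char_one)
  exact hinj (h1.trans (map_one ρ).symm)

/-- The order of a `p`-subgroup. -/
theorem card_le_of_isPGroup {p : ℕ} [Fact p.Prime] (P : Subgroup G) (hP : IsPGroup p P) :
    ∃ n d : ℕ, Nat.card P = n * d ∧ d ∣ 6 ∧ (n ≤ 30 ∨ n = 36) := by
  classical
  haveI := Fintype.ofFinite G
  obtain ⟨A, hAn, hAc, hself⟩ := PGroup.exists_selfCentralizing_normal_abelian hP
  haveI := hAn
  have hχ : IsCharacter G ρ.character := ⟨3, ρ, rfl⟩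
  have h6 : A.index ∣ Nat.factorial 3 := index_dvd_factorial
    (CharCore.isCharacter_restrict hχ P)
    (fun g hg => Subtype.ext (faithful hinj hZ (g : G) hg)) (by simp) A
    (fun x hx y hy => congrArg Subtype.val (hAc.is_comm.comm (⟨x, hx⟩ : A) ⟨y, hy⟩)) hself
  have h1 := card_le_of_comm hinj hZ (A.map P.subtype) inferInstance
  rw [Nat.card_congr (A.equivMapOfInjective P.subtype P.subtype_injective).toEquiv.symm] at h1
  exact ⟨Nat.card A, A.index, A.card_mul_index.symm, h6, h1⟩

theorem centralizer_eq_of_card_twentyfive (P : Subgroup G) (hP : Nat.card P = 25) :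
    IsMulCommutative P ∧ Subgroup.centralizer (P : Set G) = P := by
  haveI : Fact (Nat.Prime 5) := ⟨by norm_num⟩
  have hc : IsMulCommutative P :=
    ⟨⟨fun a b => IsPGroup.commutative_of_card_eq_prime_sq (p := 5) (by rw [hP]; norm_num) a b⟩⟩
  refine ⟨hc, le_antisymm (fun x hx => ?_) (Subgroup.le_centralizer_iff_isMulCommutative.mpr hc)⟩
  by_contra hxP
  have h1 := card_le_of_comm hinj hZ _ (PGroup.isMulCommutative_sup_zpowers hc hx)
  set A := P ⊔ Subgroup.zpowers x
  have hle : P ≤ A := le_sup_left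
  have h2 : 25 ∣ Nat.card A := hP ▸ Subgroup.card_dvd_of_le hle
  have h3 : Nat.card A ≠ 25 := fun h => hxP
    ((Subgroup.eq_of_le_of_card_ge hle (by rw [h, hP])).symm ▸
      (le_sup_right : Subgroup.zpowers x ≤ A) (Subgroup.mem_zpowers x))
  have h4 : 0 < Nat.card A := Nat.card_pos
  omega

/-- An involution of the derived group of a reducible subgroup is central in it. -/
theorem mem_center_of_involution (H : Subgroup G) {d : G} (hd1 : d ≠ 1) (hdH : d ∈ H)
    (hd : ∀ h ∈ H, h * d = d * h) {z : H} (hz : z ∈ commutator H) (hz2 : z * z = 1) (h : H) :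
    z * h = h * z := by
  classical
  haveI := Fintype.ofFinite G
  haveI := Fintype.ofFinite H
  have hχ : IsCharacter G ρ.character := ⟨3, ρ, rfl⟩
  have hres := CharCore.isCharacter_restrict hχ H
  have h1 : (fun g : H => ρ.character (g : G)) 1 = ((3 : ℕ) : ℂ) := by simp
  have hw : ∀ ξ : IrrCharacter H, classInner (fun g : H => ρ.character (g : G)) (ξ : H → ℂ) ≠ 0 →
      (ξ : H → ℂ) ⁅z, h⁆ = (ξ : H → ℂ) 1 := by
    intro ξ hξ
    have hle := degree_le_of_constituent hres h1 ξ hξ
    obtain ⟨f, n, θ, hθ, rfl⟩ := ξ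
    haveI := hθ
    have hn : charDegree θ.character = n := by simp [charDegree]
    rw [hn] at hle
    by_cases hn3 : n = 3
    · exfalso
      subst hn3
      have he := congrFun (eq_of_constituent_of_degree hres ⟨θ.character, 3, θ, hθ, rfl⟩ hξ
        (by simp)) ⟨d, hdH⟩
      obtain ⟨c, hc⟩ := CharClifford.exists_scalar_of_mem_center θ (z := ⟨d, hdH⟩)
        (Subgroup.mem_center_iff.mpr fun g => Subtype.ext (hd g g.2))
      have hcn : ‖c‖ = 1 := by
        refine Complex.norm_eq_one_of_pow_eq_one (n := orderOf (⟨d, hdH⟩ : H)) ?_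
          (orderOf_pos _).ne'
        have h2 := congrArg θ (pow_orderOf_eq_one (⟨d, hdH⟩ : H))
        rw [map_pow, hc, map_one, smul_pow, one_pow] at h2
        have h3 := congrArg (fun T : (Fin 3 → ℂ) →ₗ[ℂ] Fin 3 → ℂ => T (fun _ => 1) 0) h2
        simpa using h3
      have hnorm : ‖ρ.character d‖ = finrank ℂ (Fin 3 → ℂ) := by
        have h2 : θ.character ⟨d, hdH⟩ = 3 * c := by
          rw [Representation.character, hc, map_smul, LinearMap.trace_one]
          simp [mul_comm]
        rw [show ρ.character d = θ.character ⟨d, hdH⟩ from he, h2, norm_mul, hcn]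
        simp
      obtain ⟨c', hc'⟩ := CharClifford.exists_scalar_of_norm_character_eq ρ d hnorm
      refine hd1 (hZ d (Subgroup.mem_center_iff.mpr fun g => hinj ?_))
      rw [map_mul, map_mul, hc', mul_smul_comm, smul_mul_assoc, mul_one, one_mul]
    rcases (show n = 0 ∨ n = 1 ∨ n = 2 by omega) with rfl | rfl | rfl
    · simp [Representation.character, Subsingleton.elim (θ ⁅z, h⁆) (θ 1)]
    · obtain ⟨f, hf⟩ := CharCore.IsCharacter.exists_hom_of_degree_one
        (χ := θ.character) ⟨1, θ, rfl⟩ (by simp)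
      show θ.character ⁅z, h⁆ = θ.character 1
      rw [hf]
      simp [commutatorElement_def]
    · show θ.character ⁅z, h⁆ = θ.character 1
      let e := LinearMap.toMatrixAlgEquiv' (R := ℂ) (n := Fin 2)
      let R : H →* Matrix (Fin 2) (Fin 2) ℂ := e.toRingEquiv.toMonoidHom.comp θ
      have hdet : (R z).det = 1 := by
        have h2 := Abelianization.commutator_subset_ker
          ((Matrix.detMonoidHom.comp R).toHomUnits) hz
        simpa [MonoidHom.mem_ker, Units.ext_iff] using h2
      have hR2 : R z * R z = 1 := by rw [← map_mul, hz2, map_one]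
      have hcomm : R (z * h) = R (h * z) := by
        rw [map_mul, map_mul]
        rcases DegTwo.eq_one_or_neg_one hdet hR2 with e' | e' <;> simp [e']
      have hθc : θ ⁅z, h⁆ = 1 := by
        have h2 : θ (z * h) = θ (h * z) := e.injective hcomm
        calc θ ⁅z, h⁆ = θ ((z * h) * (h * z)⁻¹) := by
              rw [commutatorElement_def]; congr 1; group
          _ = θ (h * z) * θ (h * z)⁻¹ := by rw [map_mul, h2]
          _ = 1 := by rw [← map_mul, mul_inv_cancel, map_one]
      simp [Representation.character, hθc]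
  exact commutatorElement_eq_one_iff_mul_comm.mp (eq_one_of_constituents hres
    (fun g hg => Subtype.ext (faithful hinj hZ (g : G) hg)) hw)

/-- The configurations with a Sylow `5`-subgroup of order `25`. -/
theorem false_of_twentyfive (hna : ¬ IsMulCommutative G) (m : ℕ) (hG : Nat.card G = 25 * m)
    (h5 : ¬ 5 ∣ m) (h25 : ∀ n, n ∣ m → n % 25 = 1 → n = 1)
    (hodd : ∀ n, n ∣ m → n % 2 = 1 → n % 5 = 1 → n = 1 ∨ m < 10 * n) : False := by
  classical
  haveI h5' : Fact (Nat.Prime 5) := ⟨by norm_num⟩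
  have hcard : ∀ P : Sylow 5 G, Nat.card P = 25 := fun P => by
    have := SmallGroups.card_sylow_eq (p := 5) (a := 2) (m := m) (by rw [hG]; norm_num) h5 P
    simpa using this
  have hindex : ∀ P : Sylow 5 G, (P : Subgroup G).index = m := fun P => by
    have := (P : Subgroup G).card_mul_index
    rw [hcard P, hG] at this
    omega
  have hbig : ∀ H : Subgroup G, H ≠ ⊤ → 10 ≤ H.index := by
    intro H hH
    by_contra hlt
    have h1 := SmallGroups.two_mul_card_dvd_index hna hH
    have h2 : 25 ∣ Nat.factorial 9 := (dvd_trans (Dvd.intro (2 * m) (by rw [hG]; ring) ) h1).trans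
      (Nat.factorial_dvd_factorial (by omega))
    revert h2
    decide
  have hne : Nat.card (Sylow 5 G) ≠ 1 :=
    fun h => SmallGroups.card_sylow_ne_one hna (p := 5)
      (hG ▸ Dvd.dvd.mul_right (by norm_num) m) h
  have hmod : ¬ Nat.card (Sylow 5 G) ≡ 1 [MOD 5 ^ 2] := by
    intro h
    obtain ⟨P⟩ := (inferInstance : Nonempty (Sylow 5 G))
    exact hne (h25 _ (hindex P ▸ P.card_dvd_index) (by simpa [Nat.ModEq] using h))
  obtain ⟨P, Q, hPQ, hidx⟩ := SmallGroups.exists_small_index_inter 2 hmod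
  set D := (P : Subgroup G) ⊓ (Q : Subgroup G) with hD
  have hD5 : Nat.card D = 5 := by
    have h1 := ((Q : Subgroup G).subgroupOf (P : Subgroup G)).card_mul_index
    rw [hcard P] at h1
    have h2 : Nat.card D ∣ 25 := hcard P ▸ Subgroup.card_dvd_of_le inf_le_left
    have h3 : Nat.card D ≠ 25 := fun h => hPQ (Sylow.ext
      (Subgroup.eq_of_le_of_card_ge
        ((Subgroup.eq_of_le_of_card_ge (inf_le_left : D ≤ (P : Subgroup G))
          (by rw [h, hcard P])).symm.le.trans inf_le_right)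
        (by rw [hcard P, hcard Q])))
    have h4 : Nat.card ((Q : Subgroup G).subgroupOf (P : Subgroup G)) = Nat.card D := by
      rw [← Subgroup.card_map_of_injective (P : Subgroup G).subtype_injective,
        Subgroup.subgroupOf_map_subtype, hD, inf_comm]
    rw [h4] at h1
    obtain ⟨k, hk, hk'⟩ := (Nat.dvd_prime_pow (by norm_num : Nat.Prime 5) (m := 2)).mp
      (by simpa using h2)
    interval_cases k
    · rw [hk', pow_zero, one_mul] at h1
      norm_num at hidx
      omega
    · simpa using hk'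
    · exact absurd (hk'.trans (by norm_num)) h3
  obtain ⟨hcP, hCP⟩ := centralizer_eq_of_card_twentyfive hinj hZ _ (hcard P)
  obtain ⟨hcQ, -⟩ := centralizer_eq_of_card_twentyfive hinj hZ _ (hcard Q)
  set H := Subgroup.centralizer (D : Set G) with hH
  have hle : ∀ R : Subgroup G, IsMulCommutative R → D ≤ R → R ≤ H := fun R hR hDR x hx =>
    Subgroup.mem_centralizer_iff.mpr fun d hd =>
      congrArg Subtype.val (hR.is_comm.comm (⟨d, hDR hd⟩ : R) ⟨x, hx⟩)
  have hPH : (P : Subgroup G) ≤ H := hle _ hcP inf_le_left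
  have hQH : (Q : Subgroup G) ≤ H := hle _ hcQ inf_le_right
  obtain ⟨⟨d, hd⟩, hd1⟩ : ∃ d : D, d ≠ 1 :=
    haveI : Nontrivial D := Finite.one_lt_card_iff_nontrivial.mp (by omega)
    exists_ne 1
  have hd1' : d ≠ 1 := fun h => hd1 (Subtype.ext h)
  have hdH : d ∈ H := hPH hd.1
  have hdc : ∀ h ∈ H, h * d = d * h := fun h hh =>
    (Subgroup.mem_centralizer_iff.mp hh d hd).symm
  have hHtop : H ≠ ⊤ := fun h => hd1' (hZ d (Subgroup.mem_center_iff.mpr fun g =>
    hdc g (h ▸ Subgroup.mem_top g)))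
  by_cases heven : 2 ∣ Nat.card (commutator H)
  · haveI : Fact (Nat.Prime 2) := ⟨Nat.prime_two⟩
    obtain ⟨z, hz⟩ := exists_prime_orderOf_dvd_card' (G := commutator H) 2 heven
    have hz2 : (z : H) * z = 1 := by
      rw [← Subgroup.coe_mul, ← pow_two, ← hz, pow_orderOf_eq_one, OneMemClass.coe_one]
    have hzP : ((z : H) : G) ∈ Subgroup.centralizer ((P : Subgroup G) : Set G) :=
      Subgroup.mem_centralizer_iff.mpr fun x hx =>
        (congrArg Subtype.val
          (mem_center_of_involution hinj hZ H hd1' hdH hdc z.2 hz2 ⟨x, hPH hx⟩)).symm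
    rw [hCP] at hzP
    have h1 := Subgroup.orderOf_dvd_natCard _ hzP
    rw [hcard P, Subgroup.orderOf_coe, Subgroup.orderOf_coe, hz] at h1
    omega
  set K := commutator H ⊔ (P : Subgroup G).subgroupOf H with hK
  haveI hKn : K.Normal := ⟨fun k hk g => by
    have h1 : ⁅g, k⁆ ∈ K := le_sup_left (a := commutator H)
      (Subgroup.commutator_mem_commutator (Subgroup.mem_top g) (Subgroup.mem_top k))
    have := K.mul_mem h1 hk
    rwa [commutatorElement_def, inv_mul_cancel_right] at this⟩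
  have hKodd : ¬ 2 ∣ Nat.card K := by
    intro h
    have h1 : Nat.card K ∣ Nat.card (commutator H) * Nat.card ((P : Subgroup G).subgroupOf H) := by
      have h2 := ((commutator H).subgroupOf K).card_mul_index
      rw [Nat.card_congr (Subgroup.subgroupOfEquivOfLe (le_sup_left : commutator H ≤ K)).toEquiv,
        ← Subgroup.relIndex, hK, Subgroup.relIndex_sup_left] at h2
      rw [hK, ← h2]
      exact mul_dvd_mul_left _ (Subgroup.relIndex_dvd_card _ _)
    rw [Nat.card_congr (Subgroup.subgroupOfEquivOfLe hPH).toEquiv, hcard P] at h1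
    rcases Nat.prime_two.dvd_mul.mp (h.trans h1) with h2 | h2
    · exact heven h2
    · omega
  have hQK : (Q : Subgroup G).subgroupOf H ≤ K := by
    intro x hx
    have h1 : x ^ 25 = 1 := Subtype.ext (by
      have := pow_card_eq_one' (G := (Q : Subgroup G)) (x := ⟨(x : G), hx⟩)
      rw [hcard Q] at this
      simpa using congrArg Subtype.val this)
    have h2 : orderOf (QuotientGroup.mk' K x) ∣ Nat.gcd 25 K.index := Nat.dvd_gcd
      (orderOf_dvd_of_pow_eq_one (by rw [← map_pow, h1, map_one]))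
      (by rw [Subgroup.index_eq_card]; exact orderOf_dvd_natCard _)
    have h3 : ¬ 5 ∣ K.index := fun h => h5 (hindex P ▸ h.trans
      ((Subgroup.index_dvd_of_le (le_sup_right : (P : Subgroup G).subgroupOf H ≤ K)).trans
        (Subgroup.relIndex_dvd_index_of_le hPH)))
    have h4 : Nat.gcd 25 K.index = 1 :=
      Nat.Coprime.pow_left 2 (((by norm_num : Nat.Prime 5)).coprime_iff_not_dvd.mpr h3)
    rw [h4, Nat.dvd_one, orderOf_eq_one_iff] at h2
    exact (QuotientGroup.eq_one_iff x).mp h2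
  set KG := K.map H.subtype with hKG
  have hPK : (P : Subgroup G) ≤ KG := fun x hx =>
    ⟨⟨x, hPH hx⟩, le_sup_right (a := commutator H) hx, rfl⟩
  have hQK' : (Q : Subgroup G) ≤ KG := fun x hx => ⟨⟨x, hQH hx⟩, hQK hx, rfl⟩
  have hne' : P.subtype hPK ≠ Q.subtype hQK' := fun h => hPQ (Sylow.subtype_injective h)
  have hn1 : Nat.card (Sylow 5 KG) ≠ 1 := fun h => hne' ((Nat.card_eq_one_iff_unique.mp h).1.elim _ _)
  have hnidx : Nat.card (Sylow 5 KG) ∣ ((P : Subgroup G).subgroupOf KG).index :=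
    (P.subtype hPK).card_dvd_index
  set n := Nat.card (Sylow 5 KG) with hn
  set l := ((P : Subgroup G).subgroupOf KG).index with hl
  have hKl : Nat.card KG = 25 * l := by
    rw [← ((P : Subgroup G).subgroupOf KG).card_mul_index,
      Nat.card_congr (Subgroup.subgroupOfEquivOfLe hPK).toEquiv, hcard P]
  have hlm : l ∣ m := hindex P ▸ Subgroup.relIndex_dvd_index_of_le hPK
  have hlodd : l % 2 = 1 := by
    by_contra h
    refine hKodd ?_
    rw [Nat.card_congr (K.equivMapOfInjective H.subtype H.subtype_injective).toEquiv, ← hKG, hKl]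
    exact Dvd.dvd.mul_left (by omega) _
  have hnodd : n % 2 = 1 := by
    by_contra h
    have : 2 ∣ l := (show 2 ∣ n by omega).trans hnidx
    omega
  have hn5 : n % 5 = 1 := by simpa [Nat.ModEq] using card_sylow_modEq_one 5 KG
  rcases hodd n (hnidx.trans hlm) hnodd hn5 with h | h
  · exact hn1 h
  have h1 : Nat.card KG ∣ Nat.card H := Subgroup.card_dvd_of_le (Subgroup.map_subtype_le K)
  have h2 := H.card_mul_index
  have h3 := hbig H hHtop
  have h4 : 25 * n ≤ Nat.card H := by
    refine le_trans ?_ (Nat.le_of_dvd Nat.card_pos h1)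
    rw [hKl]
    exact Nat.mul_le_mul_left _ (Nat.le_of_dvd (by omega) hnidx)
  have h5 : 25 * n * 10 ≤ Nat.card G := h2 ▸ Nat.mul_le_mul h4 h3
  omega

end Cfsg.Agent.BlkChar.Three
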