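import Cfsg.Agent.BlkChar.RationalBound
import Cfsg.Agent.BlkChar.JordanBound
import Mathlib.FieldTheory.PrimitiveElement
import Mathlib.RingTheory.IntegralDomain

/-!
# The order of a `p`-group with a faithful character, in terms of degree and field of values
-/

namespace Cfsg.Agent.BlkChar

open scoped ComplexConjugate Nat

universe u

variable {P : Type u} [Group P] [Fintype P] {p : ℕ}

/-- A character has at most `[ℚ(χ) : ℚ]` twists by power maps of exponent prime to the order. -/
theorem card_twists_le {χ : P → ℂ} (hχ : IsCharacter P χ) (T : Finset (P → ℂ))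
    (hT : ∀ τ ∈ T, ∃ j : ℕ, j.Coprime (Nat.card P) ∧ τ = fun g => χ (g ^ j)) :
    T.card ≤ Module.finrank ℚ (IntermediateField.adjoin ℚ (Set.range χ)) := by
  classical
  set F := IntermediateField.adjoin ℚ (Set.range χ) with hF
  haveI : FiniteDimensional ℚ F := by
    haveI : Finite (Set.range χ) := Set.finite_range χ
    exact IntermediateField.finiteDimensional_adjoin fun z hz => by
      obtain ⟨g, rfl⟩ := hz
      exact (CharCore.IsCharacter.isIntegral hχ g).tower_top
  have hex : ∀ τ : T, ∃ σ : ℂ →+* ℂ, ∀ g, σ (χ g) = (τ : P → ℂ) g := by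
    rintro ⟨τ, hτ⟩
    obtain ⟨j, hj, rfl⟩ := hT τ hτ
    obtain ⟨σ, hσ⟩ := CharClifford.exists_ringHom_map_isCharacter (G := P) hj
    exact ⟨σ, fun g => hσ χ hχ g⟩
  choose σ hσ using hex
  rw [← AlgHom.card ℚ F ℂ, ← Fintype.card_coe T]
  refine Fintype.card_le_of_injective (fun τ => ((σ τ).toRatAlgHom).comp F.val) fun a b hab => ?_
  refine Subtype.ext (funext fun g => ?_)
  have h := DFunLike.congr_fun hab ⟨χ g, IntermediateField.subset_adjoin ℚ _ ⟨g, rfl⟩⟩
  rw [← hσ a g, ← hσ b g]
  exact h

theorem two_le_pow_sub_one (r : ℕ) : r ≤ 2 ^ (r - 1) := by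
  rcases r with _ | r
  · simp
  · simpa using (Nat.lt_two_pow_self (n := r))

/-- A faithful family of linear characters bounds an abelian normal subgroup. -/
theorem card_abelian_le (hp : p.Prime) (hP : IsPGroup p P) {χ : P → ℂ} (hχ : IsCharacter P χ)
    (hfaith : ∀ g, χ g = χ 1 → g = 1) {f t : ℕ} (hf : χ 1 = f)
    (hfield : Module.finrank ℚ (IntermediateField.adjoin ℚ (Set.range χ)) ≤ (p - 1) * p ^ t)
    (A : Subgroup P) (hab : ∀ x ∈ A, ∀ y ∈ A, x * y = y * x) :
    Nat.card A ≤ p ^ ((t + 1) * f) := by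
  classical
  haveI := Fact.mk hp
  haveI := Fintype.ofFinite A
  have hAc : IsCharacter A (fun a : A => χ a) := CharCore.isCharacter_restrict hχ A
  set Lset := Finset.univ.filter fun l : IrrCharacter A => classInner (fun a : A => χ a) (l : A → ℂ) ≠ 0
    with hL
  have hlin : ∀ l : IrrCharacter A, ∃ h : A →* ℂˣ, (l : A → ℂ) = fun a => (h a : ℂ) := by
    intro l
    haveI := Fintype.ofFinite (⊥ : Subgroup A)
    refine CharCore.IsCharacter.exists_hom_of_degree_one (CharCore.irr_isCharacter l)
      (CharCore.degree_one_of_inv (⊥ : Subgroup A) ?_ l fun z g => by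
        rw [Subgroup.mem_bot.mp z.2, one_mul])
    rw [commutator_def, Subgroup.commutator_le]
    intro x _ y _
    rw [Subgroup.mem_bot, commutatorElement_eq_one_iff_mul_comm]
    exact Subtype.ext (hab x x.2 y y.2)
  choose hom hhom using hlin
  set Ks := Lset.image fun l => (hom l).ker with hKs
  have hinj : Nat.card A ≤ ∏ K ∈ Ks, K.index := by
    let emb : A → (K : Ks) → A ⧸ (K : Subgroup A) := fun a K => QuotientGroup.mk a
    have hφ : Function.Injective emb := by
      intro a b hab'
      rw [← inv_mul_eq_one]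
      refine eq_one_of_constituents hAc
        (fun g hg => Subtype.ext (hfaith (g : P) (hg.trans (congrArg χ A.coe_one)))) fun l hl => ?_
      have h1 := congrFun hab' ⟨(hom l).ker, Finset.mem_image.mpr
        ⟨l, Finset.mem_filter.mpr ⟨Finset.mem_univ l, hl⟩, rfl⟩⟩
      have h2 : a⁻¹ * b ∈ (hom l).ker := QuotientGroup.eq.mp h1
      rw [hhom l]
      simp [MonoidHom.mem_ker.mp h2]
    refine (Nat.card_le_card_of_injective emb hφ).trans_eq ?_
    rw [Nat.card_pi]
    rw [← Finset.prod_coe_sort Ks (fun K => K.index)]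
    rfl
  have hbound : ∀ K ∈ Ks, K.index ≤ p ^ ((t + 1) * (Lset.filter fun l => (hom l).ker = K).card) := by
    intro K hK
    obtain ⟨l, hl, rfl⟩ := Finset.mem_image.mp hK
    set r := (Lset.filter fun m => (hom m).ker = (hom l).ker).card with hr
    have hr1 : 1 ≤ r := Finset.card_pos.mpr ⟨l, Finset.mem_filter.mpr ⟨hl, rfl⟩⟩
    rw [Subgroup.index_ker]
    obtain ⟨s, hs⟩ := IsPGroup.iff_card.mp
      ((hP.to_subgroup A).of_surjective (hom l).rangeRestrict (hom l).rangeRestrict_surjective)
    rw [hs]
    refine Nat.pow_le_pow_right hp.pos ?_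
    rcases Nat.eq_zero_or_pos s with rfl | hs0
    · exact Nat.zero_le _
    haveI : IsCyclic (hom l).range := isCyclic_of_subgroup_isDomain
      ((Units.coeHom ℂ).comp (hom l).range.subtype) (Units.val_injective.comp Subtype.val_injective)
    obtain ⟨z, hz⟩ := IsCyclic.exists_ofOrder_eq_natCard (α := (hom l).range)
    obtain ⟨a0, ha0⟩ := z.2
    have hz0 : orderOf (hom l a0) = p ^ s := by rw [ha0, Subgroup.orderOf_coe, hz, hs]
    set S := (Finset.range (p ^ s)).filter fun j => (p ^ s).Coprime j with hS
    have hScard : S.card = p ^ (s - 1) * (p - 1) := by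
      rw [hS, ← Nat.totient_eq_card_coprime, Nat.totient_prime_pow hp hs0]
    have hjP : ∀ j ∈ S, j.Coprime (Nat.card P) := by
      intro j hj
      obtain ⟨k, hk⟩ := IsPGroup.iff_card.mp hP
      rw [hk]
      refine Nat.Coprime.pow_right k ?_
      exact ((Nat.coprime_pow_left_iff hs0 _ _).mp (Finset.mem_filter.mp hj).2).symm
    set T := S.image fun j => fun g : P => χ (g ^ j) with hT
    have hTd : T.card ≤ (p - 1) * p ^ t :=
      (card_twists_le hχ T fun τ hτ => by
        obtain ⟨j, hj, rfl⟩ := Finset.mem_image.mp hτ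
        exact ⟨j, hjP j hj, rfl⟩).trans hfield
    have hfib : ∀ τ ∈ T, (S.filter fun j => (fun g : P => χ (g ^ j)) = τ).card ≤ r := by
      intro τ hτ
      obtain ⟨j0, hj0, rfl⟩ := Finset.mem_image.mp hτ
      obtain ⟨i, hi⟩ := Nat.exists_mul_mod_eq_one_of_coprime (hjP j0 hj0)
        (Finite.one_lt_card_iff_nontrivial.mpr ⟨⟨(a0 : P), 1, fun h => by
          rw [show a0 = 1 from Subtype.ext h, map_one, orderOf_one] at hz0
          exact (Nat.one_lt_pow hs0.ne' hp.one_lt).ne hz0⟩⟩)
      have hi' : ∀ g : P, g ^ (j0 * i) = g := fun g => by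
        conv_rhs => rw [← pow_one g]
        refine pow_eq_of_modEq pow_card_eq_one' ?_
        show (j0 * i) % Nat.card P = 1 % Nat.card P
        rw [Nat.one_mod_eq_one.mpr]
        · exact hi.2
        · intro h; have h' := hi.2; rw [h, Nat.mod_one] at h'; exact one_ne_zero h'.symm
      have hic : i.Coprime (Nat.card P) :=
        Nat.Coprime.coprime_dvd_left (Dvd.intro_left j0 rfl)
          ((Nat.ModEq.gcd_eq (show (j0 * i) ≡ 1 [MOD Nat.card P] by
            show (j0 * i) % _ = 1 % _
            rw [hi.2, Nat.one_mod_eq_one.mpr]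
            intro h; have h' := hi.2; rw [h, Nat.mod_one] at h'; exact one_ne_zero h'.symm)).trans (Nat.gcd_one_left _))
      refine Finset.card_le_card_of_injOn
        (fun j => (⟨_, CharCore.isIrrCharacter_hom (hom l ^ (j * i))⟩ : IrrCharacter A)) ?_ ?_
      · intro j hj
        simp only [Finset.coe_filter, Set.mem_setOf_eq] at hj
        have hinv : ∀ g : P, χ (g ^ (j * i)) = χ g := fun g => by
          have h1 := congrFun hj.2 (g ^ i)
          rw [mul_comm, pow_mul, h1, ← pow_mul, mul_comm, hi' g]
        have hjic : (j * i).Coprime (Nat.card A) :=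
          (Nat.Coprime.mul_left (hjP j hj.1) hic).coprime_dvd_right A.card_subgroup_dvd_card
        have hcons : classInner (fun a : A => χ a)
            (fun a : A => (((hom l ^ (j * i)) a : ℂˣ) : ℂ)) ≠ 0 := by
          have hl' := (Finset.mem_filter.mp hl).2
          rw [hhom l] at hl'
          refine fun h => hl' (Eq.trans ?_ h)
          simp only [CharCore.classInner_def]
          congr 1
          symm
          refine Fintype.sum_equiv (powCoprime hjic.symm) _ _ fun a => ?_
          show χ (a : P) * conj (((hom l ^ (j * i)) a : ℂˣ) : ℂ) =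
            χ ((a ^ (j * i) : A) : P) * conj ((hom l (a ^ (j * i)) : ℂˣ) : ℂ)
          rw [SubmonoidClass.coe_pow, hinv, map_pow]
          rfl
        simp only [Finset.coe_filter, Set.mem_setOf_eq]
        refine ⟨Finset.mem_filter.mpr ⟨Finset.mem_univ _, hcons⟩, ?_⟩
        have he : hom ⟨_, CharCore.isIrrCharacter_hom (hom l ^ (j * i))⟩ = hom l ^ (j * i) := by
          refine MonoidHom.ext fun a => Units.ext ?_
          exact (congrFun (hhom ⟨_, CharCore.isIrrCharacter_hom (hom l ^ (j * i))⟩) a).symm
        rw [he]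
        ext a
        rw [MonoidHom.mem_ker, MonoidHom.mem_ker, MonoidHom.pow_apply]
        refine ⟨fun h => ?_, fun h => by rw [h, one_pow]⟩
        have h1 : hom l a ^ Nat.card A = 1 := by rw [← map_pow, pow_card_eq_one', map_one]
        have h2 := pow_gcd_eq_one.mpr ⟨h, h1⟩
        rwa [hjic.gcd_eq_one, pow_one] at h2
      · intro j hj j' hj' heq
        simp only [Finset.coe_filter, Set.mem_setOf_eq] at hj hj'
        have h1 := congrFun (congrArg Subtype.val heq) a0
        have h2 : (hom l a0) ^ (j * i) = (hom l a0) ^ (j' * i) := Units.ext (by simpa using h1)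
        rw [pow_eq_pow_iff_modEq, hz0] at h2
        have h3 : (p ^ s).gcd i = 1 := by
          refine Nat.Coprime.gcd_eq_one (Nat.Coprime.pow_left s ?_)
          obtain ⟨k, hk⟩ := IsPGroup.iff_card.mp hP
          rw [hk] at hic
          refine (Nat.coprime_pow_left_iff (n := k) ?_ _ _).mp hic.symm
          by_contra hk0
          have hc1 : Nat.card P = 1 := by rw [hk, Nat.eq_zero_of_not_pos hk0, pow_zero]
          haveI : Subsingleton P := (Nat.card_eq_one_iff_unique.mp hc1).1
          have h9 : a0 = 1 := Subtype.ext (Subsingleton.elim _ _)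
          rw [h9, map_one, orderOf_one] at hz0
          exact (Nat.one_lt_pow hs0.ne' hp.one_lt).ne hz0
        have h4 := Nat.ModEq.cancel_right_of_coprime h3 h2
        exact h4.eq_of_lt_of_lt (Finset.mem_range.mp (Finset.mem_filter.mp hj.1).1)
          (Finset.mem_range.mp (Finset.mem_filter.mp hj'.1).1)
    have hSle : S.card ≤ r * T.card := Finset.card_le_mul_card_image S r hfib
    have h5 : p ^ (s - 1) ≤ p ^ t * r := by
      refine Nat.le_of_mul_le_mul_right ?_ (Nat.sub_pos_of_lt hp.one_lt)
      calc p ^ (s - 1) * (p - 1) = S.card := hScard.symm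
        _ ≤ r * T.card := hSle
        _ ≤ r * ((p - 1) * p ^ t) := Nat.mul_le_mul_left _ hTd
        _ = p ^ t * r * (p - 1) := by ring
    have h6 : p ^ s ≤ p ^ ((t + 1) * r) := by
      calc p ^ s = p ^ (s - 1) * p := by rw [← pow_succ, Nat.sub_add_cancel hs0]
        _ ≤ p ^ t * r * p := Nat.mul_le_mul_right _ h5
        _ = p ^ (t + 1) * r := by rw [pow_succ]; ring
        _ ≤ p ^ (t + 1) * p ^ (r - 1) := Nat.mul_le_mul_left _
            ((two_le_pow_sub_one r).trans (Nat.pow_le_pow_left hp.two_le _))
        _ ≤ p ^ ((t + 1) * r) := by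
            rw [← pow_add]
            refine Nat.pow_le_pow_right hp.pos ?_
            obtain ⟨r', hr'⟩ : ∃ r', r = r' + 1 := ⟨r - 1, (Nat.sub_add_cancel hr1).symm⟩
            rw [hr']; simp only [Nat.add_sub_cancel]
            nlinarith
    exact (Nat.pow_le_pow_iff_right hp.one_lt).mp h6
  refine hinj.trans ((Finset.prod_le_prod' hbound).trans ?_)
  rw [Finset.prod_pow_eq_pow_sum, ← Finset.mul_sum]
  refine Nat.pow_le_pow_right hp.pos (Nat.mul_le_mul_left _ ?_)
  rw [← Finset.card_eq_sum_card_image]
  choose m hm using fun l => CharCore.IsCharacter.exists_classInner_irr_eq_natCast hAc l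
  choose d hd0 hd1 hdd using fun l : IrrCharacter A => exists_degree' l
  have h1 := congrFun (CharCore.IsCharacter.eq_sum_classInner hAc) 1
  simp only [Finset.sum_apply, Pi.smul_apply, smul_eq_mul, hm, hd1, OneMemClass.coe_one, hf] at h1
  have h2 : f = ∑ l, m l * d l := by exact_mod_cast h1
  rw [h2, Finset.card_eq_sum_ones]
  refine (Finset.sum_le_sum fun l hl => Nat.one_le_iff_ne_zero.mpr (Nat.mul_ne_zero ?_ (hd0 l).ne')).trans
    (Finset.sum_le_sum_of_subset (Finset.subset_univ _))
  intro h0
  exact (Finset.mem_filter.mp hl).2 (by rw [hm, h0, Nat.cast_zero])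

end Cfsg.Agent.BlkChar
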