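import Cfsg.Agent.Lib.BlocksDefect.CoveredDefect
import Cfsg.Agent.Lib.BlocksDefect.Covering
import Cfsg.Agent.Lib.BlocksDefect.Pairing
import Cfsg.Agent.Lib.BlocksCore.PPrimeNormal
import Cfsg.Agent.Lib.Thompson.PSolvable
import Cfsg.Agent.Lib.BlocksCore.DefectZero
import Cfsg.Agent.Lib.Fitting
import Cfsg.Agent.CharDeep.Ext.Wrap
import Cfsg.Agent.Lib.CharInd.Char
import Cfsg.Agent.PLocalB.PConstrained

/-!
# The block over an invariant character of `O_{p'}` in a `p`-solvable group
-/

set_option linter.unusedSectionVars false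

open Cfsg
open scoped ComplexConjugate

namespace Cfsg.Agent.BlkChar.Fong

open BlocksCore BlocksDefect

universe u

variable {G : Type u} [Group G] [Fintype G] {p : ℕ} [hp : Fact p.Prime]

/-- Constituents are transitive. -/
theorem constituent_trans {U : Subgroup G} [Fintype U] {N : Subgroup G} [Fintype N] (hNU : N ≤ U)
    {χ : IrrCharacter G} {η : IrrCharacter U} {θ : IrrCharacter N} (h1 : IsConstituent χ η)
    (h2 : classInner (fun n : N => (η : U → ℂ) ⟨n, hNU n.2⟩) (θ : N → ℂ) ≠ 0) :
    IsConstituent χ θ := by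
  classical
  have hres := CharCore.isCharacter_restrict (CharCore.irr_isCharacter χ) U
  choose m hm using fun ζ : IrrCharacter U =>
    CharCore.IsCharacter.exists_classInner_irr_eq_natCast hres ζ
  choose k hk using fun ζ : IrrCharacter U =>
    CharCore.IsCharacter.exists_classInner_irr_eq_natCast
      (CharCore.isCharacter_comp (CharCore.irr_isCharacter ζ) (Subgroup.inclusion hNU)) θ
  unfold IsConstituent at h1 ⊢
  have e : (fun n : N => (χ : G → ℂ) n) =
      ∑ ζ : IrrCharacter U, (m ζ : ℂ) • (fun n : N => (ζ : U → ℂ) (Subgroup.inclusion hNU n)) := by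
    funext n
    have := congrFun (CharCore.IsCharacter.eq_sum_classInner hres) (Subgroup.inclusion hNU n)
    simp only [Finset.sum_apply, Pi.smul_apply, hm] at this ⊢
    exact this
  rw [e, CharCore.classInner_sum_left]
  simp only [CharCore.classInner_smul_left, Function.comp_def] at hk ⊢
  simp only [hk]
  rw [hm] at h1
  have h2' : k η ≠ 0 := fun h0 => h2 (by
    have h3 := hk η
    rw [h0, Nat.cast_zero] at h3
    exact h3)
  have h1' : m η ≠ 0 := fun h0 => h1 (by rw [h0, Nat.cast_zero])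
  intro h0
  have h0' : ∑ ζ, m ζ * k ζ = 0 := by exact_mod_cast h0
  exact Nat.mul_ne_zero h1' h2' (Finset.sum_eq_zero_iff.mp h0' η (Finset.mem_univ _))

/-- An invariant constituent is the only one. -/
theorem eq_of_invariant {N : Subgroup G} [hN : N.Normal] [Fintype N] {χ : IrrCharacter G}
    {θ θ₁ : IrrCharacter N} (hinv : ∀ g : G, conjIrr g θ = θ) (h : IsConstituent χ θ)
    (h₁ : IsConstituent χ θ₁) : θ₁ = θ := by
  classical
  set f : N → ℂ := fun n => conj ((θ : N → ℂ) n) with hf
  have hc : IsClassFunction G (extFun (G := G) f) := isClassFunction_extFun fun g =>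
    funext fun n => congrArg conj (congrFun (congrArg Subtype.val (hinv g)) n)
  have hs : ∀ x, x ∉ N → extFun (G := G) f x = 0 := fun x hx => extFun_notMem f hx
  have e := (omega_eq_of_constituent h₁ hc hs).symm.trans (omega_eq_of_constituent h hc hs)
  have key : ∀ η : IrrCharacter N, omega (η : N → ℂ) (res N (extFun (G := G) f)) =
      (Nat.card N : ℂ) * classInner (η : N → ℂ) (θ : N → ℂ) / (η : N → ℂ) 1 := by
    intro η
    rw [res_extFun, omega_eq_sum, CharCore.classInner_def, mul_inv_cancel_left₀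
      (Nat.cast_ne_zero.mpr Nat.card_pos.ne')]
    congr 1
    exact Finset.sum_congr rfl fun n _ => mul_comm _ _
  rw [key, key] at e
  by_contra hne
  rw [CharCore.classInner_irr_of_ne hne, CharCore.classInner_irr_self, mul_zero, zero_div,
    mul_one] at e
  exact div_ne_zero (Nat.cast_ne_zero.mpr Nat.card_pos.ne') (CharCore.irr_apply_one_ne_zero θ)
    e.symm

/-- A character of degree prime to `p` over an invariant character of a normal `p'`-subgroup. -/
theorem exists_over_not_dvd (N : Subgroup G) [hN : N.Normal] [Fintype N]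
    (hpN : ¬ p ∣ Nat.card N) (θ : IrrCharacter N) (hinv : CharDeep.Ext.Inv N (θ : N → ℂ)) :
    ∃ χ : IrrCharacter G, IsConstituent χ θ ∧ ¬ p ∣ charDegree (χ : G → ℂ) := by
  classical
  obtain ⟨S⟩ := (inferInstance : Nonempty (Sylow p G))
  set H := N ⊔ (S : Subgroup G) with hH
  have hNH : N ≤ H := le_sup_left
  letI := Fintype.ofFinite H
  set N' := N.subgroupOf H
  haveI : N'.Normal := inferInstance
  letI := Fintype.ofFinite N'
  let eN : N' ≃* N := Subgroup.subgroupOfEquivOfLe hNH
  set θ' : IrrCharacter N' := ⟨(θ : N → ℂ) ∘ eN,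
    CharCore.isIrrCharacter_comp_surjective θ.2 eN.toMonoidHom eN.surjective⟩
  obtain ⟨d, hd⟩ := CharCore.IsCharacter.exists_degree (CharCore.irr_isCharacter θ)
  have hd' : (θ' : N' → ℂ) 1 = d := by show (θ : N → ℂ) (eN 1) = _; rw [map_one, hd]
  have hidx : ∃ k, N'.index = p ^ k := by
    show ∃ k, N.relIndex H = p ^ k
    rw [Thompson.relIndex_eq_card_map_mk', hH, Subgroup.map_sup, QuotientGroup.map_mk'_self,
      bot_sup_eq]
    exact IsPGroup.iff_card.mp (S.isPGroup'.map _)
  have hcard' : Nat.card N' = Nat.card N := Nat.card_congr eN.toEquiv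
  have hdd : d ∣ Nat.card N := by
    have h1 := BlocksCore.charDegree_dvd_card θ
    rwa [charDegree, hd, Complex.natCast_re, Nat.floor_natCast] at h1
  have hdet : detOrder (θ' : N' → ℂ) ∣ Nat.card N' := by
    rw [CharDeep.Ext.detOrder_eq]
    exact orderOf_dvd_of_pow_eq_one (MonoidHom.ext fun n => by
      rw [MonoidHom.pow_apply, ← map_pow, pow_card_eq_one', map_one]; rfl)
  obtain ⟨k, hk⟩ := hidx
  have hcopN : ∀ j, j ∣ Nat.card N → Nat.Coprime N'.index j := fun j hj => by
    rw [hk]
    exact Nat.Coprime.pow_left k (hp.out.coprime_iff_not_dvd.mpr fun h => hpN (h.trans hj))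
  have hinv' : CharDeep.Ext.Inv N' (θ' : N' → ℂ) := fun g n =>
    (congrArg _ (Subtype.ext rfl)).trans (hinv (g : G) (eN n))
  obtain ⟨η, ⟨hη, hηN, -⟩, -⟩ := CharDeep.Ext.exists_ext_detOrder N' θ'.2 hinv' hd'
    ((hcopN _ (hcard' ▸ hdet)).mul_right (hcopN d hdd))
  have hη1 : η 1 = (d : ℂ) := by
    have h1 := hηN 1
    rw [OneMemClass.coe_one] at h1
    rw [h1, hd']
  have hI := CharInd.isCharacter_indFun H (CharCore.IsIrrCharacter.isCharacter hη)
  obtain ⟨a, ha⟩ := CharCore.IsCharacter.exists_sum hI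
  choose dd hdd' using fun χ : IrrCharacter G =>
    CharCore.IsCharacter.exists_degree (CharCore.irr_isCharacter χ)
  have hsum : H.index * d = ∑ χ, a χ * dd χ := by
    apply Nat.cast_injective (R := ℂ)
    push_cast
    have h1 := congrFun ha 1
    simp only [Finset.sum_apply, Pi.smul_apply, smul_eq_mul, hdd'] at h1
    rw [← h1, CharInd.indFun_apply]
    simp only [mul_one, inv_mul_cancel, CharInd.extendByZero_mem η H.one_mem,
      Finset.sum_const, Finset.card_univ, ← Nat.card_eq_fintype_card, nsmul_eq_mul]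
    rw [show η ⟨1, H.one_mem⟩ = (d : ℂ) from hη1, ← H.card_mul_index, Nat.cast_mul]
    field_simp
  have hnd : ¬ p ∣ ∑ χ, a χ * dd χ := by
    rw [← hsum, hp.out.dvd_mul]
    rintro (h | h)
    · exact S.not_dvd_index (h.trans (Subgroup.index_dvd_of_le le_sup_right))
    · exact hpN (h.trans hdd)
  obtain ⟨χ, hχ⟩ : ∃ χ, ¬ p ∣ a χ * dd χ := by
    by_contra hall
    push Not at hall
    exact hnd (Finset.dvd_sum fun χ _ => hall χ)
  refine ⟨χ, constituent_trans hNH (η := ⟨η, hη⟩) ?_ ?_, ?_⟩
  · unfold IsConstituent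
    have h1 : classInner (indFun H η) (χ : G → ℂ) = (a χ : ℂ) := by
      rw [ha]; exact CharCore.classInner_sum_all _ χ
    rw [CharInd.classInner_indFun_left H η (irr_class χ)] at h1
    rw [← CharCore.conj_classInner, h1, map_natCast, Nat.cast_ne_zero]
    exact fun h0 => hχ (by rw [h0, Nat.zero_mul]; exact dvd_zero p)
  · show classInner (fun n : N => η ⟨n, hNH n.2⟩) (θ : N → ℂ) ≠ 0
    have e : (fun n : N => η ⟨n, hNH n.2⟩) = (θ : N → ℂ) := funext fun n =>
      (hηN (eN.symm n)).trans (congrArg _ (eN.apply_symm_apply n))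
    rw [e, CharCore.classInner_irr_self]
    exact one_ne_zero
  · rw [charDegree, hdd', Complex.natCast_re, Nat.floor_natCast]
    exact fun h => hχ (h.mul_left _)

/-- A block with a character of degree prime to `p` has a Sylow subgroup as defect group. -/
theorem natCard_defectGroup_of_not_dvd {M : Ideal AlgInt} (hM : IsPModular p M)
    {B : Set (IrrCharacter G)} (hB : IsPBlock M B) {χ : IrrCharacter G} (hχ : χ ∈ B)
    (hd : ¬ p ∣ charDegree (χ : G → ℂ)) {D : Subgroup G} (hD : IsDefectGroup p M B D) :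
    Nat.card D = p ^ (Nat.card G).factorization p := by
  rw [defectGroup_natCard hM hB hD, blockDefect]
  have h0 : sInf ((fun χ : IrrCharacter G => (charDegree (χ : G → ℂ)).factorization p) '' B) = 0 :=
    Nat.sInf_eq_zero.mpr (Or.inl ⟨χ, hχ, Nat.factorization_eq_zero_of_not_dvd hd⟩)
  rw [h0, Nat.sub_zero]

/-- The characters over an invariant character of `O_{p'}(G)` form one block of full defect,
for `p`-constrained `G`. -/
theorem single_block_of_constrained {M : Ideal AlgInt} (hM : IsPModular p M)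
    (hcons : IsPConstrained p G)
    (N : Subgroup G) [hN : N.Normal] [Fintype N] (hNdef : N = pPrimeCore p G)
    (θ : IrrCharacter N) (hinv : CharDeep.Ext.Inv N (θ : N → ℂ)) :
    ∃ B : Set (IrrCharacter G), IsPBlock M B ∧ (∀ χ, χ ∈ B ↔ IsConstituent χ θ) ∧
      (∀ P : Sylow p G, IsDefectGroup p M B (P : Subgroup G)) ∧
      ∀ D : Subgroup G, IsDefectGroup p M B D → ∃ P : Sylow p G, D = (P : Subgroup G) := by
  classical
  have := isPrime hM
  have hpN : ¬ p ∣ Nat.card N := hNdef ▸ Thompson.not_dvd_card_pPrimeCore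
  set U := pPrimePCore p G with hU
  letI := Fintype.ofFinite U
  have hNU : N ≤ U := hNdef ▸ Thompson.pPrimeCore_le_pPrimePCore
  set N' := N.subgroupOf U
  haveI : N'.Normal := inferInstance
  letI := Fintype.ofFinite N'
  let eN : N' ≃* N := Subgroup.subgroupOfEquivOfLe hNU
  set θ' : IrrCharacter N' := ⟨(θ : N → ℂ) ∘ eN,
    CharCore.isIrrCharacter_comp_surjective θ.2 eN.toMonoidHom eN.surjective⟩
  have hinv' : CharDeep.Ext.Inv N' (θ' : N' → ℂ) := fun g n =>
    (congrArg _ (Subtype.ext rfl)).trans (hinv (g : G) (eN n))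
  have hpN' : ¬ p ∣ Nat.card N' := by rwa [Nat.card_congr eN.toEquiv]
  obtain ⟨η₀, hη₀, hη₀d⟩ := exists_over_not_dvd (G := U) N' hpN' θ' hinv'
  have hidx : ∃ k, N'.index = p ^ k := by
    show ∃ k, N.relIndex U = p ^ k
    rw [Thompson.relIndex_eq_card_map_mk']
    subst hNdef
    rw [Thompson.map_mk'_pPrimePCore]
    exact IsPGroup.iff_card.mp (Fitting.pCore_isPGroup p)
  set b := blockOf M (η₀ : U → ℂ)
  have hb : IsPBlock M b := isPBlock_blockOf η₀
  obtain ⟨Q, hQ⟩ := exists_isDefectGroup hM hb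
  have hQc := natCard_defectGroup_of_not_dvd hM hb (mem_blockOf_self η₀) hη₀d hQ
  set Q₀ := Q.map U.subtype with hQ₀
  have hQU : Q₀ ≤ U := Subgroup.map_subtype_le _
  have hQ' : IsDefectGroup p M b (Q₀.subgroupOf U) := by
    rwa [hQ₀, ← Subgroup.comap_subtype, Subgroup.comap_map_eq_self_of_injective U.subtype_injective]
  have hCQ : Subgroup.centralizer (Q₀ : Set G) ≤ U := hcons (Sylow.ofCard Q hQc)
  -- every character over `θ` has a constituent in `b`
  have hover : ∀ χ : IrrCharacter G, IsConstituent χ θ →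
      ∃ η : IrrCharacter U, IsConstituent χ η ∧ η ∈ b := by
    intro χ hχ
    obtain ⟨η, hη⟩ := exists_constituent_irr (N := U) χ
    obtain ⟨θ₁', hθ₁'⟩ := exists_constituent_irr (N := N') η
    set θ₁ : IrrCharacter N := ⟨(θ₁' : N' → ℂ) ∘ eN.symm,
      CharCore.isIrrCharacter_comp_surjective θ₁'.2 eN.symm.toMonoidHom eN.symm.surjective⟩
    have h1 : IsConstituent χ θ₁ := by
      refine constituent_trans hNU hη ?_
      have e : classInner (fun n : N => (η : U → ℂ) ⟨n, hNU n.2⟩) (θ₁ : N → ℂ) =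
          classInner (fun n : N' => (η : U → ℂ) n) (θ₁' : N' → ℂ) := by
        rw [CharCore.classInner_def, CharCore.classInner_def, Nat.card_congr eN.toEquiv]
        congr 1
        exact Fintype.sum_equiv eN.symm.toEquiv _ _ fun n => rfl
      rw [e]; exact hθ₁'
    have h2 : θ₁ = θ := eq_of_invariant (fun g => Subtype.ext (funext (hinv g))) hχ h1
    have h3 : θ₁' = θ' := Subtype.ext (funext fun n => by
      show _ = (θ : N → ℂ) (eN n)
      rw [← h2]
      exact congrArg _ (eN.symm_apply_apply n).symm)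
    refine ⟨η, hη, ?_⟩
    show SameBlock M (η₀ : U → ℂ) (η : U → ℂ)
    exact mem_of_covers hM hidx (isPBlock_blockOf θ') (mem_blockOf_self θ') (mem_blockOf_self θ')
      (h3 ▸ hθ₁') hη₀
  have hout : ∀ χ : IrrCharacter G, IsConstituent χ θ → ∀ g : G, g ∉ U →
      MemLocalIdeal M (centralChar (χ : G → ℂ) g) := by
    intro χ hχ g hg
    obtain ⟨η, hη, hηb⟩ := hover χ hχ
    obtain ⟨z, hz, hzu⟩ := exists_coeff_centralizer_of_covers hM hb hQU hQ'
      (isPBlock_blockOf χ) ⟨χ, mem_blockOf_self χ, η, hηb, hη⟩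
    by_contra hgu
    rw [← omega_classInd (irr_class χ)] at hgu
    obtain ⟨y, hy, hyu⟩ := exists_unit_mem_centralizer hM (isPBlock_blockOf χ)
      (isIntClassFun_classInd g) (mem_blockOf_self χ) hgu
      ((isPGroup_of_isDefectGroup hQ).map U.subtype) hz hzu
    by_cases hc : IsConj g y
    · obtain ⟨c, rfl⟩ := isConj_iff.mp hc
      refine hg ?_
      have h1 := (inferInstance : U.Normal).conj_mem _ (hCQ hy) c⁻¹
      simpa [mul_assoc] using h1
    · exact hyu (by rw [classInd_apply_of_not_isConj hc]; exact memLocalIdeal_zero)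
  have hsame : ∀ χ χ' : IrrCharacter G, IsConstituent χ θ → IsConstituent χ' θ →
      SameBlock M (χ : G → ℂ) (χ' : G → ℂ) := by
    intro χ χ' h h' g
    by_cases hg : g ∈ U
    · obtain ⟨η, hη, hηb⟩ := hover χ h
      obtain ⟨η', hη', hηb'⟩ := hover χ' h'
      rw [omega_res_classInd_of_mem hη ⟨g, hg⟩, omega_res_classInd_of_mem hη' ⟨g, hg⟩,
        ← omega_res_classInd, ← omega_res_classInd]
      exact omega_sub_memLocalIdeal (sameBlock_of_mem hb hηb hηb')
        (isIntClassFun_res U (isIntClassFun_classInd g))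
    · exact memLocalIdeal_sub (hout χ h g hg) (hout χ' h' g hg)
  obtain ⟨χ₀, hχ₀, hχ₀d⟩ := exists_over_not_dvd N hpN θ hinv
  have hB := isPBlock_blockOf (M := M) χ₀
  have hDc := fun {D : Subgroup G} (hD : IsDefectGroup p M (blockOf M (χ₀ : G → ℂ)) D) =>
    natCard_defectGroup_of_not_dvd hM hB (mem_blockOf_self χ₀) hχ₀d hD
  refine ⟨blockOf M (χ₀ : G → ℂ), hB, fun χ => ⟨fun h => ?_, fun h => hsame χ₀ χ hχ₀ h⟩,
    fun P => ?_, fun D hD => ⟨Sylow.ofCard D (hDc hD), rfl⟩⟩
  · exact constituent_of_sameBlock hM hpN (sameBlock_symm h) hχ₀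
  · obtain ⟨D, hD⟩ := exists_isDefectGroup hM hB
    obtain ⟨x, hx⟩ := MulAction.exists_smul_eq G (Sylow.ofCard D (hDc hD)) P
    have h1 := isDefectGroup_map_conj hM hB hD x
    rw [← hx]
    exact h1

/-- The characters over an invariant character of `O_{p'}(G)` form one block of full defect,
for `p`-solvable `G`. -/
theorem single_block {M : Ideal AlgInt} (hM : IsPModular p M) (hsolv : IsPSolvable p G)
    (N : Subgroup G) [hN : N.Normal] [Fintype N] (hNdef : N = pPrimeCore p G)
    (θ : IrrCharacter N) (hinv : CharDeep.Ext.Inv N (θ : N → ℂ)) :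
    ∃ B : Set (IrrCharacter G), IsPBlock M B ∧ (∀ χ, χ ∈ B ↔ IsConstituent χ θ) ∧
      (∀ P : Sylow p G, IsDefectGroup p M B (P : Subgroup G)) ∧
      ∀ D : Subgroup G, IsDefectGroup p M B D → ∃ P : Sylow p G, D = (P : Subgroup G) := by
  obtain ⟨P₀⟩ := (inferInstance : Nonempty (Sylow p ↥(pPrimePCore p G)))
  exact single_block_of_constrained hM
    (PLocalB.isPConstrained_of_centralizer P₀ (Thompson.isPSolvable_subgroup _ hsolv))
    N hNdef θ hinv

end Cfsg.Agent.BlkChar.Fong
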