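import Cfsg.Agent.CharB.CyclicExt
import Cfsg.Agent.CharB.CliffordDegree
import Cfsg.Agent.CharDeep.Ext.Avg
import Cfsg.Agent.Lib.CharCore.InvariantOver
import Cfsg.Agent.BlkChar.PResidualChar
import Cfsg.Agent.Lib.PGroup.Basic
import Mathlib.GroupTheory.SchurZassenhaus

/-!
# Fully ramified sections under a cyclic Frobenius action
-/

namespace Cfsg.Agent.BlkChar

open scoped ComplexConjugate commutatorElement

/-- The arithmetic at the end of the argument. -/
theorem modEq_of_variance {ι : Type*} [Fintype ι] (a : ι → ℕ) (ht : 2 ≤ Fintype.card ι)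
    (h : (Fintype.card ι : ℤ) * ∑ i, (a i : ℤ) ^ 2 - (∑ i, (a i : ℤ)) ^ 2 = Fintype.card ι - 1) :
    (Fintype.card ι : ℤ) ∣ (∑ i, (a i : ℤ)) - 1 ∨ (Fintype.card ι : ℤ) ∣ (∑ i, (a i : ℤ)) + 1 := by
  classical
  haveI : Nonempty ι := Fintype.card_pos_iff.mp (by omega)
  obtain ⟨i₀, -, hi₀⟩ := Finset.exists_min_image Finset.univ a Finset.univ_nonempty
  set m : ℤ := (a i₀ : ℤ) with hm
  set b : ι → ℤ := fun i => (a i : ℤ) - m with hb
  set t : ℤ := (Fintype.card ι : ℤ) with htdef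
  have hb0 : ∀ i, 0 ≤ b i := fun i => by
    have := hi₀ i (Finset.mem_univ i); simp only [hb, hm]; omega
  have hsum : ∑ i, (a i : ℤ) = t * m + ∑ i, b i := by
    simp only [hb, Finset.sum_sub_distrib, Finset.sum_const, Finset.card_univ, nsmul_eq_mul]; ring
  have hsq : ∑ i, (a i : ℤ) ^ 2 = t * m ^ 2 + 2 * m * ∑ i, b i + ∑ i, b i ^ 2 := by
    have : ∀ i, (a i : ℤ) ^ 2 = m ^ 2 + 2 * m * b i + b i ^ 2 := fun i => by simp only [hb]; ring
    simp only [this, Finset.sum_add_distrib, Finset.sum_const, Finset.card_univ, nsmul_eq_mul,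
      ← Finset.mul_sum, ← htdef]
  set s := Finset.univ.filter fun i => b i ≠ 0 with hs
  set k : ℤ := (s.card : ℤ) with hk
  have hB : ∑ i, b i = ∑ i ∈ s, b i :=
    (Finset.sum_subset (Finset.subset_univ s) fun i _ hi => by simpa [hs] using hi).symm
  have hQ : ∑ i, b i ^ 2 = ∑ i ∈ s, b i ^ 2 :=
    (Finset.sum_subset (Finset.subset_univ s) fun i _ hi => by
      have : b i = 0 := by simpa [hs] using hi
      simp [this]).symm
  have hkey : t * ∑ i ∈ s, b i ^ 2 - (∑ i ∈ s, b i) ^ 2 = t - 1 := by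
    rw [hsum, hsq, hB, hQ] at h; linear_combination h
  have hkt : k < t := by
    rw [hk, htdef]
    exact_mod_cast Finset.card_lt_card (Finset.filter_ssubset.mpr ⟨i₀, Finset.mem_univ _, by simp [hb, hm]⟩)
  have hone : ∀ i ∈ s, 1 ≤ b i := fun i hi => by
    have h1 := (Finset.mem_filter.mp hi).2; have h2 := hb0 i; omega
  have hQk : k ≤ ∑ i ∈ s, b i ^ 2 := by
    calc k = ∑ i ∈ s, (1 : ℤ) := by simp [hk]
      _ ≤ _ := Finset.sum_le_sum fun i hi => by nlinarith [hone i hi]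
  have hk1 : 1 ≤ k := by
    by_contra hk0
    have h0 : s = ∅ := Finset.card_eq_zero.mp (by omega)
    rw [h0] at hkey; simp at hkey; omega
  have hCS : (∑ i ∈ s, b i) ^ 2 ≤ k * ∑ i ∈ s, b i ^ 2 := sq_sum_le_card_mul_sum_sq
  have hk2 : t - 1 ≤ (t - k) * k := by nlinarith
  have hQe : ∑ i ∈ s, b i ^ 2 = k := by nlinarith
  have hb1 : ∀ i ∈ s, b i = 1 := by
    intro i hi
    have h1 : ∑ j ∈ s, (b j ^ 2 - 1) = 0 := by rw [Finset.sum_sub_distrib, hQe]; simp [hk]
    have h2 := (Finset.sum_eq_zero_iff_of_nonneg fun j hj => by nlinarith [hone j hj]).mp h1 i hi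
    nlinarith [hone i hi]
  have hBk : ∑ i ∈ s, b i = k := by rw [Finset.sum_congr rfl hb1]; simp [hk]
  rw [hQe, hBk] at hkey
  have h0 : (k - 1) * (t - k - 1) = 0 := by linear_combination hkey
  rw [hsum, hB, hBk]
  rcases mul_eq_zero.mp h0 with h1 | h1
  · exact Or.inl ⟨m, by linear_combination h1⟩
  · exact Or.inr ⟨m + 1, by linear_combination -h1⟩

variable {Γ : Type*} [Group Γ] [Fintype Γ] (G N : Subgroup Γ) [hG : G.Normal] [hN : N.Normal]
  [Fintype G] [Fintype N] (hNG : N ≤ G)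
  (hfrob : ∀ x : Γ, x ∉ G → ∀ g : Γ, g ∈ G → x * g * x⁻¹ * g⁻¹ ∈ N → g ∈ N)

include hNG hfrob in
/-- Averaging a class function over `G x` reduces to `N x` outside `G`. -/
theorem sum_coset_frobenius {F : Γ → ℂ} (hF : IsClassFunction Γ F) {x : Γ} (hx : x ∉ G) :
    (Nat.card N : ℂ) * ∑ g : G, F ((g : Γ) * x) = (Nat.card G : ℂ) * ∑ n : N, F ((n : Γ) * x) := by
  classical
  have hmem : ∀ t : G, ∀ n : N, (t : Γ) * ((n : Γ) * x) * (t : Γ)⁻¹ * x⁻¹ ∈ G := by
    intro t n
    rw [show (t : Γ) * ((n : Γ) * x) * (t : Γ)⁻¹ * x⁻¹ = (t : Γ) * n * (x * (t : Γ)⁻¹ * x⁻¹) by group]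
    exact G.mul_mem (G.mul_mem t.2 (hNG n.2)) (hG.conj_mem _ (G.inv_mem t.2) x)
  let Φ : G × N → G := fun p => ⟨(p.1 : Γ) * ((p.2 : Γ) * x) * (p.1 : Γ)⁻¹ * x⁻¹, hmem p.1 p.2⟩
  have hle : ∀ g : G, (Finset.univ.filter fun p => Φ p = g).card ≤ Fintype.card N := by
    intro g
    by_cases hne : (Finset.univ.filter fun p => Φ p = g).Nonempty
    swap
    · rw [Finset.not_nonempty_iff_eq_empty.mp hne, Finset.card_empty]; exact Nat.zero_le _
    obtain ⟨p₀, hp₀⟩ := hne
    simp only [Finset.mem_filter, Finset.mem_univ, true_and] at hp₀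
    have key : ∀ p : G × N, Φ p = g → (p₀.1 : Γ)⁻¹ * p.1 ∈ N ∧
        ((p₀.1 : Γ)⁻¹ * p.1) * ((p.2 : Γ) * x) * ((p₀.1 : Γ)⁻¹ * p.1)⁻¹ = (p₀.2 : Γ) * x := by
      intro p hp
      have h2 : (p.1 : Γ) * ((p.2 : Γ) * x) * (p.1 : Γ)⁻¹ * x⁻¹ =
          (p₀.1 : Γ) * ((p₀.2 : Γ) * x) * (p₀.1 : Γ)⁻¹ * x⁻¹ :=
        congrArg Subtype.val (hp.trans hp₀.symm)
      have h3 := mul_right_cancel h2
      set s := (p₀.1 : Γ)⁻¹ * p.1 with hs
      have h4 : s * ((p.2 : Γ) * x) * s⁻¹ = (p₀.2 : Γ) * x := by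
        calc _ = (p₀.1 : Γ)⁻¹ * ((p.1 : Γ) * ((p.2 : Γ) * x) * (p.1 : Γ)⁻¹) * (p₀.1 : Γ) := by
              rw [hs]; group
          _ = _ := by rw [h3]; group
      refine ⟨hfrob x hx s (G.mul_mem (G.inv_mem p₀.1.2) p.1.2) ?_, h4⟩
      have h5 : s * (p.2 : Γ) * s⁻¹ * (s * x * s⁻¹ * x⁻¹) = (p₀.2 : Γ) := by
        calc _ = s * ((p.2 : Γ) * x) * s⁻¹ * x⁻¹ := by group
          _ = _ := by rw [h4, mul_inv_cancel_right]
      have h6 : s * x * s⁻¹ * x⁻¹ ∈ N := by
        rw [eq_inv_mul_of_mul_eq h5]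
        exact N.mul_mem (N.inv_mem (hN.conj_mem _ p.2.2 s)) p₀.2.2
      have := N.inv_mem h6
      simpa [mul_assoc] using this
    rw [← Finset.card_univ]
    refine Finset.card_le_card_of_injOn
      (fun p => if h : Φ p = g then (⟨(p₀.1 : Γ)⁻¹ * p.1, (key p h).1⟩ : N) else 1)
      (fun p _ => Finset.mem_coe.mpr (Finset.mem_univ _)) ?_
    intro p hp q hq hpq
    simp only [Finset.coe_filter, Finset.mem_univ, true_and] at hp hq
    simp only [dif_pos (show Φ p = g from hp), dif_pos (show Φ q = g from hq)] at hpq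
    have h1 : (p.1 : Γ) = q.1 := mul_left_cancel (congrArg Subtype.val hpq)
    have h2 := (key p hp).2.trans (key q hq).2.symm
    rw [h1] at h2
    exact Prod.ext (Subtype.ext h1)
      (Subtype.ext (mul_right_cancel (mul_left_cancel (mul_right_cancel h2))))
  have hsum := Finset.card_eq_sum_card_fiberwise (f := Φ) (s := Finset.univ) (t := Finset.univ)
    (fun p _ => Finset.mem_coe.mpr (Finset.mem_univ _))
  have heq : ∀ g : G, (Finset.univ.filter fun p => Φ p = g).card = Fintype.card N := by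
    have h1 := (Finset.sum_eq_sum_iff_of_le (s := (Finset.univ : Finset G))
      (f := fun g => (Finset.univ.filter fun p => Φ p = g).card) (g := fun _ => Fintype.card N)
      (fun g _ => hle g)).mp (by
        rw [← hsum, Finset.card_univ, Fintype.card_prod, Finset.sum_const, Finset.card_univ,
          smul_eq_mul])
    exact fun g => h1 g (Finset.mem_univ g)
  have hval : ∀ p : G × N, F ((Φ p : Γ) * x) = F ((p.2 : Γ) * x) := by
    intro p
    show F ((p.1 : Γ) * ((p.2 : Γ) * x) * (p.1 : Γ)⁻¹ * x⁻¹ * x) = _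
    rw [inv_mul_cancel_right]
    exact hF _ _
  have e1 : ∑ p : G × N, F ((Φ p : Γ) * x) = (Nat.card N : ℂ) * ∑ g : G, F ((g : Γ) * x) := by
    rw [Finset.mul_sum, ← Finset.sum_fiberwise Finset.univ Φ fun p => F ((Φ p : Γ) * x)]
    refine Finset.sum_congr rfl fun g _ => ?_
    rw [Finset.sum_congr rfl (g := fun _ => F ((g : Γ) * x)) fun p hp => by
      rw [(Finset.mem_filter.mp hp).2]]
    rw [Finset.sum_const, heq g, nsmul_eq_mul, Nat.card_eq_fintype_card]
  rw [← e1, Finset.sum_congr rfl fun p _ => hval p, Fintype.sum_prod_type]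
  dsimp only
  rw [Finset.sum_const, Finset.card_univ, nsmul_eq_mul, Nat.card_eq_fintype_card]

include hNG hfrob in
/-- The Frobenius complement. -/
theorem exists_frobenius_complement (hNlt : N ≠ G) :
    ∃ U : Subgroup Γ, N ≤ U ∧ (∀ u ∈ U, u ∈ G → u ∈ N) ∧ Nat.card U = Nat.card N * G.index := by
  classical
  let Gb := G.map (QuotientGroup.mk' N)
  haveI : Gb.Normal := Subgroup.Normal.map hG _ (QuotientGroup.mk'_surjective N)
  have hidx : Gb.index = G.index :=
    Subgroup.index_map_eq _ (QuotientGroup.mk'_surjective N) (by rw [QuotientGroup.ker_mk']; exact hNG)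
  have hcop : (Nat.card Gb).Coprime Gb.index := by
    refine Nat.coprime_of_dvd fun p hp h1 h2 => ?_
    haveI := Fact.mk hp
    obtain ⟨P⟩ : Nonempty (Sylow p (Γ ⧸ N)) := inferInstance
    have hPG : ¬ (P : Subgroup (Γ ⧸ N)) ≤ Gb :=
      fun hle => P.not_dvd_index (h2.trans (Subgroup.index_dvd_of_le hle))
    obtain ⟨y, hyP, hyG⟩ := SetLike.not_le_iff_exists.mp hPG
    obtain ⟨g, hg⟩ := exists_prime_orderOf_dvd_card' (G := Gb) p h1
    let K := (Gb ⊓ (P : Subgroup (Γ ⧸ N))).subgroupOf (P : Subgroup (Γ ⧸ N))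
    haveI : K.Normal := by
      refine ⟨fun k hk z => ?_⟩
      simp only [K, Subgroup.mem_subgroupOf, Subgroup.mem_inf] at hk ⊢
      exact ⟨Subgroup.Normal.conj_mem inferInstance _ hk.1 _, (z * k * z⁻¹).2⟩
    have hK : Nontrivial K := by
      obtain ⟨Q, hQ⟩ := (IsPGroup.of_card (G := Subgroup.zpowers ((g : Gb) : Γ ⧸ N)) (n := 1) (p := p)
        (by rw [Nat.card_zpowers, Subgroup.orderOf_coe, hg, pow_one])).exists_le_sylow
      obtain ⟨z, hz⟩ := MulAction.exists_smul_eq (Γ ⧸ N) Q P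
      have h3 : z * g * z⁻¹ ∈ (P : Subgroup (Γ ⧸ N)) := by
        rw [← hz]
        exact ⟨g, hQ (Subgroup.mem_zpowers _), rfl⟩
      have h4 : z * g * z⁻¹ ∈ Gb := Subgroup.Normal.conj_mem inferInstance _ g.2 z
      refine ⟨⟨⟨⟨_, h3⟩, ⟨h4, h3⟩⟩, 1, fun h5 => ?_⟩⟩
      have h6 : z * g * z⁻¹ = 1 := congrArg (fun w : K => ((w : (P : Subgroup (Γ ⧸ N))) : Γ ⧸ N)) h5
      rw [conj_eq_one_iff] at h6
      rw [OneMemClass.coe_eq_one.mp h6, orderOf_one] at hg
      exact hp.ne_one hg.symm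
    obtain ⟨w, hwK, hwc, hw1⟩ : ∃ w : (P : Subgroup (Γ ⧸ N)), w ∈ K ∧
        w ∈ Subgroup.center (P : Subgroup (Γ ⧸ N)) ∧ w ≠ 1 := by
      have hne : K ⊓ Subgroup.center (P : Subgroup (Γ ⧸ N)) ≠ ⊥ :=
        PGroup.inf_center_ne_bot P.2 ((Subgroup.nontrivial_iff_ne_bot K).mp hK)
      haveI := (Subgroup.nontrivial_iff_ne_bot _).mpr hne
      obtain ⟨⟨w, hw⟩, hne⟩ := exists_ne (1 : (K ⊓ Subgroup.center (P : Subgroup (Γ ⧸ N)) : Subgroup _))
      exact ⟨w, hw.1, hw.2, fun h => hne (Subtype.ext h)⟩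
    obtain ⟨a, ha, hae⟩ := (show (w : Γ ⧸ N) ∈ Gb from hwK.1)
    obtain ⟨b, hb⟩ := QuotientGroup.mk'_surjective N y
    have hbG : b ∉ G := fun h => hyG (hb ▸ Subgroup.mem_map_of_mem _ h)
    have hc : y * (w : Γ ⧸ N) = (w : Γ ⧸ N) * y :=
      congrArg Subtype.val (Subgroup.mem_center_iff.mp hwc ⟨y, hyP⟩)
    have h8 : b * a * b⁻¹ * a⁻¹ ∈ N := by
      rw [← QuotientGroup.eq_one_iff]
      show QuotientGroup.mk' N (b * a * b⁻¹ * a⁻¹) = 1
      rw [map_mul, map_mul, map_mul, map_inv, map_inv, hb, hae, hc]; group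
    have h9 := hfrob b hbG a ha h8
    refine hw1 (Subtype.ext ?_)
    rw [← hae]
    exact (QuotientGroup.eq_one_iff a).mpr h9
  obtain ⟨B, hB⟩ := Subgroup.exists_right_complement'_of_coprime hcop
  refine ⟨B.comap (QuotientGroup.mk' N), ?_, fun u hu hug => ?_, ?_⟩
  · intro n hn
    rw [Subgroup.mem_comap, show QuotientGroup.mk' N n = 1 from (QuotientGroup.eq_one_iff n).mpr hn]
    exact B.one_mem
  · rw [← QuotientGroup.eq_one_iff]
    exact Subgroup.disjoint_def.mp hB.disjoint (Subgroup.mem_map_of_mem _ hug) hu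
  · have e1 := (B.comap (QuotientGroup.mk' N)).card_mul_index
    rw [Subgroup.index_comap_of_surjective _ (QuotientGroup.mk'_surjective N)] at e1
    have e2 := B.card_mul_index
    have e3 := N.card_mul_index
    have e4 : Nat.card B = Gb.index := hB.symm.index_eq_card.symm
    rw [Subgroup.index_eq_card, ← e2] at e3
    rw [e4] at e2 e3
    rw [hidx] at e3
    rw [← e3, ← mul_assoc] at e1
    exact mul_right_cancel₀ Subgroup.FiniteIndex.index_ne_zero e1

include hNG hfrob in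
/-- The degree congruence for a fully ramified section. -/
theorem index_dvd_pm_one (hGlt : G ≠ ⊤) (hNlt : N ≠ G) (hcyc : IsCyclic (Γ ⧸ G)) (θ : IrrCharacter N)
    (hinv : ∀ (x : Γ) (n : N), (θ : N → ℂ) ⟨x * n * x⁻¹, hN.conj_mem n n.2 x⟩ = (θ : N → ℂ) n)
    (χ : IrrCharacter G) (e : ℕ) (hres : ∀ n : N, (χ : G → ℂ) ⟨n, hNG n.2⟩ = (e : ℂ) * (θ : N → ℂ) n)
    (hoff : ∀ g : G, (g : Γ) ∉ N → (χ : G → ℂ) g = 0) :
    (G.index : ℤ) ∣ (e : ℤ) - 1 ∨ (G.index : ℤ) ∣ (e : ℤ) + 1 := by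
  classical
  -- extension to the whole group
  have hχinv : ∀ (x : Γ) (g : G), (χ : G → ℂ) ⟨x * g * x⁻¹, hG.conj_mem g g.2 x⟩ = (χ : G → ℂ) g := by
    intro x g
    by_cases hg : (g : Γ) ∈ N
    · rw [show g = ⟨((⟨g, hg⟩ : N) : Γ), hNG hg⟩ from Subtype.ext rfl, hres]
      rw [show (⟨x * (g : Γ) * x⁻¹, hG.conj_mem g g.2 x⟩ : G) =
        ⟨((⟨x * (g : Γ) * x⁻¹, hN.conj_mem _ hg x⟩ : N) : Γ), hNG (hN.conj_mem _ hg x)⟩
        from Subtype.ext rfl, hres, hinv x ⟨g, hg⟩]
    · rw [hoff g hg, hoff]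
      intro h
      have := hN.conj_mem _ h x⁻¹
      simp only [inv_inv] at this
      apply hg
      convert this using 1
      group
  obtain ⟨X, hX, hXe⟩ := CharB.exists_extension_of_cyclic G hcyc χ.2 hχinv
  have hXres : IsIrrCharacter G (fun g : G => X g) := by
    rw [show (fun g : G => X g) = (χ : G → ℂ) from funext hXe]; exact χ.2
  have hXn : ∀ n : N, X n = (e : ℂ) * (θ : N → ℂ) n := fun n => (hXe ⟨n, hNG n.2⟩).trans (hres n)
  obtain ⟨U, hNU, hUG, hUcard⟩ := exists_frobenius_complement G N hNG hfrob hNlt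
  haveI := Fintype.ofFinite U
  let M := N.subgroupOf U
  haveI := Fintype.ofFinite M
  let eM : M ≃* N := Subgroup.subgroupOfEquivOfLe hNU
  let θ' : IrrCharacter M :=
    ⟨fun m => (θ : N → ℂ) (eM m), CharCore.isIrrCharacter_comp_surjective θ.2 eM.toMonoidHom eM.surjective⟩
  have hinv' : CharDeep.Ext.Inv M (θ' : M → ℂ) := fun g m => by
    show (θ : N → ℂ) (eM _) = (θ : N → ℂ) (eM m)
    exact (congrArg _ (Subtype.ext rfl)).trans (hinv (g : Γ) (eM m))
  have hXM : ∀ m : M, X ((m : U) : Γ) = (e : ℂ) * (θ' : M → ℂ) m := fun m => hXn (eM m)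
  -- the norm on U
  have hcl := CharCore.irr_isClassFunction (⟨X, hX⟩ : IrrCharacter Γ)
  have hclF : IsClassFunction Γ fun y => X y * conj (X y) := fun a b => by
    show X (b * a * b⁻¹) * conj (X (b * a * b⁻¹)) = X a * conj (X a)
    rw [show X (b * a * b⁻¹) = X a from hcl a b]
  have hout : ∀ u : U, (u : Γ) ∉ G →
      ∑ n : N, X ((n : Γ) * u) * conj (X ((n : Γ) * u)) = (Nat.card N : ℂ) := by
    intro u hu
    have h1 := sum_coset_frobenius G N hNG hfrob hclF hu
    have h2 := congrFun (CharDeep.Ext.avg_mul_conj_self hX hXres) (u : Γ)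
    rw [CharDeep.Ext.avg_apply, Pi.one_apply, inv_mul_eq_one₀ (Nat.cast_ne_zero.mpr Nat.card_pos.ne')] at h2
    rw [← h2, mul_comm] at h1
    exact (mul_left_cancel₀ (Nat.cast_ne_zero.mpr Nat.card_pos.ne') h1).symm
  have hin : ∑ n : N, X n * conj (X n) = (e : ℂ) ^ 2 * Nat.card N := by
    have h1 := CharCore.classInner_irr_self θ
    rw [CharCore.classInner_def, inv_mul_eq_one₀ (Nat.cast_ne_zero.mpr Nat.card_pos.ne')] at h1
    simp only [hXn, map_mul, map_natCast]
    rw [h1, Finset.mul_sum]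
    exact Finset.sum_congr rfl fun n _ => by ring
  have htot : (Nat.card N : ℂ) * ∑ u : U, X u * conj (X u) =
      (Nat.card N : ℂ) * ((e : ℂ) ^ 2 * Nat.card N + ((Nat.card U : ℂ) - Nat.card N)) := by
    have h1 : ∑ u : U, ∑ n : N, X ((n : Γ) * u) * conj (X ((n : Γ) * u)) =
        (Nat.card N : ℂ) * ∑ u : U, X u * conj (X u) := by
      rw [Finset.sum_comm, Nat.card_eq_fintype_card, ← Finset.card_univ, ← nsmul_eq_mul,
        ← Finset.sum_const]
      refine Finset.sum_congr rfl fun n _ => ?_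
      exact Fintype.sum_equiv (Equiv.mulLeft (⟨n, hNU n.2⟩ : U)) _ _ fun u => rfl
    rw [← h1, ← Finset.sum_filter_add_sum_filter_not Finset.univ (fun u : U => (u : Γ) ∈ N)]
    have h2 : ∀ u : U, (u : Γ) ∈ N →
        ∑ n : N, X ((n : Γ) * u) * conj (X ((n : Γ) * u)) = (e : ℂ) ^ 2 * Nat.card N := by
      intro u hu
      rw [← hin]
      exact Fintype.sum_equiv (Equiv.mulRight (⟨(u : Γ), hu⟩ : N)) _ _ fun n => rfl
    have h2' : ∀ u : U, ¬ (u : Γ) ∈ N →
        ∑ n : N, X ((n : Γ) * u) * conj (X ((n : Γ) * u)) = (Nat.card N : ℂ) := fun u hu =>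
      hout u fun h => hu (hUG u u.2 h)
    rw [Finset.sum_congr rfl fun u hu => h2 u (Finset.mem_filter.mp hu).2,
      Finset.sum_congr rfl fun u hu => h2' u (Finset.mem_filter.mp hu).2]
    have h3 : (Finset.univ.filter fun u : U => (u : Γ) ∈ N).card = Nat.card N := by
      rw [← Fintype.card_subtype, ← Nat.card_eq_fintype_card]
      exact Nat.card_congr eM.toEquiv
    have h4 := Finset.card_filter_add_card_filter_not (s := (Finset.univ : Finset U))
      (fun u : U => (u : Γ) ∈ N)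
    rw [h3, Finset.card_univ, ← Nat.card_eq_fintype_card] at h4
    simp only [Finset.sum_const, nsmul_eq_mul, h3]
    rw [← h4]; push_cast; ring
  have hsumU := mul_left_cancel₀ (Nat.cast_ne_zero.mpr Nat.card_pos.ne') htot
  -- the characters of U over θ
  have hcomm : commutator U ≤ M := by
    rw [commutator_def, Subgroup.commutator_le]
    intro a _ b _
    rw [Subgroup.mem_subgroupOf]
    refine hUG _ (SetLike.coe_mem _) ?_
    letI : CommGroup (Γ ⧸ G) := IsCyclic.commGroup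
    rw [← QuotientGroup.eq_one_iff]
    simp [commutatorElement_def, mul_comm]
  have hcycU : IsCyclic (U ⧸ M) := by
    let f : U →* Γ ⧸ G := (QuotientGroup.mk' G).comp U.subtype
    have hker : f.ker = M := by
      ext u
      rw [MonoidHom.mem_ker, Subgroup.mem_subgroupOf]
      exact ⟨fun h => hUG u u.2 ((QuotientGroup.eq_one_iff _).mp h),
        fun h => (QuotientGroup.eq_one_iff _).mpr (hNG h)⟩
    refine isCyclic_of_injective (QuotientGroup.lift M f hker.ge) ?_
    rw [← MonoidHom.ker_eq_bot_iff, QuotientGroup.ker_lift, hker, QuotientGroup.map_mk'_self]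
  obtain ⟨T0, hT0, hT0e⟩ := CharB.exists_extension_of_cyclic M hcycU θ'.2 hinv'
  have hT0res : IsIrrCharacter M (fun m : M => T0 m) := by
    rw [show (fun m : M => T0 m) = (θ' : M → ℂ) from funext hT0e]; exact θ'.2
  have hover : ∀ ψ : IrrCharacter U, classInner (fun m : M => (ψ : U → ℂ) m) (θ' : M → ℂ) ≠ 0 →
      (fun m : M => (ψ : U → ℂ) m) = (θ' : M → ℂ) := by
    intro ψ hψ
    obtain ⟨b, hb, hbM, hψe, -⟩ := CharDeep.Ext.exists_gallagher hT0 hT0res ψ.2
      (by rwa [show (fun m : M => T0 m) = (θ' : M → ℂ) from funext hT0e])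
    have hb1 : b 1 = 1 := CharCore.degree_one_of_inv M hcomm ⟨b, hb⟩ hbM
    funext m
    rw [hψe, Pi.mul_apply, hT0e]
    have := hbM m 1
    rw [mul_one, hb1] at this
    rw [this, one_mul]
  set T := Finset.univ.filter fun ψ : IrrCharacter U =>
    classInner (fun m : M => (ψ : U → ℂ) m) (θ' : M → ℂ) ≠ 0 with hT
  have hTone : ∀ ψ ∈ T, classInner (fun m : M => (ψ : U → ℂ) m) (θ' : M → ℂ) = 1 := fun ψ hψ => by
    rw [hover ψ (Finset.mem_filter.mp hψ).2]; exact CharCore.classInner_irr_self θ'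
  have hMidx : M.index = G.index := by
    have h1 := M.card_mul_index
    rw [Nat.card_congr eM.toEquiv, hUcard] at h1
    exact Nat.eq_of_mul_eq_mul_left Nat.card_pos h1
  have hTcard : T.card = G.index := by
    have hic := CharInd.isClassFunction_indFun M (θ' : M → ℂ)
    have h1 := congrFun (CharCore.eq_sum_classInner hic) 1
    have h2 : ∀ ψ : IrrCharacter U, classInner (indFun M (θ' : M → ℂ)) (ψ : U → ℂ) =
        if ψ ∈ T then 1 else 0 := by
      intro ψ
      obtain ⟨k, hk1, hk2⟩ := CharDeep.Ext.classInner_indFun_eq_natCast M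
        (CharCore.irr_isCharacter θ') ψ
      rw [hk1, ← hk2]
      split_ifs with h
      · exact hTone ψ h
      · by_contra h'; exact h (Finset.mem_filter.mpr ⟨Finset.mem_univ _, h'⟩)
    obtain ⟨d, hd0, hd1, -⟩ := exists_degree' θ'
    have h3 : ∀ ψ ∈ T, (ψ : U → ℂ) 1 = d := fun ψ hψ => by
      rw [← hd1, ← congrFun (hover ψ (Finset.mem_filter.mp hψ).2) 1]
      exact congrArg _ (OneMemClass.coe_one M).symm
    simp only [Finset.sum_apply, Pi.smul_apply, smul_eq_mul, h2, ite_mul, one_mul, zero_mul,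
      Finset.sum_ite_mem, Finset.univ_inter] at h1
    rw [Finset.sum_congr rfl h3, Finset.sum_const, nsmul_eq_mul,
      show (1 : U) = ((1 : M) : U) from rfl, CharDeep.Ext.indFun_coe M hinv', hd1, hMidx] at h1
    exact_mod_cast (mul_right_cancel₀ (Nat.cast_ne_zero.mpr hd0.ne') h1).symm
  -- decomposition of the restriction to U
  have hXU := CharCore.isCharacter_restrict (CharCore.IsIrrCharacter.isCharacter hX) U
  choose a ha using fun ψ => CharCore.IsCharacter.exists_classInner_irr_eq_natCast hXU ψ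
  have hres2 : (fun m : M => X ((m : U) : Γ)) =
      ∑ ψ : IrrCharacter U, (a ψ : ℂ) • (fun m : M => (ψ : U → ℂ) m) := by
    funext m
    have := congrFun (CharCore.IsCharacter.eq_sum_classInner hXU) (m : U)
    simp only [Finset.sum_apply, Pi.smul_apply, smul_eq_mul, ha] at this ⊢
    exact this
  have hae : (e : ℂ) = ∑ ψ ∈ T, (a ψ : ℂ) := by
    have h1 : classInner (fun m : M => X ((m : U) : Γ)) (θ' : M → ℂ) = e := by
      rw [show (fun m : M => X ((m : U) : Γ)) = (e : ℂ) • (θ' : M → ℂ) from funext hXM,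
        CharCore.classInner_smul_left, CharCore.classInner_irr_self, mul_one]
    rw [hres2, CharCore.classInner_sum_left] at h1
    rw [← h1, hT, Finset.sum_filter]
    refine Finset.sum_congr rfl fun ψ _ => ?_
    rw [CharCore.classInner_smul_left]
    split_ifs with h
    · rw [hTone ψ (Finset.mem_filter.mpr ⟨Finset.mem_univ _, h⟩), mul_one]
    · push Not at h; rw [h, mul_zero]
  have hzero : ∀ ψ ∉ T, a ψ = 0 := by
    intro ψ hψ
    by_contra h0
    have hne : classInner (fun m : M => (ψ : U → ℂ) m) (θ' : M → ℂ) = 0 := by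
      by_contra h; exact hψ (Finset.mem_filter.mpr ⟨Finset.mem_univ _, h⟩)
    obtain ⟨d, hd0, hd1, -⟩ := exists_degree' ψ
    have hψres := CharCore.isCharacter_restrict (CharCore.irr_isCharacter ψ) M
    obtain ⟨l, hl⟩ : ∃ l : IrrCharacter M, classInner (fun m : M => (ψ : U → ℂ) m) (l : M → ℂ) ≠ 0 := by
      by_contra hall
      push Not at hall
      have h1 := congrFun (CharCore.IsCharacter.eq_sum_classInner hψres) 1
      simp [hall, hd1, hd0.ne'] at h1
    have hlθ : l ≠ θ' := fun h => hl (h ▸ hne)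
    have h1 : classInner (fun m : M => X ((m : U) : Γ)) (l : M → ℂ) = 0 := by
      rw [show (fun m : M => X ((m : U) : Γ)) = (e : ℂ) • (θ' : M → ℂ) from funext hXM,
        CharCore.classInner_smul_left, CharCore.classInner_irr_of_ne (Ne.symm hlθ), mul_zero]
    rw [hres2, CharCore.classInner_sum_left] at h1
    choose k hk using fun φ : IrrCharacter U => CharCore.IsCharacter.exists_classInner_irr_eq_natCast
      (CharCore.isCharacter_restrict (CharCore.irr_isCharacter φ) M) l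
    simp only [CharCore.classInner_smul_left, hk] at h1
    have h2 : ∑ φ : IrrCharacter U, a φ * k φ = 0 := by exact_mod_cast h1
    have h3 := Finset.sum_eq_zero_iff.mp h2 ψ (Finset.mem_univ _)
    exact (Nat.mul_eq_zero.mp h3).elim h0 fun h => hl (by rw [hk, h, Nat.cast_zero])
  have hnorm : (G.index : ℂ) * ∑ ψ ∈ T, (a ψ : ℂ) ^ 2 = (e : ℂ) ^ 2 + G.index - 1 := by
    have h1 := CharCore.classInner_eq_sum (CharCore.IsCharacter.isClassFunction hXU)
      (CharCore.IsCharacter.isClassFunction hXU)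
    simp only [ha, map_natCast, ← sq] at h1
    rw [← Finset.sum_subset (Finset.subset_univ T) (fun ψ _ h => by simp [hzero ψ h])] at h1
    rw [← h1, CharCore.classInner_def, hsumU, hUcard]
    push_cast
    have hn : (Nat.card N : ℂ) ≠ 0 := Nat.cast_ne_zero.mpr Nat.card_pos.ne'
    have hi : (G.index : ℂ) ≠ 0 := Nat.cast_ne_zero.mpr Subgroup.FiniteIndex.index_ne_zero
    field_simp
    ring
  have ht : 2 ≤ G.index := by
    have h1 : G.index ≠ 0 := Subgroup.FiniteIndex.index_ne_zero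
    have h2 : G.index ≠ 1 := fun h => hGlt (Subgroup.index_eq_one.mp h)
    omega
  have := modEq_of_variance (fun ψ : T => a ψ) (by rw [Fintype.card_coe, hTcard]; exact ht) (by
    rw [Fintype.card_coe, hTcard, Finset.sum_coe_sort T (fun ψ => ((a ψ : ℤ)) ^ 2),
      Finset.sum_coe_sort T (fun ψ => (a ψ : ℤ))]
    have h5 : ((∑ ψ ∈ T, (a ψ : ℤ) : ℤ) : ℂ) = e := by push_cast; exact hae.symm
    apply Int.cast_injective (α := ℂ)
    push_cast
    rw [hnorm, ← hae]
    ring)
  rw [Fintype.card_coe, hTcard, Finset.sum_coe_sort T (fun ψ => (a ψ : ℤ))] at this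
  have he' : (∑ ψ ∈ T, (a ψ : ℤ)) = e := by
    apply Int.cast_injective (α := ℂ)
    push_cast
    exact hae.symm
  rwa [he'] at this

end Cfsg.Agent.BlkChar
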