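import Cfsg.Agent.CharB.CyclicExt
import Cfsg.Agent.CharDeep.Ext.Clifford
import Cfsg.Agent.Lib.CharClifford.Clifford

/-!
# Complements in quotients of fully ramified sections

For `χ` fully ramified over `Z` and `Z ≤ K ⊴ H`, the constituents of `χ` on a Sylow subgroup of
`K/Z` give a `p`-complement of `H/K` whenever the stabilizer of a constituent on `K` has index
with full `p`-part, and also when the Sylow `p`-subgroups of `H/K` are cyclic.
-/

namespace Cfsg.Agent.BlkChar.FRCompl

open scoped ComplexConjugate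
open Cfsg.Agent

universe u

variable {H : Type u} [Group H] [Fintype H] (Z : Subgroup H) [Z.Normal]

/-- Multiplicities and relative degrees over `θ` of the constituents of `χ ∘ j`. -/
structure Over {L : Type u} [Group L] [Fintype L] (j : L →* H) (χ : H → ℂ) (θ : Z → ℂ)
    (e c : ℕ) (m d : Cfsg.IrrCharacter L → ℕ) : Prop where
  mult : ∀ ψ : Cfsg.IrrCharacter L, Cfsg.classInner (fun l => χ (j l)) (ψ : L → ℂ) = m ψ
  rel : ∀ ψ, m ψ * (Z.comap j).index = e * d ψ
  res : ∀ ψ, m ψ ≠ 0 → ∀ z : L, ∀ hz : j z ∈ Z, (ψ : L → ℂ) z = d ψ * θ ⟨j z, hz⟩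
  deg : ∀ ψ : Cfsg.IrrCharacter L, m ψ ≠ 0 → (ψ : L → ℂ) 1 = (d ψ : ℂ) * c
  lvl : ∀ ψ : Cfsg.IrrCharacter L, ∀ k : ℕ,
    (∀ z : L, ∀ hz : j z ∈ Z, (ψ : L → ℂ) z = k * θ ⟨j z, hz⟩) → d ψ = k
  total : ∑ ψ, m ψ * d ψ = e
  sq : ∑ ψ, d ψ * d ψ = (Z.comap j).index

omit [Fintype H] in
theorem relne [Finite H] (A B : Subgroup H) : A.relIndex B ≠ 0 :=
  Subgroup.FiniteIndex.index_ne_zero (H := A.subgroupOf B)

theorem exists_over {L : Type u} [Group L] [Fintype L] (j : L →* H) (hj : Function.Injective j)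
    (hZj : Z ≤ j.range) {χ : H → ℂ} (hχ : Cfsg.IsCharacter H χ) {θ : Z → ℂ}
    (hθ : Cfsg.IsIrrCharacter Z θ) {e c : ℕ} (he : e ≠ 0) (hc : θ 1 = c)
    (hoff : ∀ g, g ∉ Z → χ g = 0) (hon : ∀ z : Z, χ z = e * θ z) :
    ∃ m d : Cfsg.IrrCharacter L → ℕ, Over Z j χ θ e c m d := by
  classical
  have he0 : (e : ℂ) ≠ 0 := Nat.cast_ne_zero.mpr he
  set Z' := Z.comap j with hZ'
  let ι : Z' →* Z := j.subgroupComap Z
  have hιinj : Function.Injective ι := fun a b h => Subtype.ext (hj (congrArg Subtype.val h))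
  have hιsur : Function.Surjective ι := by
    rintro ⟨z, hz⟩
    obtain ⟨l, rfl⟩ := hZj hz
    exact ⟨⟨l, hz⟩, rfl⟩
  have hθ' : Cfsg.IsIrrCharacter Z' (θ ∘ ι) := CharCore.isIrrCharacter_comp_surjective hθ ι hιsur
  have hinv : CharDeep.Ext.Inv Z' (θ ∘ ι) := by
    intro g n
    have h := CharCore.IsCharacter.isClassFunction hχ (j (n : L)) (j g)
    have h1 : j g * j (n : L) * (j g)⁻¹ ∈ Z := ‹Z.Normal›.conj_mem _ n.2 _
    rw [show χ (j g * j (n : L) * (j g)⁻¹) = χ ((⟨_, h1⟩ : Z) : H) from rfl, hon,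
      show χ (j (n : L)) = χ ((⟨_, n.2⟩ : Z) : H) from rfl, hon] at h
    have h2 := mul_left_cancel₀ he0 h
    refine (congrArg θ (Subtype.ext ?_)).trans h2
    show j ((g : L) * n * g⁻¹) = j g * j n * (j g)⁻¹
    rw [map_mul, map_mul, map_inv]
  have hF : Cfsg.IsCharacter L (fun l => χ (j l)) := CharCore.isCharacter_comp hχ j
  choose m hm using fun ψ => CharCore.IsCharacter.exists_classInner_irr_eq_natCast hF ψ
  choose d hd using fun ψ : Cfsg.IrrCharacter L =>
    CharCore.IsCharacter.exists_classInner_irr_eq_natCast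
      (CharCore.isCharacter_restrict (CharCore.irr_isCharacter ψ) Z') ⟨_, hθ'⟩
  have hrel : ∀ ψ, m ψ * Z'.index = e * d ψ := by
    intro ψ
    have hsum : ∑ l : L, χ (j l) * conj ((ψ : L → ℂ) l) =
        (e : ℂ) * ∑ z : Z', θ (ι z) * conj ((ψ : L → ℂ) z) := by
      rw [Finset.mul_sum]
      refine (Fintype.sum_of_injective ((↑) : Z' → L) Subtype.coe_injective _ _ (fun l hl => ?_)
        fun z => ?_).symm
      · rw [hoff _ fun h => hl ⟨⟨l, h⟩, rfl⟩, zero_mul]
      · rw [← mul_assoc]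
        congr 1
        exact (hon (ι z)).symm
    have h1 := hm ψ
    have h2 : Cfsg.classInner (θ ∘ ι) (fun n : Z' => (ψ : L → ℂ) n) = d ψ := by
      rw [← CharCore.conj_classInner, hd ψ, map_natCast]
    rw [CharCore.classInner_def, hsum] at h1
    rw [CharCore.classInner_def] at h2
    simp only [Function.comp_apply] at h2
    have hcard : (Nat.card L : ℂ) = (Nat.card Z' : ℂ) * Z'.index := by
      rw [← Nat.cast_mul, Z'.card_mul_index]
    have hZ0 : (Nat.card Z' : ℂ) ≠ 0 := Nat.cast_ne_zero.mpr Nat.card_pos.ne'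
    have hI0 : (Z'.index : ℂ) ≠ 0 := Nat.cast_ne_zero.mpr Subgroup.FiniteIndex.index_ne_zero
    rw [inv_mul_eq_iff_eq_mul₀ hZ0] at h2
    rw [hcard, h2, inv_mul_eq_iff_eq_mul₀ (mul_ne_zero hZ0 hI0)] at h1
    have h3 : ((m ψ * Z'.index : ℕ) : ℂ) = ((e * d ψ : ℕ) : ℂ) := by
      push_cast
      refine mul_left_cancel₀ hZ0 ?_
      linear_combination -h1
    exact_mod_cast h3
  have hres : ∀ ψ, m ψ ≠ 0 → ∀ z : L, ∀ hz : j z ∈ Z,
      (ψ : L → ℂ) z = d ψ * θ ⟨j z, hz⟩ := by
    intro ψ hψ z hz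
    have hne : Cfsg.classInner (fun n : Z' => (ψ : L → ℂ) n) (θ ∘ ι) ≠ 0 := by
      rw [hd ψ, Nat.cast_ne_zero]
      intro h0
      have := hrel ψ
      rw [h0, mul_zero] at this
      exact hψ ((mul_eq_zero.mp this).resolve_right Subgroup.FiniteIndex.index_ne_zero)
    have h := congrFun (CharDeep.Ext.restrict_eq_smul Z' hinv hθ' ψ.2 hne) ⟨z, hz⟩
    rw [hd ψ] at h
    exact h
  have hdeg : ∀ ψ : Cfsg.IrrCharacter L, m ψ ≠ 0 → (ψ : L → ℂ) 1 = (d ψ : ℂ) * c := by
    intro ψ hψ
    have h1 : j 1 ∈ Z := by rw [map_one]; exact one_mem _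
    rw [hres ψ hψ 1 h1, ← hc]
    congr 1
    exact congrArg θ (Subtype.ext (map_one j))
  have hc0 : (c : ℂ) ≠ 0 := hc ▸ CharCore.irr_apply_one_ne_zero ⟨θ, hθ⟩
  have htot : ∑ ψ, m ψ * d ψ = e := by
    have h := congrFun (CharCore.IsCharacter.eq_sum_classInner hF) 1
    simp only [map_one, Finset.sum_apply, Pi.smul_apply, smul_eq_mul, hm] at h
    rw [show χ 1 = χ ((1 : Z) : H) from rfl, hon, hc] at h
    have h' : ((e : ℂ) * c) = (∑ ψ, (m ψ : ℂ) * d ψ) * c := by
      rw [h, Finset.sum_mul]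
      refine Finset.sum_congr rfl fun ψ _ => ?_
      by_cases hψ : m ψ = 0
      · simp [hψ]
      · rw [hdeg ψ hψ, mul_assoc]
    exact_mod_cast (mul_right_cancel₀ hc0 h').symm
  refine ⟨m, d, hm, hrel, hres, hdeg, fun ψ k hk => ?_, htot, ?_⟩
  · have h : (fun n : Z' => (ψ : L → ℂ) n) = (k : ℂ) • (θ ∘ ι) := funext fun n => hk n n.2
    have h2 := hd ψ
    rw [h, CharCore.classInner_smul_left, (CharCore.isIrrCharacter_iff.mp hθ').2, mul_one] at h2
    exact_mod_cast h2.symm
  · refine mul_left_cancel₀ he ?_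
    calc e * ∑ ψ, d ψ * d ψ = ∑ ψ, (e * d ψ) * d ψ := by simp [Finset.mul_sum, mul_assoc]
      _ = ∑ ψ, (m ψ * d ψ) * Z'.index := by
          refine Finset.sum_congr rfl fun ψ _ => ?_
          rw [← hrel ψ]; ring
      _ = e * Z'.index := by rw [← Finset.sum_mul, htot]

omit [Fintype H] in
/-- The stabilizer of a function on a normal subgroup. -/
def stab (K : Subgroup H) [K.Normal] (φ : K → ℂ) : Subgroup H where
  carrier := {g | CharClifford.conjFun K g φ = φ}
  one_mem' := CharClifford.conjFun_one K φ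
  mul_mem' {a b} ha hb := by
    show CharClifford.conjFun K (a * b) φ = φ
    rw [← CharClifford.conjFun_conjFun K b a φ, ha, hb]
  inv_mem' {a} ha := by
    show CharClifford.conjFun K a⁻¹ φ = φ
    conv_lhs => rw [← (show CharClifford.conjFun K a φ = φ from ha)]
    rw [CharClifford.conjFun_conjFun, mul_inv_cancel, CharClifford.conjFun_one]

variable {p : ℕ} [hp : Fact p.Prime]

/-- The main statement. -/
theorem exists_index_eq {χ : H → ℂ} (hχ : Cfsg.IsIrrCharacter H χ) {θ : Z → ℂ}
    (hθ : Cfsg.IsIrrCharacter Z θ) {e : ℕ} (he2 : e ^ 2 = Z.index)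
    (hon : ∀ z : Z, χ z = e * θ z) (K : Subgroup H) [K.Normal] [Fintype K] (hZK : Z ≤ K)
    (hyp : (∀ S : Sylow p (H ⧸ K), IsCyclic S) ∨
      ∃ φ : Cfsg.IrrCharacter K, Cfsg.classInner (fun k : K => χ k) (φ : K → ℂ) ≠ 0 ∧
        ¬ p ∣ K.relIndex (stab K (φ : K → ℂ))) :
    ∃ M : Subgroup (H ⧸ K), M.index = p ^ (Nat.card (H ⧸ K)).factorization p := by
  classical
  have hP := hp.out
  have hχc := CharCore.IsIrrCharacter.isCharacter hχ
  have hcl := CharCore.IsCharacter.isClassFunction hχc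
  have he : e ≠ 0 := fun h0 => Subgroup.FiniteIndex.index_ne_zero (H := Z) (by simp [← he2, h0])
  have he0 : (e : ℂ) ≠ 0 := Nat.cast_ne_zero.mpr he
  obtain ⟨c, hcpos, hc⟩ := CharCore.IsIrrCharacter.exists_degree hθ
  have hoff : ∀ g : H, g ∉ Z → χ g = 0 := by
    intro g hg
    have h := CharCore.classInner_irr_self (⟨χ, hχ⟩ : Cfsg.IrrCharacter H)
    rw [CharCore.classInner_def, inv_mul_eq_one₀ (Nat.cast_ne_zero.mpr Nat.card_pos.ne')] at h
    have hre : ∀ w : H, χ w * conj (χ w) = ((Complex.normSq (χ w) : ℝ) : ℂ) :=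
      fun w => Complex.mul_conj _
    have hθ1 : ∑ z : Z, θ z * conj (θ z) = (Nat.card Z : ℂ) := by
      have h := (CharCore.isIrrCharacter_iff.mp hθ).2
      rw [CharCore.classInner_def, inv_mul_eq_one₀ (Nat.cast_ne_zero.mpr Nat.card_pos.ne')] at h
      exact h.symm
    have hZsum : ∑ w ∈ Finset.univ.filter (· ∈ Z), χ w * conj (χ w) = (Nat.card H : ℂ) := by
      rw [Finset.sum_subtype (p := (· ∈ Z)) _ (fun w => by simp),
        Finset.sum_congr rfl fun (z : Z) _ => show _ = (e : ℂ) ^ 2 *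
          (θ z * conj (θ z)) by rw [hon, map_mul, map_natCast]; ring,
        ← Finset.mul_sum, hθ1, ← Z.card_mul_index, ← he2]
      push_cast
      ring
    rw [← Finset.sum_filter_add_sum_filter_not Finset.univ (· ∈ Z), hZsum] at h
    have h0 : ∑ w ∈ Finset.univ.filter (fun w => ¬ w ∈ Z), Complex.normSq (χ w) = 0 := by
      rw [← Complex.ofReal_inj, Complex.ofReal_sum, Complex.ofReal_zero]
      rw [← Finset.sum_congr rfl fun w _ => hre w]
      linear_combination -h
    exact Complex.normSq_eq_zero.mp ((Finset.sum_eq_zero_iff_of_nonneg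
      fun w _ => Complex.normSq_nonneg _).mp h0 g (by simp [hg]))
  -- exponents
  set a := e.factorization p with ha
  have hvZ : Z.index.factorization p = 2 * a := by
    rw [← he2, Nat.factorization_pow]; rfl
  obtain ⟨S⟩ : Nonempty (Sylow p (H ⧸ Z)) := Sylow.nonempty
  set X := (S : Subgroup (H ⧸ Z)).comap (QuotientGroup.mk' Z) with hX
  have hZX : Z ≤ X := fun z hz => by
    show (z : H ⧸ Z) ∈ (S : Subgroup (H ⧸ Z))
    rw [(QuotientGroup.eq_one_iff z).mpr hz]; exact one_mem _
  have hXidx : ¬ p ∣ X.index := by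
    rw [hX, Subgroup.index_comap_of_surjective _ (QuotientGroup.mk'_surjective Z)]
    exact S.not_dvd_index
  have hRX : Z.relIndex X = p ^ (2 * a) := by
    have h1 := Subgroup.relIndex_mul_index hZX
    rw [hX, Subgroup.index_comap_of_surjective _ (QuotientGroup.mk'_surjective Z), ← hX] at h1
    have h2 := (S : Subgroup (H ⧸ Z)).card_mul_index
    rw [← Subgroup.index_eq_card, ← h1] at h2
    rw [← Nat.eq_of_mul_eq_mul_right (Nat.pos_of_ne_zero Subgroup.FiniteIndex.index_ne_zero) h2,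
      S.card_eq_multiplicity, ← Subgroup.index_eq_card, hvZ]
  set Q := X ⊓ K with hQ
  have hZQ : Z ≤ Q := le_inf hZX hZK
  have hQK : Q ≤ K := inf_le_right
  have hQX : Q ≤ X := inf_le_left
  set am := K.index.factorization p with ham
  obtain ⟨iQ, iX, hRQ, hKX, hiQ⟩ : ∃ iQ iX, Z.relIndex Q = p ^ iQ ∧ K.relIndex X = p ^ iX ∧
      iQ + iX = 2 * a := by
    have h := Subgroup.relIndex_mul_relIndex Z Q X hZQ hQX
    rw [hRX] at h
    obtain ⟨i, -, hi⟩ := (Nat.dvd_prime_pow hP).mp ⟨_, h.symm⟩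
    obtain ⟨k, -, hk⟩ := (Nat.dvd_prime_pow hP).mp (Dvd.intro_left _ h)
    rw [hi, hk, ← pow_add] at h
    refine ⟨i, k, hi, ?_, Nat.pow_right_injective hP.two_le h⟩
    rw [← hk, hQ, inf_comm, Subgroup.inf_relIndex_right]
  have hiX : iX = am := by
    have h1 := Subgroup.relIndex_mul_index (show K ≤ X ⊔ K from le_sup_right)
    rw [Subgroup.relIndex_sup_right, hKX] at h1
    have hnd : ¬ p ∣ (X ⊔ K).index := fun h =>
      hXidx (h.trans (Subgroup.index_dvd_of_le le_sup_left))
    rw [ham, ← h1, Nat.factorization_mul (pow_ne_zero _ hP.ne_zero)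
      Subgroup.FiniteIndex.index_ne_zero, Finsupp.add_apply, Nat.factorization_pow,
      Finsupp.smul_apply, hP.factorization_self, Nat.factorization_eq_zero_of_not_dvd hnd]
    simp
  -- constituents on `K`
  have hRK0 : Z.relIndex K ≠ 0 := relne Z K
  have hvRK : (Z.relIndex K).factorization p = iQ := by
    have h := Subgroup.relIndex_mul_index hZK
    have h1 : Z.index.factorization p = (Z.relIndex K).factorization p + am := by
      rw [← h, Nat.factorization_mul hRK0 Subgroup.FiniteIndex.index_ne_zero]; rfl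
    omega
  obtain ⟨mK, dK, oK⟩ := exists_over Z K.subtype K.subtype_injective (by simpa using hZK) hχc hθ
    he hc hoff hon
  have hmKsum : ∃ φ, mK φ ≠ 0 := by
    by_contra hno
    push Not at hno
    exact he (by rw [← oK.total]; simp [hno])
  obtain ⟨φ₀, hφ₀, hyp'⟩ : ∃ φ₀, mK φ₀ ≠ 0 ∧ ((∀ S : Sylow p (H ⧸ K), IsCyclic S) ∨
      ¬ p ∣ K.relIndex (stab K (φ₀ : K → ℂ))) := by
    rcases hyp with h | ⟨φ, hφ, h⟩
    · exact ⟨_, hmKsum.choose_spec, Or.inl h⟩
    · refine ⟨φ, fun h0 => hφ ?_, Or.inr h⟩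
      rw [show Cfsg.classInner (fun k : K => χ k) (φ : K → ℂ) = _ from oK.mult φ, h0, Nat.cast_zero]
  have hc0 : (c : ℂ) ≠ 0 := Nat.cast_ne_zero.mpr hcpos.ne'
  -- the action of `H` on the characters of `K`
  letI : MulAction H (Cfsg.IrrCharacter K) :=
    { smul := fun g φ => ⟨_, CharClifford.isIrrCharacter_conjFun K φ.2 g⁻¹⟩
      one_smul := fun φ => Subtype.ext (by
        show CharClifford.conjFun K 1⁻¹ (φ : K → ℂ) = _
        rw [inv_one, CharClifford.conjFun_one])
      mul_smul := fun g h φ => Subtype.ext (by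
        show CharClifford.conjFun K (g * h)⁻¹ (φ : K → ℂ) =
          CharClifford.conjFun K g⁻¹ (CharClifford.conjFun K h⁻¹ (φ : K → ℂ))
        rw [CharClifford.conjFun_conjFun, mul_inv_rev]) }
  have horbK : ∀ φ, φ ∈ MulAction.orbit H φ₀ ↔ mK φ ≠ 0 := by
    intro φ
    constructor
    · rintro ⟨g, rfl⟩ h0
      have h1 := oK.mult (g • φ₀)
      rw [h0, Nat.cast_zero, show ((g • φ₀ : Cfsg.IrrCharacter K) : K → ℂ) =
        CharClifford.conjFun K g⁻¹ (φ₀ : K → ℂ) from rfl] at h1
      rw [show (fun l : K => χ (K.subtype l)) = (fun h : K => χ h) from rfl,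
        CharClifford.classInner_restrict_conjFun K hcl] at h1
      have h2 := oK.mult φ₀
      rw [show (fun l : K => χ (K.subtype l)) = (fun h : K => χ h) from rfl, h1] at h2
      exact hφ₀ (by exact_mod_cast h2.symm)
    · intro h
      obtain ⟨x, hx⟩ := CharClifford.exists_conjFun_eq_of_constituents K hχ φ₀.2 φ.2
        (by
          show Cfsg.classInner (fun l : K => χ (K.subtype l)) _ ≠ 0
          rw [oK.mult φ₀]; exact_mod_cast hφ₀)
        (by
          show Cfsg.classInner (fun l : K => χ (K.subtype l)) _ ≠ 0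
          rw [oK.mult φ]; exact_mod_cast h)
      refine ⟨x⁻¹, Subtype.ext ?_⟩
      show CharClifford.conjFun K x⁻¹⁻¹ (φ₀ : K → ℂ) = _
      rw [inv_inv, hx]
  have hstabK : MulAction.stabilizer H φ₀ = stab K (φ₀ : K → ℂ) := by
    ext g
    constructor
    · intro h
      have h' : g⁻¹ ∈ MulAction.stabilizer H φ₀ := Subgroup.inv_mem _ h
      have := congrArg Subtype.val (MulAction.mem_stabilizer_iff.mp h')
      show CharClifford.conjFun K g (φ₀ : K → ℂ) = _
      change CharClifford.conjFun K g⁻¹⁻¹ (φ₀ : K → ℂ) = _ at this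
      rwa [inv_inv] at this
    · intro h
      rw [MulAction.mem_stabilizer_iff]
      exact Subtype.ext ((stab K (φ₀ : K → ℂ)).inv_mem h)
  set T := stab K (φ₀ : K → ℂ) with hT
  set f := dK φ₀ with hf
  have hdKeq : ∀ φ, mK φ ≠ 0 → dK φ = f := by
    intro φ h
    obtain ⟨g, rfl⟩ := (horbK φ).mpr h
    have h1 : ((g • φ₀ : Cfsg.IrrCharacter K) : K → ℂ) 1 = (φ₀ : K → ℂ) 1 := by
      show CharClifford.conjFun K g⁻¹ (φ₀ : K → ℂ) 1 = _
      exact congrArg (φ₀ : K → ℂ) (Subtype.ext (by simp))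
    rw [oK.deg _ h, oK.deg _ hφ₀] at h1
    exact_mod_cast mul_right_cancel₀ hc0 h1
  have hf0 : f ≠ 0 := by
    intro h0
    have := oK.rel φ₀
    rw [← hf, h0, mul_zero] at this
    exact hφ₀ ((mul_eq_zero.mp this).resolve_right Subgroup.FiniteIndex.index_ne_zero)
  have hTf : T.index * (f * f) = Z.relIndex K := by
    rw [← hstabK, MulAction.index_stabilizer, show Z.relIndex K = (Z.comap K.subtype).index from rfl,
      ← oK.sq, ← Finset.sum_filter_add_sum_filter_not Finset.univ (fun φ => mK φ ≠ 0),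
      Finset.sum_congr rfl fun φ hφ => by rw [hdKeq φ (Finset.mem_filter.mp hφ).2],
      Finset.sum_const, smul_eq_mul, Finset.sum_eq_zero (s := Finset.univ.filter fun φ => ¬ mK φ ≠ 0),
      add_zero]
    · congr 1
      rw [Set.ncard_eq_toFinset_card']
      congr 1
      ext φ
      simp [horbK]
    · intro φ hφ
      have h0 : mK φ = 0 := by simpa using hφ
      have := oK.rel φ
      rw [h0, zero_mul] at this
      rw [(mul_eq_zero.mp this.symm).resolve_left he, mul_zero]
  have hKT : K ≤ T := fun k hk =>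
    CharClifford.conjFun_of_mem K (CharCore.irr_isClassFunction φ₀) hk
  have hTle : T.index.factorization p ≤ am ∧
      (¬ p ∣ K.relIndex T → T.index.factorization p = am) := by
    have h := Subgroup.relIndex_mul_index hKT
    have h1 : am = (K.relIndex T).factorization p + T.index.factorization p := by
      rw [ham, ← h, Nat.factorization_mul (relne K T)
        Subgroup.FiniteIndex.index_ne_zero]; rfl
    refine ⟨by omega, fun hnd => ?_⟩
    have h2 := Nat.factorization_eq_zero_of_not_dvd hnd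
    omega
  have hvTf : T.index.factorization p + 2 * f.factorization p = iQ := by
    rw [← hvRK, ← hTf, Nat.factorization_mul Subgroup.FiniteIndex.index_ne_zero
      (mul_ne_zero hf0 hf0), Nat.factorization_mul hf0 hf0]
    simp only [Finsupp.add_apply]
    ring
  -- the Sylow level
  obtain ⟨mX, dX, oX⟩ := exists_over Z X.subtype X.subtype_injective (by simpa using hZX) hχc hθ
    he hc hoff hon
  have hdXdvd : ∀ μ, p ^ a ∣ dX μ := by
    intro μ
    have h : mX μ * p ^ (2 * a) = e * dX μ := by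
      rw [← hRX]; exact oX.rel μ
    have hcop : (p ^ a).Coprime (e / p ^ a) :=
      Nat.Coprime.pow_left _ (hP.coprime_iff_not_dvd.mpr (Nat.not_dvd_ordCompl hP he))
    refine hcop.dvd_of_dvd_mul_left ⟨mX μ, ?_⟩
    have he' : e = p ^ a * (e / p ^ a) := (Nat.ordProj_mul_ordCompl_eq_self e p).symm
    rw [he', two_mul, pow_add] at h
    refine mul_left_cancel₀ (pow_ne_zero a hP.ne_zero) ?_
    linarith
  obtain ⟨μ, hμ, huniq⟩ : ∃ μ, mX μ ≠ 0 ∧ (∀ μ', mX μ' ≠ 0 → μ' = μ) := by
    obtain ⟨μ, hμ⟩ : ∃ μ, mX μ ≠ 0 := by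
      by_contra hno
      push Not at hno
      exact he (by rw [← oX.total]; simp [hno])
    refine ⟨μ, hμ, fun μ' hμ' => ?_⟩
    by_contra hne
    have hge : ∀ μ, mX μ ≠ 0 → p ^ (2 * a) ≤ dX μ * dX μ := by
      intro μ hm
      have hd0 : dX μ ≠ 0 := by
        intro h0
        have := oX.rel μ
        rw [h0, mul_zero] at this
        exact hm ((mul_eq_zero.mp this).resolve_right Subgroup.FiniteIndex.index_ne_zero)
      rw [two_mul, pow_add]
      exact Nat.mul_le_mul (Nat.le_of_dvd (Nat.pos_of_ne_zero hd0) (hdXdvd μ))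
        (Nat.le_of_dvd (Nat.pos_of_ne_zero hd0) (hdXdvd μ))
    have h2 : dX μ * dX μ + dX μ' * dX μ' ≤ ∑ ν, dX ν * dX ν := by
      rw [← Finset.sum_pair (f := fun ν => dX ν * dX ν) (Ne.symm hne)]
      exact Finset.sum_le_sum_of_subset (Finset.subset_univ _)
    rw [oX.sq, show (Z.comap X.subtype).index = Z.relIndex X from rfl, hRX] at h2
    have := hge μ hμ
    have := hge μ' hμ'
    have := Nat.pos_of_ne_zero (pow_ne_zero (2 * a) hP.ne_zero)
    omega
  have hμd : dX μ = p ^ a := by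
    have h := oX.sq
    rw [Finset.sum_eq_single μ (fun ν _ hν => by
        have h0 : mX ν = 0 := by_contra fun h' => hν (huniq ν h')
        have := oX.rel ν
        rw [h0, zero_mul] at this
        rw [(mul_eq_zero.mp this.symm).resolve_left he, mul_zero])
      (fun h => absurd (Finset.mem_univ _) h), show (Z.comap X.subtype).index = Z.relIndex X from rfl,
      hRX, two_mul, pow_add] at h
    exact Nat.mul_self_inj.mp h
  have hχX : (fun x : X => χ x) = (mX μ : ℂ) • (μ : X → ℂ) := by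
    rw [CharCore.IsCharacter.eq_sum_classInner (χ := fun x : X => χ x)
      (CharCore.isCharacter_restrict hχc X)]
    have hm : ∀ ν : Cfsg.IrrCharacter X,
        Cfsg.classInner (fun x : X => χ x) (ν : X → ℂ) = mX ν := fun ν => oX.mult ν
    have hzero : ∀ ν ∈ Finset.univ, ν ≠ μ →
        Cfsg.classInner (fun x : X => χ x) (ν : X → ℂ) • (ν : X → ℂ) = 0 := by
      intro ν _ hν
      rw [hm ν, by_contra fun h' => hν (huniq ν h')]
      simp
    rw [Finset.sum_eq_single μ hzero (fun h => absurd (Finset.mem_univ _) h), hm μ]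
  -- the constituents on `Q`
  obtain ⟨mQ, dQ, oQ⟩ := exists_over Z Q.subtype Q.subtype_injective (by simpa using hZQ) hχc hθ
    he hc hoff hon
  have hXN : X ≤ Subgroup.normalizer (Q : Set H) := by
    intro x hx
    rw [Subgroup.mem_normalizer_iff]
    intro h
    rw [hQ, Subgroup.mem_inf, Subgroup.mem_inf]
    refine and_congr ⟨fun h' => mul_mem (mul_mem hx h') (inv_mem hx), fun h' => ?_⟩
      ⟨fun h' => ‹K.Normal›.conj_mem _ h' x, fun h' => ?_⟩
    · simpa [mul_assoc] using mul_mem (mul_mem (inv_mem hx) h') hx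
    · simpa [mul_assoc] using ‹K.Normal›.conj_mem _ h' x⁻¹
  set Nn := Subgroup.normalizer (Q : Set H) with hNn
  have hnm : ∀ (g : Nn) (q : Q), (g : H) * q * (g : H)⁻¹ ∈ Q := fun g q =>
    (Subgroup.mem_normalizer_iff.mp g.2 q).mp q.2
  let cj : Nn → Q →* Q := fun g =>
    { toFun := fun q => ⟨_, hnm g q⟩
      map_one' := Subtype.ext (by simp)
      map_mul' := fun q r => Subtype.ext (by simp [mul_assoc]) }
  have hcj_surj : ∀ g, Function.Surjective (cj g) := fun g q =>
    ⟨⟨_, hnm g⁻¹ q⟩, Subtype.ext (by simp [cj, mul_assoc])⟩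
  letI : MulAction Nn (Cfsg.IrrCharacter Q) :=
    { smul := fun g ψ => ⟨(ψ : Q → ℂ) ∘ cj g⁻¹,
        CharCore.isIrrCharacter_comp_surjective ψ.2 _ (hcj_surj _)⟩
      one_smul := fun ψ => Subtype.ext (funext fun q => congrArg (ψ : Q → ℂ)
        (Subtype.ext (by simp [cj])))
      mul_smul := fun g h ψ => Subtype.ext (funext fun q => congrArg (ψ : Q → ℂ)
        (Subtype.ext (by simp [cj, mul_assoc]))) }
  have hinvQ : ∀ (g : Nn) ψ, mQ (g • ψ) = mQ ψ := by
    intro g ψ
    have h1 := oQ.mult (g • ψ)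
    rw [← Nat.cast_inj (R := ℂ), ← h1, ← oQ.mult ψ, CharCore.classInner_def, CharCore.classInner_def]
    congr 1
    refine Fintype.sum_equiv (Equiv.ofBijective (cj g⁻¹) ⟨fun q r h => ?_, hcj_surj _⟩) _ _
      fun q => ?_
    · have := congrArg Subtype.val h
      simpa [cj] using this
    · show χ (q : H) * conj ((ψ : Q → ℂ) (cj g⁻¹ q)) = χ _ * conj ((ψ : Q → ℂ) (cj g⁻¹ q))
      congr 1
      exact (hcl (q : H) ((g⁻¹ : Nn) : H)).symm
  let Q' : Subgroup X := Q.subgroupOf X
  haveI : Q'.Normal := ⟨fun q hq x => by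
    show ((x : H) * q * (x : H)⁻¹) ∈ Q
    exact (Subgroup.mem_normalizer_iff.mp (hXN x.2) _).mp hq⟩
  let ιQ : Q' ≃* Q := Subgroup.subgroupOfEquivOfLe hQX
  have hμQ : ∀ ψ : Cfsg.IrrCharacter Q, (mQ ψ : ℂ) =
      (mX μ : ℂ) * Cfsg.classInner (fun q : Q' => (μ : X → ℂ) q) ((ψ : Q → ℂ) ∘ ιQ) := by
    intro ψ
    rw [← oQ.mult ψ, ← CharCore.classInner_smul_left, CharCore.classInner_def,
      CharCore.classInner_def, Nat.card_congr ιQ.toEquiv]
    congr 1
    refine (Fintype.sum_equiv ιQ.toEquiv _ _ fun q => ?_).symm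
    have hq := congrFun hχX (q : X)
    simp only [Pi.smul_apply, smul_eq_mul] at hq ⊢
    rw [← hq]
    rfl
  obtain ⟨ψ₀, hψ₀⟩ : ∃ ψ, mQ ψ ≠ 0 := by
    by_contra hno
    push Not at hno
    exact he (by rw [← oQ.total]; simp [hno])
  have htrans : ∀ ψ, mQ ψ ≠ 0 → ∃ x : Nn, (x : H) ∈ X ∧ x • ψ₀ = ψ := by
    intro ψ hψ
    have hne : ∀ ψ : Cfsg.IrrCharacter Q, mQ ψ ≠ 0 →
        Cfsg.classInner (fun q : Q' => (μ : X → ℂ) q) ((ψ : Q → ℂ) ∘ ιQ) ≠ 0 := fun ψ h h0 => by
      have := hμQ ψ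
      rw [h0, mul_zero] at this
      exact h (by exact_mod_cast this)
    obtain ⟨x, hx⟩ := CharClifford.exists_conjFun_eq_of_constituents Q' μ.2
      (CharCore.isIrrCharacter_comp_surjective ψ₀.2 ιQ.toMonoidHom ιQ.surjective)
      (CharCore.isIrrCharacter_comp_surjective ψ.2 ιQ.toMonoidHom ιQ.surjective)
      (hne ψ₀ hψ₀) (hne ψ hψ)
    refine ⟨⟨_, hXN (inv_mem x.2)⟩, inv_mem x.2, Subtype.ext (funext fun q => ?_)⟩
    have h := congrFun hx (ιQ.symm q)
    simp only [CharClifford.conjFun_apply, Function.comp_apply, MulEquiv.coe_toMonoidHom,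
      MulEquiv.apply_symm_apply] at h
    rw [h]
    show (ψ₀ : Q → ℂ) _ = (ψ₀ : Q → ℂ) _
    exact congrArg _ (Subtype.ext (by simp [cj, ιQ, Subgroup.subgroupOfEquivOfLe]))
  set Tn := MulAction.stabilizer Nn ψ₀ with hTn
  have horbQ : MulAction.orbit Nn ψ₀ = {ψ | mQ ψ ≠ 0} := by
    ext ψ
    constructor
    · rintro ⟨g, rfl⟩
      show mQ (g • ψ₀) ≠ 0
      rwa [hinvQ]
    · intro h
      obtain ⟨x, -, hx⟩ := htrans ψ h
      exact ⟨x, hx⟩
  set g₀ := dQ ψ₀ with hg₀
  have hdQeq : ∀ ψ, mQ ψ ≠ 0 → dQ ψ = g₀ := by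
    intro ψ h
    obtain ⟨x, -, rfl⟩ := htrans ψ h
    have h1 : ((x • ψ₀ : Cfsg.IrrCharacter Q) : Q → ℂ) 1 = (ψ₀ : Q → ℂ) 1 := by
      show (ψ₀ : Q → ℂ) (cj x⁻¹ 1) = _
      rw [map_one]
    rw [oQ.deg _ h, oQ.deg _ hψ₀] at h1
    exact_mod_cast mul_right_cancel₀ hc0 h1
  have hsg : Tn.index * (g₀ * g₀) = p ^ iQ := by
    rw [hTn, MulAction.index_stabilizer, ← hRQ, show Z.relIndex Q = (Z.comap Q.subtype).index from rfl,
      ← oQ.sq, ← Finset.sum_filter_add_sum_filter_not Finset.univ (fun ψ => mQ ψ ≠ 0),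
      Finset.sum_congr rfl fun φ hφ => by rw [hdQeq φ (Finset.mem_filter.mp hφ).2],
      Finset.sum_const, smul_eq_mul, Finset.sum_eq_zero (s := Finset.univ.filter fun φ => ¬ mQ φ ≠ 0),
      add_zero]
    · congr 1
      rw [horbQ, Set.ncard_eq_toFinset_card']
      congr 1
      ext ψ
      simp
    · intro φ hφ
      have h0 : mQ φ = 0 := by simpa using hφ
      have := oQ.rel φ
      rw [h0, zero_mul] at this
      rw [(mul_eq_zero.mp this.symm).resolve_left he, mul_zero]
  obtain ⟨b, -, hb⟩ := (Nat.dvd_prime_pow hP).mp (⟨Tn.index * g₀, by rw [← hsg]; ring⟩ :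
    g₀ ∣ p ^ iQ)
  obtain ⟨k, -, hk⟩ := (Nat.dvd_prime_pow hP).mp (⟨g₀ * g₀, hsg.symm⟩ : Tn.index ∣ p ^ iQ)
  have hkb : k + 2 * b = iQ := by
    rw [hk, hb, ← pow_add, ← pow_add] at hsg
    have := Nat.pow_right_injective hP.two_le hsg
    omega
  -- comparison of the degrees on `K` and on `Q`
  have hfb : f.factorization p = b := by
    have hres : ∀ φ : Cfsg.IrrCharacter K,
        Cfsg.IsCharacter Q (fun q => (φ : K → ℂ) (Subgroup.inclusion hQK q)) := fun φ =>
      CharCore.isCharacter_comp (CharCore.irr_isCharacter φ) _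
    choose A hA using fun φ ψ => CharCore.IsCharacter.exists_classInner_irr_eq_natCast (hres φ) ψ
    have hsum : ∀ ψ, mQ ψ = ∑ φ, mK φ * A φ ψ := by
      intro ψ
      have h1 : (fun q : Q => χ (Q.subtype q)) =
          ∑ φ : Cfsg.IrrCharacter K, (mK φ : ℂ) •
            (fun q : Q => (φ : K → ℂ) (Subgroup.inclusion hQK q)) := by
        funext q
        have := congrFun (CharCore.IsCharacter.eq_sum_classInner (χ := fun l : K => χ (K.subtype l))
          (CharCore.isCharacter_comp hχc K.subtype)) (Subgroup.inclusion hQK q)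
        simp only [oK.mult, Finset.sum_apply, Pi.smul_apply] at this ⊢
        exact this
      have h2 := oQ.mult ψ
      rw [h1, CharCore.classInner_sum_left] at h2
      simp only [CharCore.classInner_smul_left, hA] at h2
      exact_mod_cast h2.symm
    have hAne : ∀ ψ, A φ₀ ψ ≠ 0 → mQ ψ ≠ 0 := by
      intro ψ hA0 h0
      rw [hsum] at h0
      have := Finset.sum_eq_zero_iff.mp h0 φ₀ (Finset.mem_univ _)
      exact hA0 ((mul_eq_zero.mp this).resolve_left hφ₀)
    have hfg : f = g₀ * ∑ ψ, A φ₀ ψ := by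
      have h1 := congrFun (CharCore.IsCharacter.eq_sum_classInner (hres φ₀)) 1
      rw [Finset.sum_apply, map_one, oK.deg φ₀ hφ₀] at h1
      simp only [Pi.smul_apply, smul_eq_mul, hA] at h1
      have h2 : (f : ℂ) * c = ((g₀ * ∑ ψ, A φ₀ ψ : ℕ) : ℂ) * c := by
        rw [hf, h1, Nat.cast_mul, Nat.cast_sum, Finset.mul_sum, Finset.sum_mul]
        refine Finset.sum_congr rfl fun ψ _ => ?_
        by_cases h : A φ₀ ψ = 0
        · simp [h]
        · rw [oQ.deg ψ (hAne ψ h), hdQeq ψ (hAne ψ h)]; ring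
      exact_mod_cast mul_right_cancel₀ hc0 h2
    have hge : b ≤ f.factorization p := by
      have hA0 : (∑ ψ, A φ₀ ψ) ≠ 0 := fun h => hf0 (by rw [hfg, h, mul_zero])
      have hg0 : g₀ ≠ 0 := hb ▸ pow_ne_zero _ hP.ne_zero
      rw [hfg, Nat.factorization_mul hg0 hA0, Finsupp.add_apply, hb, Nat.factorization_pow,
        Finsupp.smul_apply, hP.factorization_self, smul_eq_mul, mul_one]
      exact Nat.le_add_right _ _
    have heq : f * (∑ φ, A φ ψ₀ * (if mK φ = 0 then 0 else 1)) * p ^ iQ = g₀ * Z.relIndex K := by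
      refine mul_left_cancel₀ he ?_
      calc e * (f * (∑ φ, A φ ψ₀ * (if mK φ = 0 then 0 else 1)) * p ^ iQ)
          = (∑ φ, (e * f) * (A φ ψ₀ * (if mK φ = 0 then 0 else 1))) * p ^ iQ := by
            rw [← Finset.mul_sum]; ring
        _ = (∑ φ, mK φ * A φ ψ₀) * Z.relIndex K * p ^ iQ := by
            congr 1
            rw [Finset.sum_mul]
            refine Finset.sum_congr rfl fun φ _ => ?_
            by_cases h : mK φ = 0
            · simp [h]
            · rw [if_neg h, mul_one, ← hdKeq φ h, ← oK.rel φ]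
              show mK φ * Z.relIndex K * A φ ψ₀ = _
              ring
        _ = e * (g₀ * Z.relIndex K) := by
            rw [← hsum, mul_right_comm, ← hRQ]
            rw [show mQ ψ₀ * Z.relIndex Q = e * g₀ from oQ.rel ψ₀]
            ring
    have hle : f.factorization p ≤ b := by
      set S' := ∑ φ, A φ ψ₀ * (if mK φ = 0 then 0 else 1)
      have hg0 : g₀ ≠ 0 := hb ▸ pow_ne_zero _ hP.ne_zero
      have hS0 : S' ≠ 0 := by
        intro h
        rw [h, mul_zero, zero_mul] at heq
        exact mul_ne_zero hg0 hRK0 heq.symm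
      have := congrArg (fun n => n.factorization p) heq
      rw [Nat.factorization_mul (mul_ne_zero hf0 hS0) (pow_ne_zero _ hP.ne_zero),
        Nat.factorization_mul hf0 hS0, Nat.factorization_mul hg0 hRK0, hb] at this
      simp only [Finsupp.add_apply, Nat.factorization_pow, Finsupp.smul_apply,
        hP.factorization_self, smul_eq_mul, mul_one, hvRK] at this
      omega
    omega
  have hkT : k = T.index.factorization p := by omega
  -- the stabilizer has index the full p-part
  have hkam : k = am := by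
    rcases hyp' with hcyc | hnd
    · refine le_antisymm (hkT ▸ hTle.1) ?_
      let X' := X.subgroupOf Nn
      have hstab : (MulAction.stabilizer X' ψ₀).index = p ^ k := by
        rw [MulAction.index_stabilizer, ← hk, hTn, MulAction.index_stabilizer]
        congr 1
        ext ψ
        constructor
        · rintro ⟨x, rfl⟩
          exact ⟨(x : Nn), rfl⟩
        · intro h
          rw [horbQ] at h
          obtain ⟨x, hx, rfl⟩ := htrans ψ h
          exact ⟨⟨x, hx⟩, rfl⟩
      set Y : Subgroup X := (MulAction.stabilizer X' ψ₀).map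
        (Subgroup.subgroupOfEquivOfLe hXN).toMonoidHom with hY
      have hYidx : Y.index = p ^ k := by
        rw [hY, ← hstab]
        exact Subgroup.index_map_equiv _ (Subgroup.subgroupOfEquivOfLe hXN)
      have hYmem : ∀ y : X, y ∈ Y ↔ (⟨(y : H), hXN y.2⟩ : Nn) • ψ₀ = ψ₀ := by
        intro y
        rw [hY]
        refine Subgroup.mem_map_equiv.trans ?_
        rw [MulAction.mem_stabilizer_iff]
        rfl
      let jY : Y →* H := X.subtype.comp Y.subtype
      have hjY : Function.Injective jY := X.subtype_injective.comp Y.subtype_injective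
      let N' : Subgroup Y := K.comap jY
      let toQ : N' →* Q :=
        { toFun := fun n => ⟨jY n, ⟨((n : Y) : X).2, n.2⟩⟩
          map_one' := rfl
          map_mul' := fun _ _ => rfl }
      have hQY : ∀ q : Q, (⟨(q : H), hQX q.2⟩ : X) ∈ Y := by
        intro q
        rw [hYmem]
        refine Subtype.ext (funext fun r => ?_)
        show (ψ₀ : Q → ℂ) _ = _
        rw [← CharCore.irr_isClassFunction ψ₀ r q⁻¹]
        exact congrArg _ (Subtype.ext (by simp [cj]))
      have htoQ : Function.Surjective toQ := fun q =>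
        ⟨⟨⟨_, hQY q⟩, hQK q.2⟩, rfl⟩
      have hcycY : IsCyclic (Y ⧸ N') := by
        let g : Y →* H ⧸ K := (QuotientGroup.mk' K).comp jY
        have hker : g.ker = N' := by
          ext y
          exact QuotientGroup.eq_one_iff _
        have hpg : IsPGroup p g.range := by
          have hsub : g.range ≤ (X.map (QuotientGroup.mk' K)) := by
            rintro _ ⟨y, rfl⟩
            exact ⟨_, (y : X).2, rfl⟩
          refine IsPGroup.to_le ?_ hsub
          refine IsPGroup.of_card (n := am) ?_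
          have h1 := Subgroup.relIndex_map_map (QuotientGroup.mk' K) ⊥ X
          rw [Subgroup.map_bot, Subgroup.relIndex_bot_left] at h1
          rw [h1, QuotientGroup.ker_mk', bot_sup_eq, Subgroup.relIndex_sup_right, hKX, hiX]
        obtain ⟨S', hS'⟩ := hpg.exists_le_sylow
        haveI := hcyc S'
        haveI : IsCyclic g.range := isCyclic_of_injective (Subgroup.inclusion hS')
          (Subgroup.inclusion_injective hS')
        exact isCyclic_of_injective ((QuotientGroup.quotientKerEquivRange g).toMonoidHom.comp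
          (QuotientGroup.quotientMulEquivOfEq hker.symm).toMonoidHom)
          ((QuotientGroup.quotientKerEquivRange g).injective.comp
            (QuotientGroup.quotientMulEquivOfEq hker.symm).injective)
      obtain ⟨ν, hν, hνres⟩ := CharB.exists_extension_of_cyclic N' hcycY
        (CharCore.isIrrCharacter_comp_surjective ψ₀.2 toQ htoQ) (by
          intro y n
          have h := (hYmem (y : X)).mp y.2
          have h' : ((⟨((y : X) : H), hXN (y : X).2⟩ : Nn))⁻¹ • ψ₀ = ψ₀ := by
            conv_lhs => rw [← h]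
            rw [inv_smul_smul]
          have h'' := congrFun (congrArg Subtype.val h') (toQ n)
          change (ψ₀ : Q → ℂ) (cj _⁻¹⁻¹ (toQ n)) = _ at h''
          refine Eq.trans (congrArg _ (Subtype.ext ?_)) h''
          simp [cj, toQ, jY])
      have hZjY : Z ≤ jY.range := fun z hz =>
        ⟨⟨⟨z, hZX hz⟩, hQY ⟨z, hZQ hz⟩⟩, rfl⟩
      obtain ⟨mY, dY, oY⟩ := exists_over Z jY hjY hZjY hχc hθ he hc hoff hon
      have hdY : dY ⟨ν, hν⟩ = g₀ := by
        refine oY.lvl _ g₀ fun z hz => ?_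
        show ν z = _
        refine (hνres ⟨z, hZK hz⟩).trans ?_
        exact oQ.res ψ₀ hψ₀ (toQ ⟨z, hZK hz⟩) hz
      have hmY : mY ⟨ν, hν⟩ ≠ 0 := by
        intro h0
        have := oY.rel ⟨ν, hν⟩
        rw [h0, zero_mul, hdY] at this
        exact mul_ne_zero he (hb ▸ pow_ne_zero _ hP.ne_zero) this.symm
      have hne : Cfsg.classInner ν (fun y : Y => (μ : X → ℂ) y) ≠ 0 := by
        intro h0
        have h1 := oY.mult ⟨ν, hν⟩
        rw [show (fun l : Y => χ (jY l)) = (mX μ : ℂ) • (fun y : Y => (μ : X → ℂ) y) from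
          funext fun y => congrFun hχX (y : X), CharCore.classInner_smul_left,
          ← CharCore.conj_classInner, h0, map_zero, mul_zero] at h1
        exact hmY (by exact_mod_cast h1.symm)
      have hind := CharInd.isCharacter_indFun Y (CharCore.IsIrrCharacter.isCharacter hν)
      obtain ⟨l, hl⟩ := CharCore.IsCharacter.exists_classInner_irr_eq_natCast hind μ
      have hl' := CharInd.classInner_indFun_left Y ν (CharCore.irr_isClassFunction μ)
      rw [hl] at hl'
      have hl0 : l ≠ 0 := fun h => hne (by rw [← hl', h, Nat.cast_zero])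
      obtain ⟨mI, hmI⟩ := CharCore.IsCharacter.exists_sum hind
      have hmIμ : mI μ = l := by
        rw [hmI, CharCore.classInner_sum_all] at hl
        exact_mod_cast hl
      choose deg hdeg using fun ρ : Cfsg.IrrCharacter X =>
        CharCore.IsCharacter.exists_degree (CharCore.irr_isCharacter ρ)
      have h1 := congrFun hmI 1
      rw [CharInd.indFun_apply_one, Finset.sum_apply, hYidx,
        show ν 1 = _ from oY.deg ⟨ν, hν⟩ hmY, hdY] at h1
      simp only [Pi.smul_apply, smul_eq_mul, hdeg] at h1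
      have h2 : p ^ k * (g₀ * c) = ∑ ρ, mI ρ * deg ρ := by exact_mod_cast h1
      have h3 : deg μ = p ^ a * c := by
        have := oX.deg μ hμ
        rw [hμd, hdeg] at this
        exact_mod_cast this
      have h4 : deg μ ≤ p ^ k * (g₀ * c) := by
        rw [h2]
        calc deg μ = 1 * deg μ := (one_mul _).symm
          _ ≤ mI μ * deg μ := Nat.mul_le_mul_right _ (by omega)
          _ ≤ _ := Finset.single_le_sum (f := fun ρ => mI ρ * deg ρ) (fun _ _ => Nat.zero_le _)
            (Finset.mem_univ μ)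
      rw [h3, hb, ← mul_assoc, ← pow_add] at h4
      have h5 := (Nat.pow_le_pow_iff_right hP.one_lt).mp (Nat.le_of_mul_le_mul_right h4 hcpos)
      omega
    · exact hkT ▸ hTle.2 hnd
  -- the normalizer covers the quotient
  have hQKp : ¬ p ∣ Q.relIndex K := by
    intro h
    have h1 := Subgroup.relIndex_mul_relIndex Z Q K hZQ hQK
    have h2 : (Z.relIndex K).factorization p = iQ + (Q.relIndex K).factorization p := by
      rw [← h1, Nat.factorization_mul (hRQ ▸ pow_ne_zero _ hP.ne_zero) (relne Q K), hRQ]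
      simp [hP.factorization_self]
    have h3 := hP.factorization_pos_of_dvd (relne Q K) h
    omega
  have hcover : Nn ⊔ K = ⊤ := by
    set Kb := K.map (QuotientGroup.mk' Z) with hKb
    haveI : Kb.Normal := Subgroup.Normal.map inferInstance _ (QuotientGroup.mk'_surjective Z)
    set Qb := Q.map (QuotientGroup.mk' Z) with hQb
    have hmapQ : Qb ≤ Kb := Subgroup.map_mono hQK
    have hker : (QuotientGroup.mk' Z).ker = Z := QuotientGroup.ker_mk' Z
    have hidx : ¬ p ∣ (Qb.subgroupOf Kb).index := by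
      show ¬ p ∣ Qb.relIndex Kb
      rwa [hQb, hKb, Subgroup.relIndex_map_map, hker, sup_eq_left.mpr hZQ, sup_eq_left.mpr hZK]
    have hpg : IsPGroup p (Qb.subgroupOf Kb) := by
      refine IsPGroup.of_card (n := iQ) ?_
      rw [Nat.card_congr (Subgroup.subgroupOfEquivOfLe hmapQ).toEquiv]
      have h1 := Subgroup.relIndex_map_map (QuotientGroup.mk' Z) Z Q
      rw [QuotientGroup.map_mk'_self, Subgroup.relIndex_bot_left] at h1
      rw [hQb, h1, hker, sup_idem, sup_eq_left.mpr hZQ, hRQ]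
    have h := Sylow.normalizer_sup_eq_top (hpg.toSylow hidx)
    have hQb' : ((hpg.toSylow hidx : Sylow p Kb) : Subgroup Kb).map Kb.subtype = Qb :=
      Subgroup.map_subgroupOf_eq_of_le hmapQ
    rw [hQb'] at h
    have hcomap : (Subgroup.normalizer (Qb : Set (H ⧸ Z))).comap (QuotientGroup.mk' Z) = Nn := by
      rw [Subgroup.comap_normalizer_eq_of_le_range
        (by rw [MonoidHom.range_eq_top.mpr (QuotientGroup.mk'_surjective Z)]; exact le_top),
        hQb, Subgroup.comap_map_eq, hker, sup_eq_left.mpr hZQ]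
    rw [eq_top_iff]
    intro x _
    have hx : QuotientGroup.mk' Z x ∈ Subgroup.normalizer (Qb : Set (H ⧸ Z)) ⊔ Kb :=
      h ▸ Subgroup.mem_top _
    rw [Subgroup.mem_sup_of_normal_right] at hx
    obtain ⟨n, hn, _, ⟨y, hy, rfl⟩, hxy⟩ := hx
    have hxn : x * y⁻¹ ∈ Nn := by
      rw [← hcomap, Subgroup.mem_comap, map_mul, map_inv, ← hxy, mul_inv_cancel_right]
      exact hn
    have := Subgroup.mul_mem_sup hxn hy
    rwa [inv_mul_cancel_right] at this
  let φh : Nn →* H ⧸ K := (QuotientGroup.mk' K).comp Nn.subtype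
  have hφs : Function.Surjective φh := by
    intro q
    obtain ⟨h, rfl⟩ := QuotientGroup.mk_surjective q
    have : h ∈ Nn ⊔ K := hcover ▸ Subgroup.mem_top h
    rw [Subgroup.mem_sup_of_normal_right] at this
    obtain ⟨n, hn, x, hx, rfl⟩ := this
    refine ⟨⟨n, hn⟩, ?_⟩
    show (n : H ⧸ K) = ((n * x : H) : H ⧸ K)
    rw [QuotientGroup.eq]
    simpa using hx
  set L := K.subgroupOf Nn with hL
  have hkerφ : φh.ker = L := by
    ext n
    exact QuotientGroup.eq_one_iff _
  have hLT : L ≤ Tn := by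
    set Q'' := Q.subgroupOf Nn
    have hQT : Q'' ≤ Tn := by
      intro q hq
      rw [hTn, MulAction.mem_stabilizer_iff]
      refine Subtype.ext (funext fun r => ?_)
      show (ψ₀ : Q → ℂ) _ = _
      rw [← CharCore.irr_isClassFunction ψ₀ r (⟨(q : H), hq⟩ : Q)⁻¹]
      exact congrArg _ (Subtype.ext (by simp [cj]))
    have hd1 : Tn.relIndex L ∣ Q.relIndex K := by
      refine (Subgroup.relIndex_dvd_of_le_left L hQT).trans ?_
      rw [hL, ← Subgroup.inf_subgroupOf_right K Nn, Subgroup.relIndex_subgroupOf inf_le_right,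
        ← Subgroup.relIndex_mul_relIndex Q (K ⊓ Nn) K
          (le_inf hQK (Subgroup.le_normalizer)) inf_le_left]
      exact dvd_mul_right _ _
    have hd2 : Tn.relIndex L ∣ p ^ k := by
      rw [← hk]
      have h1 := Subgroup.relIndex_mul_index (show L ⊓ Tn ≤ Tn from inf_le_right)
      have h2 := Subgroup.relIndex_mul_index (show L ⊓ Tn ≤ L from inf_le_left)
      have h3 := Subgroup.relIndex_mul_index (show L ≤ Tn ⊔ L from le_sup_right)
      rw [Subgroup.inf_relIndex_right] at h1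
      rw [inf_comm, Subgroup.inf_relIndex_right] at h2
      rw [Subgroup.relIndex_sup_right] at h3
      have hne : L.relIndex Tn ≠ 0 := Subgroup.FiniteIndex.index_ne_zero (H := L.subgroupOf Tn)
      refine ⟨(Tn ⊔ L).index, Nat.eq_of_mul_eq_mul_left (Nat.pos_of_ne_zero hne) ?_⟩
      rw [h1, inf_comm, ← h2, ← h3]
      ring
    have hcop : (p ^ k).Coprime (Q.relIndex K) :=
      Nat.Coprime.pow_left _ (hP.coprime_iff_not_dvd.mpr hQKp)
    exact Subgroup.relIndex_eq_one.mp (Nat.eq_one_of_dvd_coprimes hcop hd2 hd1)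
  refine ⟨Tn.map φh, ?_⟩
  refine (Subgroup.index_map_eq Tn hφs (hkerφ ▸ hLT)).trans ?_
  rw [hk, hkam, ham, Subgroup.index_eq_card]

end Cfsg.Agent.BlkChar.FRCompl
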