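import Cfsg.Agent.BlkChar.FongBlock
import Cfsg.Agent.Lib.BlocksDefect.FongReynolds
import Cfsg.Agent.Lib.Coprime.Action
import Cfsg.Agent.Lib.PGroup.Basic
import Cfsg.Agent.Lib.CharCore.Linear
import Mathlib.GroupTheory.FiniteAbelian.Duality

/-!
# Degree weighted sums of characters vanishing on singular elements (`p`-solvable groups)

For a `p`-solvable group such a set of characters is a union of blocks: over an invariant
character of `O_{p'}` the idempotent of the set is compared, on the cosets of `O_{p',p}`, with its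
twists by linear characters; the norm forces it to live on `O_{p',p}`.
-/

set_option linter.unusedSectionVars false
set_option linter.style.haveILetI false
set_option linter.unusedVariables false

open Cfsg
open scoped ComplexConjugate

namespace Cfsg.Agent.BlkChar.Harada

open BlocksCore BlocksDefect

universe u

variable {G : Type u} [Group G] [Fintype G] {p : ℕ} [hp : Fact p.Prime] {M : Ideal AlgInt}

/-! ### Functions on the group -/

theorem conv_comm_of_class {a : G → ℂ} (ha : IsClassFunction G a) (b : G → ℂ) :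
    conv a b = conv b a := by
  funext x
  rw [conv_apply, conv_apply]
  refine Fintype.sum_equiv ((Equiv.inv G).trans (Equiv.mulRight x)) _ _ fun y => ?_
  simp only [Equiv.trans_apply, Equiv.inv_apply, Equiv.coe_mulRight]
  rw [show (y⁻¹ * x)⁻¹ * x = x⁻¹ * y * x⁻¹⁻¹ by group, ha y x⁻¹, mul_comm]

theorem conv_self_one {a : G → ℂ} (hs : ∀ g, a g⁻¹ = conj (a g)) (hi : conv a a = a) :
    a 1 = ((∑ g : G, ‖a g‖ ^ 2 : ℝ) : ℂ) := by
  conv_lhs => rw [← hi]
  rw [conv_apply]
  push_cast
  exact Finset.sum_congr rfl fun g _ => by rw [mul_one, hs, Complex.mul_conj']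

theorem eq_zero_of_conv_self_one {a : G → ℂ} (hs : ∀ g, a g⁻¹ = conj (a g)) (hi : conv a a = a)
    (h1 : a 1 = 0) : a = 0 := by
  have h := conv_self_one hs hi
  rw [h1, eq_comm, Complex.ofReal_eq_zero,
    Finset.sum_eq_zero_iff_of_nonneg fun g _ => sq_nonneg ‖a g‖] at h
  funext g
  simpa using h g (Finset.mem_univ g)

theorem blockCoeff_inv (A : Set (IrrCharacter G)) (g : G) :
    blockCoeff A g⁻¹ = conj (blockCoeff A g) := by
  haveI := finite_irr (G := G)
  haveI := Fintype.ofFinite (IrrCharacter G)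
  rw [blockCoeff_eq_sum, blockCoeff_eq_sum, map_mul, map_inv₀, map_natCast, map_sum]
  congr 1
  refine Finset.sum_congr rfl fun χ _ => ?_
  rw [map_mul, map_mul, conj_irr, conj_irr, inv_one]
  congr 1
  by_cases h : χ ∈ A <;> simp [h]

theorem conv_self_of_omega {a : G → ℂ} (ha : IsClassFunction G a)
    (h : ∀ χ : IrrCharacter G, omega (χ : G → ℂ) a * omega (χ : G → ℂ) a =
      omega (χ : G → ℂ) a) : conv a a = a :=
  eq_of_omega_eq (isClassFunction_conv ha ha) ha fun χ => by rw [omega_conv χ ha ha, h]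

theorem indicator_mul_self (A : Set (IrrCharacter G)) (χ : IrrCharacter G) :
    A.indicator (1 : IrrCharacter G → ℂ) χ * A.indicator (1 : IrrCharacter G → ℂ) χ =
      A.indicator (1 : IrrCharacter G → ℂ) χ := by
  by_cases h : χ ∈ A <;> simp [h]

theorem conv_extFun {N : Subgroup G} [Fintype N] (a b : N → ℂ) :
    conv (extFun a) (extFun b) = (extFun (conv a b) : G → ℂ) := by
  have hc : res N (conv (extFun a) (extFun b)) = conv a b := by
    rw [res_conv (fun x hx => extFun_notMem a hx), res_extFun, res_extFun]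
  funext x
  by_cases hx : x ∈ N
  · exact (congrFun hc ⟨x, hx⟩).trans (extFun_coe _ ⟨x, hx⟩).symm
  · rw [conv_supported (fun x hx => extFun_notMem a hx) (fun x hx => extFun_notMem b hx) x hx,
      extFun_notMem _ hx]

theorem extFun_inv {N : Subgroup G} (f : N → ℂ) (hf : ∀ n, f n⁻¹ = conj (f n)) (x : G) :
    (extFun f : G → ℂ) x⁻¹ = conj ((extFun f : G → ℂ) x) := by
  by_cases hx : x ∈ N
  · exact ((extFun_coe f (⟨x, hx⟩ : N)⁻¹).trans (hf _)).trans
      (congrArg conj (extFun_coe f ⟨x, hx⟩).symm)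
  · rw [extFun_notMem f hx, extFun_notMem f (fun h => hx (by simpa using N.inv_mem h)), map_zero]

/-- The projection of a class function vanishing on singular elements to a union of blocks
vanishes on singular elements. -/
theorem blockCoeff_eq_zero_of_projection (hM : IsPModular p M) {w : G → ℂ}
    (hw0 : ∀ g, p ∣ orderOf g → w g = 0) {V S : Set (IrrCharacter G)}
    (hV : ∀ χ ∈ V, ∀ ψ : IrrCharacter G, SameBlock M (χ : G → ℂ) (ψ : G → ℂ) → ψ ∈ V)
    (hSV : S ⊆ V) (hw : ∀ χ ∈ V, omega (χ : G → ℂ) w = S.indicator 1 χ) {y : G}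
    (hy : p ∣ orderOf y) : blockCoeff S y = 0 := by
  classical
  have := isPrime hM
  haveI := finite_irr (G := G)
  haveI := Fintype.ofFinite (IrrCharacter G)
  have hker : ∀ x : G, ¬ p ∣ orderOf x →
      ∑ χ ∈ Finset.univ.filter (fun χ : IrrCharacter G => χ ∈ V), (χ : G → ℂ) x * (χ : G → ℂ) y⁻¹ = 0 := by
    intro x hx
    rw [← Finset.sum_fiberwise_of_maps_to
      (g := fun χ : IrrCharacter G => blockOf M (χ : G → ℂ))
      (t := (Finset.univ.filter fun χ : IrrCharacter G => χ ∈ V).image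
        fun χ : IrrCharacter G => blockOf M (χ : G → ℂ))
      fun χ hχ => Finset.mem_image_of_mem _ hχ]
    refine Finset.sum_eq_zero fun B hB => ?_
    obtain ⟨χ₀, hχ₀, rfl⟩ := Finset.mem_image.mp hB
    have hχ₀V : χ₀ ∈ V := (Finset.mem_filter.mp hχ₀).2
    have h1 := weakOrth hM (isPBlock_blockOf χ₀) hx hy
    rw [finsum_mem_eq_finite_toFinset_sum _ (Set.toFinite _)] at h1
    simp only [conj_irr] at h1
    rw [← h1]
    refine Finset.sum_congr (Finset.ext fun ψ => ?_) fun _ _ => rfl
    simp only [Finset.mem_filter, Finset.mem_univ, true_and, Set.Finite.mem_toFinset]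
    refine ⟨fun h => h.2 ▸ mem_blockOf_self ψ, fun h => ⟨hV χ₀ hχ₀V ψ h, ?_⟩⟩
    exact blockOf_eq_of_sameBlock (sameBlock_symm h)
  rw [blockCoeff_eq_sum]
  have h2 : ∑ χ : IrrCharacter G, S.indicator 1 χ * ((χ : G → ℂ) 1 * (χ : G → ℂ) y⁻¹) =
      ∑ χ ∈ Finset.univ.filter (fun χ : IrrCharacter G => χ ∈ V), ∑ x : G, w x * ((χ : G → ℂ) x * (χ : G → ℂ) y⁻¹) := by
    rw [← Finset.sum_subset (Finset.subset_univ (Finset.univ.filter fun χ : IrrCharacter G => χ ∈ V)) fun χ _ hχ => by
      rw [Set.indicator_of_notMem fun h => hχ (Finset.mem_filter.mpr ⟨Finset.mem_univ _, hSV h⟩),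
        zero_mul]]
    refine Finset.sum_congr rfl fun χ hχ => ?_
    rw [← hw χ (Finset.mem_filter.mp hχ).2, omega_eq_sum, ← mul_assoc,
      div_mul_cancel₀ _ (irr_one_ne_zero χ), Finset.sum_mul]
    exact Finset.sum_congr rfl fun x _ => mul_assoc _ _ _
  rw [h2, Finset.sum_comm]
  refine mul_eq_zero_of_right _ (Finset.sum_eq_zero fun x _ => ?_)
  rw [← Finset.mul_sum]
  by_cases hx : p ∣ orderOf x
  · rw [hw0 x hx, zero_mul]
  · rw [hker x hx, mul_zero]

/-! ### The group theory of `O_{p',p}` -/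

theorem exists_pow_mem {N U : Subgroup G} [hN : N.Normal] (hNU : N ≤ U)
    (hU : IsPGroup p ↥(U.map (QuotientGroup.mk' N))) {m : G} (hm : m ∈ U) :
    ∃ j : ℕ, m ^ p ^ j ∈ N := by
  obtain ⟨j, hj⟩ := hU ⟨_, Subgroup.mem_map_of_mem _ hm⟩
  refine ⟨j, (QuotientGroup.eq_one_iff _).mp ?_⟩
  have := congrArg Subtype.val hj
  simpa using this

theorem mem_of_regular {N U : Subgroup G} [hN : N.Normal] (hNU : N ≤ U)
    (hU : IsPGroup p ↥(U.map (QuotientGroup.mk' N))) {x : G} (hx : x ∈ U)
    (hxr : ¬ p ∣ orderOf x) : x ∈ N := by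
  obtain ⟨j, hj⟩ := exists_pow_mem hNU hU hx
  have hc : (p ^ j).Coprime (orderOf x) :=
    Nat.Coprime.pow_left j (hp.out.coprime_iff_not_dvd.mpr hxr)
  obtain ⟨m, hm⟩ := exists_pow_eq_self_of_coprime hc
  rw [← hm]
  exact N.pow_mem hj m

/-- A `p`-regular element outside `O_{p',p}` moves a linear character of `O_{p',p}`. -/
theorem exists_moved_hom (hsolv : IsPSolvable p G) {x : G} (hxr : ¬ p ∣ orderOf x)
    (hx : x ∉ pPrimePCore p G) :
    ∃ l : ↥(pPrimePCore p G) →* ℂˣ, (∀ m : pPrimePCore p G, (m : G) ∈ pPrimeCore p G → l m = 1) ∧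
      ∃ m : pPrimePCore p G, l ⟨x * m * x⁻¹,
        (inferInstance : (pPrimePCore p G).Normal).conj_mem m m.2 x⟩ ≠ l m := by
  classical
  by_contra hno
  push Not at hno
  apply hx
  set π := QuotientGroup.mk' (pPrimeCore p G) with hπ
  set K := pCore p (G ⧸ pPrimeCore p G) with hK
  have hKp : IsPGroup p ↥K := Thompson.isPGroup_pCore
  show π x ∈ K
  refine Thompson.centralizer_pCore_le (Thompson.isPSolvable_quotient _ hsolv)
    Thompson.pPrimeCore_quotient_pPrimeCore ?_
  refine (Coprime.le_centralizer_of_frattini (Subgroup.zpowers (π x)) K ?_ ?_ ?_)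
    (Subgroup.mem_zpowers _)
  · exact Coprime.le_normalizer_of_conj_mem fun a _ k hk =>
      (inferInstance : K.Normal).conj_mem k hk a
  · rw [Nat.card_zpowers]
    obtain ⟨j, hj⟩ := IsPGroup.iff_card.mp (hKp.to_subgroup (frattini ↥K))
    rw [hj]
    refine Nat.Coprime.pow_right j (Nat.Coprime.symm (hp.out.coprime_iff_not_dvd.mpr fun h => hxr ?_))
    exact h.trans (orderOf_map_dvd π x)
  · intro a ha k hk
    suffices h : ∀ (n : ℕ), ∀ k' : ↥K, (⟨π x ^ n * k' * (π x ^ n)⁻¹,
        (inferInstance : K.Normal).conj_mem k' k'.2 _⟩ * k'⁻¹ : ↥K) ∈ commutator ↥K by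
      obtain ⟨n, rfl⟩ := mem_powers_iff_mem_zpowers.mpr ha
      exact ⟨_, PGroup.commutator_le_frattini hKp (h n ⟨k, hk⟩), rfl⟩
    intro n
    induction n with
    | zero => intro k'; simp
    | succ n ih =>
      intro k'
      set k₁ : ↥K := ⟨π x * k' * (π x)⁻¹, (inferInstance : K.Normal).conj_mem k' k'.2 _⟩ with hk₁
      have h1 := ih k₁
      have h0 : k₁ * k'⁻¹ ∈ commutator ↥K := by
        by_contra hne
        have hne' : (Abelianization.of (k₁ * k'⁻¹) : Abelianization ↥K) ≠ 1 := fun h =>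
          hne (by rwa [← MonoidHom.mem_ker, Abelianization.ker_of] at h)
        obtain ⟨φ, hφ⟩ := CommGroup.exists_apply_ne_one_of_hasEnoughRootsOfUnity
          (Abelianization ↥K) ℂ hne'
        let ρ : ↥(pPrimePCore p G) →* ↥K :=
          (π.comp (pPrimePCore p G).subtype).codRestrict K fun m => m.2
        obtain ⟨m, hm⟩ : ∃ m, ρ m = k' := by
          obtain ⟨m, hm⟩ := QuotientGroup.mk'_surjective (pPrimeCore p G) (k' : G ⧸ pPrimeCore p G)
          exact ⟨⟨m, show π m ∈ K from hm ▸ k'.2⟩, Subtype.ext hm⟩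
        have hρ : ρ ⟨x * m * x⁻¹,
            (inferInstance : (pPrimePCore p G).Normal).conj_mem m m.2 x⟩ = k₁ := by
          refine Subtype.ext ?_
          show π (x * m * x⁻¹) = π x * k' * (π x)⁻¹
          rw [map_mul, map_mul, map_inv, show π (m : G) = k' from congrArg Subtype.val hm]
        have h2 := hno (φ.comp (Abelianization.of.comp ρ)) (fun m hm => ?_) m
        · simp only [MonoidHom.comp_apply, hρ, hm] at h2
          rw [map_mul, map_mul, map_inv, map_inv, h2, mul_inv_cancel] at hφ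
          exact hφ rfl
        · have : ρ m = 1 := Subtype.ext ((QuotientGroup.eq_one_iff (m : G)).mpr hm)
          simp [this]
      have := mul_mem h1 h0
      rwa [mul_assoc, inv_mul_cancel_left, show (⟨π x ^ n * k₁ * (π x ^ n)⁻¹,
        (inferInstance : K.Normal).conj_mem k₁ k₁.2 _⟩ : ↥K) = ⟨π x ^ (n + 1) * k' *
          (π x ^ (n + 1))⁻¹, (inferInstance : K.Normal).conj_mem k' k'.2 _⟩ from
        Subtype.ext (by simp [hk₁, pow_succ, mul_assoc])] at this

/-! ### The twists of the canonical extension -/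

/-- The twist of a character by a linear character. -/
noncomputable def twist {H : Type*} [Group H] [Finite H] (l : H →* ℂˣ) (η : IrrCharacter H) :
    IrrCharacter H :=
  ⟨fun g => (l g : ℂ) * (η : H → ℂ) g, CharCore.isIrrCharacter_hom_mul l η.2⟩

theorem blockCoeff_singleton_apply {H : Type*} [Group H] [Finite H] (η : IrrCharacter H) (g : H) :
    blockCoeff {η} g = (Nat.card H : ℂ)⁻¹ * ((η : H → ℂ) 1 * conj ((η : H → ℂ) g)) := by
  rw [blockCoeff, finsum_mem_singleton]

theorem norm_hom {H : Type*} [Group H] [Finite H] (l : H →* ℂˣ) (g : H) : ‖(l g : ℂ)‖ = 1 := by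
  refine Complex.norm_eq_one_of_pow_eq_one (n := Nat.card H) ?_ Nat.card_pos.ne'
  rw [← Units.val_pow_eq_pow_val, ← map_pow, pow_card_eq_one', map_one, Units.val_one]

theorem blockCoeff_twist {H : Type*} [Group H] [Finite H] (l : H →* ℂˣ) (η : IrrCharacter H)
    (g : H) : blockCoeff {twist l η} g = conj (l g : ℂ) * blockCoeff {η} g := by
  rw [blockCoeff_singleton_apply, blockCoeff_singleton_apply]
  simp only [twist, map_one, Units.val_one, one_mul, map_mul]
  ring

theorem conv_singleton {H : Type*} [Group H] [Fintype H] {η η' : IrrCharacter H} (h : η ≠ η') :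
    conv (blockCoeff {η}) (blockCoeff {η'}) = 0 :=
  eq_of_omega_eq (isClassFunction_conv (isClassFunction_blockCoeff _)
    (isClassFunction_blockCoeff _)) (fun _ _ => rfl) fun χ => by
      rw [omega_conv χ (isClassFunction_blockCoeff _) (isClassFunction_blockCoeff _),
        omega_blockCoeff, omega_blockCoeff, omega_zero]
      by_cases h1 : χ = η
      · rw [Set.indicator_of_notMem (s := {η'}) (by simp [h1, h]), mul_zero]
      · rw [Set.indicator_of_notMem (s := {η}) (by simp [h1]), zero_mul]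

theorem conjFun_blockCoeff_singleton {N : Subgroup G} [hN : N.Normal] (g : G)
    (η : IrrCharacter N) : conjFun g (blockCoeff {η}) = blockCoeff {conjIrr g η} := by
  funext n
  simp only [conjFun, blockCoeff_singleton_apply, coe_conjIrr]
  have h1 : (⟨g * ((1 : N) : G) * g⁻¹, hN.conj_mem _ (1 : N).2 g⟩ : N) = 1 :=
    Subtype.ext (by simp)
  rw [h1]

theorem hom_eq_of_pow_eq {H : Type*} [Group H] {l l' : H →* ℂˣ} {m : H} {d j : ℕ}
    (hd : ¬ p ∣ d) (h : l m ^ d = l' m ^ d) (hj : l m ^ p ^ j = 1) (hj' : l' m ^ p ^ j = 1) :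
    l m = l' m := by
  rw [← mul_inv_eq_one, ← orderOf_eq_one_iff, ← Nat.dvd_one,
    ← Nat.Coprime.pow_right j ((hp.out.coprime_iff_not_dvd.mpr hd).symm) |>.gcd_eq_one,
    Nat.dvd_gcd_iff, orderOf_dvd_iff_pow_eq_one, orderOf_dvd_iff_pow_eq_one]
  exact ⟨by rw [mul_pow, inv_pow, h, mul_inv_cancel],
    by rw [mul_pow, inv_pow, hj, hj', inv_one, mul_one]⟩

/-! ### The invariant case -/

theorem mem_of_invariant (hsolv : IsPSolvable p G) [Fintype ↥(pPrimeCore p G)]
    (θ : IrrCharacter ↥(pPrimeCore p G))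
    (hinv : CharDeep.Ext.Inv (pPrimeCore p G) (θ : ↥(pPrimeCore p G) → ℂ))
    {S : Set (IrrCharacter G)} (hS : ∀ y : G, p ∣ orderOf y → blockCoeff S y = 0)
    (hSθ : ∀ χ ∈ S, IsConstituent χ θ) {χ₀ : IrrCharacter G} (hχ₀ : χ₀ ∈ S)
    {ψ : IrrCharacter G} (hψ : IsConstituent ψ θ) : ψ ∈ S := by
  classical
  set U := pPrimePCore p G with hUdef
  haveI : U.Normal := inferInstance
  letI := Fintype.ofFinite U
  have hNU : pPrimeCore p G ≤ U := Thompson.pPrimeCore_le_pPrimePCore
  have hUp : IsPGroup p ↥(U.map (QuotientGroup.mk' (pPrimeCore p G))) := by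
    rw [hUdef, Thompson.map_mk'_pPrimePCore]; exact Thompson.isPGroup_pCore
  have hpN : ¬ p ∣ Nat.card ↥(pPrimeCore p G) := Thompson.not_dvd_card_pPrimeCore
  -- the canonical extension of `θ` to `U`
  letI := Fintype.ofFinite ↥((pPrimeCore p G).subgroupOf U)
  let eN : ↥((pPrimeCore p G).subgroupOf U) ≃* ↥(pPrimeCore p G) :=
    Subgroup.subgroupOfEquivOfLe hNU
  set θ' : IrrCharacter ↥((pPrimeCore p G).subgroupOf U) := ⟨(θ : ↥(pPrimeCore p G) → ℂ) ∘ eN,
    CharCore.isIrrCharacter_comp_surjective θ.2 eN.toMonoidHom eN.surjective⟩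
  have hinv' : CharDeep.Ext.Inv ((pPrimeCore p G).subgroupOf U) (θ' : ↥((pPrimeCore p G).subgroupOf U) → ℂ) := fun g n =>
    (congrArg _ (Subtype.ext rfl)).trans (hinv (g : G) (eN n))
  obtain ⟨d, hd⟩ := CharCore.IsCharacter.exists_degree (CharCore.irr_isCharacter θ)
  have hd' : (θ' : ↥((pPrimeCore p G).subgroupOf U) → ℂ) 1 = d := by show (θ : ↥(pPrimeCore p G) → ℂ) (eN 1) = _; rw [map_one, hd]
  have hdd : d ∣ Nat.card ↥(pPrimeCore p G) := by
    have h1 := BlocksCore.charDegree_dvd_card θ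
    rwa [charDegree, hd, Complex.natCast_re, Nat.floor_natCast] at h1
  obtain ⟨k, hk⟩ : ∃ k, ((pPrimeCore p G).subgroupOf U).index = p ^ k := by
    show ∃ k, (pPrimeCore p G).relIndex U = p ^ k
    rw [Thompson.relIndex_eq_card_map_mk']
    exact IsPGroup.iff_card.mp hUp
  have hcopN : ∀ j, j ∣ Nat.card ↥(pPrimeCore p G) →
      Nat.Coprime ((pPrimeCore p G).subgroupOf U).index j := fun j hj => by
    rw [hk]
    exact Nat.Coprime.pow_left k (hp.out.coprime_iff_not_dvd.mpr fun h => hpN (h.trans hj))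
  have hdet : detOrder (θ' : ↥((pPrimeCore p G).subgroupOf U) → ℂ) ∣ Nat.card ↥((pPrimeCore p G).subgroupOf U) := by
    rw [CharDeep.Ext.detOrder_eq]
    exact orderOf_dvd_of_pow_eq_one (MonoidHom.ext fun n => by
      rw [MonoidHom.pow_apply, ← map_pow, pow_card_eq_one', map_one]; rfl)
  have hcopd : Nat.Coprime ((pPrimeCore p G).subgroupOf U).index
      (detOrder (θ' : ↥((pPrimeCore p G).subgroupOf U) → ℂ) * d) :=
    (hcopN _ (Nat.card_congr eN.toEquiv ▸ hdet)).mul_right (hcopN d hdd)
  obtain ⟨η, ⟨hη, hηN, hηdet⟩, huniq⟩ :=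
    CharDeep.Ext.exists_ext_detOrder ((pPrimeCore p G).subgroupOf U) θ'.2 hinv' hd' hcopd
  set ϑ : IrrCharacter U := ⟨η, hη⟩ with hϑ
  have hϑc : IsCharacter U η := CharCore.IsIrrCharacter.isCharacter hη
  have hϑd : η 1 = (d : ℂ) := by
    have h1 := hηN 1
    rw [OneMemClass.coe_one] at h1
    rw [h1, hd']
  have hϑN : ∀ (n : G) (hn : n ∈ pPrimeCore p G),
      η ⟨n, hNU hn⟩ = (θ : ↥(pPrimeCore p G) → ℂ) ⟨n, hn⟩ := fun n hn =>
    (hηN (eN.symm ⟨n, hn⟩)).trans (congrArg _ (eN.apply_symm_apply ⟨n, hn⟩))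
  have hϑinv : ∀ g : G, conjIrr g ϑ = ϑ := by
    intro g
    refine Subtype.ext (huniq _ (conjIrr g ϑ).2 (fun n => ?_) ?_)
    · have hn : (n : U).1 ∈ pPrimeCore p G := n.2
      show η ⟨g * _ * g⁻¹, _⟩ = _
      rw [← hηN n]
      refine (hϑN _ ((inferInstance : (pPrimeCore p G).Normal).conj_mem _ hn g)).trans
        ((hinv g ⟨_, hn⟩).trans (hϑN _ hn).symm)
    · rw [CharDeep.Ext.detOrder_eq]
      have e : CharDeep.Ext.detHom (conjIrr g ϑ : U → ℂ) = (CharDeep.Ext.detHom η).comp
          (MulAut.conjNormal g : U ≃* U).toMonoidHom :=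
        CharDeep.Ext.detHom_comp hϑc (MulAut.conjNormal g : U ≃* U).toMonoidHom
      rw [e]
      refine Nat.Coprime.coprime_dvd_right ?_ (hηdet ▸ hcopd.coprime_dvd_right (dvd_mul_right _ _))
      rw [CharDeep.Ext.detOrder_eq]
      refine orderOf_dvd_of_pow_eq_one (MonoidHom.ext fun m => ?_)
      rw [MonoidHom.pow_apply, MonoidHom.comp_apply, ← MonoidHom.pow_apply, pow_orderOf_eq_one]
      rfl
  -- the twists
  set E : G → ℂ := extFun (blockCoeff {ϑ}) with hE
  let El : (U →* ℂˣ) → G → ℂ := fun l => extFun (blockCoeff {twist l ϑ})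
  have hEl : ∀ (l : U →* ℂˣ) (m : U), El l m = conj (l m : ℂ) * E m := fun l m => by
    simp only [El, hE, extFun_coe, blockCoeff_twist]
  have hE0 : ∀ {x : G}, x ∉ U → E x = 0 := fun {x} hx => extFun_notMem _ hx
  have hEl0 : ∀ (l : U →* ℂˣ) {x : G}, x ∉ U → El l x = 0 := fun l {x} hx => extFun_notMem _ hx
  have hEc : IsClassFunction G E := isClassFunction_extFun fun g => by
    rw [conjFun_blockCoeff_singleton, hϑinv]
  have hdetmul : ∀ l : U →* ℂˣ,
      CharDeep.Ext.detHom (twist l ϑ : U → ℂ) = l ^ d * CharDeep.Ext.detHom η :=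
    fun l => CharDeep.Ext.detHom_hom_mul l hϑc hϑd
  have horth : ∀ (l : U →* ℂˣ), (∀ m : U, (m : G) ∈ pPrimeCore p G → l m = 1) → ∀ z : G,
      (∃ m : U, l ⟨z * m * z⁻¹, (inferInstance : U.Normal).conj_mem m m.2 z⟩ ≠ l m) →
      conjIrr z (twist l ϑ) ≠ twist l ϑ := by
    rintro l hl z ⟨m, hm⟩ heq
    let l' : U →* ℂˣ := l.comp (MulAut.conjNormal z : U ≃* U).toMonoidHom
    have h1 : twist l' ϑ = twist l ϑ := by
      refine Eq.trans (Subtype.ext (funext fun u => ?_)) heq
      show (l _ : ℂ) * η u = (l _ : ℂ) * η ⟨z * u * z⁻¹, _⟩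
      rw [show η ⟨z * u * z⁻¹, _⟩ = η u from congrFun (congrArg Subtype.val (hϑinv z)) u]
      rfl
    have h2 := congrArg (fun χ : IrrCharacter U => CharDeep.Ext.detHom (χ : U → ℂ)) h1
    simp only [hdetmul] at h2
    have h3 := DFunLike.congr_fun (mul_right_cancel h2) m
    simp only [MonoidHom.pow_apply] at h3
    obtain ⟨j, hj⟩ := exists_pow_mem hNU hUp m.2
    have hroot : ∀ u : U, (u : G) ^ p ^ j ∈ pPrimeCore p G → l u ^ p ^ j = 1 := fun u hu => by
      rw [← map_pow]; exact hl _ (by rw [SubmonoidClass.coe_pow]; exact hu)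
    refine hm (hom_eq_of_pow_eq (fun h => hpN (h.trans hdd)) h3 ?_ (hroot m hj))
    refine hroot _ ?_
    show (z * m * z⁻¹) ^ p ^ j ∈ _
    rw [conj_pow]
    exact (inferInstance : (pPrimeCore p G).Normal).conj_mem _ hj z
  -- the idempotents
  set e := blockCoeff S with he
  have hec : IsClassFunction G e := isClassFunction_blockCoeff S
  have hee : conv e e = e := conv_blockCoeff_self S
  have hidem : ∀ l, conv (El l) (El l) = El l := fun l => by
    simp only [El, conv_extFun, conv_blockCoeff_self]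
  have hEE : conv E E = E := by simp only [hE, conv_extFun, conv_blockCoeff_self]
  have hprod : ∀ F : G → ℂ, conv F F = F → (∀ g, F g⁻¹ = conj (F g)) →
      conv (conv e F) (conv e F) = conv e F ∧
        ∀ g, conv e F g⁻¹ = conj (conv e F g) := by
    intro F hF hFs
    refine ⟨?_, fun g => ?_⟩
    · rw [conv_assoc, ← conv_assoc F e F, ← conv_comm_of_class hec F, conv_assoc e F F, hF,
        ← conv_assoc, hee]
    · have h : conv e F g = ∑ y : G, e y * F (y⁻¹ * g) := conv_apply _ _ _
      rw [h, conv_comm_of_class hec F, conv_apply, map_sum]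
      refine Fintype.sum_equiv (Equiv.mulLeft g) _ _ fun y => ?_
      rw [Equiv.coe_mulLeft, map_mul, ← hFs, ← blockCoeff_inv,
        show ((g * y)⁻¹ * g)⁻¹ = y by group, show (g * y)⁻¹ = y⁻¹ * g⁻¹ by group, mul_comm]
  have hEs : ∀ x, E x⁻¹ = conj (E x) := extFun_inv _ (blockCoeff_inv _)
  have hEls : ∀ l x, El l x⁻¹ = conj (El l x) := fun l => extFun_inv _ (blockCoeff_inv _)
  set A := conv e E with hA
  obtain ⟨hAi, hAs⟩ := hprod E hEE hEs
  -- fixing a linear character
  let Fix : (U →* ℂˣ) → G → Prop := fun l z =>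
    ∀ m : U, l ⟨z * m * z⁻¹, (inferInstance : U.Normal).conj_mem m m.2 z⟩ = l m
  have hFixU : ∀ l z, Fix l z → ∀ w : G, w ∈ U → Fix l (z * w) := by
    intro l z hz w hw m
    refine Eq.trans (congrArg l (Subtype.ext (a2 := ⟨z * ((⟨w, hw⟩ * m * ⟨w, hw⟩⁻¹ : U) : G) * z⁻¹,
      (inferInstance : U.Normal).conj_mem _ (⟨w, hw⟩ * m * ⟨w, hw⟩⁻¹ : U).2 z⟩) ?_)) ((hz _).trans ?_)
    · show z * w * (m : G) * (z * w)⁻¹ = z * (w * m * w⁻¹) * z⁻¹
      group
    · rw [map_mul, map_mul, map_inv, mul_comm (l _) (l m), mul_inv_cancel_right]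
  have hreg : ∀ l, (∀ m : U, (m : G) ∈ pPrimeCore p G → l m = 1) → ∀ x : G, Fix l x →
      ¬ p ∣ orderOf x → ∀ m : U, ¬ p ∣ orderOf (x * (m : G)) → l m = 1 := by
    intro l hl x hxl hxr m hmr
    have hk : ∀ k : ℕ, ∃ u : U, (x * (m : G)) ^ k = x ^ k * u ∧ l u = l m ^ k := by
      intro k
      induction k with
      | zero => exact ⟨1, by simp, by simp⟩
      | succ k ih =>
        obtain ⟨u, hu, hlu⟩ := ih
        have hc : x⁻¹ * (u : G) * x ∈ U := by
          have := (inferInstance : U.Normal).conj_mem _ u.2 x⁻¹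
          rwa [inv_inv] at this
        refine ⟨⟨_, hc⟩ * m, ?_, ?_⟩
        · rw [pow_succ, hu, Subgroup.coe_mul, pow_succ]
          group
        · rw [map_mul, pow_succ, ← hlu, ← hxl ⟨_, hc⟩]
          congr 2
          exact Subtype.ext (by group)
    obtain ⟨u, hu, hlu⟩ := hk (orderOf x * orderOf (x * (m : G)))
    rw [mul_comm, pow_mul, pow_orderOf_eq_one, one_pow, mul_comm, pow_mul,
      pow_orderOf_eq_one, one_pow, one_mul] at hu
    rw [show u = 1 from Subtype.ext hu.symm, map_one] at hlu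
    obtain ⟨j, hj⟩ := exists_pow_mem hNU hUp m.2
    have hj' : l m ^ p ^ j = 1 := by
      rw [← map_pow]; exact hl _ (by rw [SubmonoidClass.coe_pow]; exact hj)
    have hn : ¬ p ∣ orderOf x * orderOf (x * (m : G)) := fun h =>
      (hp.out.dvd_mul.mp h).elim hxr hmr
    have h1 := Nat.dvd_gcd (orderOf_dvd_of_pow_eq_one hlu.symm) (orderOf_dvd_of_pow_eq_one hj')
    rw [Nat.Coprime.pow_right j ((hp.out.coprime_iff_not_dvd.mpr hn).symm), Nat.dvd_one,
      orderOf_eq_one_iff] at h1
    exact h1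
  have hzero : ∀ (F : G → ℂ), (∀ x, x ∉ U → F x = 0) → ∀ g : G,
      (∀ x, x⁻¹ * g ∈ U → p ∣ orderOf x) → conv e F g = 0 := by
    intro F hF g hg
    rw [conv_apply]
    refine Finset.sum_eq_zero fun y _ => ?_
    by_cases hy : y⁻¹ * g ∈ U
    · rw [hS y (hg y hy), zero_mul]
    · rw [hF _ hy, mul_zero]
  have htw : ∀ l, (∀ m : U, (m : G) ∈ pPrimeCore p G → l m = 1) → ∀ x : G, Fix l x →
      ¬ p ∣ orderOf x → ∀ m₀ : U,
      conv e (El l) (x * (m₀ : G)) = conj (l m₀ : ℂ) * A (x * (m₀ : G)) := by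
    intro l hl x hxl hxr m₀
    rw [hA, conv_apply, conv_apply, Finset.mul_sum]
    refine Finset.sum_congr rfl fun y _ => ?_
    by_cases hy : p ∣ orderOf y
    · rw [hS y hy, zero_mul, zero_mul, mul_zero]
    by_cases hu : y⁻¹ * (x * (m₀ : G)) ∈ U
    · have h1 := hEl l ⟨_, hu⟩
      have h2 : l (m₀ * (⟨_, hu⟩ : U)⁻¹) = 1 := by
        refine hreg l hl x hxl hxr _ ?_
        convert hy using 3
        rw [Subgroup.coe_mul, Subgroup.coe_inv]
        group
      rw [map_mul, map_inv, mul_inv_eq_one] at h2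
      rw [show El l (y⁻¹ * (x * (m₀ : G))) = _ from h1, h2]
      ring
    · rw [hEl0 l hu, hE0 hu, mul_zero, mul_zero]
  have hoff : ∀ l, (∀ m : U, (m : G) ∈ pPrimeCore p G → l m = 1) → ∀ g : G, ¬ Fix l g →
      conv e (El l) g = 0 := by
    intro l hl g hg
    have hfac : conv e (El l) = conv (El l) (conv e (El l)) := by
      rw [← conv_assoc, ← conv_comm_of_class hec (El l), conv_assoc, hidem]
    rw [hfac, conv_apply]
    simp only [conv_apply e, Finset.mul_sum]
    rw [Finset.sum_comm]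
    refine Finset.sum_eq_zero fun z _ => ?_
    by_cases hz : Fix l z
    · refine Finset.sum_eq_zero fun u _ => ?_
      by_cases hu : u ∈ U
      · rw [hEl0 l (x := z⁻¹ * (u⁻¹ * g)) fun hm => hg ?_, mul_zero, mul_zero]
        have hc : z⁻¹ * u * z ∈ U := by
          have := (inferInstance : U.Normal).conj_mem _ hu z⁻¹
          rwa [inv_inv] at this
        have := hFixU l z hz _ (U.mul_mem hc hm)
        rwa [show z * (z⁻¹ * u * z * (z⁻¹ * (u⁻¹ * g))) = g by group] at this
      · rw [hEl0 l hu, zero_mul]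
    · have hne := horth l hl z (by simpa only [Fix, not_forall] using hz)
      have h0 : conv (extFun (blockCoeff {conjIrr z (twist l ϑ)})) (El l) = (0 : G → ℂ) := by
        simp only [El]
        rw [conv_extFun, conv_singleton hne]
        funext x
        by_cases hx : x ∈ U
        · exact extFun_coe _ (⟨x, hx⟩ : U)
        · exact extFun_notMem _ hx
      have hcz : ∀ w : G, (extFun (blockCoeff {conjIrr z (twist l ϑ)}) : G → ℂ) w =
          El l (z * w * z⁻¹) := by
        intro w
        rw [← conjFun_blockCoeff_singleton]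
        by_cases hw : w ∈ U
        · exact (extFun_coe _ (⟨w, hw⟩ : U)).trans
            (extFun_coe (blockCoeff {twist l ϑ})
              ⟨z * w * z⁻¹, (inferInstance : U.Normal).conj_mem w hw z⟩).symm
        · rw [extFun_notMem _ hw, hEl0 l]
          exact fun h => hw (by
            simpa [mul_assoc] using (inferInstance : U.Normal).conj_mem _ h z⁻¹)
      have h1 : ∑ u : G, El l u * El l (z⁻¹ * (u⁻¹ * g)) = 0 := by
        have h2 := congrFun h0 (z⁻¹ * g)
        rw [conv_apply, Pi.zero_apply] at h2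
        rw [← h2]
        refine (Fintype.sum_equiv (MulAut.conj z).toEquiv _ _ fun w => ?_).symm
        show _ = El l (z * w * z⁻¹) * _
        rw [hcz, show (MulAut.conj z).toEquiv w = z * w * z⁻¹ from rfl]
        congr 2
        group
      calc ∑ u : G, El l u * (e z * El l (z⁻¹ * (u⁻¹ * g)))
          = e z * ∑ u : G, El l u * El l (z⁻¹ * (u⁻¹ * g)) := by
            rw [Finset.mul_sum]; exact Finset.sum_congr rfl fun u _ => by ring
        _ = 0 := by rw [h1, mul_zero]
  have hA0 : ∀ g : G, g ∉ U → A g = 0 := by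
    intro g hg
    by_cases hx : ∀ x : G, x⁻¹ * g ∈ U → p ∣ orderOf x
    · exact hzero E (fun x hx => hE0 hx) g hx
    push Not at hx
    obtain ⟨x, hxg, hxr⟩ := hx
    obtain ⟨l, hl, m, hm⟩ := exists_moved_hom hsolv hxr fun hxU => hg (by
      simpa using U.mul_mem hxU hxg)
    obtain ⟨hBi, hBs⟩ := hprod (El l) (hidem l) (hEls l)
    have hg' : ¬ Fix l g := fun hf => hm (by
      have := hFixU l g hf (g⁻¹ * x) (by simpa using U.inv_mem hxg)
      rw [mul_inv_cancel_left] at this
      exact this m)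
    have hnorm : ∀ y, ‖conv e (El l) y‖ ^ 2 = if Fix l y then ‖A y‖ ^ 2 else 0 := by
      intro y
      split_ifs with hy
      · by_cases hx' : ∀ x : G, x⁻¹ * y ∈ U → p ∣ orderOf x
        · rw [hA, hzero E (fun x hx => hE0 hx) y hx', hzero (El l) (fun x hx => hEl0 l hx) y hx']
        push Not at hx'
        obtain ⟨x', hxy, hxr'⟩ := hx'
        have hfx : Fix l x' := by
          have := hFixU l y hy (y⁻¹ * x') (by simpa using U.inv_mem hxy)
          rwa [mul_inv_cancel_left] at this
        have := htw l hl x' hfx hxr' ⟨_, hxy⟩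
        rw [mul_inv_cancel_left] at this
        rw [this, norm_mul, Complex.norm_conj, norm_hom, one_mul]
      · rw [hoff l hl y hy, norm_zero, zero_pow two_ne_zero]
    have h1 : conv e (El l) 1 = A 1 := by
      have := htw l hl 1 (fun m => congrArg l (Subtype.ext (by simp))) (by
        rw [orderOf_one]; exact hp.out.not_dvd_one) 1
      simpa using this
    have h4 : A 1 = _ := conv_self_one hAs hAi
    rw [conv_self_one hBs hBi, h4, Complex.ofReal_inj,
      Finset.sum_congr rfl fun y _ => hnorm y] at h1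
    have h2 : ∑ y : G, (‖A y‖ ^ 2 - if Fix l y then ‖A y‖ ^ 2 else 0) = 0 := by
      rw [Finset.sum_sub_distrib, h1, sub_self]
    have h3 := (Finset.sum_eq_zero_iff_of_nonneg fun y _ => by
      split_ifs <;> nlinarith [norm_nonneg (A y)]).mp h2 g (Finset.mem_univ g)
    rw [if_neg hg', sub_zero] at h3
    simpa using h3
  -- `A` is `0` or `E`
  have hAE : conv A E = A := by rw [hA, conv_assoc, hEE]
  have hAc : IsClassFunction G A := isClassFunction_conv hec hEc
  have hrA : conv (res U A) (res U A) = res U A := by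
    rw [← res_conv (N := U) hA0, hAi]
  have hrAE : conv (res U A) (blockCoeff {ϑ}) = res U A := by
    conv_lhs => rw [← res_extFun (G := G) (blockCoeff {ϑ}), ← res_conv (N := U) hA0, ← hE, hAE]
  have hrAc : IsClassFunction U (res U A) := fun a b => hAc (a : G) (b : G)
  have hcase : res U A = 0 ∨ res U A = blockCoeff {ϑ} := by
    have hne : ∀ φ : IrrCharacter U, φ ≠ ϑ → omega (φ : U → ℂ) (res U A) = 0 := fun φ hφ => by
      rw [← hrAE, omega_conv φ hrAc (isClassFunction_blockCoeff _), omega_blockCoeff,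
        Set.indicator_of_notMem (s := {ϑ}) (by simpa using hφ), mul_zero]
    have hv := omega_conv ϑ hrAc hrAc
    rw [hrA] at hv
    rcases mul_eq_zero.mp (show omega (ϑ : U → ℂ) (res U A) *
      (omega (ϑ : U → ℂ) (res U A) - 1) = 0 by rw [mul_sub, ← hv, mul_one, sub_self]) with h | h
    · refine Or.inl (eq_of_omega_eq hrAc (fun _ _ => rfl) fun φ => ?_)
      rw [omega_zero]
      by_cases hφ : φ = ϑ
      · rw [hφ, h]
      · exact hne φ hφ
    · refine Or.inr (eq_of_omega_eq hrAc (isClassFunction_blockCoeff _) fun φ => ?_)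
      rw [omega_blockCoeff]
      by_cases hφ : φ = ϑ
      · rw [hφ, sub_eq_zero.mp h, Set.indicator_of_mem (Set.mem_singleton _)]; rfl
      · rw [hne φ hφ, Set.indicator_of_notMem (s := {ϑ}) (by simpa using hφ)]
  -- the idempotent of `θ`
  set f : G → ℂ := extFun (blockCoeff {θ}) with hf
  have hfc : IsClassFunction G f := isClassFunction_extFun fun g => by
    rw [conjFun_blockCoeff_singleton]
    exact congrArg (fun η => blockCoeff {η}) (Subtype.ext (funext (hinv g)))
  have hfo : ∀ χ : IrrCharacter G, IsConstituent χ θ → omega (χ : G → ℂ) f = 1 := fun χ hχ => by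
    rw [omega_eq_of_constituent hχ hfc (fun x hx => extFun_notMem _ hx), hf, res_extFun,
      omega_blockCoeff, Set.indicator_of_mem (Set.mem_singleton _)]; rfl
  have hef : conv e f = e := by
    refine eq_of_omega_eq (isClassFunction_conv hec hfc) hec fun χ => ?_
    rw [omega_conv χ hec hfc, he, omega_blockCoeff]
    by_cases hχ : χ ∈ S
    · rw [hfo χ (hSθ χ hχ), mul_one]
    · rw [Set.indicator_of_notMem hχ, zero_mul]
  have hff : conv f f = f := by simp only [hf, conv_extFun, conv_blockCoeff_self]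
  set r : ℂ := (Nat.card U : ℂ) / (Nat.card ↥(pPrimeCore p G) : ℂ) with hr
  have hr0 : r ≠ 0 := div_ne_zero (Nat.cast_ne_zero.mpr Nat.card_pos.ne')
    (Nat.cast_ne_zero.mpr Nat.card_pos.ne')
  have hEf : ∀ x : G, ¬ p ∣ orderOf x → r * E x = f x := by
    intro x hxr
    by_cases hxU : x ∈ U
    · have hxN : x ∈ pPrimeCore p G := mem_of_regular hNU hUp hxU hxr
      rw [hE, hf, show (extFun (blockCoeff {ϑ}) : G → ℂ) x = _ from extFun_coe _ (⟨x, hxU⟩ : U),
        show (extFun (blockCoeff {θ}) : G → ℂ) x = _ from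
          extFun_coe _ (⟨x, hxN⟩ : pPrimeCore p G),
        blockCoeff_singleton_apply, blockCoeff_singleton_apply]
      show r * ((Nat.card U : ℂ)⁻¹ * (η 1 * conj (η ⟨x, hxU⟩))) = _
      rw [hϑN x hxN, hϑd, hd, hr]
      field_simp [Nat.cast_ne_zero.mpr (Nat.card_pos (α := U)).ne']
    · rw [hE0 hxU, mul_zero, hf, extFun_notMem]
      exact fun h => hxU (hNU h)
  have hA1 : r * A 1 = e 1 := by
    conv_rhs => rw [← hef]
    rw [hA, conv_apply, conv_apply, Finset.mul_sum]
    refine Finset.sum_congr rfl fun y _ => ?_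
    by_cases hy : p ∣ orderOf y
    · rw [hS y hy, zero_mul, zero_mul, mul_zero]
    · rw [← hEf (y⁻¹ * 1) (by rwa [mul_one, orderOf_inv])]
      ring
  have hA1' : A 1 = res U A 1 := by rw [res, OneMemClass.coe_one]
  have hes : ∀ g, e g⁻¹ = conj (e g) := blockCoeff_inv S
  rcases hcase with h | h
  · exfalso
    rw [h, Pi.zero_apply] at hA1'
    rw [hA1', mul_zero] at hA1
    have := congrArg (omega (χ₀ : G → ℂ)) (eq_zero_of_conv_self_one hes hee hA1.symm)
    rw [he, omega_blockCoeff, Set.indicator_of_mem hχ₀, omega_zero] at this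
    exact one_ne_zero this
  · have hd1 : e 1 = f 1 := by
      rw [← hA1, hA1', h, ← hEf 1 (by rw [orderOf_one]; exact hp.out.not_dvd_one), hE,
        show (extFun (blockCoeff {ϑ}) : G → ℂ) 1 = _ from extFun_coe _ (1 : U)]
    have hfe : e = f := by
      have h0 := eq_zero_of_conv_self_one (a := f - e) (fun g => by
          simp only [Pi.sub_apply, map_sub, hes, hf, extFun_inv _ (blockCoeff_inv _)])
        (conv_self_of_omega (fun a b => by simp only [Pi.sub_apply, hec a b, hfc a b]) fun χ => ?_)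
        (by rw [Pi.sub_apply, hd1, sub_self])
      · exact (sub_eq_zero.mp h0).symm
      · rw [sub_eq_add_neg, omega_add, omega_neg]
        have he1 := omega_conv χ hec hec
        have he2 := omega_conv χ hec hfc
        have he3 := omega_conv χ hfc hfc
        rw [hee] at he1; rw [hef] at he2; rw [hff] at he3
        linear_combination -he3 + 2 * he2 - he1
    by_contra hψS
    have := congrArg (omega (ψ : G → ℂ)) hfe
    rw [he, omega_blockCoeff, Set.indicator_of_notMem hψS, hfo ψ hψ] at this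
    exact zero_ne_one this

/-! ### Induction through the inertia group -/

theorem mem_of_sameBlock (hM : IsPModular p M) : ∀ (n : ℕ) {G : Type u} [Group G] [Fintype G],
    Nat.card G ≤ n → IsPSolvable p G → ∀ {S : Set (IrrCharacter G)},
    (∀ y : G, p ∣ orderOf y → blockCoeff S y = 0) → ∀ {χ ψ : IrrCharacter G}, χ ∈ S →
    SameBlock M (χ : G → ℂ) (ψ : G → ℂ) → ψ ∈ S := by
  intro n
  induction n with
  | zero => intro G _ _ hn; exact absurd hn (not_le.mpr Nat.card_pos)
  | succ n ih =>
    intro G _ _ hn hsolv S hS χ ψ hχ hψ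
    classical
    have := isPrime hM
    set N := pPrimeCore p G with hNdef
    letI := Fintype.ofFinite N
    have hpN : ¬ p ∣ Nat.card N := hNdef ▸ Thompson.not_dvd_card_pPrimeCore
    obtain ⟨θ, hθ⟩ := exists_constituent_irr (N := N) χ
    have hψθ : IsConstituent ψ θ :=
      constituent_of_sameBlock hM hpN (sameBlock_symm hψ) hθ
    let T : Subgroup G :=
      { carrier := {g | conjIrr g θ = θ}
        one_mem' := Subtype.ext (conjFun_one _)
        mul_mem' := fun {a b} ha hb => by
          simp only [Set.mem_setOf_eq] at ha hb ⊢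
          rw [← conjIrr_conjIrr, ha, hb]
        inv_mem' := fun {a} ha => by
          simp only [Set.mem_setOf_eq] at ha ⊢
          conv_lhs => rw [← ha]
          exact conjIrr_inv_self a θ }
    by_cases hT : T = ⊤
    · set V : Set (IrrCharacter G) := {φ | IsConstituent φ θ}
      have hS' := mem_of_invariant hsolv θ (fun g m => congrFun (congrArg Subtype.val
        (show conjIrr g θ = θ from (hT ▸ Subgroup.mem_top g : g ∈ T))) m) (S := S ∩ V)
        (fun y hy => blockCoeff_eq_zero_of_projection hM (w := blockCoeff S) hS (V := V)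
          (fun φ hφ φ' h => constituent_of_sameBlock hM hpN (sameBlock_symm h) hφ)
          Set.inter_subset_right (fun φ hφ => by
            rw [omega_blockCoeff]
            by_cases h : φ ∈ S
            · rw [Set.indicator_of_mem h, Set.indicator_of_mem (show φ ∈ S ∩ V from ⟨h, hφ⟩)]
            · rw [Set.indicator_of_notMem h,
                Set.indicator_of_notMem (s := S ∩ V) fun h' => h h'.1]) hy)
        (fun φ hφ => hφ.2) (χ₀ := χ) ⟨hχ, hθ⟩ hψθ
      exact hS'.1
    letI := Fintype.ofFinite T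
    have hNT : N ≤ T := fun x hx => Subtype.ext (funext fun m => by
      rw [coe_conjIrr]
      exact irr_class θ m ⟨x, hx⟩)
    set b : Set (IrrCharacter N) := {θ}
    have hb : IsPBlock M b := ⟨θ, (blockOf_eq_singleton_of_not_dvd hM θ fun h =>
      hpN (h.trans (Nat.div_dvd_of_dvd (BlocksCore.charDegree_dvd_card θ)))).symm⟩
    have hTb : IsBlockStab T b := fun g => by
      simp only [b, Set.mem_singleton_iff, forall_eq]; rfl
    obtain ⟨χT, hχT, hχe⟩ :=
      exists_indIrr_of_constituent hNT hb hTb (Set.mem_singleton θ) hθ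
    obtain ⟨ψT, hψT, hψe⟩ :=
      exists_indIrr_of_constituent hNT hb hTb (Set.mem_singleton θ) hψθ
    have hsame : SameBlock M (χT : T → ℂ) (ψT : T → ℂ) :=
      sameBlock_of_ind hNT hM hb hTb hχT hψT (by rw [← hχe, ← hψe]; exact hψ)
    set ST : Set (IrrCharacter T) :=
      {φ | ∃ h : LiesOver hNT b φ, indIrr hNT hb hTb h ∈ S} with hST
    have hlt : Nat.card T ≤ n := by
      have := T.card_mul_index
      have h1 : T.index ≠ 1 := fun h => hT (Subgroup.index_eq_one.mp h)
      have h0 : 0 < T.index := Nat.pos_of_ne_zero T.index_ne_zero_of_finite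
      have h2 : 2 ≤ T.index := by omega
      nlinarith [Nat.card_pos (α := T)]
    have hSTv : ∀ y : T, p ∣ orderOf y → blockCoeff ST y = 0 := fun y hy =>
      blockCoeff_eq_zero_of_projection hM (w := res T (blockCoeff S))
        (fun g hg => hS _ (by rwa [Subgroup.orderOf_coe]))
        (V := {φ | LiesOver hNT b φ})
        (fun φ hφ φ' h => liesOver_of_sameBlock hNT hM hb hTb h hφ) (fun φ hφ => hφ.1)
        (fun φ hφ => by
          rw [← omega_indFun hNT (isClassFunction_blockCoeff S),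
            show omega (indFun T (φ : T → ℂ)) (blockCoeff S) = _ from
              omega_blockCoeff S (indIrr hNT hb hTb hφ)]
          by_cases h : indIrr hNT hb hTb hφ ∈ S
          · rw [Set.indicator_of_mem h, Set.indicator_of_mem (show φ ∈ ST from ⟨hφ, h⟩)]; rfl
          · rw [Set.indicator_of_notMem h,
              Set.indicator_of_notMem fun (h' : φ ∈ ST) => h h'.2]) hy
    obtain ⟨_, hmem⟩ := ih hlt (Thompson.isPSolvable_subgroup T hsolv) hSTv
      (show χT ∈ ST from ⟨hχT, hχe ▸ hχ⟩) hsame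
    exact hψe ▸ hmem

end Cfsg.Agent.BlkChar.Harada
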