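import Cfsg.Agent.BlkChar.FongBlock
import Cfsg.Agent.Lib.BlocksDefect.FongReynolds
import Cfsg.Agent.Lib.BlocksDefect.PIndexAbelian
import Cfsg.Agent.CharB.CliffordDegree

/-!
# Heights in blocks of `p`-solvable groups

The height of a character is at most the exponent of `p` in the index of the centre of a defect
group: after the Fong-Reynolds reduction the defect group is a Sylow subgroup, whose centre lies
in a normal subgroup over which every degree is prime to `p`.
-/

set_option linter.unusedSectionVars false

open Cfsg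

namespace Cfsg.Agent.BlkChar.Fong

open BlocksCore BlocksDefect

universe u

variable {p : ℕ} [hp : Fact p.Prime] {M : Ideal AlgInt}

theorem index_center_eq_of_equiv {A A' : Type*} [Group A] [Finite A] [Group A'] [Finite A']
    (e : A ≃* A') : (Subgroup.center A).index = (Subgroup.center A').index := by
  have h1 := Subgroup.card_mul_index (Subgroup.center A)
  have h2 := Subgroup.card_mul_index (Subgroup.center A')
  rw [Nat.card_congr (Subgroup.centerCongr e).toEquiv, Nat.card_congr e.toEquiv, ← h2] at h1
  exact Nat.eq_of_mul_eq_mul_left Nat.card_pos h1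

/-- Over an invariant character of `O_{p'}`, the `p`-part of a degree divides the index of the
centre of a Sylow subgroup. -/
theorem degree_le_of_invariant {G : Type u} [Group G] [Fintype G] (hM : IsPModular p M)
    (hsolv : IsPSolvable p G) (K : Subgroup G) [K.Normal] [Fintype K] (hK : K = pPrimeCore p G)
    (θ : IrrCharacter K) (hinv : CharDeep.Ext.Inv K (θ : K → ℂ)) (χ : IrrCharacter G)
    (hχ : IsConstituent χ θ) (P : Sylow p G) :
    (charDegree (χ : G → ℂ)).factorization p ≤
      ((Subgroup.center (P : Subgroup G)).index).factorization p := by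
  classical
  have := isPrime hM
  have hKp : ¬ p ∣ Nat.card K := hK ▸ Thompson.not_dvd_card_pPrimeCore
  obtain ⟨P₀⟩ := (inferInstance : Nonempty (Sylow p ↥(pPrimePCore p G)))
  have hcons : IsPConstrained p G :=
    PLocalB.isPConstrained_of_centralizer P₀ (Thompson.isPSolvable_subgroup _ hsolv)
  have hC : Subgroup.centralizer (pCore p (G ⧸ K) : Set (G ⧸ K)) ≤ pCore p (G ⧸ K) := by
    subst hK
    exact PLocalB.isPConstrained_iff.mp hcons
  set π := QuotientGroup.mk' K
  set R := pCore p (G ⧸ K) with hR
  set C := Subgroup.centralizer (R : Set (G ⧸ K)) with hCdef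
  have hCp : IsPGroup p C := (Thompson.isPGroup_pCore).to_le hC
  have hCab : ∀ a ∈ C, ∀ c ∈ C, a * c = c * a := fun a ha c hc =>
    (Subgroup.mem_centralizer_iff.mp ha c (hC hc)).symm
  haveI : C.Normal := inferInstance
  set W := C.comap π with hW
  haveI : W.Normal := inferInstance
  letI := Fintype.ofFinite W
  have hKW : K ≤ W := fun x hx => by
    show π x ∈ C
    rw [show π x = 1 from (QuotientGroup.eq_one_iff x).mpr hx]
    exact one_mem _
  set K' := K.subgroupOf W
  haveI : K'.Normal := inferInstance
  letI := Fintype.ofFinite K'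
  let eK : K' ≃* K := Subgroup.subgroupOfEquivOfLe hKW
  set θ' : IrrCharacter K' := ⟨(θ : K → ℂ) ∘ eK,
    CharCore.isIrrCharacter_comp_surjective θ.2 eK.toMonoidHom eK.surjective⟩
  have hK'p : ¬ p ∣ Nat.card K' := by rwa [Nat.card_congr eK.toEquiv]
  have hidx : ∃ k, K'.index = p ^ k := by
    show ∃ k, K.relIndex W = p ^ k
    rw [Thompson.relIndex_eq_card_map_mk', hW,
      Subgroup.map_comap_eq_self_of_surjective (QuotientGroup.mk'_surjective _)]
    exact IsPGroup.iff_card.mp hCp
  -- a constituent on `W` has degree prime to `p`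
  obtain ⟨η, hη⟩ := exists_constituent_irr (N := W) χ
  obtain ⟨θ₁', hθ₁'⟩ := exists_constituent_irr (N := K') η
  set θ₁ : IrrCharacter K := ⟨(θ₁' : K' → ℂ) ∘ eK.symm,
    CharCore.isIrrCharacter_comp_surjective θ₁'.2 eK.symm.toMonoidHom eK.symm.surjective⟩
  have h1 : IsConstituent χ θ₁ := by
    refine constituent_trans hKW hη ?_
    have e : classInner (fun n : K => (η : W → ℂ) ⟨n, hKW n.2⟩) (θ₁ : K → ℂ) =
        classInner (fun n : K' => (η : W → ℂ) n) (θ₁' : K' → ℂ) := by
      rw [CharCore.classInner_def, CharCore.classInner_def, Nat.card_congr eK.toEquiv]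
      congr 1
      exact Fintype.sum_equiv eK.symm.toEquiv _ _ fun n => rfl
    rw [e]; exact hθ₁'
  have h2 : θ₁ = θ := eq_of_invariant (fun g => Subtype.ext (funext (hinv g))) hχ h1
  have h3 : θ₁' = θ' := Subtype.ext (funext fun n => by
    show _ = (θ : K → ℂ) (eK n)
    rw [← h2]
    exact congrArg _ (eK.symm_apply_apply n).symm)
  have hbθ : IsPBlock M ({θ'} : Set (IrrCharacter K')) := by
    have h4 : blockOf M (θ' : K' → ℂ) = {θ'} := blockOf_eq_singleton_of_not_dvd hM θ'
      fun h => hK'p (h.trans (Nat.div_dvd_of_dvd (BlocksCore.charDegree_dvd_card θ')))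
    exact h4 ▸ isPBlock_blockOf θ'
  have hB := isPBlock_blockOf (M := M) η
  obtain ⟨D, hD⟩ := exists_isDefectGroup hM hB
  have hDp := isPGroup_of_isDefectGroup hD
  have hDab : ∀ x ∈ D, ∀ y ∈ D, x * y = y * x := by
    intro x hx y hy
    set c : W := x * y * x⁻¹ * y⁻¹ with hc
    have hcD : c ∈ D := D.mul_mem (D.mul_mem (D.mul_mem hx hy) (D.inv_mem hx)) (D.inv_mem hy)
    have hcK : (c : G) ∈ K := by
      refine (QuotientGroup.eq_one_iff _).mp ?_
      show π (c : G) = 1
      simp only [hc, Subgroup.coe_mul, InvMemClass.coe_inv, map_mul, map_inv]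
      rw [hCab (π x) x.2 (π y) y.2]
      group
    have hc1 : c = 1 := by
      obtain ⟨j, hj⟩ := hDp ⟨c, hcD⟩
      have hj' : (c : G) ^ p ^ j = 1 := by
        simpa using congrArg (Subgroup.subtype W) (congrArg Subtype.val hj)
      have hcard : orderOf (c : G) ∣ Nat.card K := Subgroup.orderOf_dvd_natCard _ hcK
      have hd := Nat.dvd_gcd (orderOf_dvd_of_pow_eq_one hj') hcard
      rw [((hp.out.coprime_iff_not_dvd.mpr hKp).pow_left j), Nat.dvd_one,
        orderOf_eq_one_iff] at hd
      exact Subtype.ext hd
    rw [hc] at hc1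
    calc x * y = (x * y * x⁻¹ * y⁻¹) * (y * x) := by group
      _ = y * x := by rw [hc1, one_mul]
  obtain ⟨-, -, hres, -, -, -⟩ := pIndex_abelian hM hidx hbθ
    (fun g θ₂ hθ₂ => by
      rw [Set.mem_singleton_iff] at hθ₂ ⊢
      subst hθ₂
      exact Subtype.ext (funext fun n =>
        (congrArg (θ : K → ℂ) (Subtype.ext rfl)).trans (hinv (g : G) (eK n))))
    hB ⟨η, mem_blockOf_self η, θ', rfl, h3 ▸ hθ₁'⟩ hD hDab
  obtain ⟨θ₂, hθ₂, hηθ⟩ := hres η (mem_blockOf_self η)
  rw [Set.mem_singleton_iff] at hθ₂
  subst hθ₂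
  have hη1 : ¬ p ∣ charDegree (η : W → ℂ) := by
    have h5 : charDegree (η : W → ℂ) = charDegree (θ' : K' → ℂ) := by
      unfold charDegree
      rw [show (η : W → ℂ) 1 = (η : W → ℂ) ((1 : K') : W) from rfl, hηθ]
    rw [h5]
    exact fun h => hK'p (h.trans (BlocksCore.charDegree_dvd_card θ'))
  obtain ⟨hdvd, hdiv⟩ := CharB.degree_dvd W χ.2 η.2 hη (irr_one_eq χ) (irr_one_eq η)
  -- the centre of `P` maps into `C`
  have hZ : ((Subgroup.center (P : Subgroup G)).map (P : Subgroup G).subtype).map π ≤ C := by
    rintro _ ⟨_, ⟨z, hz, rfl⟩, rfl⟩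
    refine Subgroup.mem_centralizer_iff.mpr fun r hr => ?_
    obtain ⟨s, hs, rfl⟩ := (Thompson.pCore_le_sylow
      (P.mapSurjective (QuotientGroup.mk'_surjective K)) hr : r ∈ (P : Subgroup G).map π)
    rw [← map_mul, ← map_mul]
    exact congrArg π (congrArg Subtype.val (Subgroup.mem_center_iff.mp hz ⟨s, hs⟩))
  have hinj : Nat.card (Subgroup.center (P : Subgroup G)) ∣ Nat.card C := by
    refine (dvd_of_eq ?_).trans (Subgroup.card_dvd_of_le hZ)
    let f : Subgroup.center (P : Subgroup G) →* G ⧸ K :=
      π.comp ((P : Subgroup G).subtype.comp (Subgroup.center (P : Subgroup G)).subtype)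
    have hf : Function.Injective f := by
      refine (injective_iff_map_eq_one f).mpr fun z hz => ?_
      have hzK : (((z : (P : Subgroup G))) : G) ∈ K := (QuotientGroup.eq_one_iff _).mp hz
      obtain ⟨j, hj⟩ := P.isPGroup' (z : (P : Subgroup G))
      have hd := Nat.dvd_gcd (orderOf_dvd_of_pow_eq_one
        (show (((z : (P : Subgroup G))) : G) ^ p ^ j = 1 by simpa using congrArg Subtype.val hj))
        (Subgroup.orderOf_dvd_natCard _ hzK)
      rw [((hp.out.coprime_iff_not_dvd.mpr hKp).pow_left j), Nat.dvd_one,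
        orderOf_eq_one_iff] at hd
      exact Subtype.ext (Subtype.ext hd)
    have hrange : ((Subgroup.center (P : Subgroup G)).map (P : Subgroup G).subtype).map π =
        f.range := by
      ext y
      constructor
      · rintro ⟨_, ⟨z, hz, rfl⟩, rfl⟩
        exact ⟨⟨z, hz⟩, rfl⟩
      · rintro ⟨z, rfl⟩
        exact ⟨_, ⟨(z : (P : Subgroup G)), z.2, rfl⟩, rfl⟩
    rw [hrange]
    exact Nat.card_congr (MonoidHom.ofInjective hf).toEquiv
  have hWidx : W.index = C.index :=
    Subgroup.index_comap_of_surjective C (QuotientGroup.mk'_surjective K)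
  have hfa : (charDegree (χ : G → ℂ)).factorization p ≤ W.index.factorization p := by
    obtain ⟨c, hc⟩ := hdvd
    have hpos := charDegree_pos η
    have hc0 : c ≠ 0 := fun h => (charDegree_pos χ).ne' (by rw [hc, h, mul_zero])
    rw [hc, Nat.mul_div_cancel_left _ hpos] at hdiv
    rw [hc, Nat.factorization_mul hpos.ne' hc0, Finsupp.add_apply,
      Nat.factorization_eq_zero_of_not_dvd hη1, zero_add]
    exact (Nat.factorization_le_iff_dvd hc0 W.index_ne_zero_of_finite).mpr hdiv p
  refine hfa.trans ?_
  rw [hWidx]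
  have h6 := congrArg (fun m => m.factorization p) (Subgroup.card_mul_index C)
  have h7 := congrArg (fun m => m.factorization p)
    (Subgroup.card_mul_index (Subgroup.center (P : Subgroup G)))
  have h8 : (Nat.card (G ⧸ K)).factorization p ≤ (Nat.card G).factorization p :=
    (Nat.factorization_le_iff_dvd Nat.card_pos.ne' Nat.card_pos.ne').mpr
      (Subgroup.card_quotient_dvd_card K) p
  have h9 : (Nat.card (P : Subgroup G)).factorization p = (Nat.card G).factorization p := by
    rw [P.card_eq_multiplicity, hp.out.factorization_pow, Finsupp.single_eq_same]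
  have h10 : (Nat.card (Subgroup.center (P : Subgroup G))).factorization p ≤
      (Nat.card C).factorization p :=
    (Nat.factorization_le_iff_dvd Nat.card_pos.ne' Nat.card_pos.ne').mpr hinj p
  simp only [Nat.factorization_mul Nat.card_pos.ne' Subgroup.FiniteIndex.index_ne_zero,
    Finsupp.add_apply] at h6 h7
  omega

/-- In a `p`-solvable group heights are bounded by the index of the centre of a defect group. -/
theorem height_le_center (hM : IsPModular p M) :
    ∀ (n : ℕ) (G : Type u) [Group G] [Fintype G], Nat.card G ≤ n → IsPSolvable p G →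
      ∀ (B : Set (IrrCharacter G)) (P : Subgroup G), IsPBlock M B → IsDefectGroup p M B P →
        ∀ χ ∈ B, blockHeight p B ((χ : IrrCharacter G) : G → ℂ) ≤
          ((Subgroup.center P).index).factorization p := by
  classical
  have := isPrime hM
  intro n
  induction n with
  | zero => exact fun G _ _ hn => absurd hn (Nat.not_le.mpr Nat.card_pos)
  | succ n ih =>
    intro G _ _ hn hsolv B P hB hP χ hχ
    set K := pPrimeCore p G with hKdef
    letI := Fintype.ofFinite K
    have hKp : ¬ p ∣ Nat.card K := Thompson.not_dvd_card_pPrimeCore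
    obtain ⟨θ, hθ⟩ := exists_constituent_irr (N := K) χ
    set T : Subgroup G :=
      { carrier := {g | conjIrr g θ = θ}
        one_mem' := Subtype.ext (conjFun_one _)
        mul_mem' := fun {a c} ha hc => by
          show conjIrr (a * c) θ = θ
          rw [← conjIrr_conjIrr, show conjIrr a θ = θ from ha]
          exact hc
        inv_mem' := fun {a} ha => by
          show conjIrr a⁻¹ θ = θ
          conv_lhs => rw [← show conjIrr a θ = θ from ha]
          rw [conjIrr_inv_self] } with hT
    letI := Fintype.ofFinite T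
    by_cases htop : T = ⊤
    · have hinv : CharDeep.Ext.Inv K (θ : K → ℂ) := fun g m => by
        have hg : g ∈ T := htop ▸ Subgroup.mem_top g
        exact congrFun (congrArg Subtype.val (show conjIrr g θ = θ from hg)) m
      obtain ⟨B₀, hB₀, hmem, -, hdef⟩ := single_block hM hsolv K hKdef θ hinv
      have hBB : B = B₀ := isPBlock_eq_of_mem hB hB₀ hχ ((hmem χ).mpr hθ)
      subst hBB
      obtain ⟨S, rfl⟩ := hdef P hP
      exact (Nat.sub_le _ _).trans
        (degree_le_of_invariant hM hsolv K hKdef θ hinv χ hθ S)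
    · have hb : IsPBlock M ({θ} : Set (IrrCharacter K)) := by
        have h4 : blockOf M (θ : K → ℂ) = {θ} := blockOf_eq_singleton_of_not_dvd hM θ
          fun h => hKp (h.trans (Nat.div_dvd_of_dvd (BlocksCore.charDegree_dvd_card θ)))
        exact h4 ▸ isPBlock_blockOf θ
      have hStab : IsBlockStab T ({θ} : Set (IrrCharacter K)) := fun g =>
        ⟨fun hg η hη => by
          rw [Set.mem_singleton_iff] at hη ⊢
          rw [hη]; exact hg,
        fun h => h θ rfl⟩
      have hKT : K ≤ T := fun k hk => Subtype.ext (funext fun m => by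
        have h := irr_class θ m ⟨k, hk⟩
        exact (congrArg (θ : K → ℂ) (Subtype.ext rfl)).trans h)
      obtain ⟨ψ, hψ, hχψ⟩ := exists_indIrr_of_constituent hKT hb hStab (θ := θ) rfl hθ
      have hind := isInducedBlock_blockOf hKT hM hb hStab hψ
      set B' := blockOf M (ψ : T → ℂ)
      have hBB : blockOf M (indIrr hKT hb hStab hψ : G → ℂ) = B := by
        rw [← hχψ]
        exact (isPBlock_eq_blockOf hB hχ).symm
      rw [hBB] at hind
      obtain ⟨D, hD⟩ := exists_isDefectGroup hM hind.1
      have hDG := isDefectGroup_induced hKT hM hb hStab hind (mem_blockOf_self ψ) hψ hD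
      obtain ⟨x, hx⟩ := isConj_defectGroup hM hB hDG hP
      obtain ⟨-, hh⟩ := blockDefect_and_height hKT hM hb hStab hind (mem_blockOf_self ψ) hψ
      obtain ⟨χ', -, hχ', hheight⟩ := hh ψ (mem_blockOf_self ψ)
      have hsame : (χ : G → ℂ) = (χ' : G → ℂ) := by rw [hχ', hχψ]; rfl
      rw [hsame, hheight]
      have hlt : Nat.card T ≤ n := by
        have h1 : Nat.card T ≠ Nat.card G := fun h => htop (Subgroup.card_eq_iff_eq_top T |>.mp h)
        have h2 : Nat.card T ≤ Nat.card G :=
          Nat.le_of_dvd Nat.card_pos (Subgroup.card_subgroup_dvd_card T)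
        omega
      refine (ih T hlt (Thompson.isPSolvable_subgroup T hsolv) B' D hind.1 hD ψ
        (mem_blockOf_self ψ)).trans (le_of_eq ?_)
      congr 1
      refine congrArg _ (index_center_eq_of_equiv ?_)
      exact ((D.equivMapOfInjective _ T.subtype_injective).trans
        (((D.map T.subtype).equivMapOfInjective _ (MulAut.conj x).injective).trans
          (MulEquiv.subgroupCongr hx)))

end Cfsg.Agent.BlkChar.Fong
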