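import Cfsg.Agent.Lib.CharClifford.Galois
import Cfsg.Agent.Lib.CharCore.Basic
import Mathlib.Algebra.CharP.Lemmas
import Mathlib.FieldTheory.Finite.Basic

/-!
# Congruences between rational character values at powers of an element
-/

namespace Cfsg.Agent.BlkChar

variable {G : Type*} [Group G] [Finite G]

theorem int_dvd_of_eq_mul {a : ℤ} {q : ℕ} {r : ℂ} (hq : q ≠ 0) (hr : IsIntegral ℤ r)
    (h : (a : ℂ) = (q : ℂ) * r) : (q : ℤ) ∣ a := by
  have hq' : (q : ℂ) ≠ 0 := Nat.cast_ne_zero.mpr hq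
  have h1 : r = (a : ℂ) / q := by rw [h]; field_simp
  obtain ⟨k, hk⟩ := CharClifford.exists_int_of_fixed hr fun σ => by
    rw [h1, map_div₀, map_intCast, map_natCast]
  refine ⟨k, ?_⟩
  rw [hk] at h
  exact_mod_cast h

theorem sum_pow_prime_congr {ι : Type*} (s : Finset ι) (f : ι → ℂ) (hf : ∀ i, IsIntegral ℤ (f i))
    {q : ℕ} (hq : q.Prime) :
    ∃ r : ℂ, IsIntegral ℤ r ∧ (∑ i ∈ s, f i) ^ q - ∑ i ∈ s, f i ^ q = (q : ℂ) * r := by
  classical
  induction s using Finset.induction with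
  | empty => exact ⟨0, isIntegral_zero, by simp [hq.ne_zero]⟩
  | insert a s ha ih =>
    obtain ⟨r, hr, h⟩ := ih
    have hS : IsIntegral ℤ (∑ i ∈ s, f i) := IsIntegral.sum _ fun i _ => hf i
    obtain ⟨t, ht⟩ := exists_add_pow_prime_eq hq (⟨f a, hf a⟩ : integralClosure ℤ ℂ) ⟨_, hS⟩
    have ht' := congrArg Subtype.val ht
    push_cast at ht'
    refine ⟨r + f a * (∑ i ∈ s, f i) * t, hr.add (((hf a).mul hS).mul t.2), ?_⟩
    rw [Finset.sum_insert ha, Finset.sum_insert ha]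
    linear_combination ht' + h

theorem sum_sq_congr {ι : Type*} (s : Finset ι) (f : ι → ℂ) (hf : ∀ i, IsIntegral ℤ (f i)) :
    ∃ e e' r : ℂ, IsIntegral ℤ e ∧ IsIntegral ℤ e' ∧ IsIntegral ℤ r ∧
      (∑ i ∈ s, f i) ^ 2 - ∑ i ∈ s, f i ^ 2 = 2 * e ∧
      (∑ i ∈ s, f i ^ 2) ^ 2 - ∑ i ∈ s, (f i ^ 2) ^ 2 = 2 * e' ∧ e' - e ^ 2 = 2 * r := by
  classical
  induction s using Finset.induction with
  | empty => exact ⟨0, 0, 0, isIntegral_zero, isIntegral_zero, isIntegral_zero, by simp⟩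
  | insert a s ha ih =>
    obtain ⟨e, e', r, he, he', hr, h1, h2, h3⟩ := ih
    have hS : IsIntegral ℤ (∑ i ∈ s, f i) := IsIntegral.sum _ fun i _ => hf i
    have hT : IsIntegral ℤ (∑ i ∈ s, f i ^ 2) := IsIntegral.sum _ fun i _ => (hf i).pow 2
    refine ⟨e + f a * ∑ i ∈ s, f i, e' + f a ^ 2 * ∑ i ∈ s, f i ^ 2,
      r - f a ^ 2 * e - e * f a * ∑ i ∈ s, f i, he.add ((hf a).mul hS),
      he'.add (((hf a).pow 2).mul hT), (hr.sub (((hf a).pow 2).mul he)).sub ((he.mul (hf a)).mul hS),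
      ?_, ?_, ?_⟩
    · rw [Finset.sum_insert ha, Finset.sum_insert ha]; linear_combination h1
    · rw [Finset.sum_insert ha, Finset.sum_insert ha]; linear_combination h2
    · linear_combination h3 - (f a ^ 2) * h1

theorem exists_eigen_values {χ : G → ℂ} (hχ : Cfsg.IsCharacter G χ) (x : G) :
    ∃ (m : ℕ) (f : Fin m → ℂ), (∀ i, IsIntegral ℤ (f i)) ∧
      ∀ k : ℕ, χ (x ^ k) = ∑ i, f i ^ k := by
  obtain ⟨a, ρ, rfl⟩ := hχ
  obtain ⟨b, μ, hμ, -, h⟩ :=
    CharClifford.exists_eigenvalues ρ x (orderOf_pos x).ne' (pow_orderOf_eq_one x)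
  exact ⟨_, μ, fun i => IsIntegral.of_pow (orderOf_pos x) (by rw [hμ i]; exact isIntegral_one), h⟩

/-- Rational integer values at `x` and `x ^ q` are congruent modulo the prime `q`. -/
theorem int_value_pow_prime {χ : G → ℂ} (hχ : Cfsg.IsCharacter G χ) (x : G) {q : ℕ}
    (hq : q.Prime) {a b : ℤ} (ha : χ x = a) (hb : χ (x ^ q) = b) : (q : ℤ) ∣ a - b := by
  obtain ⟨m, f, hf, h⟩ := exists_eigen_values hχ x
  obtain ⟨r, hr, h1⟩ := sum_pow_prime_congr Finset.univ f hf hq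
  have h2 : (∑ i, f i) = a := by rw [← ha, ← pow_one x, h]; simp
  rw [h2, ← h q, hb] at h1
  have h3 : (q : ℤ) ∣ a ^ q - b := int_dvd_of_eq_mul hq.ne_zero hr (by push_cast; exact h1)
  have h4 : (q : ℤ) ∣ a ^ q - a := by
    haveI := Fact.mk hq
    rw [← ZMod.intCast_zmod_eq_zero_iff_dvd]
    push_cast
    rw [ZMod.pow_card, sub_self]
  have := h3.sub h4
  rwa [sub_sub_sub_cancel_left] at this

/-- For rational values of absolute value one at `x`, the values at `x ^ 2` and `x ^ 4` agree. -/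
theorem int_value_pow_two {χ : G → ℂ} (hχ : Cfsg.IsCharacter G χ) (x : G) {a b c : ℤ}
    (ha : χ x = a) (hb : χ (x ^ 2) = b) (hc : χ ((x ^ 2) ^ 2) = c) (ha1 : a = 1 ∨ a = -1)
    (hb1 : b = 1 ∨ b = -1) (hc1 : c = 1 ∨ c = -1) : b = c := by
  obtain ⟨m, f, hf, h⟩ := exists_eigen_values hχ x
  obtain ⟨e, e', r, he, he', hr, h1, h2, h3⟩ := sum_sq_congr Finset.univ f hf
  have e1 : (∑ i, f i) = a := by rw [← ha, ← pow_one x, h]; simp
  have e2 : (∑ i, f i ^ 2) = b := by rw [← hb, h]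
  have e4 : (∑ i, (f i ^ 2) ^ 2) = c := by
    rw [← hc, ← pow_mul, h]; exact Finset.sum_congr rfl fun i _ => (pow_mul _ _ _).symm
  rw [e1, e2] at h1
  rw [e2, e4] at h2
  by_contra hne
  rcases hb1 with rfl | rfl <;> rcases hc1 with rfl | rfl
  · exact hne rfl
  · have hee : e = 0 := by rcases ha1 with rfl | rfl <;> push_cast at h1 <;> linear_combination (-1 / 2 : ℂ) * h1
    have hee' : e' = 1 := by push_cast at h2; linear_combination (-1 / 2 : ℂ) * h2
    rw [hee, hee'] at h3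
    have : (2 : ℤ) ∣ 1 := int_dvd_of_eq_mul (q := 2) two_ne_zero hr (by push_cast; linear_combination h3)
    omega
  · have hee : e = 1 := by rcases ha1 with rfl | rfl <;> push_cast at h1 <;> linear_combination (-1 / 2 : ℂ) * h1
    have hee' : e' = 0 := by push_cast at h2; linear_combination (-1 / 2 : ℂ) * h2
    rw [hee, hee'] at h3
    have : (2 : ℤ) ∣ -1 := int_dvd_of_eq_mul (q := 2) two_ne_zero hr (by push_cast; linear_combination h3)
    omega
  · exact hne rfl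

end Cfsg.Agent.BlkChar
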