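import Cfsg.Agent.BlkChar.Blichfeldt

/-!
# Unitary model of a faithful character and the uniform bound 12 ^ n
-/

namespace Cfsg.Agent.BlkChar

open scoped InnerProductSpace

section Model

variable {G : Type*} [Group G] [Fintype G] {n : ℕ}

/-- The embedding of `ℂ ^ n` into `ℂ ^ (G × n)` given by all translates. -/
noncomputable def modelEmb (ρ : Representation ℂ G (Fin n → ℂ)) :
    (Fin n → ℂ) →ₗ[ℂ] EuclideanSpace ℂ (G × Fin n) where
  toFun v := WithLp.toLp 2 fun p => ρ p.1 v p.2
  map_add' v w := by ext p; simp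
  map_smul' c v := by ext p; simp

/-- Translation by `h` as an isometry of `ℂ ^ (G × n)`. -/
noncomputable def shiftIso (h : G) :
    EuclideanSpace ℂ (G × Fin n) ≃ₗᵢ[ℂ] EuclideanSpace ℂ (G × Fin n) :=
  LinearIsometryEquiv.piLpCongrLeft 2 ℂ ℂ ((Equiv.mulRight h⁻¹).prodCongr (Equiv.refl (Fin n)))

theorem shiftIso_modelEmb (ρ : Representation ℂ G (Fin n → ℂ)) (h : G) (v : Fin n → ℂ) :
    shiftIso h (modelEmb ρ v) = modelEmb ρ (ρ h v) := by
  ext ⟨g, i⟩
  simp [shiftIso, modelEmb, map_mul, Equiv.piCongrLeft'_apply]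

theorem modelEmb_injective (ρ : Representation ℂ G (Fin n → ℂ)) :
    Function.Injective (modelEmb ρ) := by
  intro v w h
  funext i
  have := congrArg (fun f : EuclideanSpace ℂ (G × Fin n) => f ((1 : G), i)) h
  simpa [modelEmb] using this

theorem modelEmb_range_finrank (ρ : Representation ℂ G (Fin n → ℂ)) :
    Module.finrank ℂ (LinearMap.range (modelEmb ρ)) = n := by
  rw [LinearMap.finrank_range_of_inj (modelEmb_injective ρ)]
  simp

theorem shiftIso_mem (ρ : Representation ℂ G (Fin n → ℂ)) (h : G)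
    (r : LinearMap.range (modelEmb ρ)) : shiftIso h r.1 ∈ LinearMap.range (modelEmb ρ) := by
  obtain ⟨v, hv⟩ := r.2
  exact ⟨ρ h v, by rw [← hv, shiftIso_modelEmb]⟩

/-- The isometric action of `G` on the model. -/
noncomputable def modelAct (ρ : Representation ℂ G (Fin n → ℂ)) :
    G →* (LinearMap.range (modelEmb ρ) →L[ℂ] LinearMap.range (modelEmb ρ)) where
  toFun h :=
    { toFun := fun r => ⟨shiftIso h r.1, shiftIso_mem ρ h r⟩
      map_add' := fun a b => by ext1; simp
      map_smul' := fun c a => by ext1; simp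
      cont := ((shiftIso (n := n) h).continuous.comp continuous_subtype_val).subtype_mk (shiftIso_mem ρ h) }
  map_one' := by
    refine ContinuousLinearMap.ext fun r => ?_
    obtain ⟨v, hv⟩ := r.2
    ext1
    show shiftIso 1 r.1 = r.1
    rw [← hv, shiftIso_modelEmb, map_one]; rfl
  map_mul' a b := by
    refine ContinuousLinearMap.ext fun r => ?_
    obtain ⟨v, hv⟩ := r.2
    ext1
    show shiftIso (a * b) r.1 = shiftIso a (shiftIso b r.1)
    rw [← hv, shiftIso_modelEmb, shiftIso_modelEmb, shiftIso_modelEmb, map_mul]; rfl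

theorem modelAct_norm (ρ : Representation ℂ G (Fin n → ℂ)) (g : G)
    (r : LinearMap.range (modelEmb ρ)) : ‖modelAct ρ g r‖ = ‖r‖ :=
  (shiftIso (n := n) g).norm_map r.1

theorem modelAct_injective (ρ : Representation ℂ G (Fin n → ℂ)) (hρ : Function.Injective ρ) :
    Function.Injective (modelAct ρ) := by
  intro a b h
  apply hρ
  refine LinearMap.ext fun v => modelEmb_injective ρ ?_
  have := congrArg (fun T : LinearMap.range (modelEmb ρ) →L[ℂ] LinearMap.range (modelEmb ρ) =>
    (T ⟨modelEmb ρ v, ⟨v, rfl⟩⟩).1) h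
  change shiftIso a (modelEmb ρ v) = shiftIso b (modelEmb ρ v) at this
  rwa [shiftIso_modelEmb, shiftIso_modelEmb] at this

end Model

section EigenBasis

variable {V : Type*} [NormedAddCommGroup V] [InnerProductSpace ℂ V] [FiniteDimensional ℂ V]

theorem exists_eigenbasis {H : Type*} [CommGroup H] [Finite H] (f : H →* (V →L[ℂ] V)) :
    ∃ (b : Module.Basis (Fin (Module.finrank ℂ V)) ℂ V)
      (l : Fin (Module.finrank ℂ V) → (H →* ℂˣ)),
      ∀ i h, f h (b i) = ((l i h : ℂˣ) : ℂ) • b i := by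
  classical
  haveI := Fintype.ofFinite H
  haveI := Fintype.ofFinite (H →* ℂˣ)
  let s : Set V := {v | ∃ l : H →* ℂˣ, ∀ h, f h v = ((l h : ℂˣ) : ℂ) • v}
  have hs : ⊤ ≤ Submodule.span ℂ s := by
    intro v _
    rw [← isoProj_sum f v]
    exact Submodule.sum_mem _ fun l _ =>
      Submodule.subset_span ⟨l, fun h => isoProj_eigen f l v h⟩
  let b₀ := Module.Basis.ofSpan hs
  let e := b₀.indexEquiv (Module.finBasis ℂ V)
  let b := b₀.reindex e
  have hb : ∀ i, b i ∈ s := by
    intro i
    apply Module.Basis.ofSpan_subset hs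
    simp only [b, Module.Basis.reindex_apply]
    exact Set.mem_range_self _
  choose l hl using hb
  exact ⟨b, l, hl⟩

end EigenBasis

section Main

variable {G : Type*} [Group G]

theorem abelian_normal_uniform_bound [Finite G] {V : Type*} [NormedAddCommGroup V]
    [InnerProductSpace ℂ V] [FiniteDimensional ℂ V] (u : G →* (V →L[ℂ] V))
    (hu : ∀ g v, ‖u g v‖ = ‖v‖) (hinj : Function.Injective u) :
    ∃ A : Subgroup G, A.Normal ∧ (∀ x ∈ A, ∀ y ∈ A, x * y = y * x) ∧
      ∀ H : Subgroup G, (∀ x ∈ H, ∀ y ∈ H, x * y = y * x) →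
        (A.subgroupOf H).index ≤ 12 ^ Module.finrank ℂ V := by
  classical
  let S : Set G := {g | Good u g}
  let A := Subgroup.closure S
  have hA : A.Normal := by
    refine ⟨fun a ha z => ?_⟩
    induction ha using Subgroup.closure_induction with
    | mem s hs => exact Subgroup.subset_closure (Good.conj hs z)
    | one => simp
    | mul x y _ _ hx hy =>
      have : z * (x * y) * z⁻¹ = z * x * z⁻¹ * (z * y * z⁻¹) := by group
      rw [this]; exact A.mul_mem hx hy
    | inv x _ hx =>
      have : z * x⁻¹ * z⁻¹ = (z * x * z⁻¹)⁻¹ := by group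
      rw [this]; exact A.inv_mem hx
  have h1 : A ≤ Subgroup.centralizer S :=
    (Subgroup.closure_le _).mpr fun a ha => Subgroup.mem_centralizer_iff.mpr
      fun b hb => good_commute hu hinj hb ha
  have h2 : A ≤ Subgroup.centralizer (A : Set G) := by
    rw [show Subgroup.centralizer (A : Set G) = Subgroup.centralizer S from
      Subgroup.centralizer_closure S]
    exact h1
  refine ⟨A, hA, fun x hx y hy => (Subgroup.mem_centralizer_iff.mp (h2 hy) x hx), fun H hH => ?_⟩
  letI : CommGroup H :=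
    { (inferInstance : Group H) with
      mul_comm := fun a b => Subtype.ext (hH a.1 a.2 b.1 b.2) }
  let f : H →* (V →L[ℂ] V) := u.comp H.subtype
  obtain ⟨b, l, hl⟩ := exists_eigenbasis f
  let cell : H → (Fin (Module.finrank ℂ V) → Fin 12) := fun h i =>
    arcCell ((l i h : ℂˣ) : ℂ)
  have hnorm : ∀ i h, ‖((l i h : ℂˣ) : ℂ)‖ = 1 := fun i h =>
    eig_norm hu (b.ne_zero i) (hl i h)
  have key : ∀ h k : H, cell h = cell k → h⁻¹ * k ∈ A.subgroupOf H := by
    intro h k hk
    rw [Subgroup.mem_subgroupOf]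
    refine Subgroup.subset_closure ?_
    intro μ v hv he
    obtain ⟨i, hi⟩ : ∃ i, b.repr v i ≠ 0 := by
      by_contra hne
      push Not at hne
      exact hv (b.repr.map_eq_zero_iff.mp (Finsupp.ext hne))
    have h3 : f (h⁻¹ * k) v = ∑ j, (b.repr v j * ((l j (h⁻¹ * k) : ℂˣ) : ℂ)) • b j := by
      conv_lhs => rw [← b.sum_repr v]
      simp only [map_sum, map_smul, hl, smul_smul]
    have h4 : b.repr (μ • v) i = b.repr v i * ((l i (h⁻¹ * k) : ℂˣ) : ℂ) := by
      rw [← he]
      show b.repr (f (h⁻¹ * k) v) i = _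
      rw [h3, b.repr_sum_self]
    rw [map_smul, Finsupp.smul_apply, smul_eq_mul, mul_comm μ] at h4
    have h5 : μ = ((l i (h⁻¹ * k) : ℂˣ) : ℂ) := mul_left_cancel₀ hi h4
    rw [h5, map_mul, map_inv, Units.val_mul, Units.val_inv_eq_inv_val]
    exact re_div_of_arcCell_eq (hnorm i h) (hnorm i k) (congrFun hk i)
  calc (A.subgroupOf H).index = Nat.card (H ⧸ A.subgroupOf H) := Subgroup.index_eq_card _
    _ ≤ Nat.card (Fin (Module.finrank ℂ V) → Fin 12) := by
        refine Nat.card_le_card_of_injective (fun q => cell q.out) fun q r hqr => ?_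
        rw [← QuotientGroup.out_eq' q, ← QuotientGroup.out_eq' r]
        exact QuotientGroup.eq.mpr (key _ _ hqr)
    _ = _ := by simp

theorem exists_faithful_model [Fintype G] (χ : G → ℂ) (hχ : Cfsg.IsCharacter G χ)
    (hfaith : ∀ g : G, χ g = χ 1 → g = 1) :
    ∃ (N : ℕ) (ρ : Representation ℂ G (Fin N → ℂ)),
      Function.Injective ρ ∧ ρ.character = χ ∧ Cfsg.charDegree χ = N := by
  obtain ⟨N, ρ, rfl⟩ := hχ
  refine ⟨N, ρ, ?_, rfl, by simp [Cfsg.charDegree, Representation.char_one]⟩
  rw [injective_iff_map_eq_one]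
  intro g hg
  exact hfaith g (by simp [Representation.character, hg])

theorem exists_unitary_model [Fintype G] {N : ℕ} (ρ : Representation ℂ G (Fin N → ℂ))
    (hρ : Function.Injective ρ) :
    ∃ (R : Submodule ℂ (EuclideanSpace ℂ (G × Fin N))) (u : G →* (R →L[ℂ] R)),
      (∀ g v, ‖u g v‖ = ‖v‖) ∧ Function.Injective u ∧ Module.finrank ℂ R = N :=
  ⟨LinearMap.range (modelEmb ρ), modelAct ρ, modelAct_norm ρ, modelAct_injective ρ hρ,
    modelEmb_range_finrank ρ⟩

end Main

end Cfsg.Agent.BlkChar
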