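import Cfsg.Agent.BlkChar.KleinIsometry
import Cfsg.Agent.BC85.Pairs.Lift

/-!
# The Brauer correspondent of a block with a Klein four defect group
-/

set_option autoImplicit false
set_option linter.unusedSectionVars false
set_option linter.style.haveILetI false

namespace Cfsg.Agent.BlkChar.KleinCorrespondent

open BlocksCore BlocksDefect BC85

attribute [local instance] Fintype.ofFinite

universe u

variable {G : Type u} [Group G] [Finite G] {M : Ideal AlgInt}

local notation "C[" Q "]" => Subgroup.centralizer (Q : Set G)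

theorem perfect_correspondent (hM : IsPModular 2 M) {B : Set (IrrCharacter G)}
    (hB : IsPBlock M B) {P : Subgroup G} (hPD : IsDefectGroup 2 M B P) (hV : IsKleinFour P)
    {N : Subgroup G} (hN : N = Subgroup.normalizer (P : Set G)) {c : Set (IrrCharacter N)}
    (hcD : IsDefectGroup 2 M c (P.subgroupOf N))
    (hc : IsInducedBlock M N c B) :
    ∃ I ε, IsPerfectIsometry 2 M c B I ε := by
  classical
  haveI : Fact (Nat.Prime 2) := ⟨Nat.prime_two⟩
  haveI := hV
  have := isPrime hM
  have hPN : P ≤ N := hN ▸ Subgroup.le_normalizer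
  have hCN : C[P] ≤ N := hN ▸ Subgroup.centralizer_le_normalizer _
  have hTN : ∀ f : Set (IrrCharacter C[P]), stabT P f ≤ N := fun f g hg => hN ▸ hg.1
  let eP : (P.subgroupOf N) ≃* P := Subgroup.subgroupOfEquivOfLe hPN
  have hW : IsKleinFour (P.subgroupOf N) :=
    ⟨(Nat.card_congr eP.toEquiv).trans IsKleinFour.card_four,
      (Monoid.exponent_eq_of_mulEquiv eP).trans IsKleinFour.exponent_two⟩
  have hP := isPGroup_of_isDefectGroup hPD
  have hPC : P ≤ C[P] := fun a ha => Subgroup.mem_centralizer_iff.mpr fun b hb =>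
    congrArg Subtype.val (mul_comm_of_exponent_two (IsKleinFour.exponent_two (G := P))
      (⟨b, hb⟩ : P) ⟨a, ha⟩)
  obtain ⟨c₁, hc₁⟩ := exists_pairOf_of_subConj hM hc.1 hcD (isPGroup_of_isDefectGroup hcD)
    (subConj_refl _)
  have hmap : (P.subgroupOf N).map N.subtype = P := Subgroup.map_subgroupOf_eq_of_le hPN
  obtain ⟨⟨P₀, c₀⟩, hc₀, hlift⟩ := exists_exactLift hM (⟨(P.subgroupOf N), c₁⟩ : BrauerPairIdx N)
    (by rw [hmap]; exact hCN) hc₁.1.2
  obtain rfl : P = P₀ := (hlift.2.trans hmap).symm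
  obtain ⟨B', hB', -⟩ := existsUnique_block_of_pair hM (P := P) (e := c₀) ⟨hP, hc₀⟩
  have hsub' : c₁ ⊆ cset M (P.subgroupOf N) (blockCoeff c) := ((isBrauerPairOf_iff hM).mp hc₁).2.2
  have hBB : B' = B := BC84.induced_unique hM
    (isInducedBlock_of_over hM hPN hCN hB' hc.1
      ((hlift.1.subset_cset_iff fun x => subgroupBlockCoeff_coe N c x).mpr hsub')) hc
  subst hBB
  have hbi : IsInducedBlock M C[P] c₀ B' :=
    isInducedBlock_of_over hM hPC le_rfl hB' hc₀ fun θ hθ => by
      show θ ∈ unitSet M (pullFun (C[P]).subtype (bp ⟨P, c₀⟩))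
      rw [pullFun_bp, unitSet_blockCoeff hM]
      exact hθ
  have hP'C : (P.subgroupOf N) ≤ Subgroup.centralizer ((P.subgroupOf N) : Set N) := fun a ha =>
    Subgroup.mem_centralizer_iff.mpr fun b hb => Subtype.ext
      ((Subgroup.mem_centralizer_iff.mp (hPC ha)) (b : G) hb)
  have hdi : IsInducedBlock M (Subgroup.centralizer ((P.subgroupOf N) : Set N)) c₁ c :=
    isInducedBlock_of_over hM hP'C le_rfl hc₁ hc₁.1.2 fun θ hθ => by
      show θ ∈ unitSet M (pullFun (Subgroup.centralizer ((P.subgroupOf N) : Set N)).subtype (bp ⟨(P.subgroupOf N), c₁⟩))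
      rw [pullFun_bp, unitSet_blockCoeff hM]
      exact hθ
  refine KleinIsometry.perfect hM hB (isMaximal_of_defect hM hPD hB') hV hc.1
    (isMaximal_of_defect hM hcD hc₁) hW hbi hdi hPD hcD ?_
  have hS : stabT (P.subgroupOf N) c₁ = (stabT P c₀).subgroupOf N :=
    Subgroup.ext fun x => ((mem_stab_unlift hM hlift x).symm : _)
  have hC' : Subgroup.centralizer ((P.subgroupOf N) : Set N) = (C[P]).subgroupOf N :=
    Subgroup.ext fun x => (mem_centralizer_subgroupOf hPN x).trans Iff.rfl
  rw [hS, hC', Subgroup.relIndex_subgroupOf (hTN c₀)]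

end Cfsg.Agent.BlkChar.KleinCorrespondent
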