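import Cfsg.Agent.BlkChar.KleinSection
import Cfsg.Prelude.Def_BlockLocal

/-!
# Perfect isometries between blocks with Klein four defect groups
-/

set_option autoImplicit false
set_option linter.unusedSectionVars false
set_option linter.style.haveILetI false

namespace Cfsg.Agent.BlkChar.KleinIsometry

open BlocksCore BlocksDefect BC85 KleinSection

attribute [local instance] Fintype.ofFinite

universe u v

section One

variable {G : Type u} [Group G] [Finite G] {M : Ideal AlgInt} {B : Set (IrrCharacter G)}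

/-- If all regular parts agree, a sign vector has total zero. -/
theorem ker_sum_zero (hB : IsPBlock M B) [M.IsPrime]
    (hreg : ∀ χ ∈ B, ∀ ψ ∈ B, pRegularPart 2 (χ : G → ℂ) = pRegularPart 2 (ψ : G → ℂ))
    {v : IrrCharacter G → ℤ} (hv : Ker B v) : ∑ χ ∈ bf B, v χ = 0 := by
  obtain ⟨θ, hθ⟩ := isPBlock_nonempty hB
  have h1 : ¬ 2 ∣ orderOf (1 : G) := by simp
  have h := hv.2 1 h1
  rw [Finset.sum_congr rfl (g := fun χ => (v χ : ℂ) * (θ : G → ℂ) 1) fun χ hχ => by
    have := congrFun (hreg χ (mem_bf.mp hχ) θ hθ) 1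
    rw [pRegularPart_pos h1, pRegularPart_pos h1] at this
    rw [this], ← Finset.sum_mul, mul_eq_zero] at h
  exact_mod_cast h.resolve_right (irr_one_ne_zero θ)

/-- With four characters of rank three the sign vectors are proportional. -/
theorem ker_line (hB : IsPBlock M B) [M.IsPrime] (hk : Nat.card B = 4)
    (hl : blockRank 2 B = 3) {v w : IrrCharacter G → ℤ} (hv : Ker B v) (hw : Ker B w) :
    ∃ s : ℤ, (s = 1 ∨ s = -1) ∧ ∀ χ ∈ B, w χ = s * v χ := by
  classical
  have := finite_irr (G := G)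
  let L : (B → ℂ) →ₗ[ℂ] (G → ℂ) :=
    Fintype.linearCombination ℂ fun χ : B => pRegularPart 2 ((χ : IrrCharacter G) : G → ℂ)
  have hrange : Module.finrank ℂ (LinearMap.range L) = 3 := by
    rw [← hl, blockRank, Fintype.range_linearCombination]
    refine congrArg (fun S => Module.finrank ℂ (Submodule.span ℂ S)) ?_
    ext f
    simp
  have hker : Module.finrank ℂ (LinearMap.ker L) = 1 := by
    have h := LinearMap.finrank_range_add_finrank_ker L
    rw [hrange, Module.finrank_pi, ← Nat.card_eq_fintype_card, hk] at h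
    omega
  have hmem : ∀ z : IrrCharacter G → ℤ, Ker B z →
      (fun χ : B => (z χ : ℂ)) ∈ LinearMap.ker L := by
    intro z hz
    rw [LinearMap.mem_ker]
    funext t
    simp only [L, Fintype.linearCombination_apply, Finset.sum_apply, Pi.smul_apply, smul_eq_mul,
      Pi.zero_apply]
    by_cases ht : 2 ∣ orderOf t
    · exact Finset.sum_eq_zero fun χ _ => by rw [pRegularPart_neg ht, mul_zero]
    · refine Eq.trans ?_ (hz.2 t ht)
      rw [Finset.sum_subtype (bf B) (p := fun χ => χ ∈ B) (fun χ => mem_bf)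
        (fun χ => (z χ : ℂ) * (χ : G → ℂ) t)]
      refine Finset.sum_congr rfl fun χ _ => ?_
      rw [pRegularPart_pos ht]
  obtain ⟨θ, hθ⟩ := isPBlock_nonempty hB
  set a : LinearMap.ker L := ⟨_, hmem v hv⟩ with ha
  have ha0 : a ≠ 0 := fun h => by
    have := congrFun (congrArg Subtype.val h) ⟨θ, hθ⟩
    simp only [ha, ZeroMemClass.coe_zero, Pi.zero_apply, Int.cast_eq_zero] at this
    rcases hv.1 θ hθ with h1 | h1 <;> omega
  obtain ⟨r, hr⟩ := (finrank_eq_one_iff_of_nonzero' a ha0).mp hker ⟨_, hmem w hw⟩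
  have hr' : ∀ χ : B, r * (v χ : ℂ) = (w χ : ℂ) := fun χ =>
    congrFun (congrArg Subtype.val hr) χ
  refine ⟨w θ * v θ, ?_, fun χ hχ => ?_⟩
  · rcases hv.1 θ hθ with h1 | h1 <;> rcases hw.1 θ hθ with h2 | h2 <;> simp [h1, h2]
  · have hθ2 : v θ * v θ = 1 := by rcases hv.1 θ hθ with h1 | h1 <;> simp [h1]
    apply Int.cast_injective (α := ℂ)
    push_cast
    rw [← hr' ⟨χ, hχ⟩, ← hr' ⟨θ, hθ⟩, mul_assoc r _ (v θ : ℂ),
      show ((v θ : ℂ) * (v θ : ℂ)) = 1 by exact_mod_cast hθ2, mul_one]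

end One

section Two

variable {G : Type u} [Group G] [Finite G] {H : Type v} [Group H] [Finite H] {M : Ideal AlgInt}

/-- Conditions on a signed bijection making it a perfect isometry, given the singular values. -/
theorem isPerfect_of_ker (hM : IsPModular 2 M) {B : Set (IrrCharacter G)}
    {C : Set (IrrCharacter H)} {I : IrrCharacter H → IrrCharacter G} {ε : IrrCharacter H → ℤ}
    (hI : Set.BijOn I C B) (hε : ∀ η ∈ C, ε η = 1 ∨ ε η = -1)
    (hG : ∀ x : G, 2 ∣ orderOf x → ∃ (n : ℕ) (v : Fin n → IrrCharacter G → ℤ) (a : Fin n → ℂ),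
      (∀ i, Ker B (v i)) ∧ (∀ i, MemLocalRing M (a i)) ∧
      (∀ i, MemLocalRing M (4 * a i / (Nat.card (Subgroup.centralizer ({x} : Set G)) : ℂ))) ∧
      ∀ χ ∈ B, (χ : G → ℂ) x = ∑ i, (v i χ : ℂ) * a i)
    (hH : ∀ y : H, 2 ∣ orderOf y → ∃ (n : ℕ) (v : Fin n → IrrCharacter H → ℤ) (a : Fin n → ℂ),
      (∀ i, Ker C (v i)) ∧ (∀ i, MemLocalRing M (a i)) ∧
      (∀ i, MemLocalRing M (4 * a i / (Nat.card (Subgroup.centralizer ({y} : Set H)) : ℂ))) ∧
      ∀ η ∈ C, (η : H → ℂ) y = ∑ i, (v i η : ℂ) * a i)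
    (h1 : ∀ v, Ker B v → ∀ t : H, ¬ 2 ∣ orderOf t →
      ∑ η ∈ bf C, (ε η : ℂ) * (v (I η) : ℂ) * (η : H → ℂ) t = 0)
    (h2 : ∀ w, Ker C w → ∀ t : G, ¬ 2 ∣ orderOf t →
      ∑ η ∈ bf C, (ε η : ℂ) * (w η : ℂ) * (I η : G → ℂ) t = 0)
    (h3 : ∀ v w, Ker B v → Ker C w → (4 : ℤ) ∣ ∑ η ∈ bf C, ε η * v (I η) * w η) :
    IsPerfectIsometry 2 M C B I ε := by
  classical
  haveI : Fact (Nat.Prime 2) := ⟨Nat.prime_two⟩
  have := isPrime hM
  refine ⟨hI, hε, ?_⟩
  have hμ : ∀ x y, signedBijectionKernel C I ε x y =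
      ∑ η ∈ bf C, (ε η : ℂ) * (I η : G → ℂ) x * (η : H → ℂ) y := fun x y => finsum_bf C _
  have hIB : ∀ η ∈ bf C, I η ∈ B := fun η hη => hI.mapsTo (mem_bf.mp hη)
  -- mixed pairs
  have hmix1 : ∀ x y, 2 ∣ orderOf x → ¬ 2 ∣ orderOf y → signedBijectionKernel C I ε x y = 0 := by
    intro x y hx hy
    obtain ⟨n, v, a, hv, -, -, hval⟩ := hG x hx
    rw [hμ, Finset.sum_congr rfl (g := fun η => ∑ i, a i * ((ε η : ℂ) * (v i (I η) : ℂ) *
      (η : H → ℂ) y)) fun η hη => by
        rw [hval _ (hIB η hη), Finset.mul_sum, Finset.sum_mul]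
        exact Finset.sum_congr rfl fun i _ => by ring,
      Finset.sum_comm]
    exact Finset.sum_eq_zero fun i _ => by rw [← Finset.mul_sum, h1 _ (hv i) y hy, mul_zero]
  have hmix2 : ∀ x y, ¬ 2 ∣ orderOf x → 2 ∣ orderOf y → signedBijectionKernel C I ε x y = 0 := by
    intro x y hx hy
    obtain ⟨n, w, b, hw, -, -, hval⟩ := hH y hy
    rw [hμ, Finset.sum_congr rfl (g := fun η => ∑ i, b i * ((ε η : ℂ) * (w i η : ℂ) *
      (I η : G → ℂ) x)) fun η hη => by
        rw [hval _ (mem_bf.mp hη), Finset.mul_sum]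
        exact Finset.sum_congr rfl fun i _ => by ring,
      Finset.sum_comm]
    exact Finset.sum_eq_zero fun i _ => by rw [← Finset.mul_sum, h2 _ (hw i) x hx, mul_zero]
  intro x y
  by_cases hx : 2 ∣ orderOf x <;> by_cases hy : 2 ∣ orderOf y
  · refine ⟨?_, ?_, Or.inl (iff_of_false (not_not.mpr hx) (not_not.mpr hy))⟩
    all_goals
      obtain ⟨n, v, a, hv, haR, haC, hvalx⟩ := hG x hx
      obtain ⟨m, w, b, hw, hbR, hbC, hvaly⟩ := hH y hy
      choose k hk using fun (i : Fin n) (j : Fin m) => h3 _ _ (hv i) (hw j)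
      have hsum : signedBijectionKernel C I ε x y = ∑ i, ∑ j, (k i j : ℂ) * 4 * a i * b j := by
        rw [hμ, Finset.sum_congr rfl (g := fun η => ∑ i, ∑ j,
          ((ε η * v i (I η) * w j η : ℤ) : ℂ) * (a i * b j)) fun η hη => by
            rw [hvalx _ (hIB η hη), hvaly _ (mem_bf.mp hη), mul_assoc, Finset.sum_mul_sum, Finset.mul_sum]
            refine Finset.sum_congr rfl fun i _ => ?_
            rw [Finset.mul_sum]
            refine Finset.sum_congr rfl fun j _ => ?_
            push_cast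
            ring,
          Finset.sum_comm]
        refine Finset.sum_congr rfl fun i _ => ?_
        rw [Finset.sum_comm]
        refine Finset.sum_congr rfl fun j _ => ?_
        rw [← Finset.sum_mul, ← Int.cast_sum, hk i j]
        push_cast
        ring
      rw [hsum]
      simp only [Finset.sum_div]
      refine memLocalRing_sum fun i _ => memLocalRing_sum fun j _ => ?_
    · rw [show ∀ z : ℂ, (k i j : ℂ) * 4 * a i * b j / z = (k i j : ℂ) * (4 * a i / z) * b j from
        fun z => by ring]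
      exact (localRing M).mul_mem ((localRing M).mul_mem (memLocalRing_intCast _) (haC i)) (hbR j)
    · rw [show ∀ z : ℂ, (k i j : ℂ) * 4 * a i * b j / z = (k i j : ℂ) * a i * (4 * b j / z) from
        fun z => by ring]
      exact (localRing M).mul_mem ((localRing M).mul_mem (memLocalRing_intCast _) (haR i)) (hbC j)
  · have h := hmix1 x y hx hy
    exact ⟨by rw [h, zero_div]; exact memLocalRing_of_isIntegral isIntegral_zero,
      by rw [h, zero_div]; exact memLocalRing_of_isIntegral isIntegral_zero, Or.inr h⟩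
  · have h := hmix2 x y hx hy
    exact ⟨by rw [h, zero_div]; exact memLocalRing_of_isIntegral isIntegral_zero,
      by rw [h, zero_div]; exact memLocalRing_of_isIntegral isIntegral_zero, Or.inr h⟩
  · refine ⟨?_, ?_, Or.inl (iff_of_true hx hy)⟩
    · rw [hμ, Finset.sum_congr rfl (g := fun η => ((ε η : ℂ) * (η : H → ℂ) y) * (I η : G → ℂ) x)
        fun η _ => by ring]
      refine CentralizerDvd.memLocalRing_div_centralizer hM (bf C) I _ (fun η _ => ?_)
        (fun z hz => ?_) hx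
      · exact (localRing M).mul_mem (memLocalRing_intCast _)
          (memLocalRing_of_isIntegral (isIntegral_irr η y))
      · rw [← hmix1 z y hz hy, hμ]
        exact Finset.sum_congr rfl fun η _ => by ring
    · rw [hμ]
      refine CentralizerDvd.memLocalRing_div_centralizer hM (bf C) id
        (fun η => (ε η : ℂ) * (I η : G → ℂ) x) (fun η _ => ?_) (fun z hz => ?_) hy
      · exact (localRing M).mul_mem (memLocalRing_intCast _)
          (memLocalRing_of_isIntegral (isIntegral_irr (I η) x))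
      · rw [← hmix2 x z hx hz, hμ]
        rfl

/-- Blocks with Klein four defect groups and equal inertial indices are perfectly isometric. -/
theorem perfect (hM : IsPModular 2 M) {B : Set (IrrCharacter G)} {P : Subgroup G}
    {b : Set (IrrCharacter (Subgroup.centralizer (P : Set G)))}
    (hB : IsPBlock M B) (hmax : IsMaximalBrauerPair 2 M B P b) (hV : IsKleinFour P)
    {C : Set (IrrCharacter H)} {Q : Subgroup H}
    {d : Set (IrrCharacter (Subgroup.centralizer (Q : Set H)))}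
    (hC : IsPBlock M C) (hmax' : IsMaximalBrauerPair 2 M C Q d) (hW : IsKleinFour Q)
    (hbi : IsInducedBlock M (Subgroup.centralizer (P : Set G)) b B)
    (hdi : IsInducedBlock M (Subgroup.centralizer (Q : Set H)) d C)
    (hPD : IsDefectGroup 2 M B P) (hQD : IsDefectGroup 2 M C Q)
    (he : (Subgroup.centralizer (P : Set G)).relIndex (stabT P b) =
      (Subgroup.centralizer (Q : Set H)).relIndex (stabT Q d)) :
    ∃ I ε, IsPerfectIsometry 2 M C B I ε := by
  classical
  haveI : Fact (Nat.Prime 2) := ⟨Nat.prime_two⟩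
  have := isPrime hM
  have := finite_irr (G := G)
  have := finite_irr (G := H)
  obtain ⟨hor, hkB, hlB⟩ := KleinDefect.klein_counts hM hPD hV hbi
  obtain ⟨-, hkC, hlC⟩ := KleinDefect.klein_counts hM hQD hW hdi
  rw [← he] at hlC
  let σ : C ≃ B := (Finite.equivFinOfCardEq hkC).trans (Finite.equivFinOfCardEq hkB).symm
  obtain ⟨χ₀, hχ₀⟩ := isPBlock_nonempty hB
  let I : IrrCharacter H → IrrCharacter G := fun η =>
    if h : η ∈ C then (σ ⟨η, h⟩ : IrrCharacter G) else χ₀
  have hIσ : ∀ η (h : η ∈ C), I η = (σ ⟨η, h⟩ : IrrCharacter G) := fun η h => dif_pos h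
  have hI : Set.BijOn I C B := by
    refine ⟨fun η hη => ?_, fun η hη η' hη' h => ?_, fun χ hχ => ?_⟩
    · rw [hIσ η hη]; exact (σ ⟨η, hη⟩).2
    · rw [hIσ η hη, hIσ η' hη'] at h
      exact congrArg Subtype.val (σ.injective (Subtype.ext h))
    · refine ⟨σ.symm ⟨χ, hχ⟩, (σ.symm ⟨χ, hχ⟩).2, ?_⟩
      rw [hIσ _ (σ.symm ⟨χ, hχ⟩).2, Subtype.coe_eta, Equiv.apply_symm_apply]
  have hsum : ∀ {R : Type} [AddCommMonoid R] (g : IrrCharacter G → R),
      ∑ η ∈ bf C, g (I η) = ∑ χ ∈ bf B, g χ := fun g =>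
    Finset.sum_bij (fun η _ => I η) (fun η hη => mem_bf.mpr (hI.mapsTo (mem_bf.mp hη)))
      (fun η hη η' hη' h => hI.injOn (mem_bf.mp hη) (mem_bf.mp hη') h)
      (fun χ hχ => by
        obtain ⟨η, hη, h⟩ := hI.surjOn (mem_bf.mp hχ)
        exact ⟨η, mem_bf.mpr hη, h⟩)
      fun _ _ => rfl
  have hGs := fun x hx => singular_values hM hmax hV hB x hx
  have hHs := fun y hy => singular_values hM hmax' hW hC y hy
  rcases hor with h1 | h3
  · have hab : ∀ a ∈ P, ∀ c ∈ P, a * c = c * a := fun a ha c hc =>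
      congrArg Subtype.val (mul_comm_of_exponent_two (IsKleinFour.exponent_two (self := hV))
        (⟨a, ha⟩ : P) ⟨c, hc⟩)
    have hBreg := (rank_one_of_abelian hM ((nilpotent_iff_of_abelian hM hmax hab).mpr
      fun x hx => Subgroup.relIndex_eq_one.mp h1 hx) hPD hab).2.2
    have hCab : ∀ a ∈ Q, ∀ c ∈ Q, a * c = c * a := fun a ha c hc =>
      congrArg Subtype.val (mul_comm_of_exponent_two (IsKleinFour.exponent_two (self := hW))
        (⟨a, ha⟩ : Q) ⟨c, hc⟩)
    have hCreg := (rank_one_of_abelian hM ((nilpotent_iff_of_abelian hM hmax' hCab).mpr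
      fun x hx => Subgroup.relIndex_eq_one.mp (he ▸ h1) hx) hQD hCab).2.2
    refine ⟨I, fun _ => 1, isPerfect_of_ker hM hI (fun _ _ => Or.inl rfl) hGs hHs ?_ ?_ ?_⟩
    · intro v hv t ht
      obtain ⟨θ, hθ⟩ := isPBlock_nonempty hC
      rw [Finset.sum_congr rfl (g := fun η => (v (I η) : ℂ) * (θ : H → ℂ) t) fun η hη => by
        have := congrFun (hCreg η (mem_bf.mp hη) θ hθ) t
        rw [pRegularPart_pos ht, pRegularPart_pos ht] at this
        rw [this, Int.cast_one, one_mul], ← Finset.sum_mul, hsum (fun χ => (v χ : ℂ)),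
        ← Int.cast_sum, ker_sum_zero hB hBreg hv, Int.cast_zero, zero_mul]
    · intro w hw t ht
      rw [Finset.sum_congr rfl (g := fun η => (w η : ℂ) * (χ₀ : G → ℂ) t) fun η hη => by
        have := congrFun (hBreg _ (hI.mapsTo (mem_bf.mp hη)) χ₀ hχ₀) t
        rw [pRegularPart_pos ht, pRegularPart_pos ht] at this
        rw [this, Int.cast_one, one_mul], ← Finset.sum_mul,
        ← Int.cast_sum, ker_sum_zero hC hCreg hw, Int.cast_zero, zero_mul]
    · intro v w hv hw
      have h4 : (4 : ℤ) ∣ ∑ η ∈ bf C, (v (I η) - 1) * (w η - 1) := Finset.dvd_sum fun η hη => by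
        rcases hv.1 _ (hI.mapsTo (mem_bf.mp hη)) with h | h <;>
          rcases hw.1 η (mem_bf.mp hη) with h' | h' <;> simp [h, h']
      have hv0 := ker_sum_zero hB hBreg hv
      rw [← hsum] at hv0
      have e : ∑ η ∈ bf C, (v (I η) - 1) * (w η - 1) =
          (∑ η ∈ bf C, (1 : ℤ) * v (I η) * w η) + 4 := by
        rw [Finset.sum_congr rfl (g := fun η => ((1 : ℤ) * v (I η) * w η - v (I η) - w η) + 1)
          fun η _ => by ring]
        simp only [Finset.sum_add_distrib, Finset.sum_sub_distrib, hv0,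
          ker_sum_zero hC hCreg hw, Finset.sum_const, card_bf, hkC]
        ring
      rw [e] at h4
      exact (dvd_add_left (dvd_refl 4)).mp h4
  · rw [h3] at hlB hlC
    obtain ⟨v₀, hv₀⟩ := exists_ker hM hmax hV hB
    obtain ⟨w₀, hw₀⟩ := exists_ker hM hmax' hW hC
    set ε : IrrCharacter H → ℤ := fun η => v₀ (I η) * w₀ η with hε
    have hv₁ : ∀ η ∈ bf C, v₀ (I η) * v₀ (I η) = 1 := fun η hη => by
      rcases hv₀.1 _ (hI.mapsTo (mem_bf.mp hη)) with h | h <;> simp [h]
    have hw₁ : ∀ η ∈ bf C, w₀ η * w₀ η = 1 := fun η hη => by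
      rcases hw₀.1 η (mem_bf.mp hη) with h | h <;> simp [h]
    refine ⟨I, ε, isPerfect_of_ker hM hI (fun η hη => ?_) hGs hHs ?_ ?_ ?_⟩
    · rcases hv₀.1 _ (hI.mapsTo hη) with h | h <;> rcases hw₀.1 η hη with h' | h' <;>
        simp [hε, h, h']
    · intro v hv t ht
      obtain ⟨s, -, hs⟩ := ker_line hB hkB hlB hv₀ hv
      rw [Finset.sum_congr rfl (g := fun η => (s : ℂ) * ((w₀ η : ℂ) * (η : H → ℂ) t)) fun η hη => by
        rw [hε, hs _ (hI.mapsTo (mem_bf.mp hη))]
        calc ((v₀ (I η) * w₀ η : ℤ) : ℂ) * ((s * v₀ (I η) : ℤ) : ℂ) * (η : H → ℂ) t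
            = ((v₀ (I η) * v₀ (I η) : ℤ) : ℂ) * ((s : ℂ) * ((w₀ η : ℂ) * (η : H → ℂ) t)) := by
              push_cast; ring
          _ = _ := by rw [hv₁ η hη, Int.cast_one, one_mul],
        ← Finset.mul_sum, hw₀.2 t ht, mul_zero]
    · intro w hw t ht
      obtain ⟨s, -, hs⟩ := ker_line hC hkC hlC hw₀ hw
      rw [Finset.sum_congr rfl (g := fun η => (s : ℂ) * ((v₀ (I η) : ℂ) * (I η : G → ℂ) t))
        fun η hη => by
        rw [hε, hs _ (mem_bf.mp hη)]
        calc ((v₀ (I η) * w₀ η : ℤ) : ℂ) * ((s * w₀ η : ℤ) : ℂ) * (I η : G → ℂ) t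
            = ((w₀ η * w₀ η : ℤ) : ℂ) * ((s : ℂ) * ((v₀ (I η) : ℂ) * (I η : G → ℂ) t)) := by
              push_cast; ring
          _ = _ := by rw [hw₁ η hη, Int.cast_one, one_mul],
        ← Finset.mul_sum, hsum (fun χ => (v₀ χ : ℂ) * (χ : G → ℂ) t), hv₀.2 t ht, mul_zero]
    · intro v w hv hw
      obtain ⟨s, -, hs⟩ := ker_line hB hkB hlB hv₀ hv
      obtain ⟨r, -, hr⟩ := ker_line hC hkC hlC hw₀ hw
      rw [Finset.sum_congr rfl (g := fun _ => s * r) fun η hη => by
        rw [hε, hs _ (hI.mapsTo (mem_bf.mp hη)), hr _ (mem_bf.mp hη)]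
        calc v₀ (I η) * w₀ η * (s * v₀ (I η)) * (r * w₀ η)
            = (v₀ (I η) * v₀ (I η)) * (w₀ η * w₀ η) * (s * r) := by ring
          _ = _ := by rw [hv₁ η hη, hw₁ η hη, one_mul, one_mul],
        Finset.sum_const, card_bf, hkC, nsmul_eq_mul]
      exact dvd_mul_right _ _

end Two

end Cfsg.Agent.BlkChar.KleinIsometry
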