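import Cfsg.Agent.BlkChar.KleinDefect
import Cfsg.Agent.BlkChar.CentralizerDvd
import Cfsg.Agent.Lib.CharCore.BlockCount
import Cfsg.Agent.BC84.BrauerCount
import Cfsg.Agent.S4667
import Cfsg.Agent.BC85.Pairs.AbelianInertia

/-!
# The singular values of a block with a Klein four defect group

On every `2`-singular section the values of the characters of the block are combinations, with
divisible coefficients, of sign vectors orthogonal to the values at `2`-regular elements.
-/

set_option autoImplicit false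
set_option linter.unusedSectionVars false
set_option linter.style.haveILetI false

namespace Cfsg.Agent.BlkChar.KleinSection

open BlocksCore BlocksDefect BC85 SubsectionSum
open scoped ComplexConjugate

attribute [local instance] Fintype.ofFinite

universe u

variable {G : Type u} [Group G] [Finite G] {M : Ideal AlgInt} {B : Set (IrrCharacter G)}
  {P : Subgroup G} {c : Set (IrrCharacter (Subgroup.centralizer (P : Set G)))}

local notation "C[" Q "]" => Subgroup.centralizer (Q : Set G)
local notation "Cu[" u "]" => Subgroup.centralizer ({u} : Set G)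

/-- The members of a set of irreducible characters, as a finite set. -/
noncomputable def bf {H : Type*} [Group H] [Finite H] (b : Set (IrrCharacter H)) :
    Finset (IrrCharacter H) :=
  haveI := finite_irr (G := H)
  (Set.toFinite b).toFinset

theorem mem_bf {H : Type*} [Group H] [Finite H] {b : Set (IrrCharacter H)} {χ : IrrCharacter H} :
    χ ∈ bf b ↔ χ ∈ b :=
  Set.Finite.mem_toFinset _

theorem card_bf {H : Type*} [Group H] [Finite H] (b : Set (IrrCharacter H)) :
    (bf b).card = Nat.card b :=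
  haveI := finite_irr (G := H)
  (Nat.card_eq_card_finite_toFinset _).symm

theorem finsum_bf {H : Type*} [Group H] [Finite H] {R : Type*} [AddCommMonoid R]
    (b : Set (IrrCharacter H)) (f : IrrCharacter H → R) : ∑ᶠ χ ∈ b, f χ = ∑ χ ∈ bf b, f χ :=
  haveI := finite_irr (G := H)
  finsum_mem_eq_finite_toFinset_sum f _

/-- Vectors of signs on the block, orthogonal to the values at regular elements. -/
def Ker {H : Type*} [Group H] [Finite H] (b : Set (IrrCharacter H)) (v : IrrCharacter H → ℤ) :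
    Prop :=
  (∀ χ ∈ b, v χ = 1 ∨ v χ = -1) ∧
    ∀ t : H, ¬ 2 ∣ orderOf t → ∑ χ ∈ bf b, (v χ : ℂ) * (χ : H → ℂ) t = 0

/-- The local blocks at nontrivial `2`-elements. -/
theorem block_data (hM : IsPModular 2 M) (hmax : IsMaximalBrauerPair 2 M B P c)
    (hV : IsKleinFour P) {u : G} (hu : ∃ k : ℕ, orderOf u = 2 ^ k) (hu1 : u ≠ 1)
    (H : Subgroup G) (hH : H = Subgroup.centralizer ({u} : Set G)) (f : Set (IrrCharacter H))
    (hf : IsInducedBlock M H f B) :
    orderOf u = 2 ∧ Nat.card f = 4 ∧ blockRank 2 f = 1 ∧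
      ∀ χ ∈ f, ∀ ψ ∈ f, pRegularPart 2 (χ : H → ℂ) = pRegularPart 2 (ψ : H → ℂ) := by
  classical
  haveI := hV
  haveI : Fact (Nat.Prime 2) := ⟨Nat.prime_two⟩
  have := isPrime hM
  obtain ⟨k, hk⟩ := hu
  rw [← BlocksCore.centralizer_zpowers] at hH
  subst hH
  have hab : ∀ a ∈ P, ∀ b ∈ P, a * b = b * a := fun a ha b hb =>
    congrArg Subtype.val (mul_comm_of_exponent_two IsKleinFour.exponent_two (⟨a, ha⟩ : P) ⟨b, hb⟩)
  have huC : (Subgroup.zpowers u : Subgroup G) ≤ C[(Subgroup.zpowers u : Subgroup G)] := by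
    rw [BlocksCore.centralizer_zpowers]
    exact Subgroup.zpowers_le.mpr (Subgroup.mem_centralizer_singleton_iff.mpr rfl)
  have hof := pairOf_of_induced hM (P := Subgroup.zpowers u) (isPGroup_zpowers hk) huC hf
  obtain ⟨g, hg⟩ := exists_conj_below hM hmax hof
  set Q := (Subgroup.zpowers u).map (MulAut.conj g).toMonoidHom with hQ
  have hQP : Q ≤ P := subpairLE_le hg
  have hQ1 : Q ≠ ⊥ := by
    rw [hQ, Ne, (Subgroup.zpowers u).map_eq_bot_iff_of_injective (MulAut.conj g).injective]
    exact Subgroup.zpowers_ne_bot.mpr hu1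
  have hord : orderOf u = 2 := by
    have hmem : g * u * g⁻¹ ∈ P := hQP ⟨u, Subgroup.mem_zpowers u, rfl⟩
    refine (orderOf_conjugate u g).symm.trans ?_
    refine orderOf_eq_prime ?_ fun h => hu1 (conj_eq_one_iff.mp h)
    rw [pow_two]
    exact congrArg Subtype.val (IsKleinFour.mul_self (⟨_, hmem⟩ : P))
  have hPC : P ≤ C[Q] := fun v hv =>
    Subgroup.mem_centralizer_iff.mpr fun q hq => hab q (hQP hq) v hv
  have hfree := KleinDefect.free hM hmax hV
  have hnil := (free_iff_local_nilpotent hM hmax hab).mp hfree Q hQP hQ1 _ hg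
  have hfc := (fullyCentralized_iff hM (isBlockFusionSystemOn_blockFusion hM hmax) hg).mp
    ⟨hQP, fun R _ => by
      rw [FusionSystem.centralizerIn, FusionSystem.centralizerIn, inf_eq_left.mpr hPC]
      exact Subgroup.card_le_of_le inf_le_left⟩
  rw [inf_eq_left.mpr hPC] at hfc
  obtain ⟨hl, hcard, hreg⟩ := rank_one_of_abelian hM hnil hfc fun x hx y hy =>
    Subtype.ext (hab (x : G) hx (y : G) hy)
  rw [← defectGroup_natCard hM hnil.1 hfc, card_subgroupOf hPC, IsKleinFour.card_four (G := P)] at hcard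
  set σ := conjIso C[(Subgroup.zpowers u : Subgroup G)] C[Q] g
    (mem_centralizer_map_conj (Subgroup.zpowers u) g) with hσ
  refine ⟨hord, ?_, ?_, ?_⟩
  · rw [← hcard, conjBlock_eq]
    exact (Nat.card_image_of_injective (pullIrr_injective _) f).symm
  · rw [← hl]
    exact (AbelianSubsection.blockRank_conjPair g ⟨Subgroup.zpowers u, f⟩).symm
  · intro χ hχ ψ hψ
    rw [conjBlock_eq] at hreg
    have h := hreg _ (Set.mem_image_of_mem _ hχ) _ (Set.mem_image_of_mem _ hψ)
    funext x
    have hx := congrFun h (σ.symm x)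
    by_cases hreg' : 2 ∣ orderOf x
    · rw [pRegularPart_neg hreg', pRegularPart_neg hreg']
    · have hreg'' : ¬ 2 ∣ orderOf (σ.symm x) := by rwa [MulEquiv.orderOf_eq]
      rw [pRegularPart_pos hreg'', pRegularPart_pos hreg'', pullIrr_apply, pullIrr_apply] at hx
      rw [pRegularPart_pos hreg', pRegularPart_pos hreg']
      convert hx using 2 <;> exact (σ.apply_symm_apply x).symm

/-- The coefficient vector of a local block. -/
theorem section_coeff (hM : IsPModular 2 M) (hmax : IsMaximalBrauerPair 2 M B P c)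
    (hV : IsKleinFour P) (hB : IsPBlock M B) {u : G} (hu : orderOf u = 2)
    {f : Set (IrrCharacter (Subgroup.centralizer ({u} : Set G)))}
    (hf : IsInducedBlock M (Subgroup.centralizer ({u} : Set G)) f B) :
    ∃ v : IrrCharacter G → ℤ, Ker B v ∧ ∀ χ ∈ B,
      ∀ s : Subgroup.centralizer ({u} : Set G), ¬ 2 ∣ orderOf s →
        blockPart f (fun c => (χ : G → ℂ) (u * (c : G))) s =
          (v χ : ℂ) * ((∑ η ∈ bf f, (η : Subgroup.centralizer ({u} : Set G) → ℂ) s) / 4) := by
  classical
  haveI : Fact (Nat.Prime 2) := ⟨Nat.prime_two⟩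
  have := isPrime hM
  have := finite_irr (G := Cu[u])
  have hu1 : u ≠ 1 := fun h => by simp [h] at hu
  obtain ⟨-, hcard, hrank, hreg⟩ :=
    block_data hM hmax hV ⟨1, by rw [hu]; rfl⟩ hu1 Cu[u] rfl f hf
  have hcard' : (bf f).card = 4 := (card_bf f).trans hcard
  obtain ⟨η₀, hη₀⟩ := isPBlock_nonempty hf.1
  have hval : ∀ η ∈ f, ∀ s : Cu[u], ¬ 2 ∣ orderOf s → (η : Cu[u] → ℂ) s = (η₀ : Cu[u] → ℂ) s := by
    intro η hη s hs
    have := congrFun (hreg η hη η₀ hη₀) s
    rwa [pRegularPart_pos hs, pRegularPart_pos hs] at this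
  have hF : ∀ s : Cu[u], ¬ 2 ∣ orderOf s → ∑ η ∈ bf f, (η : Cu[u] → ℂ) s = 4 * (η₀ : Cu[u] → ℂ) s := by
    intro s hs
    rw [Finset.sum_congr rfl fun η hη => hval η (mem_bf.mp hη) s hs, Finset.sum_const, hcard',
      nsmul_eq_mul]
    norm_num
  -- the coefficients are integers
  have huC : u ∈ Cu[u] := Subgroup.mem_centralizer_singleton_iff.mpr rfl
  have hz : (⟨u, huC⟩ : Cu[u]) ∈ Subgroup.center Cu[u] := Subgroup.mem_center_iff.mpr fun k =>
    Subtype.ext (Subgroup.mem_centralizer_singleton_iff.mp k.2)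
  have hgen : ∀ χ : IrrCharacter G,
      IsGeneralizedCharacter Cu[u] (fun c => (χ : G → ℂ) (u * (c : G))) := by
    intro χ
    obtain ⟨m, hm⟩ := CharCore.IsGeneralizedCharacter.exists_sum
      (CharCore.isGeneralized_restrict (CharCore.irr_isGeneralized χ) Cu[u])
    have hsgn : ∀ θ : IrrCharacter Cu[u], ∃ e : ℤ, cval θ ⟨u, huC⟩ = e := by
      intro θ
      have h2 : cval θ ⟨u, huC⟩ ^ 2 = 1 := by
        rw [← cval_pow θ hz, show (⟨u, huC⟩ : Cu[u]) ^ 2 = 1 from Subtype.ext (by
          rw [SubgroupClass.coe_pow]; exact hu ▸ pow_orderOf_eq_one u), cval_one]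
      rcases sq_eq_one_iff.mp h2 with h | h
      · exact ⟨1, by rw [h]; simp⟩
      · exact ⟨-1, by rw [h]; simp⟩
    choose e he using hsgn
    have h : (fun c : Cu[u] => (χ : G → ℂ) (u * (c : G))) =
        ∑ θ, ((m θ * e θ : ℤ) : ℂ) • (θ : Cu[u] → ℂ) := by
      funext c
      have h1 := congrFun hm (⟨u, huC⟩ * c)
      simp only [Finset.sum_apply, Pi.smul_apply, smul_eq_mul] at h1 ⊢
      refine h1.trans (Finset.sum_congr rfl fun θ _ => ?_)
      rw [← Subgroup.mem_center_iff.mp hz c, apply_mul_of_center θ hz, he, Int.cast_mul]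
      ring
    rw [h]
    exact CharCore.isGeneralized_sum_irr _
  choose a ha using fun (χ : IrrCharacter G) (η : IrrCharacter Cu[u]) =>
    CharCore.IsGeneralizedCharacter.exists_classInner_irr_eq_intCast (hgen χ) η
  set v : IrrCharacter G → ℤ := fun χ => ∑ η ∈ bf f, a χ η with hv
  have hpart : ∀ (χ : IrrCharacter G) (s : Cu[u]), ¬ 2 ∣ orderOf s →
      blockPart f (fun c => (χ : G → ℂ) (u * (c : G))) s = (v χ : ℂ) * (η₀ : Cu[u] → ℂ) s := by
    intro χ s hs
    rw [blockPart, finsum_bf, hv, Int.cast_sum, Finset.sum_mul]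
    refine Finset.sum_congr rfl fun η hη => ?_
    rw [hval η (mem_bf.mp hη) s hs]
    congr 1
    convert ha χ η
  -- the norm
  have hsq : ∑ χ ∈ bf B, (v χ) ^ 2 = 4 := by
    set X : ℂ := ∑ s ∈ Finset.univ.filter (fun s : Cu[u] => ¬ 2 ∣ orderOf s),
      (η₀ : Cu[u] → ℂ) s * (η₀ : Cu[u] → ℂ) s⁻¹ with hX
    have h1 : (∑ χ ∈ bf B, (v χ : ℂ) ^ 2) * X = (Nat.card Cu[u] : ℂ) := by
      have h := CharCore.BlockSections.sum_brauer_element hM B ⟨1, by rw [hu]; rfl⟩ Cu[u] rfl f hf
      rw [hrank, Nat.cast_one, mul_one, finsum_bf] at h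
      rw [← h, Finset.sum_mul]
      refine Finset.sum_congr rfl fun χ _ => ?_
      rw [finsum_eq_sum_of_fintype, hX, Finset.mul_sum, Finset.sum_filter]
      refine Finset.sum_congr rfl fun s _ => ?_
      by_cases hs : 2 ∣ orderOf s
      · rw [pRegularPart_neg hs, if_neg (not_not.mpr hs), zero_mul]
      · have hu' : u⁻¹ = u := inv_eq_of_mul_eq_one_right (by
          rw [← pow_two]; exact hu ▸ pow_orderOf_eq_one u)
        have hs' : ¬ 2 ∣ orderOf s⁻¹ := by rwa [orderOf_inv]
        rw [pRegularPart_pos hs, if_pos hs, hu', hpart χ s hs, hpart χ s⁻¹ hs']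
        ring
    have h2 : (4 : ℂ) * X = (Nat.card Cu[u] : ℂ) := by
      have h := S4667.result 2 M hM f hf.1
      rw [hrank, Nat.cast_one, mul_one] at h
      rw [h, hX, Finset.mul_sum, Finset.sum_filter]
      refine Finset.sum_congr rfl fun s _ => ?_
      rw [finsum_bf]
      by_cases hs : 2 ∣ orderOf s
      · rw [if_neg (not_not.mpr hs)]
        exact (Finset.sum_eq_zero fun η _ => by rw [pRegularPart_neg hs, zero_mul]).symm
      · have hs' : ¬ 2 ∣ orderOf s⁻¹ := by rwa [orderOf_inv]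
        rw [if_pos hs, Finset.sum_congr rfl (g := fun _ => (η₀ : Cu[u] → ℂ) s * (η₀ : Cu[u] → ℂ) s⁻¹)
          fun η hη => by
            rw [pRegularPart_pos hs, hval η (mem_bf.mp hη) s hs, hval η (mem_bf.mp hη) s⁻¹ hs'],
          Finset.sum_const, hcard', nsmul_eq_mul]
        norm_num
    have hX0 : X ≠ 0 := fun h0 => by
      rw [h0, mul_zero] at h2
      exact (Nat.cast_ne_zero.mpr (Nat.card_pos (α := Cu[u])).ne') h2.symm
    have h3 := mul_right_cancel₀ hX0 (h1.trans h2.symm)
    exact_mod_cast h3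
  -- orthogonality
  have horth : ∀ t : G, ¬ 2 ∣ orderOf t → ∑ χ ∈ bf B, (v χ : ℂ) * (χ : G → ℂ) t = 0 := by
    intro t ht
    set h : Cu[u] → ℂ := fun k => ∑ χ ∈ bf B, conj ((χ : G → ℂ) t) * (χ : G → ℂ) (u * (k : G))
      with hh
    have h0 : ∀ k : Cu[u], ¬ 2 ∣ orderOf k → h k = (fun _ => (0 : ℂ)) k := by
      intro k hk
      have hsing : 2 ∣ orderOf (u * (k : G)) := by
        have hcom : Commute u (k : G) := (Subgroup.mem_centralizer_singleton_iff.mp k.2).symm
        rw [hcom.orderOf_mul_eq_mul_orderOf_of_coprime, hu]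
        · exact dvd_mul_right 2 _
        · rw [hu, Subgroup.orderOf_coe]
          exact (Nat.Prime.coprime_iff_not_dvd Nat.prime_two).mpr hk
      have hw := weakOrth hM hB ht hsing
      rw [finsum_bf] at hw
      have := congrArg conj hw
      rw [map_sum, map_zero] at this
      rw [hh]
      refine Eq.trans (Finset.sum_congr rfl fun χ _ => ?_) this
      rw [map_mul, Complex.conj_conj]
    have hs1 : ¬ 2 ∣ orderOf (1 : Cu[u]) := by simp
    have e := CharCore.BlockSections.blockPart_congr_regular hM hf.1 h0 hs1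
    have e1 : blockPart f (fun _ : Cu[u] => (0 : ℂ)) 1 = 0 := by
      rw [blockPart, finsum_bf]
      exact Finset.sum_eq_zero fun η _ => by simp [classInner]
    have e2 : blockPart f h 1 =
        (∑ χ ∈ bf B, conj ((χ : G → ℂ) t) * (v χ : ℂ)) * (η₀ : Cu[u] → ℂ) 1 := by
      have hlin : blockPart f h 1 = ∑ χ ∈ bf B, conj ((χ : G → ℂ) t) *
          blockPart f (fun c => (χ : G → ℂ) (u * (c : G))) 1 := by
        simp only [blockPart, finsum_bf, Finset.mul_sum, classInner, hh, Finset.sum_mul]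
        rw [Finset.sum_comm (s := bf B)]
        refine Finset.sum_congr rfl fun η _ => ?_
        rw [Finset.sum_comm (s := bf B)]
        refine Finset.sum_congr rfl fun k _ => ?_
        exact Finset.sum_congr rfl fun χ _ => by ring
      rw [hlin, Finset.sum_mul]
      exact Finset.sum_congr rfl fun χ _ => by rw [hpart χ 1 hs1, mul_assoc]
    rw [e1, e2, mul_eq_zero] at e
    have e3 := congrArg conj (e.resolve_right (irr_one_ne_zero η₀))
    rw [map_sum, map_zero] at e3
    refine Eq.trans (Finset.sum_congr rfl fun χ _ => ?_) e3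
    rw [map_mul, Complex.conj_conj, map_intCast, mul_comm]
  refine ⟨v, ⟨fun χ hχ => ?_, horth⟩, fun χ _ s hs => ?_⟩
  · -- all entries are signs
    have hmem : χ ∈ bf B := mem_bf.mpr hχ
    have hle : ∀ ψ ∈ bf B, (v ψ) ^ 2 ≤ 4 := fun ψ hψ =>
      hsq ▸ Finset.single_le_sum (fun ψ _ => sq_nonneg (v ψ)) hψ
    have h1 := horth 1 (by simp)
    have hne : ∀ ψ ∈ bf B, (v ψ) ^ 2 ≠ 4 := by
      intro ψ hψ h4
      have hz' : ∀ θ ∈ (bf B).erase ψ, v θ = 0 := by
        have h := hsq
        rw [← Finset.add_sum_erase _ _ hψ, h4] at h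
        intro θ hθ
        have := (Finset.sum_eq_zero_iff_of_nonneg fun θ _ => sq_nonneg (v θ)).mp
          (by linarith : ∑ θ ∈ (bf B).erase ψ, (v θ) ^ 2 = 0) θ hθ
        exact pow_eq_zero_iff two_ne_zero |>.mp this
      rw [← Finset.add_sum_erase _ _ hψ, Finset.sum_eq_zero (s := (bf B).erase ψ) (fun θ hθ => by
        rw [hz' θ hθ, Int.cast_zero, zero_mul]), add_zero, mul_eq_zero] at h1
      have := h1.resolve_right (irr_one_ne_zero ψ)
      rw [Int.cast_eq_zero] at this
      rw [this] at h4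
      norm_num at h4
    have hle1 : ∀ ψ ∈ bf B, (v ψ) ^ 2 ≤ 1 := by
      intro ψ hψ
      have h2 := hle ψ hψ
      have h4 := hne ψ hψ
      have : -2 ≤ v ψ ∧ v ψ ≤ 2 := by constructor <;> nlinarith
      obtain ⟨l, r⟩ := this
      interval_cases hq : v ψ <;> simp_all
    obtain ⟨c₀, hc₀⟩ := exists_pairOf_of_subConj hM hB (isDefectGroup_of_maximal hM hmax)
      hmax.1.1.1 (subConj_refl _)
    have hPC : P ≤ C[P] := fun a ha => Subgroup.mem_centralizer_iff.mpr fun b hb =>
      congrArg Subtype.val (mul_comm_of_exponent_two (IsKleinFour.exponent_two (G := P) (self := hV))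
        (⟨b, hb⟩ : P) ⟨a, ha⟩)
    have hind : IsInducedBlock M C[P] c₀ B := isInducedBlock_of_over hM hPC le_rfl hc₀ hc₀.1.2
      fun θ hθ => by
        show θ ∈ unitSet M (pullFun (C[P]).subtype (bp ⟨P, c₀⟩))
        rw [pullFun_bp, unitSet_blockCoeff hM]
        exact hθ
    have hk := (KleinDefect.klein_counts hM (isDefectGroup_of_maximal hM hmax) hV hind).2.1
    rw [← card_bf] at hk
    have hall := (Finset.sum_eq_sum_iff_of_le hle1).mp (by
      rw [hsq, Finset.sum_const, hk]; norm_num) χ hmem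
    exact sq_eq_one_iff.mp hall
  · rw [hpart χ s hs, hF s hs]
    ring

/-- The values at a singular element. -/
theorem singular_values (hM : IsPModular 2 M) (hmax : IsMaximalBrauerPair 2 M B P c)
    (hV : IsKleinFour P) (hB : IsPBlock M B) (x : G) (hx : 2 ∣ orderOf x) :
    ∃ (n : ℕ) (v : Fin n → IrrCharacter G → ℤ) (a : Fin n → ℂ), (∀ i, Ker B (v i)) ∧
      (∀ i, MemLocalRing M (a i)) ∧
      (∀ i, MemLocalRing M (4 * a i / (Nat.card (Subgroup.centralizer ({x} : Set G)) : ℂ))) ∧
      ∀ χ ∈ B, (χ : G → ℂ) x = ∑ i, (v i χ : ℂ) * a i := by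
  classical
  haveI : Fact (Nat.Prime 2) := ⟨Nat.prime_two⟩
  have := isPrime hM
  set u := pp 2 x with hu
  obtain ⟨hcom, hsreg⟩ := regular_inv_pp_mul (p := 2) x
  set K := Subgroup.centralizer ({u} : Set G) with hK
  have := finite_irr (G := K)
  set s : K := ⟨u⁻¹ * x, Subgroup.mem_centralizer_singleton_iff.mpr hcom.eq.symm⟩ with hs
  have hxs : x = u * (s : G) := (mul_inv_cancel_left u x).symm
  have hsreg' : ¬ 2 ∣ orderOf s := by rwa [← Subgroup.orderOf_coe]
  obtain ⟨k, hk⟩ : ∃ k : ℕ, orderOf u = 2 ^ k := by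
    obtain ⟨y, -, -, h, -⟩ := pp_spec (p := 2) x
    exact h
  have hu1 : u ≠ 1 := fun h => hsreg' (by
    rw [← Subgroup.orderOf_coe, ← show x = (s : G) by rw [hxs, h, one_mul]]
    exact hx)
  have : Finite (Set (IrrCharacter K)) := finite_sets K
  set F : Finset (Set (IrrCharacter K)) :=
    (Set.toFinite {f | IsInducedBlock M K f B}).toFinset with hF
  have hFiff : ∀ f, f ∈ F ↔ IsInducedBlock M K f B := fun f => by
    simp only [hF, Set.Finite.mem_toFinset, Set.mem_ofPred_eq]
  have hFmem : ∀ f : F, IsInducedBlock M K f.1 B := fun f => (hFiff _).mp f.2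
  have hord : ∀ f : F, orderOf u = 2 := fun f =>
    (block_data hM hmax hV ⟨k, hk⟩ hu1 K rfl f.1 (hFmem f)).1
  choose v hv hval using fun f : F => section_coeff hM hmax hV hB (hord f) (hFmem f)
  let a : F → ℂ := fun f => (∑ η ∈ bf f.1, (η : K → ℂ) s) / 4
  have hCx : Nat.card (Subgroup.centralizer ({x} : Set G)) =
      Nat.card (Subgroup.centralizer ({s} : Set K)) := by
    refine Nat.card_congr
      { toFun := fun g => ⟨⟨g.1, ?_⟩, ?_⟩
        invFun := fun g => ⟨(g.1 : G), ?_⟩
        left_inv := fun _ => rfl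
        right_inv := fun _ => rfl }
    · have hg : (g : G) * x * (g : G)⁻¹ = x :=
        mul_inv_eq_iff_eq_mul.mpr (Subgroup.mem_centralizer_singleton_iff.mp g.2)
      refine Subgroup.mem_centralizer_singleton_iff.mpr (mul_inv_eq_iff_eq_mul.mp ?_)
      rw [hu, ← pp_conj, hg]
    · have hg := Subgroup.mem_centralizer_singleton_iff.mp g.2
      have hgu : (g : G) * u = u * (g : G) := by
        refine mul_inv_eq_iff_eq_mul.mp ?_
        rw [hu, ← pp_conj, mul_inv_eq_iff_eq_mul.mpr hg]
      refine Subgroup.mem_centralizer_singleton_iff.mpr (Subtype.ext ?_)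
      show (g : G) * (u⁻¹ * x) = u⁻¹ * x * g
      rw [← mul_assoc, (show Commute (g : G) u from hgu).inv_right.eq, mul_assoc, hg, mul_assoc]
    · refine Subgroup.mem_centralizer_singleton_iff.mpr ?_
      have h1 : (g.1 : G) * u = u * (g.1 : G) :=
        Subgroup.mem_centralizer_singleton_iff.mp g.1.2
      have h2 : (g.1 : G) * (s : G) = (s : G) * (g.1 : G) :=
        congrArg Subtype.val (Subgroup.mem_centralizer_singleton_iff.mp g.2)
      rw [hxs]
      exact ((show Commute (g.1 : G) u from h1).mul_right h2).eq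
  have hdvd : ∀ f : F, MemLocalRing M (4 * a f /
      (Nat.card (Subgroup.centralizer ({x} : Set G)) : ℂ)) := by
    intro f
    show MemLocalRing M (4 * ((∑ η ∈ bf f.1, (η : K → ℂ) s) / 4) / _)
    rw [mul_div_cancel₀ _ (by norm_num : (4 : ℂ) ≠ 0), hCx]
    have hsum : ∑ η ∈ bf f.1, (η : K → ℂ) s = ∑ η ∈ bf f.1, (1 : ℂ) * (η : K → ℂ) s := by
      simp
    rw [hsum]
    refine CentralizerDvd.memLocalRing_div_centralizer hM (bf f.1) id (fun _ => 1)
      (fun _ _ => memLocalRing_of_isIntegral isIntegral_one) (fun y hy => ?_) hsreg'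
    -- the sum of the characters of a local block vanishes at singular elements
    obtain ⟨-, -, -, hreg⟩ := block_data hM hmax hV ⟨k, hk⟩ hu1 K rfl f.1 (hFmem f)
    obtain ⟨η₀, hη₀⟩ := isPBlock_nonempty (hFmem f).1
    have h1 : ¬ 2 ∣ orderOf (1 : K) := by simp
    have hw := weakOrth hM (hFmem f).1 h1 hy
    rw [finsum_bf, Finset.sum_congr rfl
      (g := fun η : IrrCharacter K => (η₀ : K → ℂ) 1 * conj ((η : K → ℂ) y)) (fun η hη => by
        have := congrFun (hreg η (mem_bf.mp hη) η₀ hη₀) 1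
        rw [pRegularPart_pos h1, pRegularPart_pos h1] at this
        rw [this]), ← Finset.mul_sum, mul_eq_zero] at hw
    have := congrArg conj (hw.resolve_left (irr_one_ne_zero η₀))
    rw [map_sum, map_zero] at this
    simpa using this
  have haint : ∀ f : F, MemLocalRing M (a f) := by
    intro f
    obtain ⟨-, hcard, -, hreg⟩ := block_data hM hmax hV ⟨k, hk⟩ hu1 K rfl f.1 (hFmem f)
    obtain ⟨η₀, hη₀⟩ := isPBlock_nonempty (hFmem f).1
    have : a f = (η₀ : K → ℂ) s := by
      show (∑ η ∈ bf f.1, (η : K → ℂ) s) / 4 = _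
      rw [Finset.sum_congr rfl (g := fun _ => (η₀ : K → ℂ) s) fun η hη => by
        have := congrFun (hreg η (mem_bf.mp hη) η₀ hη₀) s
        rwa [pRegularPart_pos hsreg', pRegularPart_pos hsreg'] at this,
        Finset.sum_const, card_bf, hcard, nsmul_eq_mul]
      push_cast
      ring
    rw [this]
    exact memLocalRing_of_isIntegral (isIntegral_irr η₀ s)
  have hexp : ∀ χ ∈ B, (χ : G → ℂ) x = ∑ f : F, (v f χ : ℂ) * a f := by
    intro χ hχ
    have h := CharCore.BlockSections.blockPart_inducing (x := u) hM ⟨k, hk⟩ hB χ (s := s) hsreg'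
    rw [if_pos hχ, ← hxs] at h
    rw [← h, Finset.sum_congr rfl fun f _ => (hval f χ hχ s hsreg').symm]
    simp only [blockPart, finsum_bf]
    suffices split : ∀ w : IrrCharacter K → ℂ,
        ∑ η ∈ bf (CharCore.BlockSections.inducing M u B), w η = ∑ f : F, ∑ η ∈ bf f.1, w η from
      split _
    intro w
    rw [← Finset.sum_subtype F (fun _ => Iff.rfl) (fun f => ∑ η ∈ bf f, w η), ← Finset.sum_biUnion]
    · refine Finset.sum_congr (Finset.ext fun η => ?_) fun η _ => rfl
      rw [Finset.mem_biUnion, mem_bf]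
      show IsInducedBlock M _ _ B ↔ _
      constructor
      · intro hi
        exact ⟨_, (hFiff _).mpr hi, mem_bf.mpr (mem_blockOf_self η)⟩
      · rintro ⟨f, hf, hη⟩
        have hf' : IsInducedBlock M K f B := (hFiff _).mp hf
        rwa [← isPBlock_eq_blockOf hf'.1 (mem_bf.mp hη)]
    · intro f hf g hg hne
      refine Finset.disjoint_left.mpr fun η h1 h2 => hne ?_
      exact isPBlock_eq_of_mem ((hFiff _).mp hf).1 ((hFiff _).mp hg).1 (mem_bf.mp h1) (mem_bf.mp h2)
  let e := Fintype.equivFin F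
  refine ⟨Fintype.card F, fun i => v (e.symm i), fun i => a (e.symm i), fun i => hv _,
    fun i => haint _, fun i => hdvd _, fun χ hχ => ?_⟩
  rw [hexp χ hχ]
  exact (e.symm.sum_comp fun f => (v f χ : ℂ) * a f).symm

/-- Some sign vector exists. -/
theorem exists_ker (hM : IsPModular 2 M) (hmax : IsMaximalBrauerPair 2 M B P c)
    (hV : IsKleinFour P) (hB : IsPBlock M B) : ∃ v, Ker B v := by
  haveI := hV
  haveI : Fact (Nat.Prime 2) := ⟨Nat.prime_two⟩
  have := isPrime hM
  obtain ⟨u, hu, hu1⟩ := P.bot_or_exists_ne_one.resolve_left fun h => by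
    have := IsKleinFour.card_four (G := P)
    rw [h, Subgroup.card_bot] at this
    norm_num at this
  have hord : orderOf u = 2 := orderOf_eq_prime (by
    rw [pow_two]; exact congrArg Subtype.val (IsKleinFour.mul_self (⟨u, hu⟩ : P))) hu1
  obtain ⟨f, hf⟩ := exists_below hM hmax.1.1 (Subgroup.zpowers_le.mpr hu)
  have hzC : (Subgroup.zpowers u : Subgroup G) ≤ C[(Subgroup.zpowers u : Subgroup G)] := by
    rw [BlocksCore.centralizer_zpowers]
    exact Subgroup.zpowers_le.mpr (Subgroup.mem_centralizer_singleton_iff.mpr rfl)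
  have hpair := (subpairLE_pairOf_iff hM hf B).mp hmax.1
  have hind : IsInducedBlock M C[(Subgroup.zpowers u : Subgroup G)] f B :=
    isInducedBlock_of_over hM hzC le_rfl hpair hpair.1.2 fun θ hθ => by
      show θ ∈ unitSet M (pullFun (C[(Subgroup.zpowers u : Subgroup G)]).subtype
        (bp ⟨Subgroup.zpowers u, f⟩))
      rw [pullFun_bp, unitSet_blockCoeff hM]
      exact hθ
  have key : ∀ H : Subgroup G, H = Cu[u] → ∀ f : Set (IrrCharacter H),
      IsInducedBlock M H f B → ∃ v, Ker B v := by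
    rintro H rfl f hf
    exact ⟨_, (section_coeff hM hmax hV hB hord hf).choose_spec.1⟩
  exact key _ (BlocksCore.centralizer_zpowers u) f hind

end Cfsg.Agent.BlkChar.KleinSection
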