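import Cfsg.Agent.BC86.SubsectionFusion
import Cfsg.Agent.BC84.BrauerCount
import Cfsg.Agent.Lib.CharCore.BlockCount

/-!
# Sums of regular ranks over subsections, with subgroups as indices

`blockW B K` is the sum of the regular ranks of the blocks of `K` inducing `B`; the difference of
`k` and `l` of the blocks of `H` inducing `B` is the sum of `blockW B (H ⊓ C(x))` over nontrivial
elements `x` of prime power order, weighted by the centralizer orders.
-/

set_option autoImplicit false
set_option linter.unusedSectionVars false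

open scoped ComplexConjugate

namespace Cfsg.Agent.BlkChar.SubsectionSum

open BlocksCore BlocksDefect BC85

attribute [local instance] Fintype.ofFinite

universe u

variable {G : Type u} [Group G] [Finite G] {p : ℕ} [Fact p.Prime] {M : Ideal AlgInt}

/-- The sum of the regular ranks of the blocks of `K` inducing `B`. -/
noncomputable def blockW (p : ℕ) (M : Ideal AlgInt) (B : Set (IrrCharacter G)) (K : Subgroup G) : ℕ :=
  ∑ᶠ β ∈ {β : Set (IrrCharacter K) | IsInducedBlock M K β B}, blockRank p β

theorem finite_sets (H : Type*) [Group H] [Finite H] : Finite (Set (IrrCharacter H)) :=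
  BC84.finite_blockSets H

/-- `|G| k(B)` as a sum over all elements of prime power order. -/
theorem natCard_mul_block (hM : IsPModular p M) {B : Set (IrrCharacter G)} (hB : IsPBlock M B)
    (P : Finset G) (hP : ∀ x, x ∈ P ↔ ∃ k : ℕ, orderOf x = p ^ k) :
    Nat.card G * Nat.card B = ∑ x ∈ P, Nat.card (Subgroup.centralizer ({x} : Set G)) *
      blockW p M B (Subgroup.centralizer ({x} : Set G)) := by
  classical
  have := isPrime hM
  have := finite_irr (G := G)
  let iI := Fintype.ofFinite (IrrCharacter G)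
  let F : G → ℂ := fun g =>
    ∑ χ ∈ Finset.univ.filter (· ∈ B), (χ : G → ℂ) g * conj ((χ : G → ℂ) g)
  have hN : (Nat.card G : ℂ) ≠ 0 := Nat.cast_ne_zero.mpr Nat.card_pos.ne'
  have htot : ∑ g, F g = (Nat.card G : ℂ) * (Nat.card B : ℂ) := by
    rw [Finset.sum_comm]
    have h1 : ∀ χ : IrrCharacter G,
        ∑ g, (χ : G → ℂ) g * conj ((χ : G → ℂ) g) = (Nat.card G : ℂ) := fun χ => by
      have h := CharCore.classInner_irr_self χ
      rw [CharCore.classInner_def, inv_mul_eq_one₀ hN] at h
      exact h.symm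
    rw [Finset.sum_congr rfl fun χ _ => h1 χ, Finset.sum_const, nsmul_eq_mul, mul_comm]
    congr 2
    rw [Nat.card_eq_fintype_card, Fintype.card_subtype]
  refine Nat.cast_injective (R := ℂ) ?_
  rw [Nat.cast_mul, ← htot, Nat.cast_sum]
  calc ∑ g, F g = ∑ x ∈ P, ∑ s ∈ Finset.univ.filter
        (fun s : Subgroup.centralizer ({x} : Set G) => ¬ p ∣ orderOf s), F (x * s) := by
        refine Eq.trans ?_ (Finset.sum_sigma' P _ _).symm
        symm
        refine Finset.sum_bij (fun (q : Σ x : G, Subgroup.centralizer ({x} : Set G)) _ => q.1 * (q.2 : G))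
          (fun _ _ => Finset.mem_univ _) ?_ ?_
          (fun _ _ => rfl)
        · intro a ha b hb h
          obtain ⟨hax, has⟩ := Finset.mem_sigma.mp ha
          obtain ⟨hbx, hbs⟩ := Finset.mem_sigma.mp hb
          obtain ⟨x, s⟩ := a
          obtain ⟨y, t⟩ := b
          have h' : x * (s : G) = y * (t : G) := h
          have e : x = y := isPPart_unique hM.1
            (h' ▸ CharCore.BlockSections.pPart_mul ((hP x).mp hax) s (Finset.mem_filter.mp has).2)
            (CharCore.BlockSections.pPart_mul ((hP y).mp hbx) t (Finset.mem_filter.mp hbs).2)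
          subst e
          rw [Subtype.ext (mul_left_cancel h')]
        · intro g _
          obtain ⟨z, hz⟩ := exists_pPart hM.1 g
          obtain ⟨y, hy, hcomm, hzk, hyr⟩ := id hz
          refine ⟨⟨z, ⟨y, Subgroup.mem_centralizer_singleton_iff.mpr hcomm.eq.symm⟩⟩,
            Finset.mem_sigma.mpr ⟨(hP z).mpr hzk, Finset.mem_filter.mpr ⟨Finset.mem_univ _, ?_⟩⟩, ?_⟩
          · rw [Subgroup.orderOf_mk]; exact hyr
          · exact hy
    _ = _ := by
        refine Finset.sum_congr rfl fun x hx => ?_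
        rw [Nat.cast_mul, blockW, CharCore.BlockSections.finsum_blockRank hM B]
        exact Finset.sum_congr rfl fun s hs => CharCore.BlockSections.sum_block_section hM
          ((hP x).mp hx) hB (Finset.mem_filter.mp hs).2 (Finset.mem_filter.mp hs).2

/-- Transport of ranks by isomorphisms. -/
theorem blockRank_pullIrr {K K' : Type*} [Group K] [Finite K] [Group K'] [Finite K'] (σ : K' ≃* K)
    (A : Set (IrrCharacter K)) : blockRank p (pullIrr σ '' A) = blockRank p A := by
  classical
  let L : (K → ℂ) ≃ₗ[ℂ] (K' → ℂ) := LinearEquiv.funCongrLeft ℂ ℂ σ.toEquiv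
  have hL : ∀ χ : K → ℂ, L (pRegularPart p χ) = pRegularPart p fun h => χ (σ h) := by
    intro χ
    funext h
    show pRegularPart p χ (σ h) = _
    by_cases hh : p ∣ orderOf h
    · rw [pRegularPart_neg (by rwa [MulEquiv.orderOf_eq]), pRegularPart_neg hh]
    · rw [pRegularPart_pos (by rwa [MulEquiv.orderOf_eq]), pRegularPart_pos hh]
  have hset : L '' ((fun χ : IrrCharacter K => pRegularPart p (χ : K → ℂ)) '' A) =
      (fun χ : IrrCharacter K' => pRegularPart p (χ : K' → ℂ)) '' (pullIrr σ '' A) := by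
    rw [← Set.image_comp, ← Set.image_comp]
    refine Set.image_congr fun χ _ => ?_
    simp only [Function.comp_apply, hL]
    rfl
  rw [blockRank, blockRank, ← hset, ← LinearEquiv.coe_coe, ← Submodule.map_span]
  exact L.finrank_map_eq _

theorem pullIrr_injective {K K' : Type*} [Group K] [Finite K] [Group K'] [Finite K'] (σ : K' ≃* K) :
    Function.Injective (pullIrr σ) := fun a b h => Subtype.ext (funext fun k => by
  have := congrFun (congrArg Subtype.val h) (σ.symm k)
  rw [pullIrr_apply, pullIrr_apply, σ.apply_symm_apply] at this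
  exact this)

theorem image_pullIrr_image {K K' : Type*} [Group K] [Finite K] [Group K'] [Finite K'] (σ : K' ≃* K)
    (A : Set (IrrCharacter K')) : pullIrr σ '' (pullIrr σ.symm '' A) = A := by
  rw [← Set.image_comp]
  simp only [Function.comp_def, pullIrr_symm, Set.image_id']

section Local

variable (H : Subgroup G) (x : H)

/-- The centralizer of `x` in `H`, as a subgroup of `G`. -/
def centEquiv : Subgroup.centralizer ({x} : Set H) ≃*
    (H ⊓ Subgroup.centralizer ({(x : G)} : Set G) : Subgroup G) where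
  toFun c := ⟨((c : H) : G), (c : H).2, Subgroup.mem_centralizer_singleton_iff.mpr
    (congrArg Subtype.val (Subgroup.mem_centralizer_singleton_iff.mp c.2))⟩
  invFun k := ⟨⟨(k : G), k.2.1⟩, Subgroup.mem_centralizer_singleton_iff.mpr
    (Subtype.ext (Subgroup.mem_centralizer_singleton_iff.mp k.2.2))⟩
  left_inv _ := rfl
  right_inv _ := rfl
  map_mul' _ _ := rfl

variable {H x}

/-- Induction of blocks in stages through `H`. -/
theorem induced_stages (hM : IsPModular p M) {B : Set (IrrCharacter G)}
    {β : Set (IrrCharacter H)}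
    {γ : Set (IrrCharacter (H ⊓ Subgroup.centralizer ({(x : G)} : Set G) : Subgroup G))}
    (hγ : IsPBlock M γ) (hB : IsPBlock M B)
    (hβ : IsInducedBlock M (Subgroup.centralizer ({x} : Set H)) (pullIrr (centEquiv H x) '' γ) β) :
    IsInducedBlock M H β B ↔
      IsInducedBlock M (H ⊓ Subgroup.centralizer ({(x : G)} : Set G)) γ B := by
  have := isPrime hM
  have key : ∀ θ ∈ γ, ∀ η ∈ β, ∀ g : G, MemLocalIdeal M
      (omega (θ : _ → ℂ) (res (H ⊓ Subgroup.centralizer ({(x : G)} : Set G)) (classInd g)) -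
        omega (η : H → ℂ) (res H (classInd g))) := by
    intro θ hθ η hη g
    have h1 := omega_induced hM hβ (Set.mem_image_of_mem _ hθ) hη
      (isIntClassFun_res H (isIntClassFun_classInd (M := M) g))
    have e : omega (pullIrr (centEquiv H x) θ : Subgroup.centralizer ({x} : Set H) → ℂ)
        (res (Subgroup.centralizer ({x} : Set H)) (res H (classInd g))) =
        omega (θ : _ → ℂ) (res (H ⊓ Subgroup.centralizer ({(x : G)} : Set G)) (classInd g)) := by
      rw [← omega_pullIrr (centEquiv H x)]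
      rfl
    rwa [e] at h1
  constructor
  · intro h
    refine ⟨hγ, hB, fun θ hθ χ hχ g => ?_⟩
    rw [← omega_res_classInd, ← omega_classInd (irr_class χ)]
    obtain ⟨η, hη⟩ := isPBlock_nonempty h.1
    have h2 := omega_induced hM h hη hχ (isIntClassFun_classInd (M := M) g)
    simpa using memLocalIdeal_add (key θ hθ η hη g) h2
  · intro h
    refine ⟨hβ.2.1, hB, fun η hη χ hχ g => ?_⟩
    rw [← omega_res_classInd, ← omega_classInd (irr_class χ)]
    obtain ⟨θ, hθ⟩ := isPBlock_nonempty hγ
    have h2 := omega_induced hM h hθ hχ (isIntClassFun_classInd (M := M) g)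
    simpa using memLocalIdeal_sub h2 (key θ hθ η hη g)

/-- The subsections at `x` of the blocks of `H` inducing `B`. -/
theorem sum_blockW (hM : IsPModular p M) {B : Set (IrrCharacter G)} (hB : IsPBlock M B)
    {k : ℕ} (hx : orderOf x = p ^ k)
    (T : Finset (Set (IrrCharacter H))) (hT : ∀ β, β ∈ T ↔ IsInducedBlock M H β B) :
    ∑ β ∈ T, blockW p M β (Subgroup.centralizer ({x} : Set H)) =
      blockW p M B (H ⊓ Subgroup.centralizer ({(x : G)} : Set G)) := by
  classical
  have := isPrime hM
  set K : Subgroup G := H ⊓ Subgroup.centralizer ({(x : G)} : Set G) with hK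
  set σ := centEquiv H x with hσ
  have := finite_sets K
  have := finite_sets (Subgroup.centralizer ({x} : Set H))
  let A : Set (IrrCharacter H) → Finset (Set (IrrCharacter (Subgroup.centralizer ({x} : Set H)))) :=
    fun β => (Set.toFinite {c | IsInducedBlock M (Subgroup.centralizer ({x} : Set H)) c β}).toFinset
  have hA : ∀ β, blockW p M β (Subgroup.centralizer ({x} : Set H)) = ∑ c ∈ A β, blockRank p c :=
    fun β => finsum_mem_eq_finite_toFinset_sum _ _
  have hAmem : ∀ β c, c ∈ A β → IsInducedBlock M (Subgroup.centralizer ({x} : Set H)) c β :=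
    fun β c h => by simpa only [A, Set.Finite.mem_toFinset, Set.mem_ofPred_eq] using h
  rw [Finset.sum_congr rfl fun β _ => hA β, blockW, finsum_mem_eq_finite_toFinset_sum _ (Set.toFinite _),
    ← Finset.sum_biUnion]
  · symm
    refine Finset.sum_bij (fun γ _ => pullIrr σ '' γ) ?_ ?_ ?_ ?_
    · intro γ hγ
      have hγ' : IsInducedBlock M K γ B := by simpa only [Set.Finite.mem_toFinset, Set.mem_ofPred_eq] using hγ
      obtain ⟨β, hβ⟩ := BC84.induced_exists hM hx (isPBlock_image_pullIrr σ hγ'.1)
      exact Finset.mem_biUnion.mpr ⟨β, (hT β).mpr ((induced_stages hM hγ'.1 hB hβ).mpr hγ'),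
        (Set.Finite.mem_toFinset _).mpr hβ⟩
    · exact fun a _ b _ h => (Set.image_injective.mpr (pullIrr_injective σ)) h
    · intro c hc
      obtain ⟨β, hβT, hcβ⟩ := Finset.mem_biUnion.mp hc
      have hcβ' : IsInducedBlock M (Subgroup.centralizer ({x} : Set H)) c β := hAmem β c hcβ
      have hblk := isPBlock_image_pullIrr σ.symm hcβ'.1
      refine ⟨pullIrr σ.symm '' c, (Set.Finite.mem_toFinset _).mpr ?_, image_pullIrr_image σ c⟩
      exact (induced_stages hM hblk hB (by convert hcβ' using 1; exact image_pullIrr_image (centEquiv H x) c)).mp ((hT β).mp hβT)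
    · exact fun γ _ => (blockRank_pullIrr σ γ).symm
  · intro β _ β' _ hne
    refine Finset.disjoint_left.mpr fun c hc hc' => hne ?_
    exact BC84.induced_unique hM (hAmem β c hc) (hAmem β' c hc')

end Local

/-- The regular rank of a union of blocks. -/
theorem blockRank_union (hM : IsPModular p M) (T : Finset (Set (IrrCharacter G)))
    (hT : ∀ β ∈ T, IsPBlock M β) :
    blockRank p {ψ : IrrCharacter G | ∃ β ∈ T, ψ ∈ β} = ∑ β ∈ T, blockRank p β := by
  classical
  have := finite_irr (G := G)
  let L : (∀ i : T, BC84.regSpan p (i : Set (IrrCharacter G))) →ₗ[ℂ] (G → ℂ) :=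
    ∑ i : T, (Submodule.subtype _).comp (LinearMap.proj i)
  have hL : ∀ v, L v = ∑ i : T, (v i : G → ℂ) := fun v => by
    simp [L, LinearMap.sum_apply]
  have hinj : Function.Injective L := by
    rw [← LinearMap.ker_eq_bot, Submodule.eq_bot_iff]
    intro v hv
    exact BC84.regSpan_indep hM (fun i : T => (i : Set (IrrCharacter G))) Subtype.val_injective
      (fun i => hT i i.2) v (by rw [← hL]; exact LinearMap.mem_ker.mp hv)
  have hrange : LinearMap.range L = BC84.regSpan p {ψ : IrrCharacter G | ∃ β ∈ T, ψ ∈ β} := by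
    refine le_antisymm ?_ (Submodule.span_le.mpr ?_)
    · rintro _ ⟨v, rfl⟩
      rw [hL]
      refine Submodule.sum_mem _ fun i _ => Submodule.span_mono (Set.image_mono ?_) (v i).2
      exact fun ψ hψ => ⟨i, i.2, hψ⟩
    · rintro _ ⟨ψ, ⟨β, hβ, hψ⟩, rfl⟩
      refine ⟨Pi.single ⟨β, hβ⟩ ⟨_, Submodule.subset_span ⟨ψ, hψ, rfl⟩⟩, ?_⟩
      rw [hL, Finset.sum_eq_single ⟨β, hβ⟩]
      · rw [Pi.single_eq_same]
      · intro j _ hj; rw [Pi.single_eq_of_ne hj]; rfl
      · simp
  rw [BC84.blockRank_eq_finrank, ← hrange, LinearMap.finrank_range_of_inj hinj,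
    Module.finrank_pi_fintype, ← Finset.sum_coe_sort T fun β => blockRank p β]
  exact Finset.sum_congr rfl fun i _ => rfl

/-- `|H| (k - l)` of the blocks of `H` inducing `B`. -/
theorem natCard_mul_sub (hM : IsPModular p M) {B : Set (IrrCharacter G)} (hB : IsPBlock M B)
    (H : Subgroup G) (P : Finset G)
    (hP : ∀ x, x ∈ P ↔ x ∈ H ∧ x ≠ 1 ∧ ∃ k : ℕ, orderOf x = p ^ k) :
    (Nat.card H : ℤ) *
        ((Nat.card {ψ : IrrCharacter H | ∃ β : Set (IrrCharacter H), ψ ∈ β ∧ IsInducedBlock M H β B} : ℤ) -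
          (blockRank p {ψ : IrrCharacter H | ∃ β : Set (IrrCharacter H),
            ψ ∈ β ∧ IsInducedBlock M H β B} : ℤ)) =
      ∑ x ∈ P, (Nat.card (H ⊓ Subgroup.centralizer ({x} : Set G) : Subgroup G) : ℤ) *
        (blockW p M B (H ⊓ Subgroup.centralizer ({x} : Set G)) : ℤ) := by
  classical
  have := isPrime hM
  have := finite_irr (G := H)
  have := finite_sets H
  set T : Finset (Set (IrrCharacter H)) := (Set.toFinite {β | IsInducedBlock M H β B}).toFinset
  have hT : ∀ β, β ∈ T ↔ IsInducedBlock M H β B := fun β => Set.Finite.mem_toFinset _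
  have hset : {ψ : IrrCharacter H | ∃ β : Set (IrrCharacter H), ψ ∈ β ∧ IsInducedBlock M H β B} =
      {ψ : IrrCharacter H | ∃ β ∈ T, ψ ∈ β} := by
    ext ψ; simp only [Set.mem_ofPred_eq, hT, and_comm]
  rw [hset, blockRank_union hM T fun β hβ => ((hT β).mp hβ).1]
  have hk : Nat.card {ψ : IrrCharacter H | ∃ β ∈ T, ψ ∈ β} = ∑ β ∈ T, Nat.card β := by
    have he : {ψ : IrrCharacter H | ∃ β ∈ T, ψ ∈ β} = ↑(T.biUnion fun β => β.toFinite.toFinset) := by
      ext ψ; simp
    rw [he, Nat.card_coe_set_eq, Set.ncard_coe_finset, Finset.card_biUnion]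
    · exact Finset.sum_congr rfl fun β _ => by
        rw [Nat.card_coe_set_eq, Set.ncard_eq_toFinset_card β]
    · intro β hβ β' hβ' hne
      refine Finset.disjoint_left.mpr fun ψ h h' => hne ?_
      exact isPBlock_eq_of_mem ((hT β).mp hβ).1 ((hT β').mp hβ').1
        ((Set.Finite.mem_toFinset _).mp h) ((Set.Finite.mem_toFinset _).mp h')
  rw [hk]
  let PH : Finset H := Finset.univ.filter fun x => ∃ k : ℕ, orderOf x = p ^ k
  let E : G → ℕ := fun x => Nat.card (H ⊓ Subgroup.centralizer ({x} : Set G) : Subgroup G) *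
    blockW p M B (H ⊓ Subgroup.centralizer ({x} : Set G))
  have hall : Nat.card H * ∑ β ∈ T, Nat.card β = ∑ x ∈ PH, E (x : G) := by
    rw [Finset.mul_sum, Finset.sum_congr rfl fun β hβ =>
      natCard_mul_block hM ((hT β).mp hβ).1 PH (fun x => by simp [PH]), Finset.sum_comm]
    refine Finset.sum_congr rfl fun x hx => ?_
    obtain ⟨k, hk⟩ := (Finset.mem_filter.mp hx).2
    rw [← Finset.mul_sum, sum_blockW hM hB hk T hT, Nat.card_congr (centEquiv H x).toEquiv]
  have hW : ∑ β ∈ T, blockRank p β = blockW p M B H := by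
    rw [blockW, finsum_mem_eq_finite_toFinset_sum _ (Set.toFinite _)]
  have h1 : H ⊓ Subgroup.centralizer ({(1 : G)} : Set G) = H := by
    refine inf_eq_left.mpr fun g _ => Subgroup.mem_centralizer_singleton_iff.mpr ?_
    simp
  have hE1 : E 1 = Nat.card H * blockW p M B H := by
    show Nat.card _ * blockW p M B _ = _
    rw [h1]
  have h1mem : (1 : H) ∈ PH := Finset.mem_filter.mpr ⟨Finset.mem_univ _, 0, by simp⟩
  rw [← Finset.add_sum_erase _ _ h1mem, OneMemClass.coe_one, hE1, ← hW] at hall
  have hrest : ∑ x ∈ PH.erase 1, E (x : G) = ∑ x ∈ P, E x := by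
    refine Finset.sum_bij (fun x _ => (x : G)) ?_ ?_ ?_ (fun _ _ => rfl)
    · intro x hx
      obtain ⟨hne, hx'⟩ := Finset.mem_erase.mp hx
      obtain ⟨k, hk⟩ := (Finset.mem_filter.mp hx').2
      exact (hP _).mpr ⟨x.2, fun h => hne (Subtype.ext h), k, by rw [Subgroup.orderOf_coe]; exact hk⟩
    · exact fun a _ b _ h => Subtype.ext h
    · intro g hg
      obtain ⟨hgH, hne, k, hk⟩ := (hP g).mp hg
      exact ⟨⟨g, hgH⟩, Finset.mem_erase.mpr ⟨fun h => hne (congrArg Subtype.val h),
        Finset.mem_filter.mpr ⟨Finset.mem_univ _, k, by rw [Subgroup.orderOf_mk]; exact hk⟩⟩, rfl⟩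
  rw [hrest] at hall
  have hall' := congrArg (fun n : ℕ => (n : ℤ)) hall
  push_cast [E] at hall' ⊢
  rw [mul_sub]
  linear_combination hall'

/-- The blocks of the whole group. -/
theorem induced_top_iff (hM : IsPModular p M) {B : Set (IrrCharacter G)} (hB : IsPBlock M B)
    {β : Set (IrrCharacter (⊤ : Subgroup G))} :
    IsInducedBlock M (⊤ : Subgroup G) β B ↔ β = pullIrr Subgroup.topEquiv '' B := by
  have := isPrime hM
  have hBtop : IsInducedBlock M (⊤ : Subgroup G) (pullIrr Subgroup.topEquiv '' B) B := by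
    refine ⟨isPBlock_image_pullIrr _ hB, hB, ?_⟩
    rintro _ ⟨ξ, hξ, rfl⟩ χ hχ g
    rw [← omega_res_classInd, ← omega_classInd (irr_class χ)]
    have e : omega (pullIrr Subgroup.topEquiv ξ : (⊤ : Subgroup G) → ℂ) (res ⊤ (classInd g)) =
        omega (ξ : G → ℂ) (classInd g) := by
      exact omega_pullIrr Subgroup.topEquiv ξ (classInd g)
    rw [e]
    exact omega_sub_memLocalIdeal (sameBlock_of_mem hB hξ hχ) (isIntClassFun_classInd g)
  refine ⟨fun h => ?_, fun h => h ▸ hBtop⟩
  obtain ⟨η, hη⟩ := isPBlock_nonempty h.1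
  obtain ⟨ξ, hξ⟩ := isPBlock_nonempty hB
  refine isPBlock_eq_of_mem h.1 (isPBlock_image_pullIrr _ hB) hη ?_
  rw [isPBlock_eq_blockOf (isPBlock_image_pullIrr Subgroup.topEquiv hB) (Set.mem_image_of_mem _ hξ)]
  show SameBlock M _ _
  rw [sameBlock_iff_omega]
  intro a ha
  have hg : IsIntClassFun M (fun g : G => a (Subgroup.topEquiv.symm g)) :=
    isIntClassFun_comp Subgroup.topEquiv.symm ha
  have h1 := omega_induced hM h hη hξ hg
  have h2 := omega_induced hM hBtop (Set.mem_image_of_mem _ hξ) hξ hg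
  have h3 := memLocalIdeal_sub h2 h1
  have e : ∀ θ : IrrCharacter (⊤ : Subgroup G), omega (θ : (⊤ : Subgroup G) → ℂ)
      (res ⊤ fun g : G => a (Subgroup.topEquiv.symm g)) = omega (θ : (⊤ : Subgroup G) → ℂ) a := fun θ => rfl
  rw [e, e] at h3
  simpa using h3

end Cfsg.Agent.BlkChar.SubsectionSum
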