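import Cfsg.Agent.BlkChar.ChainPairing
import Cfsg.Agent.BlkChar.SubsectionSum

/-!
# The alternating sum of `k - l` overBlk normal chains of `p`-subgroups
-/

set_option autoImplicit false

namespace Cfsg.Agent.BlkChar.KnorrRobinson

open ChainPairing SubsectionSum BC85

attribute [local instance] Fintype.ofFinite

universe u

variable {G : Type u} [Group G] [Finite G] {p : ℕ} [Fact p.Prime] {M : Ideal AlgInt}

/-- The characters of `H` in blocks inducing `b`. -/
def overBlk (M : Ideal AlgInt) (H : Subgroup G) (b : Set (IrrCharacter G)) : Set (IrrCharacter H) :=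
  {ψ | ∃ β : Set (IrrCharacter H), ψ ∈ β ∧ IsInducedBlock M H β b}

theorem overBlk_top (hM : IsPModular p M) {b : Set (IrrCharacter G)} (hb : IsPBlock M b) :
    overBlk M (⊤ : Subgroup G) b = pullIrr Subgroup.topEquiv '' b := by
  ext ψ
  constructor
  · rintro ⟨β, hψ, hβ⟩
    rwa [(induced_top_iff hM hb).mp hβ] at hψ
  · exact fun h => ⟨_, h, (induced_top_iff hM hb).mpr rfl⟩

theorem alternating_sum (hM : IsPModular p M) {b : Set (IrrCharacter G)} (hb : IsPBlock M b)
    (S : Finset (Finset (Subgroup G))) (hS : ∀ s, s ∈ S ↔ IsChainP p s ∧ IsNormalChain s) :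
    (Nat.card G : ℤ) * ((Nat.card b : ℤ) - (blockRank p b : ℤ)) =
      ∑ s ∈ S, sign s * (Nat.card (chainNormalizer s) : ℤ) *
        ((Nat.card (overBlk M (chainNormalizer s) b) : ℤ) -
          (blockRank p (overBlk M (chainNormalizer s) b) : ℤ)) := by
  classical
  have : Finite (Subgroup G) := Finite.of_injective _ SetLike.coe_injective
  let P₀ : Finset G := Finset.univ.filter fun x => x ≠ 1 ∧ ∃ k : ℕ, orderOf x = p ^ k
  let F : Subgroup G → ℤ := fun K => (Nat.card K : ℤ) * (blockW p M b K : ℤ)
  have hH : ∀ H : Subgroup G, (Nat.card H : ℤ) *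
      ((Nat.card (overBlk M H b) : ℤ) - (blockRank p (overBlk M H b) : ℤ)) =
      ∑ x ∈ P₀, if x ∈ H then F (H ⊓ Subgroup.centralizer ({x} : Set G)) else 0 := fun H => by
    rw [← Finset.sum_filter]
    exact natCard_mul_sub hM hb H _ fun x => by simp [P₀, and_comm]
  -- the whole group
  have htop := hH ⊤
  rw [overBlk_top hM hb, blockRank_pullIrr, Nat.card_congr Subgroup.topEquiv.toEquiv,
    Nat.card_image_of_injective (pullIrr_injective _)] at htop
  rw [htop]
  let A : Finset (Finset (Subgroup G)) := Finset.univ.filter (IsChainP p)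
  -- all chains and normal chains
  have hnormal : ∀ f : Subgroup G → ℤ, ∑ s ∈ S, sign s * f (chainNormalizer s) =
      ∑ s ∈ A, sign s * f (chainNormalizer s) := by
    intro f
    have hsub : S ⊆ A := fun s hs => Finset.mem_filter.mpr ⟨Finset.mem_univ _, ((hS s).mp hs).1⟩
    rw [← Finset.sum_sdiff hsub, sum_not_normal (p := p) f (A \ S) (fun s => ?_), zero_add]
    simp only [Finset.mem_sdiff, hS, A, Finset.mem_filter, Finset.mem_univ, true_and]
    tauto
  rw [Finset.sum_congr rfl fun s _ => mul_assoc (sign s) _ _,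
    Finset.sum_congr rfl fun s _ => congrArg (sign s * ·) (hH (chainNormalizer s)),
    hnormal fun H => ∑ x ∈ P₀, if x ∈ H then F (H ⊓ Subgroup.centralizer ({x} : Set G)) else 0]
  simp only [Finset.mul_sum, mul_ite, mul_zero]
  rw [Finset.sum_comm (s := A)]
  refine Finset.sum_congr rfl fun x hx => ?_
  obtain ⟨-, hx1, k, hk⟩ := Finset.mem_filter.mp hx
  rw [if_pos (Subgroup.mem_top x), top_inf_eq, ← Finset.sum_filter]
  exact (sum_fixed F hk hx1 _ fun s => by simp [A]).symm

end Cfsg.Agent.BlkChar.KnorrRobinson
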