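import Cfsg.Agent.OddChar.Twist
import Cfsg.Agent.Lib.BlocksDefect.Basic
import Cfsg.Agent.Lib.BlocksCore.DefectZero
import Cfsg.Agent.Lib.CharClifford.Galois
import Mathlib.NumberTheory.NumberField.Cyclotomic.Basic
import Mathlib.NumberTheory.LegendreSymbol.AddCharacter
import Mathlib.FieldTheory.IsAlgClosed.Classification
import Mathlib.Analysis.RCLike.Basic
import Cfsg.Agent.BlkChar.IntCongr

/-!
# The degree times the number of `p`-conjugates

For an irreducible character `χ` with `r` distinct `p`-conjugates, the `p`-part of `r χ(1)` is at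
most that of the group order, with equality only if `r` is prime to `p`.
-/

set_option linter.unusedSectionVars false

open Cfsg
open scoped ComplexConjugate

namespace Cfsg.Agent.BlkChar.PConj

section Extend

attribute [local instance high] IntermediateField.algebra'

/-- An automorphism of the algebraic numbers extends to an automorphism of `ℂ`. -/
theorem exists_ringEquiv_extending
    (ψ : algebraicClosure ℚ ℂ ≃ₐ[ℚ] algebraicClosure ℚ ℂ) :
    ∃ σ : ℂ ≃+* ℂ, ∀ x : algebraicClosure ℚ ℂ, σ x = (ψ x : ℂ) := by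
  obtain ⟨s, hs⟩ := exists_isTranscendenceBasis (algebraicClosure ℚ ℂ) ℂ
  let R := Algebra.adjoin (algebraicClosure ℚ ℂ) (Set.range ((↑) : s → ℂ))
  haveI : IsAlgClosure R ℂ := IsAlgClosed.isAlgClosure_of_transcendence_basis _ hs
  let e : MvPolynomial s (algebraicClosure ℚ ℂ) ≃ₐ[algebraicClosure ℚ ℂ] R := hs.1.aevalEquiv
  let e' : R ≃+* R := e.symm.toRingEquiv.trans
    ((MvPolynomial.mapEquiv s ψ.toRingEquiv).trans e.toRingEquiv)
  refine ⟨IsAlgClosure.equivOfEquiv ℂ ℂ e', fun x => ?_⟩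
  have h := IsAlgClosure.equivOfEquiv_algebraMap ℂ ℂ e' (algebraMap _ R x)
  have hcomm : ∀ y, e (MvPolynomial.C y) = algebraMap _ R y := fun y => e.commutes y
  have h2 : e' (algebraMap _ R x) = algebraMap _ R (ψ x) := by
    show e (MvPolynomial.map ψ.toRingEquiv.toRingHom (e.symm (algebraMap _ R x))) = _
    rw [← hcomm x, AlgEquiv.symm_apply_apply, MvPolynomial.map_C, ← hcomm]
    rfl
  rw [h2] at h
  exact h

/-- Automorphisms of `ℂ` with prescribed effect on `n`-th roots of unity. -/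
theorem exists_ringEquiv_pow {n : ℕ} (hn : n ≠ 0) {m : ℕ} (hm : m.Coprime n) :
    ∃ σ : ℂ ≃+* ℂ, ∀ μ : ℂ, μ ^ n = 1 → σ μ = μ ^ m := by
  have hζ := Complex.isPrimitiveRoot_exp n hn
  set ζ := Complex.exp (2 * Real.pi * Complex.I / n)
  have halg : IsAlgebraic ℚ ζ :=
    (hζ.isIntegral (Nat.pos_of_ne_zero hn)).tower_top.isAlgebraic
  let z : algebraicClosure ℚ ℂ := ⟨ζ, mem_algebraicClosure_iff.mpr halg⟩
  have hz : IsPrimitiveRoot z n :=
    IsPrimitiveRoot.of_map_of_injective (f := (algebraicClosure ℚ ℂ).val)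
      (by exact hζ) (algebraicClosure ℚ ℂ).val.injective
  obtain ⟨ψ, hψ⟩ := minpoly.exists_algEquiv_of_root' (K := ℚ) (x := z ^ m) (y := z)
    ((algebraicClosure.isAlgebraic ℚ ℂ).isAlgebraic z) (by
      have h2 := (hz.pow_of_coprime m hm).isRoot_cyclotomic (Nat.pos_of_ne_zero hn)
      rw [show minpoly ℚ z = Polynomial.cyclotomic n ℚ by
        convert (Polynomial.cyclotomic_eq_minpoly_rat hz (Nat.pos_of_ne_zero hn)).symm using 2
        exact Subsingleton.elim _ _]
      rw [Polynomial.aeval_def, Polynomial.eval₂_eq_eval_map, Polynomial.map_cyclotomic]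
      exact h2.eq_zero)
  obtain ⟨σ, hσ⟩ := exists_ringEquiv_extending ψ
  refine ⟨σ, fun μ hμ => ?_⟩
  have : NeZero n := ⟨hn⟩
  obtain ⟨i, -, rfl⟩ := hζ.eq_pow_of_pow_eq_one hμ
  have h1 : σ ζ = ζ ^ m := by
    have := hσ z
    rw [hψ] at this
    simpa [z] using this
  rw [map_pow, h1, ← pow_mul, ← pow_mul, mul_comm]

end Extend

section Units

variable {p a : ℕ} [hp : Fact p.Prime] [NeZero (p ^ a)]

/-- Translation by a multiple of `p` permutes the units modulo `p ^ a`. -/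
theorem sum_units_add (f : ZMod (p ^ a) → ℂ) {ε : ZMod (p ^ a)} (hε : (p : ZMod (p ^ a)) ∣ ε) :
    ∑ u : (ZMod (p ^ a))ˣ, f ((u : ZMod (p ^ a)) + ε) = ∑ u : (ZMod (p ^ a))ˣ, f u := by
  have hnil : ∀ δ : ZMod (p ^ a), (p : ZMod (p ^ a)) ∣ δ → IsNilpotent δ := by
    rintro _ ⟨δ, rfl⟩
    exact ⟨a, by rw [mul_pow, ← Nat.cast_pow, ZMod.natCast_self, zero_mul]⟩
  have hunit : ∀ (δ : ZMod (p ^ a)), (p : ZMod (p ^ a)) ∣ δ → ∀ u : (ZMod (p ^ a))ˣ,
      IsUnit ((u : ZMod (p ^ a)) + δ) :=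
    fun δ hδ u => (hnil δ hδ).isUnit_add_left_of_commute u.isUnit (Commute.all _ _)
  exact Fintype.sum_equiv
    { toFun := fun u => (hunit ε hε u).unit
      invFun := fun u => (hunit (-ε) (dvd_neg.mpr hε) u).unit
      left_inv := fun u => Units.ext (by simp)
      right_inv := fun u => Units.ext (by simp) } _ _ fun u => rfl

/-- The trace of a `p`-power root of unity. -/
theorem addChar_sum_units (ha : 1 ≤ a) (φ : AddChar (ZMod (p ^ a)) ℂ) :
    ∃ k : ℤ, ∑ u : (ZMod (p ^ a))ˣ, φ (u : ZMod (p ^ a)) = ((p ^ (a - 1) : ℕ) : ℂ) * k := by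
  classical
  by_cases h1 : φ (p : ZMod (p ^ a)) = 1
  · have hpt : (p ^ a) = p ^ (a - 1) * p := by rw [← pow_succ]; congr 1; omega
    have hval : ∀ x : ZMod (p ^ a), ¬ IsUnit x → φ x = 1 := by
      intro x hx
      have hdvd : p ∣ x.val := by
        by_contra hnd
        apply hx
        rw [← ZMod.natCast_zmod_val x, ZMod.isUnit_iff_coprime]
        exact Nat.Coprime.pow_right a ((hp.out.coprime_iff_not_dvd.mpr hnd).symm)
      obtain ⟨c, hc⟩ := hdvd
      rw [← ZMod.natCast_zmod_val x, hc, Nat.cast_mul, mul_comm, ← nsmul_eq_mul,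
        AddChar.map_nsmul_eq_pow, h1, one_pow]
    have hsum : ∑ u : (ZMod (p ^ a))ˣ, φ (u : ZMod (p ^ a)) +
        ∑ x ∈ Finset.univ.filter (fun x : ZMod (p ^ a) => ¬ IsUnit x), φ x = ∑ x, φ x := by
      rw [← Finset.sum_filter_add_sum_filter_not Finset.univ (fun x : ZMod (p ^ a) => IsUnit x) φ]
      congr 1
      refine Finset.sum_bij (fun u _ => (u : ZMod (p ^ a))) (fun u _ => by simp)
        (fun u _ v _ h => Units.ext h) (fun x hx => ?_) fun _ _ => rfl
      exact ⟨(Finset.mem_filter.mp hx).2.unit, Finset.mem_univ _, rfl⟩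
    rw [Finset.sum_congr rfl (fun x hx => hval x (Finset.mem_filter.mp hx).2), Finset.sum_const,
      nsmul_eq_mul, mul_one] at hsum
    have hcard : (Finset.univ.filter (fun x : ZMod (p ^ a) => ¬ IsUnit x)).card = p ^ (a - 1) := by
      have h := Finset.card_filter_add_card_filter_not (s := (Finset.univ : Finset (ZMod (p ^ a))))
        (fun x => IsUnit x)
      rw [Finset.card_univ, ZMod.card] at h
      have h2 : (Finset.univ.filter (fun x : ZMod (p ^ a) => IsUnit x)).card =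
          p ^ (a - 1) * (p - 1) := by
        rw [← Nat.totient_prime_pow hp.out ha, ← ZMod.card_units_eq_totient, ← Finset.card_univ]
        symm
        refine Finset.card_bij (fun u _ => (u : ZMod (p ^ a))) (fun u _ => by simp)
          (fun u _ v _ h => Units.ext h) fun x hx => ?_
        exact ⟨(Finset.mem_filter.mp hx).2.unit, Finset.mem_univ _, rfl⟩
      have h3 : p ^ a = p ^ (a - 1) * (p - 1) + p ^ (a - 1) := by
        rw [← Nat.mul_succ, Nat.succ_eq_add_one, Nat.sub_add_cancel hp.out.pos]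
        exact hpt
      omega
    rw [hcard, AddChar.sum_eq_ite φ, ZMod.card] at hsum
    split_ifs at hsum with h0
    · refine ⟨(p : ℤ) - 1, ?_⟩
      rw [eq_sub_of_add_eq hsum, hpt]
      push_cast
      ring
    · refine ⟨-1, ?_⟩
      rw [eq_sub_of_add_eq hsum]
      push_cast
      ring
  · refine ⟨0, ?_⟩
    have h := sum_units_add (fun x => φ x) (ε := (p : ZMod (p ^ a))) dvd_rfl
    simp only [AddChar.map_add_eq_mul, ← Finset.sum_mul] at h
    rw [Int.cast_zero, mul_zero]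
    by_contra hne
    exact h1 (mul_left_cancel₀ hne (h.trans (mul_one _).symm))

end Units

/-- Divisibility among algebraic integers. -/
def IDvd (N : ℕ) (z : ℂ) : Prop := ∃ w : ℂ, IsIntegral ℤ w ∧ z = (N : ℂ) * w

theorem IDvd.zero (N : ℕ) : IDvd N 0 := ⟨0, isIntegral_zero, (mul_zero _).symm⟩

theorem IDvd.add {N : ℕ} {x y : ℂ} (hx : IDvd N x) (hy : IDvd N y) : IDvd N (x + y) := by
  obtain ⟨v, hv, rfl⟩ := hx
  obtain ⟨w, hw, rfl⟩ := hy
  exact ⟨v + w, hv.add hw, (mul_add _ _ _).symm⟩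

theorem IDvd.sum {ι : Type*} (s : Finset ι) {N : ℕ} {f : ι → ℂ} (h : ∀ i ∈ s, IDvd N (f i)) :
    IDvd N (∑ i ∈ s, f i) :=
  Finset.sum_induction f (IDvd N) (fun _ _ => IDvd.add) (IDvd.zero N) h

theorem IDvd.mul_right {N : ℕ} {x y : ℂ} (hx : IDvd N x) (hy : IsIntegral ℤ y) :
    IDvd N (x * y) := by
  obtain ⟨v, hv, rfl⟩ := hx
  exact ⟨v * y, hv.mul hy, mul_assoc _ _ _⟩

theorem IDvd.mul {N M : ℕ} {x y : ℂ} (hx : IDvd N x) (hy : IDvd M y) : IDvd (N * M) (x * y) := by
  obtain ⟨v, hv, rfl⟩ := hx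
  obtain ⟨w, hw, rfl⟩ := hy
  exact ⟨v * w, hv.mul hw, by push_cast; ring⟩

theorem isIntegral_natCast (c : ℕ) : IsIntegral ℤ (c : ℂ) := by
  have := isIntegral_algebraMap (R := ℤ) (A := ℂ) (x := (c : ℤ))
  simpa using this

theorem IDvd.of_dvd {N M : ℕ} {x : ℂ} (hx : IDvd N x) (h : M ∣ N) : IDvd M x := by
  obtain ⟨v, hv, rfl⟩ := hx
  obtain ⟨c, rfl⟩ := h
  exact ⟨(c : ℂ) * v, (isIntegral_natCast c).mul hv, by push_cast; ring⟩

theorem IDvd.conj {N : ℕ} {x : ℂ} (hx : IDvd N x) : IDvd N (conj x) := by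
  obtain ⟨v, hv, rfl⟩ := hx
  exact ⟨_, hv.map ((starRingEnd ℂ).toIntAlgHom), by simp⟩

/-- An algebraic integer of the `n`-th cyclotomic field is an integral combination of powers. -/
theorem mem_adjoin_int_of_isIntegral {n : ℕ} [NeZero n] {ζ : ℂ} (hζ : IsPrimitiveRoot ζ n)
    {x : ℂ} (hx : IsIntegral ℤ x) (hxK : x ∈ IntermediateField.adjoin ℚ ({ζ} : Set ℂ)) :
    ∃ P : Polynomial ℤ, Polynomial.aeval ζ P = x := by
  set K := IntermediateField.adjoin ℚ ({ζ} : Set ℂ)
  haveI : IsCyclotomicExtension {n} ℚ K := by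
    change IsCyclotomicExtension {n} ℚ K.toSubalgebra
    rw [IntermediateField.adjoin_simple_toSubalgebra_of_isAlgebraic
      (hζ.isIntegral (NeZero.pos n)).tower_top.isAlgebraic]
    exact hζ.adjoin_isCyclotomicExtension ℚ
  let z : K := ⟨ζ, IntermediateField.subset_adjoin ℚ _ rfl⟩
  have hz : IsPrimitiveRoot z n :=
    IsPrimitiveRoot.of_map_of_injective (f := K.val) (by exact hζ) K.val.injective
  have hxi : IsIntegral ℤ (⟨x, hxK⟩ : K) :=
    (isIntegral_algHom_iff (K.val.restrictScalars ℤ) K.val.injective).mp hx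
  obtain ⟨⟨y, hy⟩, hyx⟩ :=
    ((IsCyclotomicExtension.Rat.isIntegralClosure_adjoin_singleton hz).isIntegral_iff).mp hxi
  rw [Algebra.adjoin_singleton_eq_range_aeval, AlgHom.mem_range] at hy
  obtain ⟨P, hP⟩ := hy
  refine ⟨P, ?_⟩
  have h : (y : K) = ⟨x, hxK⟩ := hyx
  have h2 := Polynomial.aeval_algHom_apply (K.val.restrictScalars ℤ) z P
  rw [hP, h] at h2
  exact h2

section Aux

variable {p a : ℕ} [hp : Fact p.Prime] [NeZero (p ^ a)]

theorem natCard_units (N : ℕ) [NeZero N] : Nat.card (ZMod N)ˣ = Nat.totient N := by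
  rw [Nat.card_eq_fintype_card, ZMod.card_units_eq_totient]

/-- The norm of a twisted orbit sum. -/
theorem norm_sum {G : Type*} [Group G] [Fintype G] (ψ : AddChar (ZMod (p ^ a)) ℂ)
    (F : (ZMod (p ^ a))ˣ → G → ℂ) (hFirr : ∀ u, IsIrrCharacter G (F u))
    (H : Subgroup (ZMod (p ^ a))ˣ) (hrel : ∀ u v, F u = F v ↔ u⁻¹ * v ∈ H)
    (K : Subgroup (ZMod (p ^ a))ˣ) (hKH : K ≤ H)
    (hKψ : ∀ w ∈ K, ∀ x : ZMod (p ^ a), ψ (x * ((w : ZMod (p ^ a)) - 1)) = 1)
    (hsep : ∀ h ∈ H, ψ ((p : ZMod (p ^ a)) * ((h : ZMod (p ^ a)) - 1)) = 1 → h ∈ K) :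
    ∑ g, (∑ u : (ZMod (p ^ a))ˣ, ψ (u : ZMod (p ^ a)) • F u) g *
        conj ((∑ u : (ZMod (p ^ a))ˣ, ψ (u : ZMod (p ^ a)) • F u) g) =
      ((Nat.card G * (Nat.card K * Nat.totient (p ^ a)) : ℕ) : ℂ) := by
  classical
  set Φ := ∑ u : (ZMod (p ^ a))ˣ, ψ (u : ZMod (p ^ a)) • F u with hΦ
  have hii : ∀ u v : (ZMod (p ^ a))ˣ,
      classInner (F u) (F v) = if u⁻¹ * v ∈ H then 1 else 0 := by
    intro u v
    refine (CharCore.classInner_irr (G := G) ⟨F u, hFirr u⟩ ⟨F v, hFirr v⟩).trans ?_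
    simp only [Subtype.mk.injEq, hrel]
  have h1 : classInner Φ Φ = ((Nat.card K * Nat.totient (p ^ a) : ℕ) : ℂ) := by
    calc classInner Φ Φ = ∑ u : (ZMod (p ^ a))ˣ, ∑ v : (ZMod (p ^ a))ˣ,
          ψ (u : ZMod (p ^ a)) * (conj (ψ (v : ZMod (p ^ a))) * if u⁻¹ * v ∈ H then 1 else 0) := by
          rw [hΦ, CharCore.classInner_sum_left]
          refine Finset.sum_congr rfl fun u _ => ?_
          rw [CharCore.classInner_smul_left, CharCore.classInner_sum_right, Finset.mul_sum]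
          exact Finset.sum_congr rfl fun v _ => by rw [CharCore.classInner_smul_right, hii]
      _ = ∑ w : (ZMod (p ^ a))ˣ, ∑ u : (ZMod (p ^ a))ˣ,
          if w ∈ H then ψ (-((u : ZMod (p ^ a)) * ((w : ZMod (p ^ a)) - 1))) else 0 := by
          conv_rhs => rw [Finset.sum_comm]
          refine Finset.sum_congr rfl fun u _ => ?_
          rw [← Equiv.sum_comp (Equiv.mulLeft u)]
          refine Finset.sum_congr rfl fun w _ => ?_
          simp only [Equiv.coe_mulLeft, inv_mul_cancel_left, mul_ite, mul_one, mul_zero,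
            ← AddChar.map_neg_eq_conj, ← AddChar.map_add_eq_mul]
          congr 1
          rw [Units.val_mul]
          congr 1
          ring
      _ = ∑ w : (ZMod (p ^ a))ˣ, if w ∈ K then (Nat.totient (p ^ a) : ℂ) else 0 := by
          refine Finset.sum_congr rfl fun w _ => ?_
          by_cases hwk : w ∈ K
          · rw [if_pos hwk]
            simp only [hKH hwk, if_true, ← neg_mul, hKψ w hwk, Finset.sum_const, Finset.card_univ,
              ZMod.card_units_eq_totient, nsmul_one]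
          · rw [if_neg hwk]
            by_cases hwH : w ∈ H
            · simp only [hwH, if_true]
              have h := sum_units_add
                (fun x => ψ (-(x * ((w : ZMod (p ^ a)) - 1)))) (ε := (p : ZMod (p ^ a))) dvd_rfl
              simp only [add_mul, neg_add, AddChar.map_add_eq_mul, ← Finset.sum_mul] at h
              by_contra hne
              have h2 := mul_left_cancel₀ hne (h.trans (mul_one _).symm)
              rw [AddChar.map_neg_eq_inv, inv_eq_one] at h2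
              exact hwk (hsep w hwH h2)
            · simp [hwH]
      _ = ((Nat.card K * Nat.totient (p ^ a) : ℕ) : ℂ) := by
          rw [← Finset.sum_filter, Finset.sum_const, nsmul_eq_mul, Nat.cast_mul,
            Nat.card_eq_fintype_card, Fintype.card_subtype]
  rw [CharCore.classInner_def, inv_mul_eq_iff_eq_mul₀ (Nat.cast_ne_zero.2 Nat.card_pos.ne')] at h1
  rw [h1]
  push_cast
  ring

/-- The twisted trace of a cyclotomic integer. -/
theorem trace_dvd {n g' : ℕ} [NeZero n] (ha1 : 1 ≤ a) (hng : g' * p ^ a = n)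
    (hcop : g'.Coprime (p ^ a)) {ζ : ℂ} (hζ : IsPrimitiveRoot ζ n)
    (ψ : AddChar (ZMod (p ^ a)) ℂ) (σ : (ZMod (p ^ a))ˣ → ℂ →+* ℂ) (M : (ZMod (p ^ a))ˣ → ℕ)
    (hM1 : ∀ u, M u ≡ 1 [MOD g']) (hM2 : ∀ u, M u ≡ (u : ZMod (p ^ a)).val [MOD p ^ a])
    (hσ : ∀ u, ∀ μ : ℂ, μ ^ n = 1 → σ u μ = μ ^ M u) {x : ℂ} (hx : IsIntegral ℤ x)
    (hxK : x ∈ IntermediateField.adjoin ℚ ({ζ} : Set ℂ)) :
    IDvd (p ^ (a - 1)) (∑ u : (ZMod (p ^ a))ˣ, ψ (u : ZMod (p ^ a)) * σ u x) := by
  obtain ⟨P, rfl⟩ := mem_adjoin_int_of_isIntegral hζ hx hxK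
  obtain ⟨E₁, hE₁, hE₁'⟩ : ∃ E, E ≡ 1 [MOD g'] ∧ E ≡ 0 [MOD p ^ a] :=
    ⟨_, (Nat.chineseRemainder hcop 1 0).2⟩
  obtain ⟨E₂, hE₂, hE₂'⟩ : ∃ E, E ≡ 0 [MOD g'] ∧ E ≡ 1 [MOD p ^ a] :=
    ⟨_, (Nat.chineseRemainder hcop 0 1).2⟩
  have hE : E₁ + E₂ ≡ 1 [MOD n] :=
    hng ▸ (Nat.modEq_and_modEq_iff_modEq_mul hcop).mp ⟨hE₁.add hE₂, hE₁'.add hE₂'⟩
  have hterm : ∀ l : ℕ, IDvd (p ^ (a - 1))
      (∑ u : (ZMod (p ^ a))ˣ, ψ (u : ZMod (p ^ a)) * σ u (ζ ^ l)) := by
    intro l
    have hsplit : ζ ^ l = ζ ^ (l * E₁) * ζ ^ (l * E₂) := by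
      have h1 : l * (E₁ + E₂) ≡ l * 1 [MOD n] := hE.mul_left l
      rw [mul_one] at h1
      rw [← pow_add, ← Nat.mul_add, pow_eq_pow_mod (l * (E₁ + E₂)) hζ.pow_eq_one, h1,
        ← pow_eq_pow_mod l hζ.pow_eq_one]
    have hαn : (ζ ^ (l * E₁)) ^ g' = 1 := by
      rw [← pow_mul, hζ.pow_eq_one_iff_dvd, ← hng, mul_comm g' (p ^ a), mul_assoc]
      exact (Nat.mul_dvd_mul_right (Nat.modEq_zero_iff_dvd.mp hE₁') g').mul_left l
    have hβn : (ζ ^ (l * E₂)) ^ p ^ a = 1 := by
      rw [← pow_mul, hζ.pow_eq_one_iff_dvd, ← hng, mul_assoc]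
      exact (Nat.mul_dvd_mul_right (Nat.modEq_zero_iff_dvd.mp hE₂) (p ^ a)).mul_left l
    obtain ⟨t, ht⟩ := addChar_sum_units ha1 (ψ * AddChar.zmodChar (p ^ a) hβn)
    refine ⟨ζ ^ (l * E₁) * (t : ℂ),
      ((hζ.isIntegral (NeZero.pos n)).pow _).mul isIntegral_algebraMap, ?_⟩
    rw [mul_left_comm, ← ht, Finset.mul_sum]
    refine Finset.sum_congr rfl fun u _ => ?_
    rw [map_pow, hσ u _ hζ.pow_eq_one, ← pow_mul, mul_comm _ l, pow_mul, hsplit, mul_pow,
      AddChar.mul_apply, AddChar.zmodChar_apply, pow_eq_pow_mod (M u) hαn, hM1 u,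
      ← pow_eq_pow_mod _ hαn, pow_one, pow_eq_pow_mod (M u) hβn, hM2 u, ← pow_eq_pow_mod _ hβn]
    ring
  clear hx hxK
  induction P using Polynomial.induction_on' with
  | add f g hf hg =>
    simp only [map_add, mul_add, Finset.sum_add_distrib]
    exact IDvd.add hf hg
  | monomial l c =>
    simp only [Polynomial.aeval_monomial, map_mul, algebraMap_int_eq, eq_intCast, map_intCast,
      mul_left_comm _ (c : ℂ), ← Finset.mul_sum]
    rw [mul_comm]
    exact (hterm l).mul_right isIntegral_algebraMap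

end Aux

theorem value_mem_adjoin {G : Type*} [Group G] [Finite G] {χ : G → ℂ} (hχ : IsCharacter G χ)
    {ζ : ℂ} (hζ : IsPrimitiveRoot ζ (Nat.card G)) (g : G) :
    χ g ∈ IntermediateField.adjoin ℚ ({ζ} : Set ℂ) := by
  obtain ⟨N, ρ, hρ⟩ := hχ
  haveI : NeZero (Nat.card G) := ⟨Nat.card_pos.ne'⟩
  obtain ⟨b, μ, hμ, -, h⟩ :=
    CharClifford.exists_eigenvalues ρ g Nat.card_pos.ne' pow_card_eq_one'
  have hmem : ∀ i, μ i ∈ IntermediateField.adjoin ℚ ({ζ} : Set ℂ) := fun i => by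
    obtain ⟨j, -, hj⟩ := hζ.eq_pow_of_pow_eq_one (hμ i)
    exact hj ▸ pow_mem (IntermediateField.mem_adjoin_simple_self ℚ ζ) j
  rw [← hρ, ← pow_one g, h 1]
  exact sum_mem fun i _ => pow_mem (hmem i) 1

section Main

variable {G : Type*} [Group G] [Finite G] {p : ℕ} [hp : Fact p.Prime]

/-- The `p`-conjugates of a function, as in the statement. -/
def orbitSet (p : ℕ) (χ : G → ℂ) : Set (IrrCharacter G) :=
  {ψ | ∃ σ : ℂ ≃+* ℂ,
    σ (Complex.exp (2 * Real.pi * Complex.I / ((Nat.card G / p ^ (Nat.card G).factorization p) : ℕ))) =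
      Complex.exp (2 * Real.pi * Complex.I / ((Nat.card G / p ^ (Nat.card G).factorization p) : ℕ)) ∧
    (ψ : G → ℂ) = fun g => σ (χ g)}

set_option maxHeartbeats 1000000 in
/-- The `p`-part of the degree times the number of `p`-conjugates. -/
theorem factorization_orbit_mul_degree (χ : IrrCharacter G) {d r : ℕ}
    (hd : (χ : G → ℂ) 1 = (d : ℂ))
    (hr : Nat.card (orbitSet p (χ : G → ℂ)) = r) :
    r ≠ 0 ∧ (r.factorization p + d.factorization p ≤ (Nat.card G).factorization p) ∧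
      ((Nat.card G).factorization p ≤ r.factorization p + d.factorization p →
        r.factorization p = 0) := by
  classical
  letI := Fintype.ofFinite G
  have hpp : p.Prime := hp.out
  set n := Nat.card G with hn
  have hn0 : n ≠ 0 := Nat.card_pos.ne'
  set a := n.factorization p with ha
  set g' := n / p ^ a with hg'
  have hng : g' * p ^ a = n := Nat.div_mul_cancel (Nat.ordProj_dvd n p)
  have hg0 : g' ≠ 0 := fun h => hn0 (by rw [← hng, h, zero_mul])
  have hgp : ¬ p ∣ g' := Nat.not_dvd_ordCompl hpp hn0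
  have hcop : g'.Coprime (p ^ a) :=
    Nat.Coprime.pow_right a ((hpp.coprime_iff_not_dvd.mpr hgp).symm)
  haveI : NeZero (p ^ a) := ⟨pow_ne_zero a hpp.ne_zero⟩
  haveI : NeZero n := ⟨hn0⟩
  -- exponents
  obtain ⟨M, hM1, hM2⟩ : ∃ M : ZMod (p ^ a) → ℕ,
      (∀ x, M x ≡ 1 [MOD g']) ∧ ∀ x, M x ≡ x.val [MOD p ^ a] :=
    ⟨fun x => Nat.chineseRemainder hcop 1 x.val,
      fun x => (Nat.chineseRemainder hcop 1 x.val).2.1,
      fun x => (Nat.chineseRemainder hcop 1 x.val).2.2⟩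
  have hmod : ∀ {A B : ℕ}, A ≡ B [MOD g'] → A ≡ B [MOD p ^ a] → A ≡ B [MOD n] := fun h1 h2 =>
    hng ▸ (Nat.modEq_and_modEq_iff_modEq_mul hcop).mp ⟨h1, h2⟩
  have hpow : ∀ (g : G) {A B : ℕ}, A ≡ B [MOD n] → g ^ A = g ^ B := fun g A B h =>
    pow_eq_pow_iff_modEq.mpr (h.of_dvd (orderOf_dvd_natCard g))
  have hMcop : ∀ u : (ZMod (p ^ a))ˣ, (M (u : ZMod (p ^ a))).Coprime n := by
    intro u
    rw [← hng, Nat.coprime_mul_iff_right]
    exact ⟨Nat.coprime_of_mul_modEq_one 1 (by rw [mul_one]; exact hM1 _),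
      ((hM2 _).symm.gcd_eq ▸ ZMod.val_coe_unit_coprime u : Nat.gcd (M (u : ZMod (p ^ a))) (p ^ a) = 1)⟩
  have hMmul : ∀ u v : (ZMod (p ^ a))ˣ, M ((u * v : (ZMod (p ^ a))ˣ) : ZMod (p ^ a)) ≡
      M (u : ZMod (p ^ a)) * M (v : ZMod (p ^ a)) [MOD n] := by
    intro u v
    refine hmod ((hM1 _).trans ((hM1 _).mul (hM1 _)).symm) ((hM2 _).trans ?_)
    rw [Units.val_mul, ZMod.val_mul]
    exact (Nat.mod_modEq _ _).trans ((hM2 _).mul (hM2 _)).symm
  choose σ hσ using fun u : (ZMod (p ^ a))ˣ => exists_ringEquiv_pow hn0 (hMcop u)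
  obtain ⟨F, hF⟩ : ∃ F : ZMod (p ^ a) → G → ℂ, ∀ x g, F x g = (χ : G → ℂ) (g ^ M x) :=
    ⟨_, fun _ _ => rfl⟩
  have hχc := CharCore.irr_isCharacter χ
  have hσF : ∀ (u : (ZMod (p ^ a))ˣ) g, σ u ((χ : G → ℂ) g) = F u g := by
    intro u g
    obtain ⟨N, ρ, hρ⟩ := hχc
    rw [hF, ← hρ]
    exact CharClifford.map_character ρ (σ u).toRingHom g hn0 pow_card_eq_one' (hσ u)
  have hFirr : ∀ u : (ZMod (p ^ a))ˣ, IsIrrCharacter G (F u) := fun u => by
    rw [show F u = fun g => (σ u).toRingHom ((χ : G → ℂ) g) from funext fun g => (hσF u g).symm]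
    exact OddChar.isIrrCharacter_map _ χ.2
  have hFmul : ∀ u v : (ZMod (p ^ a))ˣ, ∀ g, F ((u * v : (ZMod (p ^ a))ˣ) : ZMod (p ^ a)) g =
      F v (g ^ M (u : ZMod (p ^ a))) := fun u v g => by
    rw [hF, hF, ← pow_mul, hpow g (hMmul u v)]
  have hF1 : F ((1 : (ZMod (p ^ a))ˣ) : ZMod (p ^ a)) = χ := funext fun g => by
    rw [hF]
    refine congrArg (χ : G → ℂ) ((hpow g ?_).trans (pow_one g))
    refine hmod (hM1 _) ((hM2 _).trans ?_)
    rw [Units.val_one, ZMod.val_one_eq_one_mod]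
    exact Nat.mod_modEq _ _
  have hsurj : ∀ u : (ZMod (p ^ a))ˣ, Function.Surjective fun g : G => g ^ M (u : ZMod (p ^ a)) :=
    fun u => (CharClifford.bijective_pow_of_coprime (hMcop u)).2
  obtain ⟨H, hH⟩ : ∃ H : Subgroup (ZMod (p ^ a))ˣ, ∀ u, u ∈ H ↔ F u = χ := by
    refine ⟨{ carrier := {u | F u = χ}, one_mem' := hF1, mul_mem' := ?_, inv_mem' := ?_ },
      fun u => Iff.rfl⟩
    · intro u v hu hv
      refine funext fun g => ?_
      rw [hFmul, hv, ← hF, hu]
    · intro u hu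
      refine funext fun g => ?_
      obtain ⟨g, rfl⟩ := hsurj u g
      rw [← hFmul, mul_inv_cancel, hF1, ← hF, hu]
  have hrel : ∀ u v : (ZMod (p ^ a))ˣ, F u = F v ↔ u⁻¹ * v ∈ H := by
    intro u v
    rw [hH]
    constructor
    · intro h
      refine funext fun g => ?_
      obtain ⟨g, rfl⟩ := hsurj u g
      rw [← hFmul, mul_inv_cancel_left, ← h, hF]
    · intro h
      refine funext fun g => ?_
      rw [← mul_inv_cancel_left u v, hFmul, h, hF]
  -- the orbit
  have hidx : H.index = r := by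
    rw [← hr, Subgroup.index]
    have hmem : ∀ u : (ZMod (p ^ a))ˣ,
        (⟨F u, hFirr u⟩ : IrrCharacter G) ∈ orbitSet p (χ : G → ℂ) := by
      intro u
      refine ⟨σ u, ?_, funext fun g => (hσF u g).symm⟩
      have hζ := Complex.isPrimitiveRoot_exp g' hg0
      rw [hσ u _ (by rw [← hng, pow_mul, hζ.pow_eq_one, one_pow]),
        pow_eq_pow_mod _ hζ.pow_eq_one, hM1, ← pow_eq_pow_mod _ hζ.pow_eq_one, pow_one]
    let f : (ZMod (p ^ a))ˣ ⧸ H → orbitSet p (χ : G → ℂ) :=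
      Quotient.lift (fun u => ⟨⟨F u, hFirr u⟩, hmem u⟩) fun u v h =>
        Subtype.ext (Subtype.ext ((hrel u v).mpr (QuotientGroup.leftRel_apply.mp h)))
    refine Nat.card_congr (Equiv.ofBijective f ⟨?_, ?_⟩)
    · intro x y
      induction x using Quotient.inductionOn with
      | _ u =>
      induction y using Quotient.inductionOn with
      | _ v =>
      intro h
      exact Quotient.sound (QuotientGroup.leftRel_apply.mpr
        ((hrel u v).mp (congrArg (fun z : orbitSet p (χ : G → ℂ) => ((z : IrrCharacter G) : G → ℂ)) h)))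
    · rintro ⟨ψ, τ, hτ, hψ⟩
      obtain ⟨m, hm, hτm⟩ := CharClifford.exists_pow_of_ringHom τ.toRingHom hn0
      have hζ := Complex.isPrimitiveRoot_exp g' hg0
      have hm1 : m ≡ 1 [MOD g'] := by
        have h := (hτm _ (by rw [← hng, pow_mul, hζ.pow_eq_one, one_pow])).symm.trans hτ
        rw [hζ.eq_orderOf]
        refine (IsOfFinOrder.pow_eq_pow_iff_modEq ?_).mp (h.trans (pow_one _).symm)
        exact isOfFinOrder_iff_pow_eq_one.mpr ⟨g', Nat.pos_of_ne_zero hg0, hζ.pow_eq_one⟩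
      let u : (ZMod (p ^ a))ˣ := ZMod.unitOfCoprime m
        (hm.coprime_dvd_right (Dvd.intro_left g' hng))
      refine ⟨Quotient.mk'' u, Subtype.ext (Subtype.ext ?_)⟩
      show F u = (ψ : G → ℂ)
      rw [hψ]
      refine funext fun g => ?_
      obtain ⟨N, ρ, hρ⟩ := hχc
      rw [hF, hpow g (show M (u : ZMod (p ^ a)) ≡ m [MOD n] from hmod ((hM1 _).trans hm1.symm)
        ((hM2 _).trans (by rw [ZMod.coe_unitOfCoprime, ZMod.val_natCast]; exact Nat.mod_modEq _ _))),
        ← hρ]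
      exact (CharClifford.map_character ρ τ.toRingHom g hn0 pow_card_eq_one' hτm).symm
  have hr0 : r ≠ 0 := hidx ▸ Subgroup.index_ne_zero_of_finite
  have hd0 : d ≠ 0 := fun h =>
    CharCore.irr_apply_one_ne_zero χ (by rw [hd, h, Nat.cast_zero])
  have hdn : d ∣ n := by
    have := BlocksCore.charDegree_dvd_card χ
    rwa [charDegree, hd, Complex.natCast_re, Nat.floor_natCast] at this
  set k := r.factorization p with hk
  set e := d.factorization p with he
  have hea : e ≤ a := (Nat.factorization_le_iff_dvd hd0 hn0).mpr hdn p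
  suffices hmain : 0 < k → k + e < a by
    refine ⟨hr0, ?_, fun h => ?_⟩
    · rcases Nat.eq_zero_or_pos k with h | h
      · rw [h, zero_add]; exact hea
      · exact (hmain h).le
    · rcases Nat.eq_zero_or_pos k with h' | h'
      · exact h'
      · exact absurd (hmain h') (not_lt.mpr h)
  intro hk0
  by_contra hlt
  -- the least level `m` with `χ` defined modulo `p ^ m`
  obtain ⟨m, hma, hmH, hmmin⟩ : ∃ (m : ℕ) (_ : m ≤ a),
      (∀ u : (ZMod (p ^ a))ˣ, (u : ZMod (p ^ a)).val ≡ 1 [MOD p ^ m] → u ∈ H) ∧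
      ∀ j < m, ∃ u : (ZMod (p ^ a))ˣ, (u : ZMod (p ^ a)).val ≡ 1 [MOD p ^ j] ∧ u ∉ H := by
    have hex : ∃ j, ∀ u : (ZMod (p ^ a))ˣ, (u : ZMod (p ^ a)).val ≡ 1 [MOD p ^ j] → u ∈ H := by
      refine ⟨a, fun u hu => ?_⟩
      rw [← ZMod.natCast_eq_natCast_iff, ZMod.natCast_zmod_val, Nat.cast_one,
        Units.val_eq_one] at hu
      exact hu ▸ one_mem H
    refine ⟨Nat.find hex, Nat.find_le fun u hu => ?_, Nat.find_spec hex, fun j hj => ?_⟩
    · rw [← ZMod.natCast_eq_natCast_iff, ZMod.natCast_zmod_val, Nat.cast_one,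
        Units.val_eq_one] at hu
      exact hu ▸ one_mem H
    · have h := Nat.find_min hex hj
      push Not at h
      exact h
  have hpm : p ^ m ∣ p ^ a := pow_dvd_pow p hma
  haveI : NeZero (p ^ m) := ⟨pow_ne_zero m hpp.ne_zero⟩
  set red := ZMod.unitsMap hpm with hred
  have hredval : ∀ u : (ZMod (p ^ a))ˣ,
      red u = 1 ↔ (u : ZMod (p ^ a)).val ≡ 1 [MOD p ^ m] := by
    intro u
    rw [← ZMod.natCast_eq_natCast_iff, Nat.cast_one, Units.ext_iff, Units.val_one, hred,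
      ZMod.unitsMap_def, Units.coe_map, MonoidHom.coe_coe, ZMod.castHom_apply, ZMod.natCast_val]
  have hker : red.ker ≤ H := fun u hu => hmH u ((hredval u).mp hu)
  have hkidx : red.ker.index = Nat.totient (p ^ m) := by
    rw [Subgroup.index_ker, MonoidHom.range_eq_top.mpr (ZMod.unitsMap_surjective hpm),
      Subgroup.card_top, Nat.card_eq_fintype_card, ZMod.card_units_eq_totient]
  have hrdvd : r ∣ Nat.totient (p ^ m) := hidx ▸ hkidx ▸ Subgroup.index_dvd_of_le hker
  have hpk : p ^ k ∣ r := Nat.ordProj_dvd r p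
  have hm2 : 2 ≤ m := by
    by_contra h
    have hp2 := hpp.two_le
    have h1 : p ∣ Nat.totient (p ^ m) := ((dvd_pow_self p hk0.ne').trans hpk).trans hrdvd
    rcases Nat.lt_succ_iff.mp (not_le.mp h) |>.eq_or_lt with h' | h'
    · rw [h', pow_one, Nat.totient_prime hpp] at h1
      exact absurd (Nat.le_of_dvd (by omega) h1) (by omega)
    · rw [Nat.lt_one_iff.mp h', pow_zero, Nat.totient_one] at h1
      exact hpp.not_dvd_one h1
  have hkm : k ≤ m - 1 := by
    have h1 : p ^ k ∣ p ^ (m - 1) * (p - 1) :=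
      Nat.totient_prime_pow hpp (show 0 < m by omega) ▸ hpk.trans hrdvd
    refine (Nat.pow_dvd_pow_iff_le_right hpp.one_lt).mp
      ((Nat.Coprime.dvd_of_dvd_mul_right ?_) h1)
    refine Nat.Coprime.pow_left k (hpp.coprime_iff_not_dvd.mpr fun h => ?_)
    have := hpp.two_le
    exact absurd (Nat.le_of_dvd (by omega) h) (by omega)
  have ha1 : 1 ≤ a := by omega
  -- the character `ψ` of order `p ^ m`
  set μ := Complex.exp (2 * Real.pi * Complex.I / (p ^ m : ℕ)) with hμdef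
  have hμ : IsPrimitiveRoot μ (p ^ m) := Complex.isPrimitiveRoot_exp _ (NeZero.ne _)
  have hμa : μ ^ p ^ a = 1 := (hμ.pow_eq_one_iff_dvd _).mpr hpm
  set ψ := AddChar.zmodChar (p ^ a) hμa with hψ
  have hψ1 : ∀ x : ZMod (p ^ a), ψ x = 1 ↔ p ^ m ∣ x.val := fun x => by
    rw [hψ, AddChar.zmodChar_apply]
    exact hμ.pow_eq_one_iff_dvd _
  have hψcast : ∀ x : ZMod (p ^ a), p ^ m ∣ x.val ↔ ZMod.castHom hpm (ZMod (p ^ m)) x = 0 :=
    fun x => by rw [← ZMod.natCast_eq_zero_iff, ZMod.castHom_apply, ZMod.natCast_val]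
  -- the only elements of `H` congruent to one modulo `p ^ (m - 1)` are in the kernel
  have hsep : ∀ h : (ZMod (p ^ a))ˣ, h ∈ H →
      ψ ((p : ZMod (p ^ a)) * ((h : ZMod (p ^ a)) - 1)) = 1 → red h = 1 := by
    intro h hh hψh
    by_contra hne
    have hm1 : p ^ (m - 1) ∣ p ^ m := pow_dvd_pow p (by omega)
    haveI : NeZero (p ^ (m - 1)) := ⟨pow_ne_zero _ hpp.ne_zero⟩
    set red' := ZMod.unitsMap hm1 with hred'
    have hmem : red h ∈ red'.ker := by
      rw [hψ1, hψcast, map_mul, map_sub, map_one, map_natCast] at hψh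
      set y := ((red h : (ZMod (p ^ m))ˣ) : ZMod (p ^ m)) - 1 with hy
      have hy0 : (p : ZMod (p ^ m)) * y = 0 := hψh
      rw [← ZMod.natCast_zmod_val y, ← Nat.cast_mul, ZMod.natCast_eq_zero_iff] at hy0
      have hdvd : p ^ (m - 1) ∣ y.val := by
        refine Nat.dvd_of_mul_dvd_mul_left hpp.pos ?_
        rw [← pow_succ', show m - 1 + 1 = m by omega]
        exact hy0
      have hc : ZMod.castHom hm1 (ZMod (p ^ (m - 1))) y = 0 := by
        rw [ZMod.castHom_apply, ← ZMod.natCast_val, ZMod.natCast_eq_zero_iff]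
        exact hdvd
      rw [hy, map_sub, map_one, sub_eq_zero] at hc
      exact Units.ext hc
    have hcard : Nat.card red'.ker = p := by
      have h1 := Subgroup.card_mul_index red'.ker
      rw [Subgroup.index_ker, MonoidHom.range_eq_top.mpr (ZMod.unitsMap_surjective hm1),
        Subgroup.card_top, natCard_units, natCard_units,
        Nat.totient_prime_pow hpp (show 0 < m by omega),
        Nat.totient_prime_pow hpp (show 0 < m - 1 by omega)] at h1
      refine Nat.eq_of_mul_eq_mul_right (m := p ^ (m - 1 - 1) * (p - 1)) ?_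
        (h1.trans ?_)
      swap
      · rw [← mul_assoc, ← pow_succ', show m - 1 - 1 + 1 = m - 1 by omega]
      have := hpp.two_le
      exact Nat.mul_pos (pow_pos hpp.pos _) (by omega)
    obtain ⟨u, hu, huH⟩ := hmmin (m - 1) (by omega)
    have hum : red u ∈ red'.ker := by
      rw [MonoidHom.mem_ker, hred', hred, ← MonoidHom.comp_apply, ZMod.unitsMap_comp]
      refine Units.ext ?_
      rw [← ZMod.natCast_eq_natCast_iff, Nat.cast_one, ZMod.natCast_val] at hu
      rw [ZMod.unitsMap_def, Units.coe_map, MonoidHom.coe_coe, ZMod.castHom_apply, Units.val_one]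
      exact hu
    obtain ⟨s, hs⟩ := mem_powers_of_prime_card hcard
      (g := (⟨red h, hmem⟩ : red'.ker)) (g' := ⟨red u, hum⟩) (fun hc => hne (congrArg Subtype.val hc))
    have hs' : red h ^ s = red u := congrArg Subtype.val hs
    have hker' : (h ^ s)⁻¹ * u ∈ H := hker (by
      rw [MonoidHom.mem_ker, map_mul, map_inv, map_pow, hs', inv_mul_cancel])
    exact huH (by simpa using mul_mem (pow_mem hh s) hker')
  -- the twisted sum
  obtain ⟨Φ, hΦ⟩ : ∃ Φ : G → ℂ, Φ = ∑ u : (ZMod (p ^ a))ˣ, ψ (u : ZMod (p ^ a)) • F u := ⟨_, rfl⟩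
  have hΦa : ∀ g, Φ g = ∑ u : (ZMod (p ^ a))ˣ, ψ (u : ZMod (p ^ a)) * F u g := fun g => by
    rw [hΦ]; simp [Finset.sum_apply]
  set E := Nat.card red.ker * Nat.totient (p ^ a) with hE
  have hkerψ : ∀ w ∈ red.ker, ∀ x : ZMod (p ^ a), ψ (x * ((w : ZMod (p ^ a)) - 1)) = 1 := by
    intro w hw x
    rw [hψ1, hψcast, map_mul, map_sub, map_one,
      show ZMod.castHom hpm (ZMod (p ^ m)) (w : ZMod (p ^ a)) = 1 from
        congrArg Units.val (MonoidHom.mem_ker.mp hw), sub_self, mul_zero]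
  have hnorm : ∑ g, Φ g * conj (Φ g) = ((n * E : ℕ) : ℂ) :=
    hΦ ▸ norm_sum ψ (fun u => F u) (fun u => hFirr u) H hrel red.ker hker hkerψ
      (fun h hh hψh => MonoidHom.mem_ker.mpr (hsep h hh hψh))
  -- values
  set ζ := Complex.exp (2 * Real.pi * Complex.I / n) with hζdef
  have hζ : IsPrimitiveRoot ζ n := Complex.isPrimitiveRoot_exp n hn0
  have hval : ∀ g, (χ : G → ℂ) g ∈ IntermediateField.adjoin ℚ ({ζ} : Set ℂ) :=
    value_mem_adjoin hχc hζ
  have htrace : ∀ x : ℂ, IsIntegral ℤ x → x ∈ IntermediateField.adjoin ℚ ({ζ} : Set ℂ) →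
      IDvd (p ^ (a - 1)) (∑ u : (ZMod (p ^ a))ˣ, ψ (u : ZMod (p ^ a)) * σ u x) :=
    fun x hx hxK => trace_dvd ha1 hng hcop hζ ψ (fun u => (σ u).toRingHom) (fun u => M u)
      (fun u => hM1 _) (fun u => hM2 _) hσ hx hxK
  -- every class sum is highly divisible
  have hclass : ∀ g : G, IDvd (p ^ (3 * a - m))
      (((Subgroup.centralizer ({g} : Set G)).index : ℂ) * (Φ g * conj (Φ g))) := by
    intro g
    set c := (Subgroup.centralizer ({g} : Set G)).index with hc
    have hord : orderOf g ∣ g' * p ^ a := hng ▸ orderOf_dvd_natCard g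
    by_cases hbig : p ^ m ∣ orderOf g
    · have hc0 : c ≠ 0 := Subgroup.index_ne_zero_of_finite
      set v := c.factorization p with hv
      have hva : v + m ≤ a := by
        have h1 : p ^ v * p ^ m ∣ n := by
          refine (Nat.mul_dvd_mul (Nat.ordProj_dvd c p) hbig).trans ?_
          rw [hn, ← Subgroup.card_mul_index (Subgroup.centralizer ({g} : Set G)), ← hc, mul_comm]
          refine Nat.mul_dvd_mul_right ?_ _
          rw [← Nat.card_zpowers]
          exact Subgroup.card_dvd_of_le (Subgroup.zpowers_le.mpr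
            (Subgroup.mem_centralizer_singleton_iff.mpr rfl))
        rw [← pow_add] at h1
        exact (hpp.pow_dvd_iff_le_factorization hn0).mp h1
      have hve : v ≤ e := by omega
      set c' := c / p ^ v with hc'
      have hcc : p ^ v * c' = c := Nat.mul_div_cancel' (Nat.ordProj_dvd c p)
      set d' := d / p ^ e with hd'
      have hdd : p ^ e * d' = d := Nat.mul_div_cancel' (Nat.ordProj_dvd d p)
      set w := centralChar (χ : G → ℂ) g with hw
      have hwint : IsIntegral ℤ w := BlocksCore.isIntegral_centralChar χ g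
      have hχg : (c' : ℂ) * (χ : G → ℂ) g = ((p ^ (e - v) : ℕ) : ℂ) * ((d' : ℂ) * w) := by
        have h1 : (c : ℂ) * (χ : G → ℂ) g = (d : ℂ) * w := by
          rw [hw, centralChar, hd, ← hc, mul_div_cancel₀ _ (Nat.cast_ne_zero.2 hd0)]
        refine mul_left_cancel₀ (Nat.cast_ne_zero.2 (pow_ne_zero v hpp.ne_zero) :
          ((p ^ v : ℕ) : ℂ) ≠ 0) ?_
        rw [← mul_assoc, ← mul_assoc, ← Nat.cast_mul, ← Nat.cast_mul, hcc, ← pow_add,
          show v + (e - v) = e by omega, ← mul_assoc, ← Nat.cast_mul, hdd, h1]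
      set x := (χ : G → ℂ) g / ((p ^ (e - v) : ℕ) : ℂ) with hx
      have hs0 : ((p ^ (e - v) : ℕ) : ℂ) ≠ 0 := Nat.cast_ne_zero.2 (pow_ne_zero _ hpp.ne_zero)
      have hxχ : (χ : G → ℂ) g = ((p ^ (e - v) : ℕ) : ℂ) * x := by
        rw [hx, mul_div_cancel₀ _ hs0]
      have hxint : IsIntegral ℤ x := by
        have hcop' : Nat.Coprime c' (p ^ (e - v)) :=
          Nat.Coprime.pow_right _ ((hpp.coprime_iff_not_dvd.mpr
            (Nat.not_dvd_ordCompl hpp hc0)).symm)
        obtain ⟨A, B, hAB⟩ := Nat.isCoprime_iff_coprime.mpr hcop'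
        have : x = (A : ℂ) * ((d' : ℂ) * w) + (B : ℂ) * (χ : G → ℂ) g := by
          have h1 : ((A : ℂ) * (c' : ℂ) + (B : ℂ) * ((p ^ (e - v) : ℕ) : ℂ)) = 1 := by
            exact_mod_cast hAB
          rw [hxχ] at hχg
          refine mul_left_cancel₀ hs0 ?_
          linear_combination (-((p ^ (e - v) : ℕ) : ℂ) * x) * h1 + (A : ℂ) * hχg +
            (B : ℂ) * ((p ^ (e - v) : ℕ) : ℂ) * hxχ.symm
        rw [this]
        exact (isIntegral_algebraMap.mul ((isIntegral_natCast d').mul hwint)).add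
          (isIntegral_algebraMap.mul (BlocksCore.isIntegral_irr χ g))
      have hxK : x ∈ IntermediateField.adjoin ℚ ({ζ} : Set ℂ) :=
        div_mem (hval g) (natCast_mem _ _)
      have h1 : IDvd (p ^ (e - v) * p ^ (a - 1)) (Φ g) := by
        rw [hΦa]
        have h2 := IDvd.mul (⟨1, isIntegral_one, (mul_one _).symm⟩ :
          IDvd (p ^ (e - v)) ((p ^ (e - v) : ℕ) : ℂ)) (htrace x hxint hxK)
        rw [Finset.mul_sum] at h2
        rwa [Finset.sum_congr rfl fun u _ => ?_] at h2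
        rw [← hσF u g, hxχ, map_mul, map_natCast]
        ring
      have h3 : IDvd (p ^ v) (c : ℂ) :=
        ⟨(c' : ℂ), isIntegral_natCast c', by rw [← Nat.cast_mul, hcc]⟩
      refine (h3.mul (h1.mul h1.conj)).of_dvd ?_
      rw [← pow_add, ← pow_add, ← pow_add]
      exact pow_dvd_pow p (by omega)
    · have hord' : orderOf g ∣ g' * p ^ (m - 1) := by
        obtain ⟨y, z, hy, hz, hyz⟩ := Nat.dvd_mul.mp hord
        obtain ⟨j, -, rfl⟩ := (Nat.dvd_prime_pow hpp).mp hz
        rw [← hyz]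
        refine Nat.mul_dvd_mul hy (pow_dvd_pow p ?_)
        by_contra hj
        exact hbig (hyz ▸ (pow_dvd_pow p (show m ≤ j by omega)).mul_left y)
      set ε : ZMod (p ^ a) := ((p ^ (m - 1) : ℕ) : ZMod (p ^ a)) with hεdef
      have hεv : ε.val = p ^ (m - 1) := by
        rw [hεdef, ZMod.val_natCast, Nat.mod_eq_of_lt (Nat.pow_lt_pow_right hpp.one_lt (by omega))]
      have hεψ : ψ ε ≠ 1 := by
        rw [Ne, hψ1, hεv]
        intro h
        have := (Nat.pow_dvd_pow_iff_le_right hpp.one_lt).mp h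
        omega
      have hεp : (p : ZMod (p ^ a)) ∣ ε :=
        ⟨((p ^ (m - 2) : ℕ) : ZMod (p ^ a)), by
          rw [hεdef, ← Nat.cast_mul, ← pow_succ', show m - 2 + 1 = m - 1 by omega]⟩
      have hFε : ∀ x : ZMod (p ^ a), F (x + ε) g = F x g := by
        intro x
        rw [hF, hF]
        refine congrArg (χ : G → ℂ) ?_
        refine pow_eq_pow_iff_modEq.mpr (Nat.ModEq.of_dvd hord' ?_)
        refine (Nat.modEq_and_modEq_iff_modEq_mul
          (hcop.coprime_dvd_right (pow_dvd_pow p (by omega)))).mp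
          ⟨(hM1 _).trans (hM1 _).symm, ?_⟩
        refine ((hM2 _).of_dvd (pow_dvd_pow p (by omega))).trans
          (Nat.ModEq.trans ?_ ((hM2 _).of_dvd (pow_dvd_pow p (by omega))).symm)
        rw [ZMod.val_add, hεv]
        refine ((Nat.mod_modEq _ _).of_dvd (pow_dvd_pow p (by omega))).trans ?_
        exact Nat.add_mod_right _ _
      have hzero : Φ g = 0 := by
        rw [hΦa]
        have h := sum_units_add (fun x => ψ x * F x g) hεp
        simp only [AddChar.map_add_eq_mul, hFε, mul_assoc, mul_left_comm _ (ψ ε),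
          ← Finset.mul_sum] at h
        by_contra hne
        exact hεψ (mul_right_cancel₀ hne (h.trans (one_mul _).symm))
      rw [hzero, zero_mul, mul_zero]
      exact IDvd.zero _
  have hΦcl : IsClassFunction G Φ := fun g x => by
    rw [hΦa, hΦa]
    exact Finset.sum_congr rfl fun u _ => by
      rw [show F u (x * g * x⁻¹) = F u g from CharCore.irr_isClassFunction ⟨F u, hFirr u⟩ g x]
  haveI : Finite (ConjClasses G) := Finite.of_surjective _ ConjClasses.mk_surjective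
  letI := Fintype.ofFinite (ConjClasses G)
  have hdiv : IDvd (p ^ (3 * a - m)) ((n * E : ℕ) : ℂ) := by
    rw [← hnorm, BlocksDefect.sum_eq_sum_classes hΦcl (fun g x => by rw [hΦcl g x])]
    refine IDvd.sum _ fun C _ => ?_
    rw [mul_left_comm]
    exact hclass _
  obtain ⟨w, hw, hweq⟩ := hdiv
  have hint : p ^ (3 * a - m) ∣ n * E := Int.natCast_dvd_natCast.mp
    (int_dvd_of_eq_mul (pow_ne_zero _ hpp.ne_zero) hw (by exact_mod_cast hweq))
  have hkercard : Nat.card red.ker = p ^ (a - m) := by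
    have h1 := Subgroup.card_mul_index red.ker
    rw [hkidx, natCard_units,
      Nat.totient_prime_pow hpp (show 0 < m by omega),
      Nat.totient_prime_pow hpp (show 0 < a by omega)] at h1
    refine Nat.eq_of_mul_eq_mul_right (m := p ^ (m - 1) * (p - 1)) ?_ (h1.trans ?_)
    · have := hpp.two_le
      exact Nat.mul_pos (pow_pos hpp.pos _) (by omega)
    · rw [← mul_assoc, ← pow_add, show a - m + (m - 1) = a - 1 by omega]
  rw [hE, hkercard, Nat.totient_prime_pow hpp (show 0 < a by omega), ← hng,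
    show g' * p ^ a * (p ^ (a - m) * (p ^ (a - 1) * (p - 1))) =
      p ^ (a + (a - m) + (a - 1)) * (g' * (p - 1)) by rw [pow_add, pow_add]; ring,
    show 3 * a - m = a + (a - m) + (a - 1) + 1 by omega, pow_succ] at hint
  have h := Nat.dvd_of_mul_dvd_mul_left (pow_pos hpp.pos _) hint
  rcases hpp.dvd_mul.mp h with h | h
  · exact hgp h
  · have := hpp.two_le
    exact absurd (Nat.le_of_dvd (by omega) h) (by omega)

end Main

end Cfsg.Agent.BlkChar.PConj
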