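import Cfsg.Agent.BlkChar.RationalAction
import Cfsg.Agent.BlkChar.LargePrimes
import Cfsg.Agent.Lib.Thompson.QuadApply
import Cfsg.Agent.Lib.Coprime.SchurZassenhaus
import Cfsg.Agent.Lib.Coprime.Action
import Cfsg.Agent.Lib.Coprime.Hall
import Mathlib.GroupTheory.SchurZassenhaus

/-!
# Characters of small degree of `p`-solvable groups
-/

set_option linter.unusedSectionVars false

open Cfsg
open scoped ComplexConjugate

namespace Cfsg.Agent.BlkChar.PSolv

open Action

universe u

variable {G : Type u} [Group G] [Finite G] {p : ℕ} [hp : Fact p.Prime]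

/-- The `p`-part of `[G : O_p(G)]` acts faithfully on a `p'`-subgroup. -/
theorem exists_acting (hsolv : IsPSolvable p G) :
    ∃ H P₁ : Subgroup G, ¬ p ∣ Nat.card H ∧ IsPGroup p P₁ ∧
      P₁ ≤ Subgroup.normalizer (H : Set G) ∧
      (pCore p G).index.factorization p ≤
        ((P₁ ⊓ Subgroup.centralizer (H : Set G)).relIndex P₁).factorization p := by
  classical
  set Q₀ := pCore p G with hQ₀
  set π := QuotientGroup.mk' Q₀ with hπ
  set W := pPrimeCore p (G ⧸ Q₀) with hW
  set K := W.comap π with hK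
  have hQK : Q₀ ≤ K := fun x hx => by
    show π x ∈ W
    rw [show π x = 1 from (QuotientGroup.eq_one_iff x).mpr hx]
    exact one_mem _
  have hQp : IsPGroup p Q₀ := Thompson.isPGroup_pCore
  obtain ⟨j, hj⟩ := IsPGroup.iff_card.mp hQp
  have hidx : (Q₀.subgroupOf K).index = Nat.card W := by
    show Q₀.relIndex K = _
    rw [Thompson.relIndex_eq_card_map_mk', hK,
      Subgroup.map_comap_eq_self_of_surjective (QuotientGroup.mk'_surjective _)]
  have hWp : ¬ p ∣ Nat.card W := Thompson.not_dvd_card_pPrimeCore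
  obtain ⟨H', hH'⟩ := Subgroup.exists_right_complement'_of_coprime
    (N := Q₀.subgroupOf K) (by
      rw [hidx, Nat.card_congr (Subgroup.subgroupOfEquivOfLe hQK).toEquiv, hj]
      exact Nat.Coprime.pow_left j (hp.out.coprime_iff_not_dvd.mpr hWp))
  set H := H'.map K.subtype with hH
  have hHK : H ≤ K := Subgroup.map_subtype_le _
  have hHc : Nat.card H = Nat.card W := by
    rw [hH, ← Nat.card_congr (Subgroup.equivMapOfInjective _ _ K.subtype_injective).toEquiv, ← hidx]
    exact hH'.symm.index_eq_card.symm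
  have hpH : ¬ p ∣ Nat.card H := hHc ▸ hWp
  have hsup : K ≤ Q₀ ⊔ H := by
    intro x hx
    have h1 : (⟨x, hx⟩ : K) ∈ Q₀.subgroupOf K ⊔ H' := hH'.sup_eq_top.ge (Subgroup.mem_top _)
    obtain ⟨a, ha, b, hb, hab⟩ := Subgroup.mem_sup_of_normal_left.mp h1
    rw [show x = (a : G) * (b : G) from congrArg Subtype.val hab.symm]
    exact Subgroup.mul_mem_sup ha ⟨b, hb, rfl⟩
  have hmapH : H.map π = W := by
    refine le_antisymm ?_ ?_
    · rintro _ ⟨h, hh, rfl⟩
      exact hHK hh
    · intro w hw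
      obtain ⟨x, rfl⟩ := QuotientGroup.mk'_surjective Q₀ w
      obtain ⟨a, ha, b, hb, hab⟩ := Subgroup.mem_sup_of_normal_left.mp (hsup (show x ∈ K from hw))
      refine ⟨b, hb, ?_⟩
      rw [← hab, map_mul, show π a = 1 from (QuotientGroup.eq_one_iff a).mpr ha, one_mul]
  set N := Subgroup.normalizer (H : Set G) with hN
  -- Frattini
  have hfr : (⊤ : Subgroup G) ≤ Q₀ ⊔ N := by
    intro g _
    have hK_n : K.Normal := (inferInstance : W.Normal).comap π
    set Hg := H.map (MulAut.conj g).toMonoidHom with hHg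
    have hle : Hg ≤ Q₀ ⊔ H := by
      rintro _ ⟨h, hh, rfl⟩
      exact hsup (hK_n.conj_mem h (hHK hh) g)
    have hcop : (Nat.card H).Coprime (Nat.card Q₀) := by
      rw [hj]; exact Nat.Coprime.pow_right j ((hp.out.coprime_iff_not_dvd.mpr hpH).symm)
    have hcard : Nat.card Hg = Nat.card H :=
      (Nat.card_congr (Subgroup.equivMapOfInjective _ _ (MulAut.conj g).injective).toEquiv).symm
    have hnorm : ∀ L : Subgroup G, L ≤ Subgroup.normalizer (Q₀ : Set G) := fun L => by
      rw [Subgroup.normalizer_eq_top]; exact le_top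
    obtain ⟨n, hn, hn'⟩ := Coprime.exists_conj_le Q₀ Hg H (hnorm _) (hnorm _) hle
      (hcard ▸ hcop) hcop (Or.inr (by
        haveI := hQp.isNilpotent
        exact inferInstance))
    have hng : n * g ∈ N := by
      have h1 : H.map (MulAut.conj (n * g)).toMonoidHom = H := by
        refine Subgroup.eq_of_le_of_card_ge ?_ (le_of_eq
          (Nat.card_congr (Subgroup.equivMapOfInjective _ _ (MulAut.conj (n * g)).injective).toEquiv))
        rintro _ ⟨h, hh, rfl⟩
        have h2 := hn' _ ⟨h, hh, rfl⟩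
        simpa [MulAut.conj_apply, mul_assoc] using h2
      exact Subgroup.mem_normalizer_iff_map_conj_eq.mpr h1
    have : g = n⁻¹ * (n * g) := by group
    rw [this]
    exact Subgroup.mul_mem_sup (Q₀.inv_mem hn) hng
  obtain ⟨S₁⟩ := (inferInstance : Nonempty (Sylow p N))
  set P₁ := (S₁ : Subgroup N).map N.subtype with hP₁
  have hP₁N : P₁ ≤ N := Subgroup.map_subtype_le _
  have hP₁p : IsPGroup p P₁ := S₁.isPGroup'.map _
  refine ⟨H, P₁, hpH, hP₁p, hP₁N, ?_⟩
  set C := P₁ ⊓ Subgroup.centralizer (H : Set G) with hC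
  have hCQ : C ≤ Q₀ ⊓ N := by
    rintro y ⟨hyP, hyC⟩
    refine ⟨?_, hP₁N hyP⟩
    have h1 : π y ∈ Subgroup.centralizer (W : Set (G ⧸ Q₀)) := by
      refine Subgroup.mem_centralizer_iff.mpr fun w hw => ?_
      rw [SetLike.mem_coe, ← hmapH] at hw
      obtain ⟨h, hh, rfl⟩ := hw
      rw [← map_mul, ← map_mul, Subgroup.mem_centralizer_iff.mp hyC h hh]
    have h2 := Thompson.centralizer_pPrimeCore_le (Thompson.isPSolvable_quotient Q₀ hsolv)
      Thompson.pCore_quotient_pCore h1
    obtain ⟨k, hk⟩ := IsPGroup.iff_orderOf.mp hP₁p ⟨y, hyP⟩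
    rw [Subgroup.orderOf_mk] at hk
    refine (QuotientGroup.eq_one_iff y).mp ?_
    show π y = 1
    rw [← orderOf_eq_one_iff]
    have h3 : orderOf (π y) ∣ p ^ k := hk ▸ orderOf_map_dvd π y
    have h4 : orderOf (π y) ∣ Nat.card W := Subgroup.orderOf_dvd_natCard W h2
    exact Nat.eq_one_of_dvd_coprimes (Nat.Coprime.pow_left k (hp.out.coprime_iff_not_dvd.mpr hWp)) h3 h4
  have h1 : Q₀.index = Q₀.relIndex N := by
    rw [← Subgroup.relIndex_top_right, ← le_antisymm le_top hfr, sup_comm, Subgroup.relIndex_sup_right]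
  have h2 : (Q₀ ⊓ N).relIndex N * Nat.card ↥(Q₀ ⊓ N) = Nat.card N := by
    rw [Subgroup.relIndex, ← Nat.card_congr (Subgroup.subgroupOfEquivOfLe inf_le_right).toEquiv,
      mul_comm, Subgroup.card_mul_index]
  have h3 : C.relIndex P₁ * Nat.card C = Nat.card P₁ := by
    rw [Subgroup.relIndex, ← Nat.card_congr (Subgroup.subgroupOfEquivOfLe (inf_le_left : C ≤ P₁)).toEquiv,
      mul_comm, Subgroup.card_mul_index]
  have h4 : (Nat.card P₁).factorization p = (Nat.card N).factorization p := by
    rw [hP₁, ← Nat.card_congr (Subgroup.equivMapOfInjective _ _ N.subtype_injective).toEquiv,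
      Sylow.card_eq_multiplicity, hp.out.factorization_pow, Finsupp.single_eq_same]
  have h5 := (Nat.factorization_le_iff_dvd Nat.card_pos.ne' Nat.card_pos.ne').mpr
    (Subgroup.card_dvd_of_le hCQ) p
  rw [h1, ← Subgroup.inf_relIndex_right]
  have e2 := congrArg (fun t : ℕ => t.factorization p) h2
  have e3 := congrArg (fun t : ℕ => t.factorization p) h3
  simp only [Subgroup.relIndex] at e2 e3 ⊢
  rw [Nat.factorization_mul Subgroup.index_ne_zero_of_finite Nat.card_pos.ne', Finsupp.add_apply] at e2 e3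
  omega

/-- The action of a `p`-group on a `p'`-group through a character of bounded degree. -/
theorem bound_on_sup {H P₁ : Subgroup G} (hpH : ¬ p ∣ Nat.card H) (hP : IsPGroup p P₁)
    (hPN : P₁ ≤ Subgroup.normalizer (H : Set G)) {φ : ↥(H ⊔ P₁) → ℂ} (hφ : IsCharacter ↥(H ⊔ P₁) φ)
    {n : ℕ} (hn : φ 1 = n) :
    ∃ K : Subgroup P₁, K.index.factorization p ≤ schurBound p n ∧ (∃ k, K.index = p ^ k) ∧
      ∀ y ∈ K, ∀ (h : G) (hh : h ∈ H),
        φ (⟨(y : G), Subgroup.mem_sup_right y.2⟩ * ⟨h, Subgroup.mem_sup_left hh⟩ *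
          ⟨(y : G), Subgroup.mem_sup_right y.2⟩⁻¹ * ⟨h, Subgroup.mem_sup_left hh⟩⁻¹) = φ 1 := by
  classical
  letI := Fintype.ofFinite ↥(H ⊔ P₁)
  set H' := H.subgroupOf (H ⊔ P₁)
  set S' := P₁.subgroupOf (H ⊔ P₁)
  haveI : H'.Normal := (Subgroup.normal_subgroupOf_iff_le_normalizer le_sup_left).mpr
    (sup_le Subgroup.le_normalizer hPN)
  letI := Fintype.ofFinite H'
  let eS : S' ≃* P₁ := Subgroup.subgroupOfEquivOfLe le_sup_right
  have hcop : (Nat.card H').Coprime (Nat.card S') := by
    rw [Nat.card_congr (Subgroup.subgroupOfEquivOfLe (le_sup_left : H ≤ H ⊔ P₁)).toEquiv,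
      Nat.card_congr eS.toEquiv]
    obtain ⟨j, hj⟩ := IsPGroup.iff_card.mp hP
    rw [hj]
    exact Nat.Coprime.pow_right j ((hp.out.coprime_iff_not_dvd.mpr hpH).symm)
  have htop : H' ⊔ S' = ⊤ := by
    rw [← Subgroup.subgroupOf_sup le_sup_left le_sup_right]
    exact Subgroup.subgroupOf_self _
  obtain ⟨K, hK1, ⟨k, hK2⟩, hK3⟩ := bound_of_action H' S' hp.out hcop htop
    (hP.of_equiv eS.symm) φ hφ hn
  have hidx : (K.map eS.toMonoidHom).index = K.index :=
    Subgroup.index_map_of_bijective (f := eS.toMonoidHom) eS.bijective K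
  refine ⟨K.map eS.toMonoidHom, hidx ▸ hK1, ⟨k, hidx.trans hK2⟩, ?_⟩
  rintro _ ⟨y, hy, rfl⟩ h hh
  exact hK3 y hy ⟨h, Subgroup.mem_sup_left hh⟩ (Subgroup.mem_subgroupOf.mpr hh)

/-- Schur's bound for the `p`-part of `[G : O_p(G)]`. -/
theorem factorization_index_pCore_le (hsolv : IsPSolvable p G) {χ : G → ℂ}
    (hχ : IsCharacter G χ) (hfaith : ∀ g : G, χ g = χ 1 → g = 1) {n : ℕ} (hn : χ 1 = n) :
    (pCore p G).index.factorization p ≤ schurBound p n := by
  classical
  obtain ⟨H, P₁, hpH, hP, hPN, hle⟩ := exists_acting hsolv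
  obtain ⟨K, hK1, -, hK3⟩ := bound_on_sup hpH hP hPN
    (φ := fun x : ↥(H ⊔ P₁) => χ x) (CharCore.isCharacter_restrict hχ _) hn
  refine hle.trans (le_trans ?_ hK1)
  refine (Nat.factorization_le_iff_dvd Subgroup.index_ne_zero_of_finite
    Subgroup.index_ne_zero_of_finite).mpr (Subgroup.index_dvd_of_le fun y hy => ?_) p
  refine Subgroup.mem_subgroupOf.mpr ⟨y.2, Subgroup.mem_centralizer_iff.mpr fun h hh => ?_⟩
  have h1 : (y : G) * h * (y : G)⁻¹ * h⁻¹ = 1 := hfaith _ (hK3 y hy h hh)
  calc h * (y : G) = ((y : G) * h * (y : G)⁻¹ * h⁻¹) * h * (y : G) := by rw [h1, one_mul]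
    _ = (y : G) * h := by group

/-- Degree below `p - 1` forces a normal Sylow subgroup. -/
theorem normal_sylow_of_small (hsolv : IsPSolvable p G) (P : Sylow p G)
    (h0 : (pCore p G).index.factorization p = 0) : (P : Subgroup G).Normal := by
  have h1 : pCore p G = (P : Subgroup G) := by
    refine Subgroup.eq_of_le_of_card_ge (Thompson.pCore_le_sylow P) (Nat.le_of_dvd Nat.card_pos ?_)
    rw [P.card_eq_multiplicity, ← (pCore p G).card_mul_index,
      Nat.factorization_mul Nat.card_pos.ne' Subgroup.index_ne_zero_of_finite, Finsupp.add_apply,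
      h0, Nat.add_zero]
    exact Nat.ordProj_dvd _ p
  rw [← h1]
  infer_instance

/-- Degree at most `p - 1` with a non-normal Sylow subgroup. -/
theorem structure_of_degree_le (hsolv : IsPSolvable p G) {χ : G → ℂ} (hχ : IsCharacter G χ)
    (hfaith : ∀ g : G, χ g = χ 1 → g = 1) {n : ℕ} (hn : χ 1 = n) (hnp : n + 1 ≤ p) (P : Sylow p G)
    (hP : ¬ (P : Subgroup G).Normal) :
    n + 1 = p ∧ (∃ k : ℕ, n = 2 ^ k) ∧ IsIrrCharacter G χ := by
  classical
  letI := Fintype.ofFinite G
  have ha : (pCore p G).index.factorization p ≠ 0 := fun h0 => hP (normal_sylow_of_small hsolv P h0)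
  have hnp1 : n + 1 = p := by
    by_contra hne
    have h1 := factorization_index_pCore_le hsolv hχ hfaith hn
    rw [schurBound_eq_zero hp.out.pos (by omega)] at h1
    omega
  refine ⟨hnp1, ?_, ?_⟩
  · -- a power of two
    obtain ⟨H, P₁, hpH, hP₁, hPN, hle⟩ := exists_acting hsolv
    obtain ⟨y, hy, hyC⟩ : ∃ y ∈ P₁, y ∉ Subgroup.centralizer (H : Set G) := by
      by_contra hall
      push Not at hall
      rw [inf_eq_left.mpr hall, Subgroup.relIndex_self, Nat.factorization_one] at hle
      simp only [Finsupp.coe_zero, Pi.zero_apply] at hle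
      omega
    set Y := Subgroup.zpowers y with hY
    have hYP : Y ≤ P₁ := Subgroup.zpowers_le.mpr hy
    have hYp : IsPGroup p Y := hP₁.to_le hYP
    have hYN : Y ≤ Subgroup.normalizer (H : Set G) := hYP.trans hPN
    obtain ⟨j, hj⟩ := IsPGroup.iff_card.mp hYp
    have hcopY : (Nat.card Y).Coprime (Nat.card H) := by
      rw [hj]; exact Nat.Coprime.pow_left j (hp.out.coprime_iff_not_dvd.mpr hpH)
    obtain ⟨q, hq, Q, hQY, hQc⟩ : ∃ q : ℕ, q.Prime ∧ ∃ Q : Sylow q H,
        Y ≤ Subgroup.normalizer ((Q : Subgroup H).map H.subtype : Set G) ∧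
        ¬ (Q : Subgroup H).map H.subtype ≤ Subgroup.centralizer ({y} : Set G) := by
      by_contra hall
      push Not at hall
      refine hyC ?_
      set C := Subgroup.centralizer ({y} : Set G)
      have htop : (C.subgroupOf H) = ⊤ := by
        rw [← Subgroup.index_eq_one]
        by_contra hne
        obtain ⟨q, hq, hqd⟩ := Nat.exists_prime_and_dvd hne
        haveI := Fact.mk hq
        obtain ⟨Q, hQ⟩ := Coprime.exists_invariant_sylow Y H hYN hcopY
          (Or.inl (by haveI := hYp.isNilpotent; exact inferInstance)) q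
        have h1 : (Q : Subgroup H) ≤ C.subgroupOf H := fun x hx =>
          Subgroup.mem_subgroupOf.mpr (hall q hq Q hQ ⟨x, hx, rfl⟩)
        exact Q.not_dvd_index (hqd.trans (Subgroup.index_dvd_of_le h1))
      refine Subgroup.mem_centralizer_iff.mpr fun h hh => ?_
      exact Subgroup.mem_centralizer_singleton_iff.mp
        (Subgroup.mem_subgroupOf.mp (htop.ge (Subgroup.mem_top (⟨h, hh⟩ : H))))
    haveI := Fact.mk hq
    set Q' := (Q : Subgroup H).map H.subtype with hQ'
    obtain ⟨i, hi⟩ := IsPGroup.iff_card.mp (Q.isPGroup'.map H.subtype)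
    have hpQ : ¬ p ∣ Nat.card Q' := fun h => hpH (h.trans
      (Subgroup.card_dvd_of_le (Subgroup.map_subtype_le _)))
    set X := Q' ⊔ Y
    letI := Fintype.ofFinite X
    have hφ : IsCharacter X (fun x : X => χ x) := CharCore.isCharacter_restrict hχ _
    obtain ⟨ξ, hξ, hξd⟩ : ∃ ξ : IrrCharacter X,
        classInner (fun x : X => χ x) (ξ : X → ℂ) ≠ 0 ∧ ¬ charDegree (ξ : X → ℂ) + 1 < p := by
      by_contra hall
      push Not at hall
      refine hQc fun h hh => Subgroup.mem_centralizer_singleton_iff.mpr ?_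
      have h1 : (⟨y, Subgroup.mem_sup_right (Subgroup.mem_zpowers y)⟩ : X) *
          ⟨h, Subgroup.mem_sup_left hh⟩ * (⟨y, Subgroup.mem_sup_right (Subgroup.mem_zpowers y)⟩ : X)⁻¹ *
          (⟨h, Subgroup.mem_sup_left hh⟩ : X)⁻¹ = 1 := by
        refine eq_one_of_constituents hφ (fun g hg => Subtype.ext (hfaith g hg)) fun ξ hξ => ?_
        obtain ⟨d, hd⟩ := CharCore.IsCharacter.exists_degree (CharCore.irr_isCharacter ξ)
        obtain ⟨K, hK1, ⟨k, hK2⟩, hK3⟩ := bound_on_sup hpQ hYp hQY (CharCore.irr_isCharacter ξ) hd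
        have hdd := hall ξ hξ
        rw [charDegree, hd, Complex.natCast_re, Nat.floor_natCast] at hdd
        rw [schurBound_eq_zero hp.out.pos hdd, hK2, hp.out.factorization_pow,
          Finsupp.single_eq_same] at hK1
        rw [Nat.le_zero.mp hK1, pow_zero, Subgroup.index_eq_one] at hK2
        exact hK3 ⟨y, Subgroup.mem_zpowers y⟩ (hK2.ge (Subgroup.mem_top _)) h hh
      have h2 : y * h * y⁻¹ * h⁻¹ = 1 := congrArg Subtype.val h1
      calc h * y = (y * h * y⁻¹ * h⁻¹) * h * y := by rw [h2, one_mul]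
        _ = y * h := by group
    have hle' := degree_le_of_constituent hφ hn ξ hξ
    have hdeq : charDegree (ξ : X → ℂ) = n := by omega
    have hdvd : n ∣ q ^ i * p ^ j := by
      rw [← hdeq, ← hi, ← hj]
      refine (BlocksCore.charDegree_dvd_card ξ).trans ?_
      haveI : (Q'.subgroupOf X).Normal := (Subgroup.normal_subgroupOf_iff_le_normalizer le_sup_left).mpr
        (sup_le Subgroup.le_normalizer hQY)
      rw [← (Q'.subgroupOf X).card_mul_index,
        Nat.card_congr (Subgroup.subgroupOfEquivOfLe (le_sup_left : Q' ≤ X)).toEquiv]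
      refine Nat.mul_dvd_mul_left _ ?_
      show Q'.relIndex (Q' ⊔ Y) ∣ Nat.card Y
      rw [sup_comm]
      have h1 : Q'.relIndex (Y ⊔ Q') = Q'.relIndex Y := Coprime.relIndex_sup_of_le_normalizer hQY
      rw [h1]
      exact Subgroup.relIndex_dvd_card _ _
    have hn0 : n ≠ 0 := fun h => hp.out.ne_one (by omega)
    have hcop : Nat.Coprime n (p ^ j) := Nat.Coprime.pow_right j ((hp.out.coprime_iff_not_dvd.mpr
      fun h => by have := Nat.le_of_dvd (by omega) h; omega).symm)
    obtain ⟨k, -, hk⟩ := (Nat.dvd_prime_pow hq).mp (hcop.dvd_of_dvd_mul_right hdvd)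
    rcases Nat.eq_zero_or_pos k with hk0 | hk0
    · exact ⟨0, by rw [hk, hk0, pow_zero, pow_zero]⟩
    rcases hp.out.eq_two_or_odd with h2 | hodd
    · exact ⟨0, by omega⟩
    · have : q = 2 := by
        have h2n : 2 ∣ n := by omega
        rw [hk] at h2n
        exact ((Nat.prime_dvd_prime_iff_eq Nat.prime_two hq).mp
          (Nat.prime_two.dvd_of_dvd_pow h2n)).symm
      exact ⟨k, this ▸ hk⟩
  · -- irreducibility
    obtain ⟨ξ₀, hξ₀⟩ := CharClifford.exists_constituent hχ (by rw [hn]; exact_mod_cast (by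
      have := hp.out.two_le; omega : n ≠ 0))
    by_contra hirr
    set R := Subgroup.normalClosure ((P : Subgroup G) : Set G) with hR
    refine hP ?_
    have hRle : ∀ ξ : IrrCharacter G, classInner χ (ξ : G → ℂ) ≠ 0 →
        R ≤ CharCore.charKernel (CharCore.irr_isCharacter ξ) ⊔ (P : Subgroup G) := by
      intro ξ hξ
      obtain ⟨d, hd⟩ := CharCore.IsCharacter.exists_degree (CharCore.irr_isCharacter ξ)
      have hdn : d + 1 < p := by
        have hle := degree_le_of_constituent hχ hn ξ hξ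
        rw [charDegree, hd, Complex.natCast_re, Nat.floor_natCast] at hle
        rcases Nat.lt_or_ge d n with h | h
        · omega
        exfalso
        apply hirr
        obtain ⟨a, ha⟩ := CharCore.IsCharacter.exists_sum hχ
        choose dd hdd using fun η : IrrCharacter G =>
          CharCore.IsCharacter.exists_degree (CharCore.irr_isCharacter η)
        have h1 := congrFun ha 1
        simp only [Finset.sum_apply, Pi.smul_apply, smul_eq_mul, hdd, hn] at h1
        have h2 : n = ∑ η, a η * dd η := by exact_mod_cast h1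
        have hddξ : dd ξ = d := by
          have := hdd ξ; rw [hd] at this; exact_mod_cast this.symm
        have hξa : classInner χ (ξ : G → ℂ) = (a ξ : ℂ) := by
          rw [ha]; exact CharCore.classInner_sum_all _ ξ
        have haξ : a ξ ≠ 0 := fun h0 => hξ (by rw [hξa, h0, Nat.cast_zero])
        rw [← Finset.add_sum_erase Finset.univ _ (Finset.mem_univ ξ), hddξ] at h2
        have h3 : d ≤ a ξ * d := Nat.le_mul_of_pos_left _ (Nat.pos_of_ne_zero haξ)
        have h4 : ∑ η ∈ Finset.univ.erase ξ, a η * dd η = 0 := by omega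
        have h5 : a ξ = 1 := by
          have hd0 : 0 < d := by have := hp.out.two_le; omega
          have h6 : a ξ * d = 1 * d := by rw [one_mul]; omega
          exact Nat.eq_of_mul_eq_mul_right hd0 h6
        have hχξ : χ = (ξ : G → ℂ) := by
          rw [ha, Finset.sum_eq_single ξ (fun η _ hη => ?_) (by simp), h5, Nat.cast_one, one_smul]
          have h7 := Finset.sum_eq_zero_iff.mp h4 η (Finset.mem_erase.mpr ⟨hη, Finset.mem_univ _⟩)
          have hdη : dd η ≠ 0 := fun h0 =>
            CharCore.irr_apply_one_ne_zero η (by rw [hdd η, h0, Nat.cast_zero])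
          rw [(Nat.mul_eq_zero.mp h7).resolve_right hdη, Nat.cast_zero, zero_smul]
        rw [hχξ]; exact ξ.2
      set Kξ := CharCore.charKernel (CharCore.irr_isCharacter ξ) with hKξ
      obtain ⟨ψ, hψc, -, hψ⟩ := CharCore.IsCharacter.exists_quotient
        (CharCore.irr_isCharacter ξ) Kξ fun k hk => hk
      have hsurj := QuotientGroup.mk'_surjective Kξ
      have hψ1 : ψ 1 = d := by rw [← map_one (QuotientGroup.mk' Kξ), ← hψ, hd]
      have hbound := factorization_index_pCore_le (p := p) (Thompson.isPSolvable_quotient Kξ hsolv)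
        hψc (fun g hg => by
          obtain ⟨g, rfl⟩ := hsurj g
          refine (QuotientGroup.eq_one_iff g).mpr ?_
          show (ξ : G → ℂ) g = (ξ : G → ℂ) 1
          rw [hψ g, hg, hψ1, hd]) hψ1
      rw [schurBound_eq_zero hp.out.pos hdn] at hbound
      have hn' := normal_sylow_of_small (Thompson.isPSolvable_quotient Kξ hsolv)
        (P.mapSurjective hsurj) (by omega)
      have h8 := hn'.comap (QuotientGroup.mk' Kξ)
      rw [show ((P.mapSurjective hsurj : Sylow p (G ⧸ Kξ)) : Subgroup (G ⧸ Kξ)) =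
        (P : Subgroup G).map (QuotientGroup.mk' Kξ) from rfl, Subgroup.comap_map_eq,
        QuotientGroup.ker_mk', sup_comm] at h8
      haveI := h8
      exact Subgroup.normalClosure_le_normal fun x hx => Subgroup.mem_sup_right hx
    have hRp : IsPGroup p R := by
      rw [IsPGroup.iff_orderOf]
      rintro ⟨x, hx⟩
      refine ⟨(orderOf x).factorization p, ?_⟩
      rw [Subgroup.orderOf_mk]
      set m := p ^ (orderOf x).factorization p
      refine Nat.dvd_antisymm ?_ (Nat.ordProj_dvd _ p)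
      refine orderOf_dvd_of_pow_eq_one (eq_one_of_constituents hχ hfaith fun ξ hξ => ?_)
      set Kξ := CharCore.charKernel (CharCore.irr_isCharacter ξ)
      obtain ⟨k, hk, z, hz, hkz⟩ := Subgroup.mem_sup_of_normal_left.mp (hRle ξ hξ hx)
      show x ^ m ∈ Kξ
      rw [← QuotientGroup.eq_one_iff, ← orderOf_eq_one_iff]
      have hxz : (QuotientGroup.mk x : G ⧸ Kξ) = QuotientGroup.mk z := by
        rw [← hkz, QuotientGroup.mk_mul, (QuotientGroup.eq_one_iff k).mpr hk, one_mul]
      obtain ⟨b, hb⟩ := IsPGroup.iff_orderOf.mp P.isPGroup' ⟨z, hz⟩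
      rw [Subgroup.orderOf_mk] at hb
      have h1 : orderOf (QuotientGroup.mk (x ^ m) : G ⧸ Kξ) ∣ p ^ b := by
        rw [QuotientGroup.mk_pow, hxz, ← QuotientGroup.mk_pow]
        exact (orderOf_map_dvd (QuotientGroup.mk' Kξ) _).trans (hb ▸ orderOf_pow_dvd m)
      have h2 : orderOf (QuotientGroup.mk (x ^ m) : G ⧸ Kξ) ∣ orderOf x / m :=
        (orderOf_map_dvd (QuotientGroup.mk' Kξ) _).trans (orderOf_dvd_of_pow_eq_one (by
          rw [← pow_mul, Nat.mul_div_cancel' (Nat.ordProj_dvd _ p), pow_orderOf_eq_one]))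
      exact Nat.eq_one_of_dvd_coprimes (Nat.Coprime.pow_left b
        (hp.out.coprime_iff_not_dvd.mpr (Nat.not_dvd_ordCompl hp.out (orderOf_pos x).ne'))) h1 h2
    have hPR : (P : Subgroup G) ≤ R := Subgroup.le_normalClosure
    rw [← P.3 hRp hPR]
    infer_instance

end Cfsg.Agent.BlkChar.PSolv
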