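import Cfsg.Agent.BlkChar.FongBlock
import Cfsg.Agent.S4444

/-!
# The block over an invariant character of `O_{p'}` is of principal type
-/

set_option linter.unusedSectionVars false

open Cfsg
open scoped ComplexConjugate

namespace Cfsg.Agent.BlkChar.Fong

open BlocksCore BlocksDefect

universe u

variable {G : Type u} [Group G] [Fintype G] {p : ℕ} [hp : Fact p.Prime] {M : Ideal AlgInt}

/-- Blocks of the centralizer of a `p`-subgroup have induced blocks. -/
theorem inducedBlockDefined_centralizer (hM : IsPModular p M) {R : Subgroup G} (hR : IsPGroup p R)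
    {b : Set (IrrCharacter (Subgroup.centralizer (R : Set G)))} (hb : IsPBlock M b) :
    InducedBlockDefined M (Subgroup.centralizer (R : Set G)) b := by
  classical
  have := isPrime hM
  set H := Subgroup.centralizer (R : Set G) with hH
  haveI := Fintype.ofFinite H
  have hHN : H ≤ Subgroup.normalizer (R : Set G) := by
    rw [hH]; exact Subgroup.centralizer_le_normalizer _
  have he : ∀ a : G → ℂ, brRes R H a = res H a := fun a =>
    funext fun h => brRes_of_mem a h.2
  obtain ⟨ξ, hξ⟩ := isPBlock_nonempty hb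
  obtain ⟨B, hB, hBφ⟩ := exists_block_of_functional hM
    (fun a => omega (ξ : H → ℂ) (res H a))
    (fun a ha => omega_memLocalRing ξ (isIntClassFun_res H ha))
    (fun a b _ _ => by
      rw [show res H (a + b) = res H a + res H b from rfl, omega_add, sub_self]
      exact memLocalIdeal_zero)
    (fun c a _ _ => by
      rw [show res H (c • a) = c • res H a from rfl, omega_smul, sub_self]
      exact memLocalIdeal_zero)
    (fun a b ha hb' => by
      have hca := isIntClassFun_res H ha
      have hcb := isIntClassFun_res H hb'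
      rw [← omega_conv ξ hca.1 hcb.1, sub_eq_add_neg, ← omega_neg, ← omega_add]
      refine omega_memLocalIdeal ξ ?_ fun h => ?_
      · exact (isIntClassFun_add (isIntClassFun_res H (isIntClassFun_conv ha hb'))
          (isIntClassFun_neg (isIntClassFun_conv hca hcb))).1
      · rw [Pi.add_apply, Pi.neg_apply, ← sub_eq_add_neg, ← he, ← he, ← he]
        exact conv_brRes_sub hM hR le_rfl hHN ha hb' h)
    (by
      have : res H (classInd (1 : G)) = classInd (1 : H) := by
        funext h
        by_cases h1 : h = 1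
        · subst h1
          rw [res, classInd_apply_of_isConj (by simp), classInd_apply_of_isConj (IsConj.refl 1)]
        · rw [classInd_apply_of_not_isConj (g := (1 : H)) fun h' => h1 (isConj_one_right.mp h'),
            res, classInd_apply_of_not_isConj fun h' => h1 (Subtype.ext (isConj_one_right.mp h'))]
      rw [this, omega_classInd_one, sub_self]; exact memLocalIdeal_zero)
  refine ⟨B, hb, hB, fun η hη χ hχ g => ?_⟩
  rw [← omega_res_classInd, ← omega_classInd (irr_class χ)]
  have h1 := omega_sub_memLocalIdeal (sameBlock_of_mem hb hη hξ)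
    (isIntClassFun_res H (isIntClassFun_classInd (M := M) g))
  have h3 := hBφ χ hχ (classInd g) (isIntClassFun_classInd g)
  have := memLocalIdeal_add h1 h3
  rw [sub_add_sub_cancel] at this
  exact this

/-- The idempotent of the block of all characters over an invariant character. -/
theorem blockCoeff_eq_extFun {K : Subgroup G} [K.Normal] [Fintype K] {θ : IrrCharacter K}
    (hinv : CharDeep.Ext.Inv K (θ : K → ℂ)) {B : Set (IrrCharacter G)}
    (hBmem : ∀ χ, χ ∈ B ↔ IsConstituent χ θ) :
    blockCoeff B = extFun (blockCoeff ({θ} : Set (IrrCharacter K))) := by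
  classical
  have hc : ∀ g : G, conjIrr g θ = θ := fun g => Subtype.ext (funext (hinv g))
  have horb : orbitSet (G := G) ({θ} : Set (IrrCharacter K)) = {θ} := by
    ext η
    constructor
    · rintro ⟨g, hg⟩
      rw [Set.mem_singleton_iff] at hg ⊢
      rw [← conjIrr_inv_self g η, hg, hc]
    · intro h
      rw [Set.mem_singleton_iff] at h
      exact ⟨1, by rw [h, hc]; rfl⟩
  refine eq_of_omega_eq (isClassFunction_blockCoeff B) ?_ fun χ => ?_
  · rw [← horb]
    exact isClassFunction_extFun (conjFun_blockCoeff_orbitSet _)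
  obtain ⟨η, hη⟩ := exists_constituent_irr (N := K) χ
  rw [← horb, omega_extFun_orbitSet hη, horb, omega_blockCoeff]
  by_cases hχ : χ ∈ B
  · rw [Set.indicator_of_mem hχ, eq_of_invariant hc ((hBmem χ).mp hχ) hη,
      Set.indicator_of_mem (Set.mem_singleton θ)]
    rfl
  · rw [Set.indicator_of_notMem hχ, Set.indicator_of_notMem]
    intro h
    rw [Set.mem_singleton_iff] at h
    exact hχ ((hBmem χ).mpr (h ▸ hη))

/-- In a `p`-constrained group the block over an invariant character of `O_{p'}` is of principal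
type: exactly one block of the centralizer of a `p`-subgroup induces it. -/
theorem principal_type (hM : IsPModular p M) (hcons : IsPConstrained p G) (K : Subgroup G)
    [K.Normal] [Fintype K] (hK : K = pPrimeCore p G) (θ : IrrCharacter K)
    (hinv : CharDeep.Ext.Inv K (θ : K → ℂ)) {B : Set (IrrCharacter G)} (hB : IsPBlock M B)
    (hBmem : ∀ χ, χ ∈ B ↔ IsConstituent χ θ) (R : Subgroup G) (hR : IsPGroup p R) :
    ∃! f : Set (IrrCharacter (Subgroup.centralizer (R : Set G))),
      IsInducedBlock M (Subgroup.centralizer (R : Set G)) f B := by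
  classical
  have := isPrime hM
  set H := Subgroup.centralizer (R : Set G) with hH
  letI := Fintype.ofFinite H
  have hHN : H ≤ Subgroup.normalizer (R : Set G) := by
    rw [hH]; exact Subgroup.centralizer_le_normalizer _
  have hn : (H.subgroupOf (Subgroup.normalizer (R : Set G))).Normal := by
    refine ⟨fun x hx n => ?_⟩
    rw [Subgroup.mem_subgroupOf] at hx ⊢
    exact (conj_mem_centralizer_iff n.2).mpr hx
  obtain ⟨hcore, hconsH⟩ := PLocalB.local_facts hcons R H hR le_rfl hHN hn
  have hKp : ¬ p ∣ Nat.card K := hK ▸ Thompson.not_dvd_card_pPrimeCore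
  set N' : Subgroup H := K.subgroupOf H with hN'
  haveI : N'.Normal := inferInstance
  letI := Fintype.ofFinite N'
  have hN'def : N' = pPrimeCore p H := by rw [hN', hK, hcore]
  have hN'p : ¬ p ∣ Nat.card N' := hN'def ▸ Thompson.not_dvd_card_pPrimeCore
  -- the Glauberman correspondent
  set C : Subgroup G := K ⊓ Subgroup.centralizer (R : Set G) with hC
  letI := Fintype.ofFinite C
  let e : N' ≃* C :=
    { toFun := fun n => ⟨((n : H) : G), ⟨n.2, (n : H).2⟩⟩
      invFun := fun c => ⟨⟨(c : G), c.2.2⟩, c.2.1⟩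
      left_inv := fun n => rfl
      right_inv := fun c => rfl
      map_mul' := fun a b => rfl }
  set θH : N' → ℂ := fun n => (θ : K → ℂ) ⟨((n : H) : G), n.2⟩ with hθH
  have hcop : (Nat.card K).Coprime (Nat.card R) := by
    obtain ⟨j, hj⟩ := IsPGroup.iff_card.mp hR
    rw [hj]
    exact ((hp.out.coprime_iff_not_dvd.mpr hKp).symm).pow_right j
  have hGl := (S4444.result K R
    (fun s _ g hg => (inferInstance : K.Normal).conj_mem g hg s) hcop p hp.out hR C hC
    inf_le_left).1 θ (fun s _ g g' hg => by
      rw [show g' = ⟨s * g * s⁻¹, (inferInstance : K.Normal).conj_mem _ g.2 s⟩ from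
        Subtype.ext hg]
      exact hinv s g)
  have hinner : ∀ β : IrrCharacter C,
      classInner θH ((β : C → ℂ) ∘ e) =
        classInner (fun c : C => (θ : K → ℂ) ⟨c, (inf_le_left : C ≤ K) c.2⟩) (β : C → ℂ) := by
    intro β
    rw [CharCore.classInner_def, CharCore.classInner_def, Nat.card_congr e.toEquiv]
    congr 1
    exact Fintype.sum_equiv e.toEquiv _ _ fun n => rfl
  obtain ⟨β₀, ⟨m₀, hm₀, hm₀p⟩, huniq⟩ := hGl
  set η₀ : IrrCharacter N' := ⟨(β₀ : C → ℂ) ∘ e,
    CharCore.isIrrCharacter_comp_surjective β₀.2 e.toMonoidHom e.surjective⟩ with hη₀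
  have hη₀m : classInner θH (η₀ : N' → ℂ) = m₀ := (hinner β₀).trans hm₀
  have huniq' : ∀ (η : IrrCharacter N') (m : ℕ),
      classInner θH (η : N' → ℂ) = m → ¬ p ∣ m → η = η₀ := by
    intro η m hm hmp
    set β : IrrCharacter C := ⟨(η : N' → ℂ) ∘ e.symm,
      CharCore.isIrrCharacter_comp_surjective η.2 e.symm.toMonoidHom e.symm.surjective⟩
    have h1 : (β : C → ℂ) ∘ e = (η : N' → ℂ) := funext fun n => congrArg _ (e.symm_apply_apply n)
    have h2 : β = β₀ := huniq β ⟨m, by rw [← hinner β, h1, hm], hmp⟩
    exact Subtype.ext (by rw [← h1, h2])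
  have hη₀inv : CharDeep.Ext.Inv N' (η₀ : N' → ℂ) := by
    intro h n
    have h1 : conjIrr h η₀ = η₀ := huniq' _ m₀ (by
      rw [← hη₀m, CharCore.classInner_def, CharCore.classInner_def]
      congr 1
      refine Fintype.sum_equiv (MulAut.conjNormal h : N' ≃* N').toEquiv _ _ fun n => ?_
      congr 1
      exact (hinv (h : G) ⟨((n : H) : G), n.2⟩).symm) hm₀p
    exact congrFun (congrArg Subtype.val h1) n
  obtain ⟨f₀, hf₀, hf₀mem, -, -⟩ := single_block_of_constrained hM hconsH N' hN'def η₀ hη₀inv
  -- the value of the restricted idempotent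
  set eB := blockCoeff B with heBdef
  have heB : IsIntClassFun M eB := isIntClassFun_blockCoeff hM hB
  have heBK : eB = extFun (blockCoeff ({θ} : Set (IrrCharacter K))) :=
    blockCoeff_eq_extFun hinv hBmem
  obtain ⟨d, hd⟩ := CharCore.IsCharacter.exists_degree (CharCore.irr_isCharacter θ)
  have hdp : ¬ p ∣ d := fun h => hKp (h.trans (by
    have h1 := BlocksCore.charDegree_dvd_card θ
    rwa [charDegree, hd, Complex.natCast_re, Nat.floor_natCast] at h1))
  have hval : ∀ (ξ : IrrCharacter H) (η : IrrCharacter N'), IsConstituent ξ η →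
      (MemLocalIdeal M (omega (ξ : H → ℂ) (res H eB)) ↔
        ∀ m : ℕ, classInner θH (η : N' → ℂ) = m → p ∣ m) ∧
        ∃ m : ℕ, classInner θH (η : N' → ℂ) = m := by
    intro ξ η hη
    have hθc : IsCharacter N' θH :=
      CharCore.isCharacter_comp (CharCore.irr_isCharacter θ)
        ({ toFun := fun n => ⟨((n : H) : G), n.2⟩
           map_one' := rfl
           map_mul' := fun a b => rfl } : N' →* K)
    obtain ⟨m, hm⟩ := CharCore.IsCharacter.exists_classInner_irr_eq_natCast hθc η
    refine ⟨?_, m, hm⟩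
    obtain ⟨d', hd'⟩ := CharCore.IsCharacter.exists_degree (CharCore.irr_isCharacter η)
    have hd'p : ¬ p ∣ d' := fun h => hN'p (h.trans (by
      have h1 := BlocksCore.charDegree_dvd_card η
      rwa [charDegree, hd', Complex.natCast_re, Nat.floor_natCast] at h1))
    have hs : ∀ x, x ∉ N' → res H eB x = 0 := fun x hx => by
      rw [res, heBK]
      exact extFun_notMem _ (fun h => hx h)
    have hKr : ∀ k : K, eB k = (Nat.card K : ℂ)⁻¹ * ((d : ℂ) * (θ : K → ℂ) k⁻¹) := by
      intro k
      rw [heBK, extFun_coe, blockCoeff_eq_sum, Fintype.sum_eq_single θ fun χ hχ => by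
        rw [Set.indicator_of_notMem (by simpa using hχ), zero_mul],
        Set.indicator_of_mem (Set.mem_singleton θ), Pi.one_apply, one_mul, hd]
    have hω : ((Nat.card K * d' : ℕ) : ℂ) * omega (ξ : H → ℂ) (res H eB) =
        ((d * Nat.card N' * m : ℕ) : ℂ) := by
      rw [omega_eq_of_constituent hη (isClassFunction_res H heB.1) hs, omega_eq_sum, hd']
      have hsum : ∑ n : N', res N' (res H eB) n * (η : N' → ℂ) n =
          (Nat.card K : ℂ)⁻¹ * (d : ℂ) * ((Nat.card N' : ℂ) * conj (classInner θH (η : N' → ℂ))) := by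
        rw [CharCore.classInner_def, map_mul, map_inv₀, map_natCast,
          mul_inv_cancel_left₀ (Nat.cast_ne_zero.mpr Nat.card_pos.ne'), map_sum, Finset.mul_sum]
        refine Finset.sum_congr rfl fun n _ => ?_
        rw [map_mul, Complex.conj_conj]
        have h2 : (((n : H) : G)) = ((⟨((n : H) : G), n.2⟩ : K) : G) := rfl
        show eB (((n : H) : G)) * _ = _
        rw [h2, hKr, hθH]
        simp only
        rw [conj_irr]
        ring
      rw [hsum, hm, map_natCast]
      push_cast
      field_simp [Nat.cast_ne_zero.mpr (Nat.card_pos (α := K)).ne',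
        (Nat.cast_ne_zero.mpr (fun h0 => hd'p (h0 ▸ dvd_zero p)) : (d' : ℂ) ≠ 0)]
    have hωR := omega_memLocalRing ξ (isIntClassFun_res H heB)
    have hcoef : ¬ p ∣ Nat.card K * d' := fun h =>
      (hp.out.dvd_mul.mp h).elim hKp hd'p
    constructor
    · intro hu m' hm'
      rw [hm, Nat.cast_inj] at hm'
      subst hm'
      by_contra hmp
      have h2 : MemLocalIdeal M ((d * Nat.card N' * m : ℕ) : ℂ) :=
        hω ▸ memLocalIdeal_mul_left (memLocalRing_natCast _) hu
      rcases hp.out.dvd_mul.mp ((memLocalIdeal_natCast_iff hM _).mp h2) with h3 | h3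
      · exact (hp.out.dvd_mul.mp h3).elim hdp hN'p
      · exact hmp h3
    · intro h
      have h2 : MemLocalIdeal M (((Nat.card K * d' : ℕ) : ℂ) * omega (ξ : H → ℂ) (res H eB)) :=
        hω ▸ (memLocalIdeal_natCast_iff hM _).mpr ((h m hm).mul_left _)
      exact ((memLocalIdeal_mem_or_mem (memLocalRing_natCast _) hωR h2).resolve_left
        fun h3 => hcoef ((memLocalIdeal_natCast_iff hM _).mp h3))
  refine ⟨f₀, ?_, fun f hf => ?_⟩
  · obtain ⟨B', hB'⟩ := inducedBlockDefined_centralizer hM hR hf₀
    obtain ⟨ξ, hξ⟩ := isPBlock_nonempty hf₀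
    obtain ⟨χ, hχ⟩ := isPBlock_nonempty hB'.2.1
    suffices B' = B by rwa [this] at hB'
    have hu : ¬ MemLocalIdeal M (omega (ξ : H → ℂ) (res H eB)) := fun hc =>
      hm₀p (((hval ξ η₀ ((hf₀mem ξ).mp hξ)).1.mp hc) m₀ hη₀m)
    have h1 := omega_induced hM hB' hξ hχ heB
    rw [heBdef, omega_blockCoeff] at h1
    by_contra hne
    rw [Set.indicator_of_notMem (fun h => hne (isPBlock_eq_of_mem hB'.2.1 hB hχ h)), sub_zero]
      at h1
    exact hu h1
  · obtain ⟨ξ, hξ⟩ := isPBlock_nonempty hf.1
    obtain ⟨χ, hχ⟩ := isPBlock_nonempty hB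
    obtain ⟨η, hη⟩ := exists_constituent_irr (N := N') ξ
    have hu : ¬ MemLocalIdeal M (omega (ξ : H → ℂ) (res H eB)) := by
      intro hc
      refine not_memLocalIdeal_one (M := M) ?_
      have := memLocalIdeal_sub hc (omega_induced hM hf hξ hχ heB)
      rw [sub_sub_cancel, heBdef, omega_blockCoeff, Set.indicator_of_mem hχ] at this
      exact this
    obtain ⟨m, hm⟩ := (hval ξ η hη).2
    have hmp : ¬ p ∣ m := fun h => hu ((hval ξ η hη).1.mpr fun m' hm' => by
      rw [hm, Nat.cast_inj] at hm'
      exact hm' ▸ h)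
    exact isPBlock_eq_of_mem hf.1 hf₀ hξ ((hf₀mem ξ).mpr (huniq' η m hm hmp ▸ hη))

end Cfsg.Agent.BlkChar.Fong
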