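import Cfsg.Agent.BlkChar.IntCongr
import Cfsg.Agent.BlkChar.PResidualChar
import Cfsg.Agent.Lib.CharClifford.Galois
import Mathlib.Data.Nat.Multiplicity
import Mathlib.FieldTheory.IntermediateField.Adjoin.Defs
import Mathlib.NumberTheory.Padics.PadicVal.Basic

/-!
# Schur's bound for `p`-groups with a faithful rational valued character
-/

namespace Cfsg.Agent.BlkChar

open scoped ComplexConjugate Nat

universe u

/-- Exponents matter only modulo a period. -/
theorem pow_eq_of_modEq {R : Type*} [Monoid R] {z : R} {N i j : ℕ} (hz : z ^ N = 1)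
    (h : i ≡ j [MOD N]) : z ^ i = z ^ j := by
  rw [← pow_mod_orderOf z i, ← pow_mod_orderOf z j,
    h.of_dvd (orderOf_dvd_of_pow_eq_one hz)]

variable {P : Type u} [Group P] [Fintype P] {p : ℕ}

/-- The range of the values of a rational valued character of a `p`-group. -/
theorem exists_value_step (hp : p.Prime) (hP : IsPGroup p P) {ψ : P → ℂ} (hψ : IsCharacter P ψ)
    (hint : ∀ g, ∃ a : ℤ, ψ g = a) (hfaith : ∀ g, ψ g = ψ 1 → g = 1) {n : ℕ} (hn : ψ 1 = n)
    {x : P} (hx : x ≠ 1) : ∃ k ∈ Finset.Icc 1 (n / (p - 1)), ψ x = (n : ℂ) - (p : ℂ) * k := by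
  classical
  haveI := Fact.mk hp
  choose a ha using hint
  have hcong : ∀ e : ℕ, ∀ y : P, y ^ (p ^ e) = 1 → (p : ℤ) ∣ a y - n := by
    intro e
    induction e with
    | zero =>
      intro y hy
      rw [pow_zero, pow_one] at hy
      have : a y = n := by
        have h := ha y
        have h' : ψ y = n := by rw [hy, hn]
        rw [h'] at h
        exact_mod_cast h.symm
      simp [this]
    | succ e ih =>
      intro y hy
      have h1 := int_value_pow_prime hψ y hp (ha y) (ha (y ^ p))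
      have h2 := ih (y ^ p) (by rw [← pow_mul, ← pow_succ']; exact hy)
      have := dvd_add h1 h2
      rwa [sub_add_sub_cancel] at this
  obtain ⟨e, hex⟩ := hP x
  obtain ⟨m, ρ, rfl⟩ := hψ
  obtain ⟨b, μ, hμ, -, h⟩ := CharClifford.exists_eigenvalues ρ x (pow_ne_zero e hp.ne_zero) hex
  obtain ⟨d, rfl⟩ : ∃ d, e = d + 1 := by
    cases e with
    | zero => rw [pow_zero, pow_one] at hex; exact absurd hex hx
    | succ d => exact ⟨d, rfl⟩
  have hconst : ∀ j : ℕ, ¬ p ∣ j → ρ.character (x ^ j) = (a x : ℂ) := by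
    intro j hj
    obtain ⟨k, hk⟩ := IsPGroup.iff_card.mp hP
    obtain ⟨σ, hσ⟩ := CharClifford.exists_ringHom_map_isCharacter (G := P) (m := j)
      (hk ▸ Nat.Coprime.pow_right k ((hp.coprime_iff_not_dvd.mpr hj).symm))
    rw [← hσ _ ⟨m, ρ, rfl⟩ x, ha x, map_intCast]
  have hgeom : ∀ (N : ℕ) (ω : ℂ), ω ^ N = 1 → ∑ j ∈ Finset.range N, ω ^ j =
      if ω = 1 then (N : ℂ) else 0 := by
    intro N ω hω
    split_ifs with h1
    · simp [h1]
    · rw [geom_sum_eq h1, hω, sub_self, zero_div]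
  set m0 := (Finset.univ.filter fun i => μ i = 1).card with hm0
  set m1 := (Finset.univ.filter fun i => μ i ^ p = 1).card with hm1
  have hA : ∑ j ∈ Finset.range (p ^ (d + 1)), ρ.character (x ^ j) = (m0 : ℂ) * (p : ℂ) ^ (d + 1) := by
    simp only [h]
    rw [Finset.sum_comm, Finset.sum_congr rfl fun i _ => hgeom _ _ (hμ i), ← Finset.sum_filter,
      Finset.sum_const, nsmul_eq_mul, Nat.cast_pow]
  have hB : ∑ j ∈ Finset.range (p ^ d), ρ.character (x ^ (p * j)) = (m1 : ℂ) * (p : ℂ) ^ d := by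
    simp only [h]
    simp only [pow_mul]
    rw [Finset.sum_comm, Finset.sum_congr rfl fun i _ =>
      hgeom _ _ (show (μ i ^ p) ^ (p ^ d) = 1 by rw [← pow_mul, ← pow_succ']; exact hμ i),
      ← Finset.sum_filter, Finset.sum_const, nsmul_eq_mul, Nat.cast_pow]
  have himg : (Finset.range (p ^ (d + 1))).filter (fun j => p ∣ j) =
      (Finset.range (p ^ d)).image (fun j => p * j) := by
    ext j
    simp only [Finset.mem_filter, Finset.mem_range, Finset.mem_image]
    constructor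
    · rintro ⟨hj, l, rfl⟩
      refine ⟨l, ?_, rfl⟩
      rw [pow_succ'] at hj
      exact Nat.lt_of_mul_lt_mul_left hj
    · rintro ⟨l, hl, rfl⟩
      exact ⟨by rw [pow_succ']; exact Nat.mul_lt_mul_of_pos_left hl hp.pos, dvd_mul_right _ _⟩
  rw [← Finset.sum_filter_add_sum_filter_not _ (fun j => p ∣ j), himg,
    Finset.sum_image (fun i _ j _ hij => Nat.eq_of_mul_eq_mul_left hp.pos hij), hB,
    Finset.sum_congr rfl fun j hj => hconst j (Finset.mem_filter.mp hj).2, Finset.sum_const,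
    nsmul_eq_mul] at hA
  have hcount : ((Finset.range (p ^ (d + 1))).filter fun j => ¬ p ∣ j).card + p ^ d = p ^ (d + 1) := by
    have h1 := Finset.card_filter_add_card_filter_not (s := Finset.range (p ^ (d + 1))) (fun j => p ∣ j)
    rw [himg, Finset.card_image_of_injective _ (fun i j hij => Nat.eq_of_mul_eq_mul_left hp.pos hij),
      Finset.card_range, Finset.card_range] at h1
    omega
  have hkey : ((p : ℤ) - 1) * a x = (p : ℤ) * m0 - m1 := by
    have h1 : ((((Finset.range (p ^ (d + 1))).filter fun j => ¬ p ∣ j).card : ℕ) : ℂ) =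
        (p : ℂ) ^ (d + 1) - (p : ℂ) ^ d := by
      rw [eq_sub_iff_add_eq]; exact_mod_cast hcount
    rw [h1] at hA
    have h2 : (p : ℂ) ^ d ≠ 0 := pow_ne_zero _ (Nat.cast_ne_zero.mpr hp.ne_zero)
    have h3 : ((p : ℂ) - 1) * a x = (p : ℂ) * m0 - m1 := by
      refine mul_left_cancel₀ h2 ?_
      linear_combination hA
    exact_mod_cast h3
  have hdim : n = Module.finrank ℂ (Fin m → ℂ) := by
    rw [Representation.char_one] at hn; exact_mod_cast hn.symm
  have hm1le : m1 ≤ n := by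
    rw [hdim, hm1]; exact (Finset.card_filter_le _ _).trans_eq (by simp)
  have hm01 : m0 ≤ m1 := Finset.card_le_card fun i hi => by
    simp only [Finset.mem_filter, Finset.mem_univ, true_and] at hi ⊢
    rw [hi, one_pow]
  obtain ⟨k, hk⟩ := hcong (d + 1) x hex
  have hle : a x ≤ n := by
    have h1 := CharCore.IsCharacter.norm_apply_le (⟨m, ρ, rfl⟩ : IsCharacter P ρ.character) x
    rw [ha x, hn, Complex.norm_intCast, Complex.norm_natCast] at h1
    have h4 : (a x : ℝ) ≤ (n : ℝ) := (le_abs_self _).trans h1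
    exact_mod_cast h4
  have hne : a x ≠ n := fun heq => hx (hfaith x (by rw [ha x, hn, heq]; simp))
  have hp0 : (0 : ℤ) < p := by exact_mod_cast hp.pos
  have hk1 : k ≤ -1 := by nlinarith [lt_of_le_of_ne hle hne]
  have hk2 : ((p : ℤ) - 1) * (-k) ≤ n := by
    have h5 : (m1 : ℤ) ≤ n := by exact_mod_cast hm1le
    have h6 : (0 : ℤ) ≤ (p : ℤ) * m0 := by positivity
    have h7 : (p : ℤ) * (((p : ℤ) - 1) * (-k)) ≤ (p : ℤ) * n := by
      have h8 : (p : ℤ) * (((p : ℤ) - 1) * (-k)) = ((p : ℤ) - 1) * n - ((p : ℤ) * m0 - m1) := by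
        rw [← hkey]; linear_combination (((p : ℤ) - 1)) * hk
      rw [h8]; linarith
    exact le_of_mul_le_mul_left h7 hp0
  obtain ⟨j, hj⟩ : ∃ j : ℕ, -k = j := ⟨(-k).toNat, (Int.toNat_of_nonneg (by linarith)).symm⟩
  refine ⟨j, Finset.mem_Icc.mpr ⟨?_, ?_⟩, ?_⟩
  · omega
  · rw [Nat.le_div_iff_mul_le (Nat.sub_pos_of_lt hp.one_lt)]
    rw [hj] at hk2
    have h9 : (((p - 1) * j : ℕ) : ℤ) ≤ n := by push_cast [Nat.cast_sub hp.one_le]; linarith
    rw [mul_comm]; exact_mod_cast h9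
  · rw [ha x]
    have h10 : a x = (n : ℤ) - (p : ℤ) * j := by rw [← hj]; linarith
    rw [h10]; push_cast; ring

/-- Schur: the order of the group divides `p ^ K * K!`, `K = n / (p - 1)`. -/
theorem card_dvd_schur (hp : p.Prime) (hP : IsPGroup p P) {ψ : P → ℂ} (hψ : IsCharacter P ψ)
    (hint : ∀ g, ∃ a : ℤ, ψ g = a) (hfaith : ∀ g, ψ g = ψ 1 → g = 1) {n : ℕ} (hn : ψ 1 = n) :
    Nat.card P ∣ p ^ (n / (p - 1)) * (n / (p - 1))! := by
  classical
  set K := n / (p - 1) with hK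
  have hpow : ∀ i : ℕ, IsCharacter P (fun x => ψ x ^ i) := by
    intro i
    induction i with
    | zero =>
      rw [show (fun x => ψ x ^ 0) = (1 : P → ℂ) from funext fun x => pow_zero _]
      exact CharCore.isCharacter_one
    | succ i ih =>
      rw [show (fun x => ψ x ^ (i + 1)) = (fun x => ψ x ^ i) * ψ from funext fun x => pow_succ _ _]
      exact CharCore.isCharacter_mul ih hψ
  have hsum : ∀ j : ℕ, ∀ i : ℕ, ∃ z : ℤ,
      ∑ x : P, ψ x ^ i * ∏ k ∈ Finset.Icc 1 j, (ψ x - ((n : ℂ) - (p : ℂ) * k)) =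
        (Nat.card P : ℂ) * z := by
    intro j
    induction j with
    | zero =>
      intro i
      obtain ⟨t, ht⟩ := CharCore.IsCharacter.exists_classInner_irr_eq_natCast (hpow i)
        ⟨1, CharCore.isIrrCharacter_one⟩
      refine ⟨t, ?_⟩
      rw [CharCore.classInner_def, inv_mul_eq_iff_eq_mul₀ (Nat.cast_ne_zero.mpr Nat.card_pos.ne')] at ht
      simp only [Pi.one_apply, map_one, mul_one] at ht
      simp [ht]
    | succ j ih =>
      intro i
      obtain ⟨z1, h1⟩ := ih (i + 1)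
      obtain ⟨z2, h2⟩ := ih i
      refine ⟨z1 - ((n : ℤ) - (p : ℤ) * (j + 1)) * z2, ?_⟩
      rw [Finset.sum_congr rfl fun x _ => by
        rw [Finset.prod_Icc_succ_top (show 1 ≤ j + 1 by omega),
          show ψ x ^ i * ((∏ k ∈ Finset.Icc 1 j, (ψ x - ((n : ℂ) - (p : ℂ) * k))) *
            (ψ x - ((n : ℂ) - (p : ℂ) * ((j + 1 : ℕ) : ℂ)))) =
            ψ x ^ (i + 1) * (∏ k ∈ Finset.Icc 1 j, (ψ x - ((n : ℂ) - (p : ℂ) * k))) -
            ((n : ℂ) - (p : ℂ) * ((j + 1 : ℕ) : ℂ)) *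
              (ψ x ^ i * ∏ k ∈ Finset.Icc 1 j, (ψ x - ((n : ℂ) - (p : ℂ) * k))) by ring]]
      rw [Finset.sum_sub_distrib, ← Finset.mul_sum, h1, h2]
      push_cast
      ring
  obtain ⟨z, hz⟩ := hsum K 0
  rw [Finset.sum_eq_single (1 : P) (fun x _ hx => by
      obtain ⟨k, hk, hkx⟩ := exists_value_step hp hP hψ hint hfaith hn hx
      rw [Finset.prod_eq_zero hk (by rw [hkx, sub_self]), mul_zero]) (by simp),
    pow_zero, one_mul, hn] at hz
  have h3 : ∀ j : ℕ, ∏ k ∈ Finset.Icc 1 j, (p : ℂ) * k = ((p ^ j * j ! : ℕ) : ℂ) := by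
    intro j
    induction j with
    | zero => simp
    | succ j ih =>
      rw [Finset.prod_Icc_succ_top (show 1 ≤ j + 1 by omega), ih, Nat.factorial_succ]
      push_cast; ring
  simp only [sub_sub_cancel] at hz
  rw [h3] at hz
  have : ((p ^ K * K ! : ℕ) : ℤ) = (Nat.card P : ℤ) * z := by exact_mod_cast hz
  have h4 : (Nat.card P : ℤ) ∣ ((p ^ K * K ! : ℕ) : ℤ) := ⟨z, this⟩
  exact Int.natCast_dvd_natCast.mp h4

/-- Schur's bound as a sum. -/
theorem factorization_card_le_schur (hp : p.Prime) (hP : IsPGroup p P) {ψ : P → ℂ}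
    (hψ : IsCharacter P ψ) (hint : ∀ g, ∃ a : ℤ, ψ g = a) (hfaith : ∀ g, ψ g = ψ 1 → g = 1) {n : ℕ}
    (hn : ψ 1 = n) :
    (Nat.card P).factorization p ≤ ∑ i ∈ Finset.range (n + 1), n / ((p - 1) * p ^ i) := by
  haveI := Fact.mk hp
  set K := n / (p - 1) with hK
  have h0 : p ^ K * K ! ≠ 0 := Nat.mul_ne_zero (pow_ne_zero _ hp.ne_zero) K.factorial_ne_zero
  refine (((Nat.factorization_le_iff_dvd Nat.card_pos.ne' h0).mpr
    (card_dvd_schur hp hP hψ hint hfaith hn)) p).trans ?_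
  rw [Nat.factorization_mul (pow_ne_zero _ hp.ne_zero) K.factorial_ne_zero, Finsupp.add_apply,
    hp.factorization_pow, Finsupp.single_eq_same, Nat.factorization_def _ hp,
    padicValNat_factorial (b := n + 1) (Nat.lt_succ_of_le ((Nat.log_le_self p K).trans (Nat.div_le_self _ _))),
    Finset.range_eq_Ico, Finset.sum_eq_sum_Ico_succ_bot (show 0 < n + 1 by omega), pow_zero, mul_one]
  refine Nat.add_le_add le_rfl (le_of_eq (Finset.sum_congr rfl fun i _ => ?_))
  rw [hK, Nat.div_div_eq_div_mul]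

/-- Values of a `p`-rational character at `p`-elements are rational integers. -/
theorem exists_int_of_pRational {G : Type u} [Group G] [Finite G] (hp : p.Prime) {χ : G → ℂ}
    (hχ : IsCharacter G χ) {r : ℕ} (hr : 0 < r) (hpr : ¬ p ∣ r)
    (hrat : ∀ g : G, χ g ∈ IntermediateField.adjoin ℚ
      ({Complex.exp (2 * Real.pi * Complex.I / r)} : Set ℂ))
    {x : G} (hx : ∃ e : ℕ, x ^ (p ^ e) = 1) : ∃ a : ℤ, χ x = a := by
  haveI := Fintype.ofFinite G
  obtain ⟨e, he⟩ := hx
  refine CharClifford.exists_int_of_fixed (CharCore.IsCharacter.isIntegral hχ x) fun σ => ?_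
  obtain ⟨m, hm, hσ⟩ := CharClifford.exists_pow_of_ringHom σ (pow_ne_zero e hp.ne_zero)
  have hco : (p ^ e).Coprime r := (hp.coprime_iff_not_dvd.mpr hpr).pow_left e
  obtain ⟨k, hk1, hk2⟩ := Nat.chineseRemainder hco m 1
  have hkc : k.Coprime (p ^ e * r) := Nat.Coprime.mul_right ((Nat.ModEq.gcd_eq hk1).trans hm)
    ((Nat.ModEq.gcd_eq hk2).trans (Nat.gcd_one_left r))
  obtain ⟨τ, hτ⟩ := CharClifford.exists_ringHom_pow
    (Nat.mul_ne_zero (pow_ne_zero e hp.ne_zero) hr.ne') hkc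
  obtain ⟨N, ρ, rfl⟩ := hχ
  have h1 : τ (ρ.character x) = σ (ρ.character x) := by
    obtain ⟨b, μ, hμ, -, h⟩ := CharClifford.exists_eigenvalues ρ x (pow_ne_zero e hp.ne_zero) he
    rw [← pow_one x, h, map_sum, map_sum]
    refine Finset.sum_congr rfl fun i _ => ?_
    rw [pow_one, hσ _ (hμ i), hτ _ (by rw [pow_mul, hμ i, one_pow])]
    exact pow_eq_of_modEq (hμ i) hk1
  rw [← h1]
  have hfix : τ (Complex.exp (2 * Real.pi * Complex.I / r)) =
      Complex.exp (2 * Real.pi * Complex.I / r) := by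
    have h2 := (Complex.isPrimitiveRoot_exp r hr.ne').pow_eq_one
    rw [hτ _ (by rw [pow_mul', h2, one_pow])]
    conv_rhs => rw [← pow_one (Complex.exp (2 * Real.pi * Complex.I / r))]
    exact pow_eq_of_modEq h2 hk2
  suffices h : ∀ z ∈ IntermediateField.adjoin ℚ
      ({Complex.exp (2 * Real.pi * Complex.I / r)} : Set ℂ), τ z = z from h _ (hrat x)
  intro z hz
  refine IntermediateField.adjoin_induction ℚ (p := fun z _ => τ z = z) ?_ ?_ ?_ ?_ ?_ hz
  · intro y hy
    rw [Set.mem_singleton_iff] at hy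
    rw [hy]; exact hfix
  · intro q; exact map_ratCast τ q
  · intro a b _ _ h3 h4; rw [map_add, h3, h4]
  · intro a _ h3; rw [map_inv₀, h3]
  · intro a b _ _ h3 h4; rw [map_mul, h3, h4]

end Cfsg.Agent.BlkChar
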