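import Cfsg.Agent.BlkChar.CyclicAction
import Cfsg.Agent.BlkChar.RationalBound
import Cfsg.Agent.Lib.CharClifford.Clifford
import Cfsg.Agent.Lib.CharCore.Linear
import Cfsg.Agent.Lib.CharInd.Char

/-!
# A `p`-group acting on a `p'`-group: rational characters and Schur's bound
-/

set_option linter.unusedSectionVars false

open Cfsg
open scoped ComplexConjugate

namespace Cfsg.Agent.BlkChar.Action

universe u

/-- The bound of Schur. -/
def schurBound (p n : ℕ) : ℕ := ∑ i ∈ Finset.range (n + 1), n / ((p - 1) * p ^ i)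

theorem schurBound_mono {p n m : ℕ} (h : n ≤ m) : schurBound p n ≤ schurBound p m :=
  le_trans (Finset.sum_le_sum fun _ _ => Nat.div_le_div_right h)
    (Finset.sum_le_sum_of_subset (Finset.range_mono (by omega)))

theorem schurBound_eq_zero {p n : ℕ} (hp : 0 < p) (h : n + 1 < p) : schurBound p n = 0 :=
  Finset.sum_eq_zero fun i _ => Nat.div_eq_of_lt (lt_of_lt_of_le (show n < p - 1 by omega)
    (Nat.le_mul_of_pos_right _ (pow_pos hp i)))

theorem schurBound_eq_one {p n : ℕ} (hp : 2 ≤ p) (h : n + 1 = p) : schurBound p n = 1 := by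
  rw [schurBound, Finset.sum_eq_single 0]
  · rw [pow_zero, Nat.mul_one, show p - 1 = n by omega, Nat.div_self (by omega)]
  · intro i _ hi
    refine Nat.div_eq_of_lt ?_
    have h1 : p ^ 1 ≤ p ^ i := Nat.pow_le_pow_right (by omega) (Nat.one_le_iff_ne_zero.mpr hi)
    rw [pow_one] at h1
    rw [show p - 1 = n by omega]
    calc n = n * 1 := (mul_one n).symm
      _ < n * p ^ i := Nat.mul_lt_mul_of_pos_left (by omega) (by omega)
  · simp

variable {X : Type u} [Group X] [Fintype X] (H S : Subgroup X) [hH : H.Normal]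

/-- The stabilizer of a function on `H`. -/
def stab (θ : H → ℂ) : Subgroup X where
  carrier := {x | CharClifford.conjFun H x θ = θ}
  one_mem' := CharClifford.conjFun_one H θ
  mul_mem' {x y} (hx : CharClifford.conjFun H x θ = θ) (hy : CharClifford.conjFun H y θ = θ) := by
    show CharClifford.conjFun H (x * y) θ = θ
    rw [← CharClifford.conjFun_conjFun, hx, hy]
  inv_mem' {x} (hx : CharClifford.conjFun H x θ = θ) := by
    show CharClifford.conjFun H x⁻¹ θ = θ
    conv_lhs => rw [← hx]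
    rw [CharClifford.conjFun_conjFun, mul_inv_cancel, CharClifford.conjFun_one]

variable [Fintype H] (hcop : (Nat.card H).Coprime (Nat.card S)) (htop : H ⊔ S = ⊤)

include hcop htop

/-- A rational character with the restriction of an irreducible one, up to a factor. -/
theorem exists_rational_irr {ξ : X → ℂ} (hξ : IsIrrCharacter X ξ) :
    ∃ (ψ : X → ℂ) (e : ℕ), IsCharacter X ψ ∧ 0 < e ∧
      (∀ h : H, ξ h = (e : ℂ) * ψ h) ∧
      ∀ m : ℕ, m.Coprime (Nat.card X) → m ≡ 1 [MOD Nat.card H] → ∀ y, ψ (y ^ m) = ψ y := by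
  classical
  obtain ⟨θ, e, hθ, he, -, hres⟩ := CharClifford.clifford_restrict H hξ
  set T := stab H θ with hTdef
  have hHT : H ≤ T := fun x hx =>
    CharClifford.conjFun_of_mem H (CharCore.irr_isClassFunction ⟨θ, hθ⟩) hx
  letI := Fintype.ofFinite T
  set H' := H.subgroupOf T
  letI := Fintype.ofFinite H'
  haveI : H'.Normal := inferInstance
  set S' := (S ⊓ T).subgroupOf T
  let eH : H' ≃* H := Subgroup.subgroupOfEquivOfLe hHT
  have hcop' : (Nat.card H').Coprime (Nat.card S') := by
    rw [Nat.card_congr eH.toEquiv, Nat.card_congr (Subgroup.subgroupOfEquivOfLe inf_le_right).toEquiv]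
    exact hcop.coprime_dvd_right (Subgroup.card_dvd_of_le inf_le_left)
  have htop' : H' ⊔ S' = ⊤ := by
    rw [eq_top_iff]
    intro y _
    obtain ⟨h, hh, s, hs, hhs⟩ := Subgroup.mem_sup_of_normal_left.mp (htop.ge (Subgroup.mem_top (y : X)))
    have hsT : s ∈ T := by
      have : s = h⁻¹ * (y : X) := by rw [← hhs, inv_mul_cancel_left]
      rw [this]; exact T.mul_mem (T.inv_mem (hHT hh)) y.2
    have : y = (⟨h, hHT hh⟩ : T) * ⟨s, hsT⟩ := Subtype.ext hhs.symm
    rw [this]
    exact Subgroup.mul_mem_sup (Subgroup.mem_subgroupOf.mpr hh)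
      (Subgroup.mem_subgroupOf.mpr ⟨hs, hsT⟩)
  let θ' : IrrCharacter H' :=
    ⟨fun k => θ (eH k), CharCore.isIrrCharacter_comp_surjective hθ eH.toMonoidHom eH.surjective⟩
  have hinv' : ∀ s ∈ S', ∀ g g' : H', (g' : T) = s * g * s⁻¹ →
      (θ' : H' → ℂ) g' = (θ' : H' → ℂ) g := by
    intro s _ g g' hg
    show θ (eH g') = θ (eH g)
    conv_rhs => rw [← (show CharClifford.conjFun H (s : X) θ = θ from s.2)]
    refine congrArg θ (Subtype.ext ?_)
    show ((g' : T) : X) = _
    rw [hg]; rfl
  obtain ⟨η, ⟨hη, hηH, hdet⟩, -⟩ := exists_canonical H' S' hcop' htop' θ' hinv'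
  have hres' : IsIrrCharacter H' (fun g : H' => η g) := by
    rw [show (fun g : H' => η g) = (θ' : H' → ℂ) from funext hηH]
    exact θ'.2
  have hval : ∀ k : H, η ⟨(k : X), hHT k.2⟩ = θ k := fun k =>
    (hηH (eH.symm k)).trans (congrArg θ (eH.apply_symm_apply k))
  refine ⟨indFun T η, e, CharInd.isCharacter_indFun T (CharCore.IsIrrCharacter.isCharacter hη), he,
    fun h => ?_, fun m hm hm1 y => ?_⟩
  · -- the restriction
    have h0 := congrFun hres h
    simp only [Pi.smul_apply, smul_eq_mul, Finset.sum_apply] at h0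
    rw [h0]
    congr 1
    have hfib : ∀ ψ ∈ CharClifford.conjOrbit H θ,
        (Finset.univ.filter fun x : X => CharClifford.conjFun H x θ = ψ).card = Nat.card T := by
      intro ψ hψ
      obtain ⟨x0, hx0⟩ := (CharClifford.mem_conjOrbit H).mp hψ
      rw [← Fintype.card_subtype, ← Nat.card_eq_fintype_card]
      refine Nat.card_congr
        { toFun := fun x => ⟨x.1 * x0⁻¹, ?_⟩
          invFun := fun t => ⟨t.1 * x0, ?_⟩
          left_inv := fun x => Subtype.ext (by simp)
          right_inv := fun t => Subtype.ext (by simp) }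
      · show CharClifford.conjFun H (x.1 * x0⁻¹) θ = θ
        rw [← CharClifford.conjFun_conjFun, x.2, ← hx0, CharClifford.conjFun_conjFun, mul_inv_cancel,
          CharClifford.conjFun_one]
      · rw [← CharClifford.conjFun_conjFun, show CharClifford.conjFun H t.1 θ = θ from t.2, hx0]
    rw [CharInd.indFun_apply]
    have hterm : ∀ x : X, extendByZero T η (x⁻¹ * (h : X) * x) = CharClifford.conjFun H x⁻¹ θ h := by
      intro x
      have hm' : x⁻¹ * (h : X) * x ∈ H := by
        have := hH.conj_mem (h : X) h.2 x⁻¹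
        rwa [inv_inv] at this
      rw [CharInd.extendByZero_mem η (hHT hm'), hval ⟨_, hm'⟩, CharClifford.conjFun_apply]
      exact congrArg θ (Subtype.ext (by simp))
    rw [Finset.sum_congr rfl fun x _ => hterm x,
      Fintype.sum_equiv (Equiv.inv X) (fun x => CharClifford.conjFun H x⁻¹ θ h)
        (fun x => CharClifford.conjFun H x θ h) (fun x => rfl),
      ← Finset.sum_fiberwise_of_maps_to (t := CharClifford.conjOrbit H θ)
        (g := fun x => CharClifford.conjFun H x θ)
        (fun x _ => (CharClifford.mem_conjOrbit H).mpr ⟨x, rfl⟩)]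
    have hins : ∀ ψ ∈ CharClifford.conjOrbit H θ,
        ∑ x ∈ Finset.univ.filter (fun x : X => CharClifford.conjFun H x θ = ψ),
          CharClifford.conjFun H x θ h = (Nat.card T : ℂ) * ψ h := fun ψ hψ => by
      rw [Finset.sum_congr rfl fun x hx => by rw [(Finset.mem_filter.mp hx).2], Finset.sum_const,
        hfib ψ hψ, nsmul_eq_mul]
    refine (Eq.trans (congrArg ((Nat.card T : ℂ)⁻¹ * ·) (Finset.sum_congr rfl hins)) ?_).symm
    rw [← Finset.mul_sum, inv_mul_cancel_left₀ (Nat.cast_ne_zero.mpr Nat.card_pos.ne')]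
  · -- rationality
    rw [CharInd.indFun_apply, CharInd.indFun_apply]
    congr 1
    refine Finset.sum_congr rfl fun x _ => ?_
    have hconj : x⁻¹ * y ^ m * x = (x⁻¹ * y * x) ^ m := by
      have := conj_pow (a := x⁻¹) (b := y) (i := m)
      rw [inv_inv] at this
      exact this.symm
    rw [hconj]
    set z := x⁻¹ * y * x
    by_cases hz : z ∈ T
    · rw [CharInd.extendByZero_mem η (T.pow_mem hz m), CharInd.extendByZero_mem η hz]
      have hmT : m.Coprime (Nat.card T) := hm.coprime_dvd_right T.card_subgroup_dvd_card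
      have := canonical_pow H' S' hcop' htop' hη hres' hdet hmT
        (by rwa [Nat.card_congr eH.toEquiv]) ⟨z, hz⟩
      exact this
    · rw [CharInd.extendByZero_notMem η hz, CharInd.extendByZero_notMem η fun hzm => hz ?_]
      have hco : (orderOf z).Coprime m :=
        hm.symm.coprime_dvd_left (orderOf_dvd_natCard z)
      obtain ⟨j, hj⟩ := exists_pow_eq_self_of_coprime (x := z) hco.symm
      rw [← hj]
      exact T.pow_mem hzm j

/-- A character gives a rational one of at most the same degree and no larger kernel on `H`. -/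
theorem exists_rational (φ : X → ℂ) (hφ : IsCharacter X φ) {n : ℕ} (hn : φ 1 = n) :
    ∃ (ψ : X → ℂ) (d : ℕ), IsCharacter X ψ ∧ ψ 1 = d ∧ d ≤ n ∧
      (∀ h ∈ H, ψ h = ψ 1 → φ h = φ 1) ∧
      ∀ m : ℕ, m.Coprime (Nat.card X) → m ≡ 1 [MOD Nat.card H] → ∀ y, ψ (y ^ m) = ψ y := by
  classical
  obtain ⟨a, ha⟩ := CharCore.IsCharacter.exists_sum hφ
  choose ψf e hψc he hψH hψm using fun ξ : IrrCharacter X => exists_rational_irr H S hcop htop ξ.2
  choose df hdf using fun ξ => CharCore.IsCharacter.exists_degree (hψc ξ)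
  set ψ : X → ℂ := ∑ ξ, (a ξ : ℂ) • ψf ξ with hψ
  have happ : ∀ y, ψ y = ∑ ξ, (a ξ : ℂ) * ψf ξ y := fun y => by simp [hψ, Finset.sum_apply]
  have hφH : ∀ h ∈ H, φ h = ∑ ξ, (a ξ : ℂ) * ((e ξ : ℂ) * ψf ξ h) := fun h hh => by
    have := congrFun ha h
    simp only [Finset.sum_apply, Pi.smul_apply, smul_eq_mul] at this
    rw [this]
    exact Finset.sum_congr rfl fun ξ _ => by rw [hψH ξ ⟨h, hh⟩]
  refine ⟨ψ, ∑ ξ, a ξ * df ξ, ?_, ?_, ?_, ?_, fun m hm hm1 y => ?_⟩
  · exact CharCore.isCharacter_sum _ _ fun ξ _ => CharCore.isCharacter_natCast_smul (hψc ξ) _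
  · rw [happ]; push_cast
    exact Finset.sum_congr rfl fun ξ _ => by rw [hdf]
  · have h1 := hφH 1 H.one_mem
    simp only [hdf, hn] at h1
    have h2 : n = ∑ ξ, a ξ * (e ξ * df ξ) := by exact_mod_cast h1
    rw [h2]
    exact Finset.sum_le_sum fun ξ _ =>
      Nat.mul_le_mul_left _ (Nat.le_mul_of_pos_left _ (he ξ))
  · intro h hh heq
    have key : ∀ ξ, a ξ ≠ 0 → ψf ξ h = ψf ξ 1 := by
      intro ξ hξ
      have h1 := congrArg Complex.re heq
      rw [happ, happ] at h1
      simp only [Complex.re_sum, Complex.mul_re, Complex.natCast_re, Complex.natCast_im, zero_mul,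
        sub_zero, hdf] at h1
      have hle : ∀ η, ‖ψf η h‖ ≤ df η := fun η => by
        have h2 := CharCore.IsCharacter.norm_apply_le (hψc η) h
        simpa [hdf] using h2
      have h2 := (Finset.sum_eq_sum_iff_of_le (fun η _ => mul_le_mul_of_nonneg_left
        ((Complex.re_le_norm _).trans (hle η)) (Nat.cast_nonneg (a η)))).mp h1 ξ (Finset.mem_univ _)
      have h3 : (ψf ξ h).re = df ξ := mul_left_cancel₀ (Nat.cast_ne_zero.mpr hξ) h2
      have h4 := Complex.normSq_eq_norm_sq (ψf ξ h)
      rw [Complex.normSq_apply, h3] at h4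
      have h5 := mul_le_mul (hle ξ) (hle ξ) (norm_nonneg _) (Nat.cast_nonneg _)
      have h6 : (ψf ξ h).im = 0 := by nlinarith [mul_self_nonneg (ψf ξ h).im]
      rw [hdf]
      exact Complex.ext (by simpa using h3) (by simpa using h6)
    rw [hφH h hh, hφH 1 H.one_mem]
    refine Finset.sum_congr rfl fun ξ _ => ?_
    rcases eq_or_ne (a ξ) 0 with h0 | h0
    · simp [h0]
    · rw [key ξ h0]
  · rw [happ, happ]
    exact Finset.sum_congr rfl fun ξ _ => by rw [hψm ξ m hm hm1]

omit hcop htop

/-- The index of the part of a `p`-group acting trivially on `H` modulo the kernel of a character. -/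
theorem bound_of_action {p : ℕ} (hp : p.Prime) (hcop : (Nat.card H).Coprime (Nat.card S))
    (htop : H ⊔ S = ⊤) (hS : IsPGroup p S) (φ : X → ℂ) (hφ : IsCharacter X φ) {n : ℕ}
    (hn : φ 1 = n) :
    ∃ K : Subgroup S, K.index.factorization p ≤ schurBound p n ∧
      (∃ k, K.index = p ^ k) ∧
      ∀ y ∈ K, ∀ h ∈ H, φ ((y : X) * h * (y : X)⁻¹ * h⁻¹) = φ 1 := by
  classical
  haveI := Fact.mk hp
  obtain ⟨ψ, d, hψ, hd, hdn, hker, hrat⟩ := exists_rational H S hcop htop φ hφ hn
  letI := Fintype.ofFinite S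
  have hψS : IsCharacter S (fun s : S => ψ s) := CharCore.isCharacter_restrict hψ S
  set K := CharCore.charKernel hψS with hK
  haveI : K.Normal := CharCore.charKernel_normal hψS
  obtain ⟨ψb, hψb, -, hψb'⟩ := CharCore.IsCharacter.exists_quotient hψS K fun k hk => hk
  letI := Fintype.ofFinite (S ⧸ K)
  have hb1 : ψb 1 = d := by rw [← map_one (QuotientGroup.mk' K), ← hψb']; exact hd
  have hint : ∀ g : S ⧸ K, ∃ a : ℤ, ψb g = a := by
    intro g
    obtain ⟨s, rfl⟩ := QuotientGroup.mk'_surjective K g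
    rw [← hψb']
    refine CharClifford.exists_int_of_fixed (CharCore.IsCharacter.isIntegral hψ (s : X)) fun σ => ?_
    obtain ⟨m, hm, hσ⟩ := CharClifford.exists_coprime_map_isCharacter hψ σ
    rw [hσ]
    obtain ⟨k, hk1, hk2⟩ := Nat.chineseRemainder hcop.symm m 1
    have hdvd : Nat.card X ∣ Nat.card H * Nat.card S := by
      have h1 : H.index ∣ Nat.card S := index_dvd_card H S htop
      rw [← H.card_mul_index]
      exact Nat.mul_dvd_mul_left _ h1
    have hmS : m.Coprime (Nat.card S) := hm.coprime_dvd_right S.card_subgroup_dvd_card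
    have hkc : k.Coprime (Nat.card X) := by
      refine Nat.Coprime.coprime_dvd_right hdvd (Nat.Coprime.mul_right ?_ ?_)
      · exact (Nat.ModEq.gcd_eq hk2).trans (Nat.gcd_one_left _)
      · exact (Nat.ModEq.gcd_eq hk1).trans hmS
    rw [← hrat k hkc hk2 (s : X)]
    refine congrArg ψ (pow_eq_of_modEq (N := Nat.card S) ?_ hk1.symm)
    rw [← SubmonoidClass.coe_pow, pow_card_eq_one', OneMemClass.coe_one]
  have hfaith : ∀ g : S ⧸ K, ψb g = ψb 1 → g = 1 := by
    intro g hg
    obtain ⟨s, rfl⟩ := QuotientGroup.mk'_surjective K g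
    refine (QuotientGroup.eq_one_iff s).mpr ?_
    show ψ (s : X) = ψ ((1 : S) : X)
    have h1 := hψb' s
    have h2 := hψb' 1
    rw [map_one] at h2
    exact h1.trans (hg.trans h2.symm)
  refine ⟨K, (factorization_card_le_schur hp (hS.to_quotient K) hψb hint hfaith hb1).trans
    (schurBound_mono hdn), hS.index K, fun y hy h hh => ?_⟩
  refine hker _ ?_ ?_
  · exact H.mul_mem (hH.conj_mem h hh _) (H.inv_mem hh)
  · set KX := CharCore.charKernel hψ
    have hy' : (y : X) ∈ KX := hy
    show (y : X) * h * (y : X)⁻¹ * h⁻¹ ∈ KX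
    rw [show (y : X) * h * (y : X)⁻¹ * h⁻¹ = (y : X) * (h * (y : X)⁻¹ * h⁻¹) by group]
    exact KX.mul_mem hy' ((CharCore.charKernel_normal hψ).conj_mem _ (KX.inv_mem hy') h)

end Cfsg.Agent.BlkChar.Action
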