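import Cfsg.Agent.Lib.BlocksDefect.Pairing
import Cfsg.Agent.Lib.CharInd.Brauer
import Cfsg.Agent.Lib.CharCore.Virtual
import Cfsg.Agent.Lib.CharCore.Complete
import Cfsg.Agent.Lib.BlocksCore.DefectZero
import Mathlib.GroupTheory.SchurZassenhaus
import Mathlib.NumberTheory.Padics.PadicVal.Basic

/-!
# The function `p ^ c` times a character on `p`-regular elements
-/

namespace Cfsg.Agent.BlkChar

open BlocksCore BlocksDefect

open scoped ComplexConjugate

universe u

variable {G : Type u} [Group G] {p : ℕ}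

/-- `χ` times `p ^ (exponent of p in |G|)` on `p`-regular elements, zero elsewhere. -/
noncomputable def regPart (p : ℕ) (χ : G → ℂ) : G → ℂ :=
  fun x => if p ∣ orderOf x then (0 : ℂ)
    else ((p ^ (Nat.card G).factorization p : ℕ) : ℂ) * χ x

/-- `c * χ` on `p`-regular elements, zero elsewhere. -/
noncomputable def regScale (p : ℕ) (c : ℂ) (χ : G → ℂ) : G → ℂ :=
  fun x => if p ∣ orderOf x then (0 : ℂ) else c * χ x

theorem regPart_eq_regScale (p : ℕ) (χ : G → ℂ) :
    regPart p χ = regScale p ((p ^ (Nat.card G).factorization p : ℕ) : ℂ) χ := rfl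

theorem isClassFunction_regScale (p : ℕ) (c : ℂ) {χ : G → ℂ} (hχ : IsClassFunction G χ) :
    IsClassFunction G (regScale p c χ) := by
  intro g h
  simp only [regScale, orderOf_conjugate, hχ g h]

/-- In an elementary group the `p`-regular elements form a subgroup of `p`-power index, and the
centralizers of its elements have order divisible by that index. -/
theorem exists_regular_subgroup {E : Type*} [Group E] [Finite E] {q : ℕ} (hp : p.Prime)
    (hq : q.Prime) (hE : IsElementary q E) :
    ∃ (Q : Subgroup E) (j : ℕ), (∀ e, e ∈ Q ↔ ¬ p ∣ orderOf e) ∧ Q.index = p ^ j ∧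
      ∀ e ∈ Q, p ^ j ∣ Nat.card (Subgroup.centralizer ({e} : Set E)) := by
  haveI := Fact.mk hp
  obtain ⟨x, hx, hxq, k, hk⟩ := hE
  have hnorm : (Subgroup.zpowers x).Normal :=
    ⟨fun n hn g => by
      have hc : n ∈ Subgroup.center E := Subgroup.zpowers_le.mpr hx hn
      rw [Subgroup.mem_center_iff.mp hc g, mul_assoc, mul_inv_cancel, mul_one]
      exact hn⟩
  have himg : ∀ e : E, orderOf (QuotientGroup.mk e : E ⧸ Subgroup.zpowers x) ∣ q ^ k := fun e => by
    rw [← hk, Subgroup.index_eq_card]; exact orderOf_dvd_natCard _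
  by_cases hpq : p = q
  · subst hpq
    refine ⟨Subgroup.zpowers x, k, fun e => ⟨fun he hdvd => ?_, fun he => ?_⟩, hk, fun e he => ?_⟩
    · have h1 : orderOf e ∣ orderOf x := by
        rw [← Nat.card_zpowers x]
        exact Subgroup.orderOf_dvd_natCard _ he
      exact (Nat.Prime.coprime_iff_not_dvd hp).mp hxq.symm (hdvd.trans h1)
    · rw [← QuotientGroup.eq_one_iff, ← orderOf_eq_one_iff]
      refine Nat.eq_one_of_dvd_coprimes ?_ (himg e) (orderOf_map_dvd (QuotientGroup.mk' _) e)
      exact (Nat.Prime.coprime_iff_not_dvd hp).mpr he |>.pow_left k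
    · have hc : e ∈ Subgroup.center E := Subgroup.zpowers_le.mpr hx he
      have : Subgroup.centralizer ({e} : Set E) = ⊤ :=
        top_unique fun g _ => Subgroup.mem_centralizer_singleton_iff.mpr
          (Subgroup.mem_center_iff.mp hc g)
      rw [this, Subgroup.card_top, ← hk]
      exact Subgroup.index_dvd_card _
  · obtain ⟨P⟩ : Nonempty (Sylow p E) := inferInstance
    have hPc : ∀ u ∈ (P : Subgroup E), u ∈ Subgroup.center E := by
      intro u hu
      have h1 : (QuotientGroup.mk u : E ⧸ Subgroup.zpowers x) = 1 := by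
        rw [← orderOf_eq_one_iff]
        obtain ⟨i, hi⟩ := (IsPGroup.iff_orderOf.mp P.2) ⟨u, hu⟩
        rw [Subgroup.orderOf_mk] at hi
        refine Nat.eq_one_of_dvd_coprimes ?_ (himg u) (orderOf_map_dvd (QuotientGroup.mk' _) u)
        rw [hi]
        exact ((Nat.coprime_primes hq hp).mpr (Ne.symm hpq)).pow k i
      exact Subgroup.zpowers_le.mpr hx ((QuotientGroup.eq_one_iff u).mp h1)
    haveI : (P : Subgroup E).Normal := ⟨fun n hn g => by
      rw [Subgroup.mem_center_iff.mp (hPc n hn) g, mul_assoc, mul_inv_cancel, mul_one]; exact hn⟩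
    obtain ⟨K, hK⟩ := Subgroup.exists_right_complement'_of_coprime
      (N := (P : Subgroup E)) P.card_coprime_index
    have hKi : K.index = Nat.card (P : Subgroup E) := hK.index_eq_card
    have hKcard : Nat.card K = (P : Subgroup E).index := hK.symm.index_eq_card.symm
    have hKp : ¬ p ∣ Nat.card K := hKcard ▸ P.not_dvd_index
    refine ⟨K, (Nat.card E).factorization p, fun e => ⟨fun he hdvd => ?_, fun he => ?_⟩,
      by rw [hKi, P.card_eq_multiplicity], fun e he => ?_⟩
    · exact hKp (hdvd.trans (Subgroup.orderOf_dvd_natCard _ he))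
    · obtain ⟨⟨u, k'⟩, huk⟩ := hK.2 e
      have huk' : (u : E) * (k' : E) = e := huk
      have hu1 : (u : E) = 1 := by
        obtain ⟨i, hi⟩ := (IsPGroup.iff_orderOf.mp P.2) u
        have hcm : Commute (u : E) (k' : E) :=
          (Subgroup.mem_center_iff.mp (hPc _ u.2) _).symm
        have h1 : (u : E) ^ (Nat.card K * orderOf e) = 1 := by
          have h2 : e ^ (Nat.card K * orderOf e) = 1 := by
            rw [mul_comm, pow_mul, pow_orderOf_eq_one, one_pow]
          rw [← huk', hcm.mul_pow] at h2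
          have hk1 : (k' : E) ^ Nat.card K = 1 := by
            rw [← SubmonoidClass.coe_pow, pow_card_eq_one', OneMemClass.coe_one]
          rwa [pow_mul (k' : E), hk1, one_pow, mul_one, huk'] at h2
        rw [← orderOf_eq_one_iff]
        refine Nat.eq_one_of_dvd_coprimes (a := p ^ i) ?_ ?_ (orderOf_dvd_of_pow_eq_one h1)
        · exact Nat.Coprime.mul_right ((hp.coprime_iff_not_dvd.mpr hKp).pow_left i)
            ((hp.coprime_iff_not_dvd.mpr he).pow_left i)
        · rw [Subgroup.orderOf_coe, hi]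
      rw [← huk', hu1, one_mul]
      exact k'.2
    · rw [← P.card_eq_multiplicity]
      refine Subgroup.card_dvd_of_le fun u hu => ?_
      exact Subgroup.mem_centralizer_singleton_iff.mpr (Subgroup.mem_center_iff.mp (hPc u hu) e).symm

variable [Finite G]

theorem isIntegral_card_mul_div (χ : IrrCharacter G) (g : G) {d : ℕ}
    (hd : d ∣ Nat.card (Subgroup.centralizer ({g} : Set G))) :
    IsIntegral ℤ ((Nat.card G : ℂ) * (χ : G → ℂ) g / ((d : ℂ) * (χ : G → ℂ) 1)) := by
  haveI := Fintype.ofFinite G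
  obtain ⟨c, hc⟩ := hd
  have hcard : Nat.card G = d * c * (Subgroup.centralizer ({g} : Set G)).index := by
    rw [← hc, Subgroup.card_mul_index]
  have hd0 : (d : ℂ) ≠ 0 := by
    simp only [ne_eq, Nat.cast_eq_zero]
    rintro rfl
    simp [Nat.card_pos.ne'] at hc
  have : (Nat.card G : ℂ) * (χ : G → ℂ) g / ((d : ℂ) * (χ : G → ℂ) 1) =
      (c : ℂ) * centralChar (χ : G → ℂ) g := by
    rw [hcard, centralChar]
    push_cast
    field_simp
  rw [this]
  simpa using (isIntegral_algebraMap (R := ℤ) (A := ℂ) (x := (c : ℤ))).mul (isIntegral_centralChar χ g)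

theorem isInt_of_isIntegral_rat {z : ℂ} {q : ℚ} (hq : z = (q : ℂ)) (hz : IsIntegral ℤ z) :
    ∃ n : ℤ, z = (n : ℂ) := by
  subst hq
  have h : IsIntegral ℤ q := by
    have e : (q : ℂ) = algebraMap ℚ ℂ q := rfl
    rw [e] at hz
    exact (isIntegral_algebraMap_iff (algebraMap ℚ ℂ).injective).mp hz
  obtain ⟨n, hn⟩ := IsIntegrallyClosed.isIntegral_iff.mp h
  exact ⟨n, by rw [← hn]; simp⟩

theorem isGeneralized_regScale [hp : Fact p.Prime] (χ : IrrCharacter G) :
    IsGeneralizedCharacter G (regScale p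
      ((p ^ ((Nat.card G).factorization p - (charDegree (χ : G → ℂ)).factorization p) : ℕ) : ℂ)
      (χ : G → ℂ)) := by
  classical
  haveI := Fintype.ofFinite G
  set c := (Nat.card G).factorization p - (charDegree (χ : G → ℂ)).factorization p with hc
  refine CharInd.isGeneralizedCharacter_of_elementary
    (isClassFunction_regScale _ _ (irr_class χ)) fun E q hq hE => ?_
  haveI := Fintype.ofFinite E
  obtain ⟨Q, j, hQ, hQi, hQc⟩ := exists_regular_subgroup hp.out hq hE
  haveI := Fintype.ofFinite Q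
  rw [CharCore.isGeneralizedCharacter_iff]
  refine ⟨fun g h => isClassFunction_regScale _ _ (irr_class χ) (g : G) (h : G), fun η => ?_⟩
  set X := classInner (fun e : E => regScale p ((p ^ c : ℕ) : ℂ) (χ : G → ℂ) e) (η : E → ℂ) with hX
  have hEcard : Nat.card E = Nat.card Q * p ^ j := by rw [← hQi, Subgroup.card_mul_index]
  have hQ0 : (Nat.card Q : ℂ) ≠ 0 := by simp
  have hpj : ((p ^ j : ℕ) : ℂ) ≠ 0 := by simp [hp.out.ne_zero]
  have hX1 : X = ((p ^ c : ℕ) : ℂ) / ((Nat.card Q : ℂ) * ((p ^ j : ℕ) : ℂ)) *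
      ∑ e : Q, (χ : G → ℂ) ((e : E) : G) * conj ((η : E → ℂ) e) := by
    have hsum : ∀ f : E → ℂ, (∀ e, e ∉ Q → f e = 0) → ∑ e, f e = ∑ e : Q, f e := by
      intro f hf
      rw [← Finset.sum_subset (Finset.filter_subset (fun e : E => e ∈ Q) Finset.univ)
        (fun e _ he => hf e (by simpa using he))]
      exact Finset.sum_subtype _ (by simp) f
    rw [hX, classInner, hsum, hEcard, Nat.cast_mul, Finset.mul_sum, Finset.mul_sum]
    · refine Finset.sum_congr rfl fun e _ => ?_
      have he := (hQ e).mp e.2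
      rw [Subgroup.orderOf_coe] at he
      simp [regScale, he]
      ring
    · intro e he
      simp only [hQ, not_not] at he
      simp [regScale, he]
  obtain ⟨k, hk⟩ := CharCore.IsCharacter.exists_classInner_eq_natCast
    (CharCore.isCharacter_restrict
      (CharCore.isCharacter_restrict (CharCore.irr_isCharacter χ) E) Q)
    (CharCore.isCharacter_restrict (CharCore.irr_isCharacter η) Q)
  rw [classInner] at hk
  have hB : X * ((p ^ j : ℕ) : ℂ) = ((p ^ c : ℕ) : ℂ) * (k : ℂ) := by
    rw [hX1, ← hk]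
    field_simp
  set d := charDegree (χ : G → ℂ) with hd
  obtain ⟨s, hs, hcs⟩ : ∃ s, ¬ p ∣ s ∧ Nat.card G = d * (p ^ c * s) := by
    obtain ⟨t, ht⟩ := charDegree_dvd_card χ
    have hd0 : d ≠ 0 := (charDegree_pos χ).ne'
    have ht0 : t ≠ 0 := fun h => Nat.card_pos.ne' (by rw [ht, h, mul_zero])
    refine ⟨ordCompl[p] t, Nat.not_dvd_ordCompl hp.out ht0, ?_⟩
    have : c = t.factorization p := by
      rw [hc, ht, Nat.factorization_mul hd0 ht0]; simp
    rw [this, Nat.ordProj_mul_ordCompl_eq_self, ← ht]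
  have hA : IsIntegral ℤ (X * ((Nat.card Q * s : ℕ) : ℂ)) := by
    have he : X * ((Nat.card Q * s : ℕ) : ℂ) = ∑ e : Q,
        (Nat.card G : ℂ) * (χ : G → ℂ) ((e : E) : G) / (((p ^ j : ℕ) : ℂ) * (χ : G → ℂ) 1) *
          (η : E → ℂ) (e : E)⁻¹ := by
      rw [hX1, Finset.mul_sum, Finset.sum_mul]
      refine Finset.sum_congr rfl fun e _ => ?_
      rw [conj_irr, hcs, irr_one_eq χ, ← hd]
      have : (d : ℂ) ≠ 0 := by simp [(charDegree_pos χ).ne', hd]
      push_cast
      field_simp
    rw [he]
    refine IsIntegral.sum _ fun e _ => IsIntegral.mul ?_ (isIntegral_irr η _)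
    refine isIntegral_card_mul_div χ _ ((hQc _ e.2).trans ?_)
    refine Subgroup.card_dvd_of_injective
      ( ((E.subtype).comp (Subgroup.centralizer ({(e : E)} : Set E)).subtype).codRestrict
        (Subgroup.centralizer ({((e : E) : G)} : Set G)) fun y => ?_) ?_
    · exact Subgroup.mem_centralizer_singleton_iff.mpr
        (congrArg Subtype.val (Subgroup.mem_centralizer_singleton_iff.mp y.2))
    · intro a b hab
      have h2 := congrArg Subtype.val hab
      exact Subtype.ext (Subtype.ext h2)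
  have hQp : ¬ p ∣ Nat.card Q := by
    intro h
    obtain ⟨e, he⟩ := exists_prime_orderOf_dvd_card' p h
    exact (hQ e).mp e.2 (by rw [Subgroup.orderOf_coe, he])
  have hcop : Nat.Coprime (Nat.card Q * s) (p ^ j) :=
    ((Nat.Coprime.mul_left ((hp.out.coprime_iff_not_dvd.mpr hQp).symm)
      ((hp.out.coprime_iff_not_dvd.mpr hs).symm))).pow_right j
  have hbez := Nat.gcd_eq_gcd_ab (Nat.card Q * s) (p ^ j)
  rw [hcop.gcd_eq_one] at hbez
  have hXint : IsIntegral ℤ X := by
    have e : X = (X * ((Nat.card Q * s : ℕ) : ℂ)) * ((Nat.card Q * s).gcdA (p ^ j) : ℂ) +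
        (((p ^ c : ℕ) : ℂ) * (k : ℂ)) * ((Nat.card Q * s).gcdB (p ^ j) : ℂ) := by
      rw [← hB]
      have h2 := congrArg (fun z : ℤ => (z : ℂ)) hbez
      push_cast at h2 ⊢
      linear_combination X * h2
    rw [e]
    exact (hA.mul isIntegral_algebraMap).add ((isIntegral_algebraMap.mul isIntegral_algebraMap).mul
      isIntegral_algebraMap)
  refine isInt_of_isIntegral_rat (q := (p ^ c : ℕ) * (k : ℚ) / (p ^ j : ℕ)) ?_ hXint
  rw [eq_comm, Rat.cast_div, Rat.cast_mul, Rat.cast_natCast, Rat.cast_natCast, Rat.cast_natCast,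
    div_eq_iff hpj, hB]

theorem isGeneralized_regPart [hp : Fact p.Prime] (χ : IrrCharacter G) :
    IsGeneralizedCharacter G (regPart p (χ : G → ℂ)) := by
  haveI := Fintype.ofFinite G
  have hb : (charDegree (χ : G → ℂ)).factorization p ≤ (Nat.card G).factorization p :=
    (Nat.factorization_le_iff_dvd (charDegree_pos χ).ne' Nat.card_pos.ne').mpr
      (charDegree_dvd_card χ) p
  have h := CharCore.isGeneralized_intCast_smul (isGeneralized_regScale (p := p) χ)
    ((p ^ (charDegree (χ : G → ℂ)).factorization p : ℕ) : ℤ)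
  convert h using 1
  funext x
  simp only [regPart, regScale, Pi.smul_apply, smul_eq_mul]
  split_ifs
  · simp
  · rw [← mul_assoc, Int.cast_natCast, ← Nat.cast_mul, ← pow_add,
      Nat.add_sub_cancel' hb]

theorem isClassFunction_regPart (p : ℕ) (χ : IrrCharacter G) :
    IsClassFunction G (regPart p (χ : G → ℂ)) :=
  isClassFunction_regScale _ _ (CharCore.irr_isClassFunction χ)

/-- A generalized character vanishing on the `p`-singular elements has degree divisible by the
`p`-part of the group order. -/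
theorem exists_degree_eq_of_vanishes [hp : Fact p.Prime] {θ : G → ℂ}
    (hθ : IsGeneralizedCharacter G θ) (h : ∀ g, p ∣ orderOf g → θ g = 0) :
    ∃ k : ℤ, θ 1 = ((p ^ (Nat.card G).factorization p : ℕ) : ℂ) * (k : ℂ) := by
  classical
  haveI := Fintype.ofFinite G
  obtain ⟨P⟩ : Nonempty (Sylow p G) := inferInstance
  haveI := Fintype.ofFinite P
  obtain ⟨k, hk⟩ := CharCore.IsGeneralizedCharacter.exists_classInner_eq_intCast
    (CharCore.isGeneralized_restrict hθ (P : Subgroup G)) CharCore.isGeneralized_one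
  refine ⟨k, ?_⟩
  rw [classInner, Finset.sum_eq_single (1 : (P : Subgroup G))] at hk
  · rw [← P.card_eq_multiplicity, ← hk]
    simp
  · intro u _ hu
    obtain ⟨i, hi⟩ := (IsPGroup.iff_orderOf.mp P.2) u
    have hi0 : i ≠ 0 := by
      rintro rfl
      exact hu (orderOf_eq_one_iff.mp (by rw [hi, pow_zero]))
    have : p ∣ orderOf (u : G) := by
      rw [Subgroup.orderOf_coe, hi]; exact dvd_pow_self p hi0
    simp [h _ this]
  · simp

end Cfsg.Agent.BlkChar
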