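import Cfsg.Agent.Lib.Thompson.PSolvable
import Mathlib.GroupTheory.Transfer
import Mathlib.GroupTheory.Abelianization.Defs

/-!
# An element of prime order with self-centralizing cyclic subgroup
-/

set_option linter.unusedSectionVars false

open Cfsg
open scoped commutatorElement

namespace Cfsg.Agent.BlkChar.SelfCent

universe u

variable {G : Type u} [Group G] [Finite G] {p : ℕ} [hp : Fact p.Prime] {x : G}
  (hx : orderOf x = p) (hC : Subgroup.centralizer ({x} : Set G) = Subgroup.zpowers x)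

include hx

theorem exists_pow_eq_of_orderOf {y : G} (hy : y ∈ Subgroup.zpowers x) (hy1 : y ≠ 1) :
    Subgroup.zpowers y = Subgroup.zpowers x := by
  have hle : Subgroup.zpowers y ≤ Subgroup.zpowers x := Subgroup.zpowers_le.mpr hy
  refine Subgroup.eq_of_le_of_card_ge hle (le_of_eq ?_)
  have h1 : orderOf y ∣ p := hx ▸ (Nat.card_zpowers x ▸ Nat.card_zpowers y ▸ Subgroup.card_dvd_of_le hle)
  rw [Nat.card_zpowers, Nat.card_zpowers, hx]
  rcases (Nat.dvd_prime hp.out).mp h1 with h | h
  · exact absurd (orderOf_eq_one_iff.mp h) hy1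
  · exact h.symm

include hC

theorem exists_sylow : ∃ P : Sylow p G, (P : Subgroup G) = Subgroup.zpowers x := by
  have hX : IsPGroup p (Subgroup.zpowers x) :=
    IsPGroup.of_card (n := 1) (by rw [Nat.card_zpowers, hx, pow_one])
  obtain ⟨P, hP⟩ := hX.exists_le_sylow
  refine ⟨P, le_antisymm ?_ hP⟩
  haveI : Nontrivial (P : Subgroup G) := Subgroup.nontrivial_iff_exists_ne_one _ |>.mpr
    ⟨x, hP (Subgroup.mem_zpowers x), fun h => hp.out.ne_one (hx ▸ orderOf_eq_one_iff.mpr h)⟩
  haveI := IsPGroup.center_nontrivial P.isPGroup'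
  obtain ⟨⟨z, hz⟩, hz1⟩ := exists_ne (1 : Subgroup.center (P : Subgroup G))
  have hzx : (z : G) ∈ Subgroup.zpowers x := hC ▸ Subgroup.mem_centralizer_singleton_iff.mpr
    (congrArg Subtype.val (Subgroup.mem_center_iff.mp hz ⟨x, hP (Subgroup.mem_zpowers x)⟩)).symm
  have hz1' : (z : G) ≠ 1 := fun h => hz1 (Subtype.ext (Subtype.ext h))
  intro y hy
  rw [← hC, Subgroup.mem_centralizer_singleton_iff]
  have hyz : Commute y (z : G) := congrArg Subtype.val (Subgroup.mem_center_iff.mp hz ⟨y, hy⟩)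
  have hxz : x ∈ Subgroup.zpowers (z : G) := by
    rw [exists_pow_eq_of_orderOf hx hzx hz1']; exact Subgroup.mem_zpowers x
  obtain ⟨i, hi⟩ := hxz
  rw [← hi]
  exact (hyz.zpow_right i).eq

theorem mem_zpowers_of_comm {g : G} (h : g * x = x * g) : g ∈ Subgroup.zpowers x :=
  hC ▸ Subgroup.mem_centralizer_singleton_iff.mpr h

theorem inf_pPrimeCore : pPrimeCore p G ⊓ Subgroup.zpowers x = ⊥ := by
  rw [eq_bot_iff]
  rintro y ⟨hyS, hyX⟩
  by_contra hy1
  have h1 : Subgroup.zpowers x ≤ pPrimeCore p G := by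
    rw [← exists_pow_eq_of_orderOf hx hyX hy1]; exact Subgroup.zpowers_le.mpr hyS
  have h2 := Subgroup.card_dvd_of_le h1
  rw [Nat.card_zpowers, hx] at h2
  exact Thompson.not_dvd_card_pPrimeCore h2

theorem pPrimeCore_le_commutator : pPrimeCore p G ≤ commutator G := by
  set S := pPrimeCore p G
  have hmem : ∀ s : S, (s : G)⁻¹ * (x * s * x⁻¹) ∈ S := fun s =>
    S.mul_mem (S.inv_mem s.2) ((inferInstance : S.Normal).conj_mem _ s.2 x)
  have hinj : Function.Injective (fun s : S => (⟨_, hmem s⟩ : S)) := by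
    intro a b hab
    have h1 : (a : G)⁻¹ * (x * a * x⁻¹) = (b : G)⁻¹ * (x * b * x⁻¹) := congrArg Subtype.val hab
    have h2 : ((b : G) * (a : G)⁻¹) * x = x * ((b : G) * (a : G)⁻¹) := by
      calc (b : G) * (a : G)⁻¹ * x = (b : G) * ((a : G)⁻¹ * (x * a * x⁻¹)) * x * (a : G)⁻¹ := by group
        _ = (b : G) * ((b : G)⁻¹ * (x * b * x⁻¹)) * x * (a : G)⁻¹ := by rw [h1]
        _ = x * ((b : G) * (a : G)⁻¹) := by group
    have h3 : (b : G) * (a : G)⁻¹ ∈ S ⊓ Subgroup.zpowers x :=
      ⟨S.mul_mem b.2 (S.inv_mem a.2), mem_zpowers_of_comm hx hC h2⟩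
    rw [inf_pPrimeCore hx hC, Subgroup.mem_bot, mul_inv_eq_one] at h3
    exact Subtype.ext h3.symm
  intro y hy
  obtain ⟨s, hs⟩ := (Finite.injective_iff_surjective.mp hinj) ⟨y, hy⟩
  have h1 : (s : G)⁻¹ * (x * s * x⁻¹) = y := congrArg Subtype.val hs
  rw [← h1, show (s : G)⁻¹ * (x * s * x⁻¹) = ⁅(s : G)⁻¹, x⁆ by rw [commutatorElement_def, inv_inv]; group]
  exact Subgroup.commutator_mem_commutator (Subgroup.mem_top _) (Subgroup.mem_top _)

theorem exists_normalizing {t : ℕ}
    (ht : Nat.card {C : ConjClasses G // ∃ g ∈ C.carrier, orderOf g = p} = t) (P : Sylow p G)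
    (hP : (P : Subgroup G) = Subgroup.zpowers x) :
    t = p - 1 ↔ Subgroup.normalizer ((P : Subgroup G) : Set G) ≤
      Subgroup.centralizer ((P : Subgroup G) : Set G) := by
  classical
  haveI := Fintype.ofFinite (P : Subgroup G)
  haveI : IsMulCommutative (P : Subgroup G) := by rw [hP]; infer_instance
  have ho : ∀ y : {y : (P : Subgroup G) // y ≠ 1}, orderOf (y.1 : G) = p := fun y => by
    rw [← Nat.card_zpowers, exists_pow_eq_of_orderOf hx (hP ▸ y.1.2) (fun h => y.2 (Subtype.ext h)),
      Nat.card_zpowers, hx]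
  let f : {y : (P : Subgroup G) // y ≠ 1} → {C : ConjClasses G // ∃ g ∈ C.carrier, orderOf g = p} :=
    fun y => ⟨ConjClasses.mk (y.1 : G), (y.1 : G), ConjClasses.mem_carrier_mk, ho y⟩
  have hf : Function.Surjective f := by
    rintro ⟨C, g, hg, hgo⟩
    have hgp : IsPGroup p (Subgroup.zpowers g) :=
      IsPGroup.of_card (n := 1) (by rw [Nat.card_zpowers, hgo, pow_one])
    obtain ⟨Q, hQ⟩ := hgp.exists_le_sylow
    obtain ⟨c, hc⟩ := MulAction.exists_smul_eq G Q P
    have hmem : c * g * c⁻¹ ∈ (P : Subgroup G) := by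
      rw [← hc]; exact ⟨g, hQ (Subgroup.mem_zpowers g), rfl⟩
    refine ⟨⟨⟨_, hmem⟩, fun h => hp.out.ne_one (hgo ▸ orderOf_eq_one_iff.mpr
      (conj_eq_one_iff.mp (congrArg Subtype.val h)))⟩, Subtype.ext ?_⟩
    show ConjClasses.mk (c * g * c⁻¹) = C
    rw [← ConjClasses.mem_carrier_iff_mk_eq.mp hg, ConjClasses.mk_eq_mk_iff_isConj]
    exact (isConj_iff.mpr ⟨c, rfl⟩ : IsConj g (c * g * c⁻¹)).symm
  have hcard : Nat.card {y : (P : Subgroup G) // y ≠ 1} = p - 1 := by
    rw [Nat.card_eq_fintype_card, Fintype.card_subtype_compl, Fintype.card_subtype_eq,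
      ← Nat.card_eq_fintype_card, hP, Nat.card_zpowers, hx]
  constructor
  · intro htp n hn
    have hbij : Function.Bijective f := hf.bijective_of_nat_card_le (le_of_eq (by rw [hcard, ht, htp]))
    refine Subgroup.mem_centralizer_iff.mpr fun y hy => ?_
    by_cases hy1 : y = 1
    · simp [hy1]
    have hn' : n * y * n⁻¹ ∈ (P : Subgroup G) := (Subgroup.mem_normalizer_iff.mp hn y).mp hy
    have h1 : f ⟨⟨_, hn'⟩, fun h => hy1 (conj_eq_one_iff.mp (congrArg Subtype.val h))⟩ =
        f ⟨⟨y, hy⟩, fun h => hy1 (congrArg Subtype.val h)⟩ := Subtype.ext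
      (ConjClasses.mk_eq_mk_iff_isConj.mpr (isConj_iff.mpr ⟨n, rfl⟩ : IsConj y (n * y * n⁻¹)).symm)
    have h2 : n * y * n⁻¹ = y :=
      congrArg (fun z : {y : (P : Subgroup G) // y ≠ 1} => (z.1 : G)) (hbij.1 h1)
    exact (mul_inv_eq_iff_eq_mul.mp h2).symm
  · intro hNC
    rw [← ht, ← hcard]
    refine (Nat.card_congr (Equiv.ofBijective f ⟨fun a b hab => ?_, hf⟩)).symm
    obtain ⟨g, hg⟩ := isConj_iff.mp (ConjClasses.mk_eq_mk_iff_isConj.mp (congrArg Subtype.val hab))
    obtain ⟨n, hn, hn'⟩ := Sylow.conj_eq_normalizer_conj_of_mem P (a.1 : G) g⁻¹ a.1.2 (by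
      rw [inv_inv, hg]; exact b.1.2)
    rw [inv_inv, hg] at hn'
    refine Subtype.ext (Subtype.ext ?_)
    rw [hn', mul_assoc, Subgroup.mem_centralizer_iff.mp (hNC hn) _ a.1.2, inv_mul_cancel_left]

/-- The statement on the derived subgroup. -/
theorem main (t : ℕ) (ht : Nat.card {C : ConjClasses G // ∃ g ∈ C.carrier, orderOf g = p} = t) :
    pPrimeCore p G ≤ commutator G ∧
      (t ≠ p - 1 → ∀ h : ((pPrimeCore p G).subgroupOf (commutator G)).Normal,
        IsSimpleGroup (↥(commutator G) ⧸ (pPrimeCore p G).subgroupOf (commutator G))) ∧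
      (t = p - 1 → commutator G = pPrimeCore p G) := by
  classical
  obtain ⟨P, hP⟩ := exists_sylow hx hC
  have hiff := exists_normalizing hx hC ht P hP
  refine ⟨pPrimeCore_le_commutator hx hC, fun hne h => ?_, fun heq => ?_⟩
  · -- the simple quotient
    set S := pPrimeCore p G with hS
    set π := QuotientGroup.mk' S with hπ
    have hsurj : Function.Surjective π := QuotientGroup.mk'_surjective S
    have hcore : pPrimeCore p (G ⧸ S) = ⊥ := Thompson.pPrimeCore_quotient_pPrimeCore
    set D := (commutator G).map π with hD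
    have hDn : D.Normal := Subgroup.Normal.map inferInstance π hsurj
    obtain ⟨n, hn, hnC⟩ := SetLike.not_le_iff_exists.mp (fun hle => hne (hiff.mpr hle))
    have hnx : n * x * n⁻¹ ∈ Subgroup.zpowers x := hP ▸ (Subgroup.mem_normalizer_iff.mp hn x).mp
      (hP ▸ Subgroup.mem_zpowers x)
    have hc1 : n * x * n⁻¹ * x⁻¹ ≠ 1 := fun h1 => hnC (by
      rw [mul_inv_eq_one, mul_inv_eq_iff_eq_mul] at h1
      refine Subgroup.mem_centralizer_iff.mpr fun y hy => ?_
      rw [hP] at hy
      obtain ⟨j, rfl⟩ := hy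
      exact (Commute.zpow_right h1 j).eq.symm)
    have hxD : x ∈ commutator G := by
      have h1 : n * x * n⁻¹ * x⁻¹ ∈ commutator G := by
        rw [show n * x * n⁻¹ * x⁻¹ = ⁅n, x⁆ by rw [commutatorElement_def]]
        exact Subgroup.commutator_mem_commutator (Subgroup.mem_top _) (Subgroup.mem_top _)
      have h2 := exists_pow_eq_of_orderOf hx
        ((Subgroup.zpowers x).mul_mem hnx ((Subgroup.zpowers x).inv_mem (Subgroup.mem_zpowers x))) hc1
      exact Subgroup.zpowers_le.mp (h2 ▸ Subgroup.zpowers_le.mpr h1)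
    set xb := π x with hxb
    have hxb1 : xb ≠ 1 := fun h1 => by
      have h2 : x ∈ S ⊓ Subgroup.zpowers x :=
        ⟨(QuotientGroup.eq_one_iff x).mp h1, Subgroup.mem_zpowers x⟩
      rw [inf_pPrimeCore hx hC, Subgroup.mem_bot] at h2
      exact hp.out.ne_one (hx ▸ orderOf_eq_one_iff.mpr h2)
    have hob : orderOf xb = p := by
      rcases (Nat.dvd_prime hp.out).mp (hx ▸ orderOf_map_dvd π x) with h1 | h1
      · exact absurd (orderOf_eq_one_iff.mp h1) hxb1
      · exact h1
    let Pb : Sylow p (G ⧸ S) := P.mapSurjective hsurj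
    have hPb : (Pb : Subgroup (G ⧸ S)) = Subgroup.zpowers xb := by
      show (P : Subgroup G).map π = _
      rw [hP, MonoidHom.map_zpowers]
    have hCb : ∀ gb : G ⧸ S, gb * xb = xb * gb → gb ∈ Subgroup.zpowers xb := by
      intro gb hgb
      obtain ⟨g, rfl⟩ := hsurj gb
      -- lift the centralizer by Sylow
      have hy : x⁻¹ * (g * x * g⁻¹) ∈ S := by
        rw [← QuotientGroup.eq_one_iff]
        show π (x⁻¹ * (g * x * g⁻¹)) = 1
        rw [map_mul, map_mul, map_mul, map_inv, map_inv, ← hxb, hgb]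
        group
      set H := S ⊔ Subgroup.zpowers x with hH
      have hxH : x ∈ H := Subgroup.mem_sup_right (Subgroup.mem_zpowers x)
      have hyH : g * x * g⁻¹ ∈ H := by
        have h1 := H.mul_mem hxH (Subgroup.mem_sup_left hy)
        rwa [mul_inv_cancel_left] at h1
      have hoy : orderOf (g * x * g⁻¹) = p := by rw [← MulAut.conj_apply, MulEquiv.orderOf_eq, hx]
      have hPH : (P : Subgroup G) ≤ H := hP ▸ le_sup_right
      obtain ⟨Q, hQ⟩ := (IsPGroup.of_card (n := 1) (G := Subgroup.zpowers (⟨_, hyH⟩ : H)) (by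
        rw [Nat.card_zpowers, Subgroup.orderOf_mk, hoy, pow_one])).exists_le_sylow
      obtain ⟨c, hc⟩ := MulAction.exists_smul_eq H Q (P.subtype hPH)
      have h1 : (c : G) * (g * x * g⁻¹) * (c : G)⁻¹ ∈ Subgroup.zpowers x := by
        have h2 : c * ⟨_, hyH⟩ * c⁻¹ ∈ (P.subtype hPH : Subgroup H) := by
          rw [← hc]; exact ⟨_, hQ (Subgroup.mem_zpowers _), rfl⟩
        rw [← hP]
        exact h2
      obtain ⟨k, hk, z, hz, hkz⟩ := Subgroup.mem_sup_of_normal_left.mp c.2
      have hzb : π z ∈ Subgroup.zpowers xb := by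
        rw [← MonoidHom.map_zpowers]; exact ⟨z, hz, rfl⟩
      have hcb : π (c : G) = π z := by
        rw [← hkz, map_mul, show π k = 1 from (QuotientGroup.eq_one_iff k).mpr hk, one_mul]
      have hcomm : π z * xb = xb * π z := by
        obtain ⟨j, hj⟩ := hzb
        rw [← hj]
        exact (Commute.self_zpow xb j).symm.eq
      have h2 : π ((c : G) * (g * x * g⁻¹) * (c : G)⁻¹) = π x := by
        simp only [map_mul, map_inv, hcb]
        rw [hgb, mul_inv_cancel_right, hcomm, mul_inv_cancel_right]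
      have h3 : (c : G) * (g * x * g⁻¹) * (c : G)⁻¹ = x := by
        rw [← mul_inv_eq_one, ← Subgroup.mem_bot, ← inf_pPrimeCore hx hC]
        refine ⟨(QuotientGroup.eq_one_iff _).mp ?_, Subgroup.mul_mem _ h1
          (Subgroup.inv_mem _ (Subgroup.mem_zpowers x))⟩
        show π _ = 1
        rw [map_mul, h2, map_inv, mul_inv_cancel]
      have h4 : ((c : G) * g) * x = x * ((c : G) * g) := by
        calc ((c : G) * g) * x = ((c : G) * (g * x * g⁻¹) * (c : G)⁻¹) * ((c : G) * g) := by group
          _ = _ := by rw [h3]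
      have h5 : π ((c : G) * g) ∈ Subgroup.zpowers xb := by
        rw [← MonoidHom.map_zpowers]; exact ⟨_, mem_zpowers_of_comm hx hC h4, rfl⟩
      rw [map_mul, hcb] at h5
      simpa using (Subgroup.zpowers xb).mul_mem ((Subgroup.zpowers xb).inv_mem hzb) h5
    -- `D` is simple
    let φ : ↥(commutator G) →* ↥D := (π.comp (commutator G).subtype).codRestrict D
      fun g => ⟨g.1, g.2, rfl⟩
    have hφ : Function.Surjective φ := by
      rintro ⟨_, g, hg, rfl⟩; exact ⟨⟨g, hg⟩, rfl⟩
    have hker : (S.subgroupOf (commutator G)) = φ.ker := by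
      ext g
      rw [Subgroup.mem_subgroupOf, MonoidHom.mem_ker, Subtype.ext_iff]
      exact (QuotientGroup.eq_one_iff _).symm
    haveI hsimple : IsSimpleGroup D := by
      haveI : Nontrivial D := ⟨⟨⟨xb, x, hxD, rfl⟩, 1, fun h1 => hxb1 (congrArg Subtype.val h1)⟩⟩
      refine ⟨fun E hE => ?_⟩
      by_cases hpE : p ∣ Nat.card E
      swap
      · refine Or.inl ?_
        have hcop : (Nat.card E).Coprime p := ((hp.out.coprime_iff_not_dvd).mpr hpE).symm
        have h1 : E ≤ pPrimeCore p D := Thompson.le_pPrimeCore hE hcop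
        haveI := hDn
        have h2 : ((pPrimeCore p D).map D.subtype).Normal := inferInstance
        have h3 : (pPrimeCore p D).map D.subtype ≤ pPrimeCore p (G ⧸ S) := Thompson.le_pPrimeCore h2
          (by rw [Nat.card_congr (Subgroup.equivMapOfInjective _ _ D.subtype_injective).toEquiv.symm]
              exact Thompson.card_pPrimeCore_coprime)
        rw [eq_bot_iff]
        intro e he
        have h4 := h3 ⟨e, h1 he, rfl⟩
        rw [hcore, Subgroup.mem_bot] at h4
        exact Subgroup.mem_bot.mpr (Subtype.ext h4)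
      refine Or.inr ?_
      obtain ⟨⟨e, he⟩, heo⟩ := exists_prime_orderOf_dvd_card' p hpE
      set W := Subgroup.closure {y : G ⧸ S | orderOf y = p} with hW
      haveI hWn : W.Normal := by
        refine ⟨fun w hw c => ?_⟩
        have h1 : W.map (MulAut.conj c).toMonoidHom ≤ W := by
          rw [hW, MonoidHom.map_closure, Subgroup.closure_le]
          rintro _ ⟨y, hy, rfl⟩
          exact Subgroup.subset_closure (show orderOf ((MulAut.conj c) y) = p by
            rw [MulEquiv.orderOf_eq]; exact hy)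
        exact h1 ⟨w, hw, rfl⟩
      have hWE : W ≤ E.map D.subtype := by
        rw [hW, Subgroup.closure_le]
        intro y hy
        have hyo : orderOf y = p := hy
        have hyD : y ∈ D := by
          obtain ⟨Q, hQ⟩ := (IsPGroup.of_card (n := 1) (G := Subgroup.zpowers y) (by
            rw [Nat.card_zpowers, hyo, pow_one])).exists_le_sylow
          obtain ⟨c, hc⟩ := MulAction.exists_smul_eq (G ⧸ S) Pb Q
          have h1 := hQ (Subgroup.mem_zpowers y)
          rw [← hc] at h1
          obtain ⟨w, hw, rfl⟩ := h1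
          have hw' : w ∈ (Pb : Subgroup (G ⧸ S)) := hw
          rw [hPb] at hw'
          exact hDn.conj_mem w (Subgroup.zpowers_le.mpr (show xb ∈ D from ⟨x, hxD, rfl⟩) hw') c
        have heo' : orderOf e = p := by rwa [Subgroup.orderOf_mk] at heo
        have hed : IsPGroup p (Subgroup.zpowers e) :=
          IsPGroup.of_card (n := 1) (by rw [Nat.card_zpowers, heo', pow_one])
        obtain ⟨Qe, hQe⟩ := hed.exists_le_sylow
        have hyd : IsPGroup p (Subgroup.zpowers (⟨y, hyD⟩ : D)) :=
          IsPGroup.of_card (n := 1) (by rw [Nat.card_zpowers, Subgroup.orderOf_mk, hyo, pow_one])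
        obtain ⟨Qy, hQy⟩ := hyd.exists_le_sylow
        obtain ⟨c, hc⟩ := MulAction.exists_smul_eq D Qe Qy
        have hQcard : Nat.card (Qe : Subgroup D) ≤ p := by
          have h1 : ((Qe : Subgroup D).map D.subtype) ≤ _ := le_rfl
          obtain ⟨R, hR⟩ := (Qe.isPGroup'.map D.subtype).exists_le_sylow
          have h2 := Nat.le_of_dvd Nat.card_pos (Subgroup.card_dvd_of_le hR)
          rw [← Nat.card_congr (Subgroup.equivMapOfInjective _ _ D.subtype_injective).toEquiv] at h2
          refine h2.trans (le_of_eq ?_)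
          rw [Nat.card_congr (Sylow.equiv R Pb).toEquiv, hPb, Nat.card_zpowers, hob]
        have hQe' : (Qe : Subgroup D) = Subgroup.zpowers e :=
          (Subgroup.eq_of_le_of_card_ge hQe (by rw [Nat.card_zpowers, heo']; exact hQcard)).symm
        refine ⟨⟨y, hyD⟩, ?_, rfl⟩
        have h3 := hQy (Subgroup.mem_zpowers _)
        rw [← hc] at h3
        obtain ⟨w, hw, hwy⟩ := h3
        rw [← hwy]
        have hw' : w ∈ (Qe : Subgroup D) := hw
        rw [hQe'] at hw'
        exact hE.conj_mem w (Subgroup.zpowers_le.mpr he hw') c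
      have hPW : (Pb : Subgroup (G ⧸ S)) ≤ W := by
        rw [hPb]; exact Subgroup.zpowers_le.mpr (Subgroup.subset_closure hob)
      have hfr := Sylow.normalizer_sup_eq_top' Pb hPW
      have hDW : D ≤ W := by
        rw [hD, commutator_def, Subgroup.map_commutator, Subgroup.map_top_of_surjective π hsurj,
          Subgroup.commutator_le]
        intro a _ b _
        obtain ⟨m, hm, w, hw, rfl⟩ := Subgroup.mem_sup_of_normal_right.mp (hfr.ge (Subgroup.mem_top a))
        obtain ⟨m', hm', w', hw', rfl⟩ :=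
          Subgroup.mem_sup_of_normal_right.mp (hfr.ge (Subgroup.mem_top b))
        have hmm : ⁅m, m'⁆ ∈ W := by
          refine hPW ?_
          rw [hPb]
          refine hCb _ ?_
          replace hm : m ∈ Subgroup.normalizer ((Pb : Subgroup (G ⧸ S)) : Set (G ⧸ S)) := hm
          replace hm' : m' ∈ Subgroup.normalizer ((Pb : Subgroup (G ⧸ S)) : Set (G ⧸ S)) := hm'
          rw [hPb] at hm hm'
          have hstep : ∀ q ∈ Subgroup.normalizer ((Subgroup.zpowers xb : Subgroup (G ⧸ S)) : Set (G ⧸ S)),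
              ∃ i : ℤ, q * xb * q⁻¹ = xb ^ i := fun q hq => by
            obtain ⟨i, hi⟩ := (Subgroup.mem_normalizer_iff.mp hq xb).mp (Subgroup.mem_zpowers xb)
            exact ⟨i, hi.symm⟩
          obtain ⟨i, hi⟩ := hstep m hm
          obtain ⟨i', hi'⟩ := hstep m' hm'
          obtain ⟨j, hj⟩ := hstep _ ((Subgroup.normalizer _).inv_mem hm)
          obtain ⟨j', hj'⟩ := hstep _ ((Subgroup.normalizer _).inv_mem hm')
          rw [inv_inv] at hj hj'
          have key : ∀ (a b : G ⧸ S) (r s : ℤ), a * xb * a⁻¹ = xb ^ r → b * xb * b⁻¹ = xb ^ s →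
              (a * b) * xb * (a * b)⁻¹ = xb ^ (r * s) := by
            intro a b r s ha hb
            calc (a * b) * xb * (a * b)⁻¹ = a * (b * xb * b⁻¹) * a⁻¹ := by group
              _ = (a * xb * a⁻¹) ^ s := by rw [hb, conj_zpow]
              _ = _ := by rw [ha, ← zpow_mul]
          have e1 := key _ _ _ _ (key _ _ _ _ (key _ _ _ _ hi hi')
            (show m⁻¹ * xb * m⁻¹⁻¹ = xb ^ j by rwa [inv_inv]))
            (show m'⁻¹ * xb * m'⁻¹⁻¹ = xb ^ j' by rwa [inv_inv])
          have e2 := key _ _ _ _ hi (show m⁻¹ * xb * m⁻¹⁻¹ = xb ^ j by rwa [inv_inv])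
          have e3 := key _ _ _ _ hi' (show m'⁻¹ * xb * m'⁻¹⁻¹ = xb ^ j' by rwa [inv_inv])
          rw [mul_inv_cancel, one_mul, inv_one, mul_one] at e2 e3
          rw [commutatorElement_def]
          refine mul_inv_eq_iff_eq_mul.mp (e1.trans ?_)
          calc xb ^ (i * i' * j * j') = xb ^ ((i * j) * (i' * j')) := by ring_nf
            _ = xb := by rw [zpow_mul, ← e2, ← e3]
        rw [← QuotientGroup.eq_one_iff, commutatorElement_def] at hmm ⊢
        simp only [QuotientGroup.mk_mul, QuotientGroup.mk_inv,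
          (QuotientGroup.eq_one_iff w).mpr hw, (QuotientGroup.eq_one_iff w').mpr hw', mul_one] at hmm ⊢
        exact hmm
      rw [eq_top_iff]
      intro d _
      obtain ⟨d', hd', hdd⟩ := hWE (hDW d.2)
      rwa [← Subtype.ext hdd]
    exact ((QuotientGroup.quotientMulEquivOfEq hker).trans
      (QuotientGroup.quotientKerEquivOfSurjective φ hφ)).isSimpleGroup
  · refine le_antisymm ?_ (pPrimeCore_le_commutator hx hC)
    have hNC := hiff.mp heq
    set K := (MonoidHom.transferSylow P hNC).ker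
    haveI : IsMulCommutative (P : Subgroup G) := by rw [hP]; infer_instance
    have hKS : K ≤ pPrimeCore p G := Thompson.le_pPrimeCore inferInstance
      ((hp.out.coprime_iff_not_dvd.mpr (MonoidHom.not_dvd_card_ker_transferSylow P hNC)).symm)
    refine le_trans ?_ hKS
    rw [commutator_def, Subgroup.commutator_le]
    intro a _ b _
    refine MonoidHom.mem_ker.mpr ?_
    rw [map_commutatorElement, commutatorElement_eq_one_iff_mul_comm]
    exact mul_comm' _ _

end Cfsg.Agent.BlkChar.SelfCent
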