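import Cfsg.Agent.BlkChar.ArcEigen
import Cfsg.Agent.BlkChar.PConjugate
import Cfsg.Agent.BlkChar.IntCongr
import Cfsg.Agent.Lib.CharCore.Burnside
import Cfsg.Agent.Lib.BlocksCore.WeakOrth
import Cfsg.Agent.Lib.BlocksDefect.PrincipalSection
import Cfsg.Agent.Blocks88.Modular
import Mathlib.Analysis.SpecialFunctions.Trigonometric.Bounds

/-!
# Simple groups of order `p ^ a * q ^ b * g₀` with `g₀` small
-/

set_option linter.unusedSectionVars false

open Cfsg
open scoped ComplexConjugate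

namespace Cfsg.Agent.BlkChar.Cofactor

open BlocksCore

/-- The additive character of `ZMod p` at `ζ = exp (2πi/p)`. -/
noncomputable def stdChar (p : ℕ) [NeZero p] : AddChar (ZMod p) ℂ :=
  AddChar.zmodChar p (Complex.isPrimitiveRoot_exp p (NeZero.ne p)).pow_eq_one

theorem stdChar_apply (p : ℕ) [NeZero p] (j : ZMod p) :
    stdChar p j = Complex.exp (2 * Real.pi * Complex.I / p) ^ j.val :=
  AddChar.zmodChar_apply _ j

theorem stdChar_natCast (p : ℕ) [NeZero p] (l : ℕ) :
    stdChar p (l : ZMod p) = Complex.exp (2 * Real.pi * Complex.I / p) ^ l :=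
  AddChar.zmodChar_apply' _ l

/-- An integral linear relation between the `p`-th roots of unity is constant. -/
theorem eq_const_of_relation {p : ℕ} [hp : Fact p.Prime] (f : ZMod p → ℤ)
    (h : ∑ j, (f j : ℂ) * stdChar p j = 0) (j : ZMod p) : f j = f 0 := by
  set ζ := Complex.exp (2 * Real.pi * Complex.I / p) with hζdef
  have hζ : IsPrimitiveRoot ζ p := Complex.isPrimitiveRoot_exp p hp.out.ne_zero
  set Q : Polynomial ℤ := ∑ i : ZMod p, Polynomial.C (f i) * Polynomial.X ^ i.val with hQ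
  have hQ0 : Polynomial.aeval ζ Q = 0 := by
    rw [hQ, map_sum, ← h]
    refine Finset.sum_congr rfl fun i _ => ?_
    simp [stdChar_apply, hζdef]
  have hdvd : Polynomial.cyclotomic p ℤ ∣ Q := by
    rw [Polynomial.cyclotomic_eq_minpoly hζ hp.out.pos]
    exact minpoly.isIntegrallyClosed_dvd (hζ.isIntegral hp.out.pos) hQ0
  obtain ⟨R, hR⟩ := hdvd
  have hcoeff : ∀ i : ZMod p, Q.coeff i.val = f i := by
    intro i
    rw [hQ, Polynomial.finsetSum_coeff, Finset.sum_eq_single i]
    · simp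
    · intro b _ hb
      rw [Polynomial.coeff_C_mul_X_pow, if_neg]
      exact fun h' => hb (ZMod.val_injective p h').symm
    · simp
  have hdeg : R = Polynomial.C (R.coeff 0) := by
    refine Polynomial.eq_C_of_natDegree_le_zero ?_
    by_contra hne
    have hR0 : R ≠ 0 := fun h0 => hne (by rw [h0, Polynomial.natDegree_zero])
    have h1 : Q.natDegree = Nat.totient p + R.natDegree := by
      rw [hR, Polynomial.natDegree_mul (Polynomial.cyclotomic_ne_zero p ℤ) hR0,
        Polynomial.natDegree_cyclotomic]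
    have h2 : Q.natDegree ≤ p - 1 := by
      rw [hQ]
      refine Polynomial.natDegree_sum_le_of_forall_le _ _ fun i _ => ?_
      exact (Polynomial.natDegree_C_mul_X_pow_le _ _).trans
        (Nat.le_sub_one_of_lt (ZMod.val_lt i))
    rw [h1, Nat.totient_prime hp.out] at h2
    omega
  have hall : ∀ i : ZMod p, f i = R.coeff 0 := by
    intro i
    rw [← hcoeff, hR, hdeg, Polynomial.coeff_mul_C, Polynomial.cyclotomic_prime,
      Polynomial.finsetSum_coeff, Finset.sum_eq_single i.val]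
    · simp
    · intro b _ hb
      rw [Polynomial.coeff_X_pow, if_neg (Ne.symm hb)]
    · intro hi
      exact absurd (Finset.mem_range.mpr (ZMod.val_lt i)) hi
  rw [hall j, hall 0]

/-- Points of `ZMod p` whose values differ by less than `p / 6`. -/
theorem norm_stdChar_sub_one_lt {p : ℕ} [NeZero p] (x y : ZMod p)
    (h : 6 * x.val / p = 6 * y.val / p) : ‖stdChar p (x - y) - 1‖ < 1 := by
  have hp0 : 0 < p := NeZero.pos p
  have hp0' : (0 : ℝ) < p := by exact_mod_cast hp0
  set θ : ℝ := 2 * Real.pi * ((x.val : ℝ) - y.val) / p with hθ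
  have hval : stdChar p (x - y) = Complex.exp (Complex.I * θ) := by
    rw [sub_eq_add_neg, AddChar.map_add_eq_mul, AddChar.map_neg_eq_inv, stdChar_apply,
      stdChar_apply, ← Complex.exp_nat_mul, ← Complex.exp_nat_mul, ← Complex.exp_neg,
      ← Complex.exp_add, hθ]
    congr 1
    push_cast
    field_simp
    ring
  have h1 : (6 * x.val : ℕ) < 6 * y.val + p ∧ (6 * y.val : ℕ) < 6 * x.val + p := by
    have hx1 := Nat.div_add_mod (6 * x.val) p
    have hy1 := Nat.div_add_mod (6 * y.val) p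
    have hx2 := Nat.mod_lt (6 * x.val) hp0
    have hy2 := Nat.mod_lt (6 * y.val) hp0
    rw [h] at hx1
    omega
  have h1a : (6 : ℝ) * x.val < 6 * y.val + p := by exact_mod_cast h1.1
  have h1b : (6 : ℝ) * y.val < 6 * x.val + p := by exact_mod_cast h1.2
  have hpi := Real.pi_pos
  have hθb : |θ / 2| < Real.pi / 6 := by
    rw [hθ, abs_lt]
    constructor
    · rw [div_div, lt_div_iff₀ (by positivity)]
      nlinarith
    · rw [div_div, div_lt_iff₀ (by positivity)]
      nlinarith
  rw [hval, Complex.norm_exp_I_mul_ofReal_sub_one, norm_mul, Real.norm_eq_abs, Real.norm_eq_abs,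
    abs_two]
  have h2 : |Real.sin (θ / 2)| < 1 / 2 := by
    obtain ⟨ha, hb⟩ := abs_lt.mp hθb
    rw [abs_lt, ← Real.sin_pi_div_six, ← Real.sin_neg]
    exact ⟨Real.sin_lt_sin_of_lt_of_le_pi_div_two (by linarith) (by linarith) ha,
      Real.sin_lt_sin_of_lt_of_le_pi_div_two (by linarith) (by linarith) hb⟩
  linarith

variable {G : Type*} [Group G] [Finite G]

/-- A character of degree prime to `q` in the principal block not vanishing at `y`. -/
theorem exists_char {p q : ℕ} [Fact p.Prime] {M : Ideal AlgInt} (hM : IsPModular p M)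
    (hq : q.Prime) {y : G} (hy : p ∣ orderOf y) :
    ∃ χ : IrrCharacter G, χ ∈ principalBlock M G ∧ (χ : G → ℂ) ≠ (fun _ => 1) ∧
      ¬ q ∣ charDegree (χ : G → ℂ) ∧ (χ : G → ℂ) y ≠ 0 := by
  classical
  letI := Fintype.ofFinite G
  haveI := BlocksCore.isPrime hM
  by_contra hno
  push Not at hno
  have hw := weakOrth hM BlocksDefect.isPBlock_principal (B := principalBlock M G) (x := (1 : G))
    (y := y) (by rw [orderOf_one]; exact (Fact.out : p.Prime).not_dvd_one) hy
  haveI := CharCore.finite_irrCharacter (G := G)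
  haveI := Fintype.ofFinite (IrrCharacter G)
  rw [finsum_mem_eq_toFinset_sum, ← Finset.add_sum_erase _ _
    (Set.mem_toFinset.mpr (BlocksDefect.oneIrr_mem (M := M) (G := G)))] at hw
  have hdiv : PConj.IDvd q (∑ χ ∈ (principalBlock M G).toFinset.erase (BlocksDefect.oneIrr G),
      (χ : G → ℂ) 1 * conj ((χ : G → ℂ) y)) := by
    refine PConj.IDvd.sum _ fun χ hχ => ?_
    obtain ⟨hne, hmem⟩ := Finset.mem_erase.mp hχ
    by_cases hdvd : q ∣ charDegree (χ : G → ℂ)
    · obtain ⟨d, hd⟩ := hdvd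
      refine ⟨(d : ℂ) * conj ((χ : G → ℂ) y), (PConj.isIntegral_natCast d).mul
        ((BlocksCore.isIntegral_irr χ y).map (starRingEnd ℂ).toIntAlgHom), ?_⟩
      rw [BlocksCore.irr_one_eq χ, hd]
      push_cast
      ring
    · rw [hno χ (Set.mem_toFinset.mp hmem) (fun h => hne (Subtype.ext h)) hdvd, map_zero, mul_zero]
      exact PConj.IDvd.zero q
  obtain ⟨w, hw', hweq⟩ := hdiv
  have h1 : ((-1 : ℤ) : ℂ) = (q : ℂ) * w := by
    rw [← hweq]
    simp only [BlocksDefect.oneIrr, map_one, mul_one] at hw ⊢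
    push_cast
    linear_combination -hw
  have := int_dvd_of_eq_mul hq.ne_zero hw' h1
  rw [Int.natCast_dvd] at this
  exact hq.not_dvd_one this

set_option maxHeartbeats 1000000 in
/-- The bound on `p`. -/
theorem prime_lt_six_pow [IsSimpleGroup G] (p q a b g₀ : ℕ) (hp : p.Prime) (hq : q.Prime)
    (hpq : p ≠ q) (ha : 0 < a) (hg : Nat.card G = p ^ a * q ^ b * g₀) (hcop : ¬ p ∣ g₀)
    (hcoq : ¬ q ∣ g₀) (hne : Nat.card G ≠ p) : p < 6 ^ (g₀ - 1) := by
  classical
  haveI := Fact.mk hp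
  haveI : NeZero p := ⟨hp.ne_zero⟩
  letI := Fintype.ofFinite G
  have hnc : ¬ ∀ x z : G, x * z = z * x := by
    intro hcomm
    letI : CommGroup G := { (inferInstance : Group G) with mul_comm := hcomm }
    have hpr : (Nat.card G).Prime := IsSimpleGroup.prime_card
    exact hne ((Nat.prime_dvd_prime_iff_eq hp hpr).mp
      (hg ▸ Dvd.dvd.mul_right (Dvd.dvd.mul_right (dvd_pow_self p ha.ne') _) _)).symm
  have hcen : ∀ g : G, g ∈ Subgroup.center G → g = 1 := by
    intro g hgc
    rcases (inferInstance : (Subgroup.center G).Normal).eq_bot_or_eq_top with h | h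
    · exact Subgroup.mem_bot.mp (h ▸ hgc)
    · exact absurd (fun x z => (Subgroup.mem_center_iff.mp (h.ge (Subgroup.mem_top z)) x)) hnc
  have hg2 : 2 ≤ g₀ := by
    by_contra h
    have h0 : g₀ ≠ 0 := fun h0 => Nat.card_pos.ne' (hg.trans (by rw [h0, mul_zero]))
    have h1 : g₀ = 1 := by omega
    haveI : Group.IsSolvable G :=
      CharCore.isSolvable_of_card_eq_prime_pow_mul hp hq (Nat.card G) G a b rfl
        (by rw [hg, h1, mul_one])
    exact hnc fun x z => (IsSimpleGroup.comm_iff_isSolvable.mpr inferInstance) x z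
  by_contra hlt
  rw [not_lt] at hlt
  have hsix : 6 ≤ p := le_trans (Nat.le_self_pow (by omega) 6) hlt
  have hlt' : 6 ^ (g₀ - 1) < p := by
    refine lt_of_le_of_ne hlt fun h => ?_
    have h2 : 2 ∣ p := h ▸ dvd_pow (by norm_num) (by omega)
    have := (Nat.prime_dvd_prime_iff_eq Nat.prime_two hp).mp h2
    omega
  -- an element of order `p` in the centre of a Sylow subgroup
  obtain ⟨P⟩ := (inferInstance : Nonempty (Sylow p G))
  have hpG : p ∣ Nat.card G :=
    hg ▸ Dvd.dvd.mul_right (Dvd.dvd.mul_right (dvd_pow_self p ha.ne') _) _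
  haveI : Nontrivial (P : Subgroup G) :=
    (Subgroup.nontrivial_iff_ne_bot _).mpr (P.ne_bot_of_dvd_card hpG)
  haveI : Nontrivial (Subgroup.center (P : Subgroup G)) := P.isPGroup'.center_nontrivial
  obtain ⟨z, hz⟩ := exists_prime_orderOf_dvd_card' (G := Subgroup.center (P : Subgroup G)) p
    (by
      rcases (P.isPGroup'.to_subgroup (Subgroup.center (P : Subgroup G))).exists_card_eq with ⟨k, hk⟩
      rcases Nat.eq_zero_or_pos k with h | h
      · have := Finite.one_lt_card (α := Subgroup.center (P : Subgroup G))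
        rw [hk, h, pow_zero] at this
        exact absurd this (lt_irrefl _)
      · exact hk ▸ dvd_pow_self p h.ne')
  set y : G := ((z : (P : Subgroup G)) : G) with hy
  have hyo : orderOf y = p := by rw [hy, Subgroup.orderOf_coe, Subgroup.orderOf_coe, hz]
  set c := (Subgroup.centralizer ({y} : Set G)).index with hc
  have hpc : ¬ p ∣ c := fun h => P.not_dvd_index (h.trans (Subgroup.index_dvd_of_le fun x hx =>
    Subgroup.mem_centralizer_singleton_iff.mpr
      (congrArg Subtype.val (Subgroup.mem_center_iff.mp z.2 ⟨x, hx⟩))))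
  obtain ⟨M, hM⟩ := Blocks88.exists_isPModular hp
  haveI := BlocksCore.isPrime hM
  obtain ⟨χ, hχB, hχ1, hqn, hχy⟩ := exists_char hM hq (y := y) (hyo ▸ dvd_rfl)
  obtain ⟨n, ρ, hirr, hρ⟩ := χ.2
  haveI := hirr
  have hdeg : charDegree (χ : G → ℂ) = n := by simp [charDegree, ← hρ]
  have hn1 : (χ : G → ℂ) 1 = (n : ℂ) := by rw [← hρ]; simp
  have hn0 : n ≠ 0 := fun h => CharCore.irr_apply_one_ne_zero χ (by rw [hn1, h, Nat.cast_zero])
  rw [hdeg] at hqn
  -- `h`
  set h := Nat.gcd n c with hh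
  obtain ⟨s, hs⟩ : h ∣ n := Nat.gcd_dvd_left n c
  obtain ⟨c', hc'⟩ : h ∣ c := Nat.gcd_dvd_right n c
  have hh0 : 0 < h := Nat.gcd_pos_of_pos_left _ (Nat.pos_of_ne_zero hn0)
  have hs0 : 0 < s := Nat.pos_of_ne_zero fun h0 => hn0 (by rw [hs, h0, mul_zero])
  have hsc : Nat.Coprime s c' := by
    have := Nat.coprime_div_gcd_div_gcd (m := n) (n := c) hh0
    rwa [show n / Nat.gcd n c = s from Nat.div_eq_of_eq_mul_right hh0 hs,
      show c / Nat.gcd n c = c' from Nat.div_eq_of_eq_mul_right hh0 hc'] at this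
  have hph : ¬ p ∣ h := fun hd => hpc (hd.trans (Nat.gcd_dvd_right n c))
  have hqh : ¬ q ∣ h := fun hd => hqn (hd.trans (Nat.gcd_dvd_left n c))
  have hpc' : ¬ p ∣ c' := fun hd => hpc (hc' ▸ hd.mul_left h)
  have hhg : h ∣ g₀ := by
    have h1 : h ∣ p ^ a * q ^ b * g₀ :=
      hg ▸ (Nat.gcd_dvd_right n c).trans (Subgroup.index_dvd_card _)
    exact (Nat.Coprime.mul_right (Nat.Coprime.pow_right a (hp.coprime_iff_not_dvd.mpr hph).symm)
      (Nat.Coprime.pow_right b (hq.coprime_iff_not_dvd.mpr hqh).symm)).dvd_of_dvd_mul_left h1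
  have hhle : h ≤ g₀ := Nat.le_of_dvd (by omega) hhg
  -- eigenvalues of `ρ y`
  set ζ := Complex.exp (2 * Real.pi * Complex.I / p) with hζdef
  have hζ : IsPrimitiveRoot ζ p := Complex.isPrimitiveRoot_exp p hp.ne_zero
  obtain ⟨e₀, μ, hμ, hμb, hμk⟩ := CharClifford.exists_eigenvalues ρ y hp.ne_zero
    (hyo ▸ pow_orderOf_eq_one y)
  have hjex : ∀ i, ∃ j : ZMod p, stdChar p j = μ i := fun i => by
    obtain ⟨l, -, hl⟩ := hζ.eq_pow_of_pow_eq_one (hμ i)
    exact ⟨(l : ZMod p), by rw [stdChar_natCast]; exact hl⟩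
  choose j hj using hjex
  obtain ⟨m, hm⟩ : ∃ m : ZMod p → ℤ, m = fun x => ((Finset.univ.filter (fun i => j i = x)).card : ℤ) :=
    ⟨_, rfl⟩
  have hmsum : ∑ x, m x = (n : ℤ) := by
    rw [hm, ← Nat.cast_sum]
    congr 1
    rw [← Finset.card_eq_sum_card_fiberwise (fun i _ => Finset.mem_univ (j i)), Finset.card_univ,
      Fintype.card_fin, Module.finrank_fin_fun]
  have hval : (χ : G → ℂ) y = ∑ x, (m x : ℂ) * stdChar p x := by
    have h1 := hμk 1
    rw [pow_one, hρ] at h1
    rw [h1, ← Finset.sum_fiberwise Finset.univ j (fun i => μ i ^ 1)]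
    refine Finset.sum_congr rfl fun x _ => ?_
    rw [Finset.sum_congr rfl (g := fun _ => stdChar p x) fun i hi => by
      rw [pow_one, ← hj i, (Finset.mem_filter.mp hi).2], Finset.sum_const, nsmul_eq_mul, hm,
      Int.cast_natCast]
  -- `β = χ y / s`
  have hwdef : centralChar (χ : G → ℂ) y = (c' : ℂ) * ((χ : G → ℂ) y / (s : ℂ)) := by
    rw [centralChar, hn1, ← hc, hc', hs]
    push_cast
    have : (h : ℂ) ≠ 0 := Nat.cast_ne_zero.mpr hh0.ne'
    have : (s : ℂ) ≠ 0 := Nat.cast_ne_zero.mpr hs0.ne'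
    field_simp
  set β := (χ : G → ℂ) y / (s : ℂ) with hβ
  have hsC : (s : ℂ) ≠ 0 := Nat.cast_ne_zero.mpr hs0.ne'
  have hβint : IsIntegral ℤ β := by
    obtain ⟨A, B, hAB⟩ := Nat.isCoprime_iff_coprime.mpr hsc
    have h1 : (A : ℂ) * (s : ℂ) + (B : ℂ) * (c' : ℂ) = 1 := by exact_mod_cast hAB
    have h2 : β = (A : ℂ) * (χ : G → ℂ) y + (B : ℂ) * centralChar (χ : G → ℂ) y := by
      rw [hwdef]
      have h3 : (χ : G → ℂ) y = (s : ℂ) * β := by rw [hβ, mul_div_cancel₀ _ hsC]
      linear_combination (-β) * h1 - (A : ℂ) * h3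
    rw [h2]
    exact (isIntegral_algebraMap.mul (BlocksCore.isIntegral_irr χ y)).add
      (isIntegral_algebraMap.mul (BlocksCore.isIntegral_centralChar χ y))
  have hβK : β ∈ IntermediateField.adjoin ℚ ({ζ} : Set ℂ) := by
    refine div_mem ?_ (natCast_mem _ _)
    rw [hval]
    refine sum_mem fun x _ => mul_mem (intCast_mem _ _) ?_
    rw [stdChar_apply]
    exact pow_mem (IntermediateField.mem_adjoin_simple_self ℚ ζ) _
  obtain ⟨Q, hQ⟩ := PConj.mem_adjoin_int_of_isIntegral hζ hβint hβK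
  obtain ⟨e', he'⟩ : ∃ e' : ZMod p → ℤ, β = ∑ x, (e' x : ℂ) * stdChar p x := by
    refine ⟨fun x => ∑ l ∈ (Finset.range (Q.natDegree + 1)).filter
      (fun l : ℕ => (l : ZMod p) = x),
      Q.coeff l, ?_⟩
    rw [← hQ, Polynomial.aeval_eq_sum_range, ← Finset.sum_fiberwise (Finset.range (Q.natDegree + 1))
      (fun l : ℕ => (l : ZMod p))]
    refine Finset.sum_congr rfl fun x _ => ?_
    push_cast
    rw [Finset.sum_mul]
    refine Finset.sum_congr rfl fun l hl => ?_
    rw [zsmul_eq_mul, ← (Finset.mem_filter.mp hl).2, stdChar_natCast]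
  have hchar0 : ∑ x : ZMod p, stdChar p x = 0 := by
    refine (AddChar.sum_eq_zero_iff_ne_zero).mpr fun h0 => hζ.ne_one hp.one_lt ?_
    have h1 := stdChar_natCast p 1
    rw [pow_one, h0] at h1
    simpa using h1.symm
  have hd : ∀ x, m x - (s : ℤ) * e' x = m 0 - (s : ℤ) * e' 0 := by
    intro x
    refine eq_const_of_relation (fun x => m x - (s : ℤ) * e' x) ?_ x
    push_cast
    simp only [sub_mul, Finset.sum_sub_distrib, mul_assoc, ← Finset.mul_sum]
    rw [← hval, ← he', hβ, mul_div_cancel₀ _ hsC, sub_self]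
  set d := m 0 - (s : ℤ) * e' 0 with hddef
  set r := d % (s : ℤ) with hr
  obtain ⟨e, he⟩ : ∃ e : ZMod p → ℤ, e = fun x => e' x + d / (s : ℤ) := ⟨_, rfl⟩
  have hme : ∀ x, m x = r + (s : ℤ) * e x := fun x => by
    have h1 := hd x
    have h2 := Int.mul_ediv_add_emod d (s : ℤ)
    rw [he, hr]
    linear_combination h1 - h2
  have hr0 : 0 ≤ r := Int.emod_nonneg _ (by exact_mod_cast hs0.ne')
  have hrs : r < (s : ℤ) := Int.emod_lt_of_pos _ (by exact_mod_cast hs0)
  have hsum : (p : ℤ) * r + (s : ℤ) * ∑ x, e x = (h : ℤ) * s := by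
    rw [show (h : ℤ) * s = (n : ℤ) by rw [hs]; push_cast; ring, ← hmsum,
      Finset.sum_congr rfl fun x _ => hme x, Finset.sum_add_distrib, Finset.sum_const,
      Finset.card_univ, ZMod.card, ← Finset.mul_sum, nsmul_eq_mul]
  have hcongr : (p : ℤ) ∣ (∑ x, e x) - (h : ℤ) := by
    have hs1 : MemLocalIdeal M (centralChar (fun _ : G => (1 : ℂ)) y -
        centralChar (χ : G → ℂ) y) := hχB y
    rw [show centralChar (fun _ : G => (1 : ℂ)) y = (c : ℂ) by simp [centralChar, hc],
      hwdef, hc', show β = ∑ x, (e x : ℂ) * stdChar p x by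
        rw [he', he]
        push_cast
        simp only [add_mul, Finset.sum_add_distrib, ← Finset.mul_sum, hchar0, mul_zero,
          add_zero]] at hs1
    have h2 : MemLocalIdeal M ((c' : ℂ) * ∑ x, (e x : ℂ) * (stdChar p x - 1)) := by
      refine memLocalIdeal_mul_left (memLocalRing_natCast _) (memLocalIdeal_sum fun x _ =>
        memLocalIdeal_mul_left (memLocalRing_intCast _) ?_)
      exact memLocalIdeal_sub_one_of_pow hM (k := 1)
        (by rw [pow_one, stdChar_apply, ← pow_mul, mul_comm x.val p, pow_mul, ← hζdef, hζ.pow_eq_one, one_pow])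
    have h3 := memLocalIdeal_neg (memLocalIdeal_add hs1 h2)
    have h4 : -((((h * c' : ℕ) : ℂ) - (c' : ℂ) * ∑ x, (e x : ℂ) * stdChar p x) +
        (c' : ℂ) * ∑ x, (e x : ℂ) * (stdChar p x - 1)) =
        (((c' : ℤ) * ((∑ x, e x) - (h : ℤ)) : ℤ) : ℂ) := by
      simp only [mul_sub, mul_one, Finset.sum_sub_distrib]
      push_cast
      ring
    rw [h4, memLocalIdeal_intCast_iff hM] at h3
    exact ((Nat.prime_iff_prime_int.mp hp).dvd_mul.mp h3).resolve_left
      fun h5 => hpc' (Int.natCast_dvd_natCast.mp h5)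
  have hre : r = 0 ∧ ∑ x, e x = (h : ℤ) := by
    obtain ⟨t, ht⟩ := hcongr
    have hsZ : (0 : ℤ) < s := by exact_mod_cast hs0
    have hpZ : (0 : ℤ) < p := by exact_mod_cast hp.pos
    have h1 : (p : ℤ) * r = -((s : ℤ) * ((p : ℤ) * t)) := by rw [← ht]; linarith
    have h2 : r = -((s : ℤ) * t) := mul_left_cancel₀ hpZ.ne' (by linarith)
    have h3 : 0 ≤ -t := by nlinarith
    have h4 : -t < 1 := by nlinarith
    obtain rfl : t = 0 := by omega
    exact ⟨by simpa using h2, by linarith [ht]⟩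
  obtain ⟨hr00, hesum⟩ := hre
  set S := Finset.univ.filter (fun x => m x ≠ 0) with hS
  have hepos : ∀ x, 0 ≤ e x := fun x => by
    have h1 : 0 ≤ m x := by rw [hm]; exact Int.natCast_nonneg _
    rw [hme x, hr00, zero_add] at h1
    exact nonneg_of_mul_nonneg_right h1 (by exact_mod_cast hs0)
  have hScard : S.card ≤ h := by
    have h1 : (S.card : ℤ) ≤ ∑ x ∈ S, e x := by
      rw [Finset.card_eq_sum_ones, Nat.cast_sum]
      refine Finset.sum_le_sum fun x hx => ?_
      have h2 := hepos x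
      have h3 : e x ≠ 0 := fun h0 => (Finset.mem_filter.mp hx).2 (by rw [hme, hr00, h0]; ring)
      push_cast
      omega
    have h2 := h1.trans (Finset.sum_le_univ_sum_of_nonneg hepos)
    rw [hesum] at h2
    exact_mod_cast h2
  have hjS : ∀ i, j i ∈ S := fun i => Finset.mem_filter.mpr ⟨Finset.mem_univ _, by
    rw [hm]
    simp only [ne_eq, Nat.cast_eq_zero, Finset.card_eq_zero, Finset.filter_eq_empty_iff]
    exact fun h0 => h0 (Finset.mem_univ i) rfl⟩
  have hN : 0 < Module.finrank ℂ (Fin n → ℂ) := by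
    rw [Module.finrank_fin_fun]; exact Nat.pos_of_ne_zero hn0
  set i₀ : Fin (Module.finrank ℂ (Fin n → ℂ)) := ⟨0, hN⟩
  -- pigeonhole
  let F : ZMod p → ((S.erase (j i₀) : Finset (ZMod p)) → Fin 6) := fun k x =>
    ⟨6 * (k * ((x : ZMod p) - j i₀)).val / p, by
      rw [Nat.div_lt_iff_lt_mul hp.pos]
      exact Nat.mul_lt_mul_of_pos_left (ZMod.val_lt _) (by norm_num)⟩
  obtain ⟨k₁, k₂, hkne, hkeq⟩ := Fintype.exists_ne_map_eq_of_card_lt F (by
    rw [ZMod.card, Fintype.card_fun, Fintype.card_fin, Fintype.card_coe,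
      Finset.card_erase_of_mem (hjS i₀)]
    exact lt_of_le_of_lt (Nat.pow_le_pow_right (by norm_num) (by omega)) hlt')
  set k := k₁ - k₂ with hk
  have hk0 : k ≠ 0 := sub_ne_zero.mpr hkne
  have hclose : ∀ x ∈ S, ‖stdChar p (k * (x - j i₀)) - 1‖ < 1 := by
    intro x hx
    by_cases hx0 : x = j i₀
    · simp [hx0]
    · have h1 := congrArg Fin.val (congrFun hkeq ⟨x, Finset.mem_erase.mpr ⟨hx0, hx⟩⟩)
      rw [hk, sub_mul]
      exact norm_stdChar_sub_one_lt _ _ h1
  have hyk : y ^ k.val ≠ 1 := by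
    rw [Ne, ← orderOf_dvd_iff_pow_eq_one, hyo, ← ZMod.natCast_eq_zero_iff, ZMod.natCast_zmod_val]
    exact hk0
  have hpowb : ∀ i, ρ (y ^ k.val) (e₀ i) = stdChar p (k * j i) • e₀ i := by
    have hgen : ∀ (l : ℕ) i, ρ (y ^ l) (e₀ i) = μ i ^ l • e₀ i := by
      intro l
      induction l with
      | zero => intro i; simp
      | succ l ih =>
        intro i
        rw [pow_succ' y, map_mul, Module.End.mul_apply, ih, map_smul, hμb, smul_smul, ← pow_succ]
    intro i
    rw [hgen, ← hj, ← AddChar.map_nsmul_eq_pow, nsmul_eq_mul, ZMod.natCast_zmod_val]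
  have hinj : Function.Injective ρ := by
    rw [injective_iff_map_eq_one]
    intro g hg1
    rcases (inferInstance : (ρ.ker).Normal).eq_bot_or_eq_top with h1 | h1
    · exact Subgroup.mem_bot.mp (h1 ▸ MonoidHom.mem_ker.mpr hg1)
    · exfalso
      have hall : ∀ g : G, (χ : G → ℂ) g = (n : ℂ) := fun g => by
        rw [← hρ, Representation.character, MonoidHom.mem_ker.mp (h1.ge (Subgroup.mem_top g)),
          LinearMap.trace_one, Module.finrank_fin_fun]
      have h2 := (CharCore.isIrrCharacter_iff.mp χ.2).2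
      rw [CharCore.classInner_def, Finset.sum_congr rfl fun g _ => by rw [hall g],
        Finset.sum_const, Finset.card_univ, nsmul_eq_mul, map_natCast, ← Nat.card_eq_fintype_card,
        ← mul_assoc, inv_mul_cancel₀ (Nat.cast_ne_zero.mpr Nat.card_pos.ne'), one_mul] at h2
      have h3 : n = 1 := Nat.eq_one_of_mul_eq_one_right (by exact_mod_cast h2)
      exact hχ1 (funext fun g => by rw [hall, h3, Nat.cast_one])
  refine Arc.false_of_arc ρ hinj hcen hyk (c := stdChar p (k * j i₀)) (v₀ := e₀ i₀) ?_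
    (e₀.ne_zero i₀) (hpowb i₀) ?_
  · rw [stdChar_apply, norm_pow, hζ.norm'_eq_one hp.ne_zero, one_pow]
  · rintro μ' ⟨v, hv, hev⟩
    obtain ⟨i, hi⟩ : ∃ i, e₀.repr v i ≠ 0 := by
      by_contra h0
      push Not at h0
      exact hv (e₀.ext_elem fun i => by simp [h0])
    have hsame : stdChar p (k * j i) = μ' := by
      have h1 := congrArg (fun w => e₀.repr w i) hev
      simp only [map_smul, Finsupp.smul_apply, smul_eq_mul] at h1
      rw [show ρ (y ^ k.val) v = ∑ l, (e₀.repr v l * stdChar p (k * j l)) • e₀ l by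
        conv_lhs => rw [← e₀.sum_repr v]
        rw [map_sum]
        exact Finset.sum_congr rfl fun l _ => by rw [map_smul, hpowb, smul_smul],
        e₀.repr_sum_self] at h1
      exact mul_left_cancel₀ hi (h1.trans (mul_comm _ _))
    rw [← hsame, show k * j i = k * j i₀ + k * (j i - j i₀) by ring, AddChar.map_add_eq_mul,
      show stdChar p (k * j i₀) * stdChar p (k * (j i - j i₀)) - stdChar p (k * j i₀) =
        stdChar p (k * j i₀) * (stdChar p (k * (j i - j i₀)) - 1) by ring, norm_mul,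
      stdChar_apply p (k * j i₀), norm_pow, hζ.norm'_eq_one hp.ne_zero, one_pow, one_mul]
    exact hclose _ (hjS i)

end Cfsg.Agent.BlkChar.Cofactor
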