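import Cfsg.Agent.BlkChar.DegreeThree
import Cfsg.Agent.Lib.BlocksCore.KleinBlock
import Cfsg.Agent.Lib.SmallGroups.ThreePrimes
import Cfsg.Agent.S4479
import Cfsg.Agent.S4500
import Cfsg.Agent.S0496
import Cfsg.Agent.S0992

/-!
# Simple groups of order `4 * 3 ^ i * r ^ j` and `3 * 2 ^ e * r ^ f`
-/

set_option linter.unusedSectionVars false

open Cfsg
open scoped ComplexConjugate

universe u

namespace Cfsg.Agent.BlkChar.CofFour

set_option maxRecDepth 4000 in
theorem four_divisors : ∀ i < 5, ∀ n ∈ (4 * 3 ^ i).divisors, (n % 25 = 1 → n = 1) ∧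
    (n % 2 = 1 → n % 5 = 1 → n = 1 ∨ 4 * 3 ^ i < 10 * n) := by decide +kernel

set_option maxRecDepth 4000 in
theorem three_divisors : ∀ e < 6, ∀ n ∈ (3 * 2 ^ e).divisors, (n % 25 = 1 → n = 1) ∧
    (n % 2 = 1 → n % 5 = 1 → n = 1 ∨ 3 * 2 ^ e < 10 * n) := by decide +kernel

variable {G : Type u} [Group G] [Finite G] [IsSimpleGroup G]

theorem eq_one_of_linear (hna : ¬ IsMulCommutative G) (χ : IrrCharacter G)
    (h1 : (χ : G → ℂ) 1 = 1) : (χ : G → ℂ) = fun _ => 1 := by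
  haveI := Fintype.ofFinite G
  obtain ⟨f, hf⟩ := CharCore.IsCharacter.exists_hom_of_degree_one (CharCore.irr_isCharacter χ) h1
  rcases f.normal_ker.eq_bot_or_eq_top with h | h
  · exact absurd ⟨⟨fun x y => (MonoidHom.ker_eq_bot_iff f).mp h
      (by rw [map_mul, map_mul, mul_comm])⟩⟩ hna
  · funext g
    rw [hf]
    simp [MonoidHom.mem_ker.mp (h.ge (Subgroup.mem_top g))]

theorem exists_rep (hna : ¬ IsMulCommutative G) (χ : IrrCharacter G)
    (h3 : charDegree (χ : G → ℂ) = 3) :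
    ∃ ρ : Representation ℂ G (Fin 3 → ℂ), ρ.IsIrreducible ∧ Function.Injective ρ := by
  haveI := Fintype.ofFinite G
  obtain ⟨f, n, ρ, hρ, rfl⟩ := χ
  obtain rfl : n = 3 := by simpa [charDegree] using h3
  refine ⟨ρ, hρ, ?_⟩
  rcases (MonoidHom.normal_ker ρ).eq_bot_or_eq_top with h | h
  · intro a b hab
    have h1 : ρ (a * b⁻¹) = 1 := by rw [map_mul, hab, ← map_mul, mul_inv_cancel, map_one]
    exact mul_inv_eq_one.mp (Subgroup.mem_bot.mp (h ▸ MonoidHom.mem_ker.mpr h1))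
  · exfalso
    have h1 : ∀ g, ρ.character g = 3 := fun g => by
      rw [Representation.character, MonoidHom.mem_ker.mp (h.ge (Subgroup.mem_top g)),
        LinearMap.trace_one]
      simp
    have h2 := CharCore.classInner_irr_self (G := G) ⟨ρ.character, 3, ρ, hρ, rfl⟩
    rw [CharCore.classInner_def] at h2
    simp only [h1, Finset.sum_const, Finset.card_univ, nsmul_eq_mul, map_ofNat,
      ← Nat.card_eq_fintype_card] at h2
    have h0 : (Nat.card G : ℂ) ≠ 0 := Nat.cast_ne_zero.mpr Nat.card_pos.ne'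
    field_simp at h2
    norm_num at h2

theorem center_trivial (hna : ¬ IsMulCommutative G) : ∀ g : G, g ∈ Subgroup.center G → g = 1 :=
  fun _ hg => Subgroup.mem_bot.mp (SmallGroups.center_eq_bot_of_not_comm hna ▸ hg)

section Members

open BlocksCore BlocksDefect

/-- The principal `2`-block consists of four characters taking the values `±1` at an involution. -/
theorem exists_members {G : Type u} [Group G] [Fintype G] {M : Ideal AlgInt} [M.IsPrime]
    (hM : IsPModular 2 M) (P : Sylow 2 G) (hP : Nat.card P = 4)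
    (hexp : ∀ x : P, x * x = 1) (hone : ∀ s t : G, orderOf s = 2 → orderOf t = 2 → IsConj s t)
    {z : G} (hzP : z ∈ (P : Subgroup G)) (hzo : orderOf z = 2) :
    ∃ (χ₁ χ₂ χ₃ : IrrCharacter G) (ε₁ ε₂ ε₃ : ℤ),
      principalBlock M G =
        {χ : IrrCharacter G | (χ : G → ℂ) = (fun _ => 1) ∨ χ = χ₁ ∨ χ = χ₂ ∨ χ = χ₃} ∧
      ((χ₁ : G → ℂ) ≠ (fun _ => 1) ∧ (χ₂ : G → ℂ) ≠ (fun _ => 1) ∧ (χ₃ : G → ℂ) ≠ (fun _ => 1) ∧
        χ₁ ≠ χ₂ ∧ χ₁ ≠ χ₃ ∧ χ₂ ≠ χ₃) ∧
      ((ε₁ = 1 ∨ ε₁ = -1) ∧ (ε₂ = 1 ∨ ε₂ = -1) ∧ (ε₃ = 1 ∨ ε₃ = -1)) ∧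
      ((χ₁ : G → ℂ) z = ε₁ ∧ (χ₂ : G → ℂ) z = ε₂ ∧ (χ₃ : G → ℂ) z = ε₃) := by
  classical
  haveI : Fact (Nat.Prime 2) := ⟨Nat.prime_two⟩
  haveI := finite_irr (G := G)
  have hsq : ∀ a ∈ (P : Subgroup G), a * a = 1 := fun a ha => congrArg Subtype.val (hexp ⟨a, ha⟩)
  have hcomm := KleinOrder.comm_P P hP hexp hzP hzo
  have hz2 : z ^ 2 = 1 := by rw [← hzo, pow_orderOf_eq_one]
  have hzinv : z⁻¹ = z := inv_eq_of_mul_eq_one_right (hsq z hzP)
  obtain ⟨K, hKn, hKp, hreg, hKi⟩ := SectionKernel.exists_kernel P hcomm hzP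
    (KleinBlock.normalizer_fix P hP hexp hzP hzo)
  have hzk : orderOf z = 2 ^ 1 := by rw [hzo, pow_one]
  set B := Finset.univ.filter (· ∈ principalBlock M G) with hB
  have hmemB : ∀ χ, χ ∈ B ↔ χ ∈ principalBlock M G := fun χ => by simp [hB]
  choose v hv using fun χ : IrrCharacter G => KleinBlock.exists_int_of_sq χ hz2
  have hnorm : ∑ χ ∈ B, v χ * v χ = 4 := by
    have h := SectionKernel.sum_norm hM hzk hKp hreg
    rw [hKi, hP] at h
    simp only [hzinv, Set.indicator_apply, hv] at h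
    rw [← Finset.sum_filter] at h
    exact_mod_cast h
  have hone_mem : oneIrr G ∈ B := (hmemB _).mpr oneIrr_mem
  have hv1 : v (oneIrr G) = 1 := by
    have h : (1 : ℂ) = ((v (oneIrr G) : ℤ) : ℂ) := hv (oneIrr G)
    exact_mod_cast h.symm
  have hv0 : ∀ χ ∈ B, v χ ≠ 0 := by
    intro χ hχ hc
    have hvan : ∀ g : G, orderOf g = 2 → (χ : G → ℂ) g = 0 := fun g hg => by
      obtain ⟨c, rfl⟩ := isConj_iff.mp (hone z g hzo hg)
      rw [irr_class χ z c, hv, hc, Int.cast_zero]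
    have h1 : blockOf M (χ : G → ℂ) = {χ} := by
      refine blockOf_eq_singleton_of_not_dvd hM χ fun hdvd => ?_
      have hd := factorization_charDegree_of_vanishes χ hvan
      have h2 := (Nat.prime_two.dvd_iff_one_le_factorization (Nat.div_pos (Nat.le_of_dvd Nat.card_pos
        (charDegree_dvd_card χ)) (charDegree_pos χ)).ne').mp hdvd
      rw [Nat.factorization_div (charDegree_dvd_card χ), Finsupp.tsub_apply, hd] at h2
      omega
    have h2 : oneIrr G ∈ blockOf M (χ : G → ℂ) := by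
      rw [← isPBlock_eq_blockOf isPBlock_principal ((hmemB χ).mp hχ)]
      exact oneIrr_mem
    rw [h1] at h2
    have h3 : oneIrr G = χ := h2
    rw [← h3, hv1] at hc
    exact one_ne_zero hc
  have hsign : ∀ χ ∈ B, v χ = 1 ∨ v χ = -1 := by
    intro χ hχ
    by_contra hne
    rw [not_or] at hne
    have hab : 4 ≤ v χ * v χ := by
      rcases (hv0 χ hχ).lt_or_gt with h | h
      · have : v χ ≤ -2 := by omega
        nlinarith
      · have : 2 ≤ v χ := by omega
        nlinarith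
    have hne1 : χ ≠ oneIrr G := fun h => hne.1 (h ▸ hv1)
    have h3 := Finset.sum_le_sum_of_subset_of_nonneg (s := ({oneIrr G, χ} : Finset _)) (t := B)
      (f := fun η => v η * v η) (by
        intro η hη
        rcases Finset.mem_insert.mp hη with rfl | hη
        · exact hone_mem
        · exact Finset.mem_singleton.mp hη ▸ hχ) (fun η _ _ => mul_self_nonneg _)
    rw [Finset.sum_pair hne1.symm, hnorm, hv1] at h3
    linarith
  have hcard : B.card = 4 := by
    rw [Finset.sum_congr rfl (g := fun _ => (1 : ℤ)) fun χ hχ => by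
      rcases hsign χ hχ with h | h <;> simp [h]] at hnorm
    simp at hnorm
    exact_mod_cast hnorm
  obtain ⟨χ₁, χ₂, χ₃, h12, h13, h23, hset⟩ := Finset.card_eq_three.mp
    (show (B.erase (oneIrr G)).card = 3 by rw [Finset.card_erase_of_mem hone_mem, hcard])
  have hmem : ∀ χ, χ = χ₁ ∨ χ = χ₂ ∨ χ = χ₃ → χ ≠ oneIrr G ∧ χ ∈ B := fun χ hχ =>
    Finset.mem_erase.mp (by rw [hset]; simpa using hχ)
  have hne1 : ∀ χ, χ = χ₁ ∨ χ = χ₂ ∨ χ = χ₃ → (χ : G → ℂ) ≠ fun _ => 1 := fun χ hχ h =>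
    (hmem χ hχ).1 (Subtype.ext h)
  refine ⟨χ₁, χ₂, χ₃, v χ₁, v χ₂, v χ₃, ?_, ⟨hne1 _ (by simp), hne1 _ (by simp), hne1 _ (by simp),
    h12, h13, h23⟩, ⟨hsign _ (hmem χ₁ (by simp)).2, hsign _ (hmem χ₂ (by simp)).2,
    hsign _ (hmem χ₃ (by simp)).2⟩, hv _, hv _, hv _⟩
  ext χ
  rw [← hmemB, ← Finset.insert_erase hone_mem, hset]
  simp [Subtype.ext_iff, coe_oneIrr]

end Members

/-- A member of the block is of degree `3`, or it is a power of one prime next to the other. -/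
theorem member_shape {r x y : ℕ} {ε : ℤ} (hr : r.Prime) (hε : ε = 1 ∨ ε = -1) (hx : 2 ≤ x)
    (hx3 : x ≠ 3) (hxy : (x : ℤ) + ε = 2 * y) (hy : Odd y)
    (hxp : ∀ l : ℕ, l.Prime → l ∣ x → l = 3 ∨ l = r)
    (hyp : ∀ l : ℕ, l.Prime → l ∣ y → l = 3 ∨ l = r) :
    ∃ d : ℤ, (d = 0 ∨ d = 1) ∧ (3 : ℤ) ∣ ε * x + d ∧ (r : ℤ) ∣ ε * x + (1 - d) := by
  have hy1 : y ≠ 1 := fun h => by
    rw [h] at hxy
    rcases hε with rfl | rfl <;> omega
  obtain ⟨l, hl, hly⟩ := Nat.exists_prime_and_dvd hy1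
  obtain ⟨m, hm, hmx⟩ := Nat.exists_prime_and_dvd (show x ≠ 1 by omega)
  have hcop : ∀ q : ℕ, q.Prime → q ∣ x → ¬ q ∣ y := by
    intro q hq h1 h2
    have h3 : (q : ℤ) ∣ ε := by
      have h4 : (q : ℤ) ∣ 2 * (y : ℤ) := Dvd.dvd.mul_left (Int.natCast_dvd_natCast.mpr h2) _
      rw [← hxy] at h4
      exact (dvd_add_right (Int.natCast_dvd_natCast.mpr h1)).mp h4
    rcases hε with rfl | rfl
    · exact hq.not_dvd_one (Int.natCast_dvd_natCast.mp h3)
    · exact hq.not_dvd_one (Int.natCast_dvd_natCast.mp (Int.dvd_neg.mp h3))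
  have hgen : ∀ q : ℕ, q ∣ y → (q : ℤ) ∣ ε * x + 1 := by
    intro q h2
    have h4 : (q : ℤ) ∣ 2 * (y : ℤ) := Dvd.dvd.mul_left (Int.natCast_dvd_natCast.mpr h2) _
    rw [← hxy] at h4
    have h5 := h4.mul_left ε
    rcases hε with rfl | rfl <;> simpa [mul_add] using h5
  have hmul : ∀ q : ℕ, q ∣ x → (q : ℤ) ∣ ε * x :=
    fun q h => (Int.natCast_dvd_natCast.mpr h).mul_left ε
  rcases hxp m hm hmx with rfl | rfl
  · obtain rfl : l = r := (hyp l hl hly).resolve_left fun h => hcop 3 hm hmx (h ▸ hly)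
    exact ⟨0, Or.inl rfl, by simpa using hmul 3 hmx, by simpa using hgen _ hly⟩
  · rcases hyp l hl hly with rfl | rfl
    · exact ⟨1, Or.inr rfl, by simpa using hgen 3 hly, by simpa using hmul _ hmx⟩
    · exact absurd hly (hcop _ hm hmx)

/-- A simple group of order `4 * 3 ^ i * r ^ j` has a character of degree three. -/
theorem exists_degree_three_four (hna : ¬ IsMulCommutative G) {i j r : ℕ} (hr : r.Prime)
    (hr5 : 5 ≤ r) (hG : Nat.card G = 4 * (3 ^ i * r ^ j)) :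
    ∃ χ : IrrCharacter G, charDegree (χ : G → ℂ) = 3 := by
  classical
  haveI := Fintype.ofFinite G
  haveI : Fact (Nat.Prime 2) := ⟨Nat.prime_two⟩
  set g₀ := 3 ^ i * r ^ j with hg₀def
  have hg₀ : Odd g₀ :=
    (Odd.pow (by decide : Odd 3)).mul (Odd.pow (hr.odd_of_ne_two (by omega)))
  have hprimes : ∀ l : ℕ, l.Prime → l ∣ g₀ → l = 3 ∨ l = r := by
    intro l hl h
    rcases hl.dvd_mul.mp h with h | h
    · exact Or.inl ((Nat.prime_dvd_prime_iff_eq hl Nat.prime_three).mp (hl.dvd_of_dvd_pow h))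
    · exact Or.inr ((Nat.prime_dvd_prime_iff_eq hl hr).mp (hl.dvd_of_dvd_pow h))
  have hnc : ¬ ∃ N : Subgroup G, N.Normal ∧ Nat.card N = g₀ := by
    rintro ⟨N, hN, hNc⟩
    rcases hN.eq_bot_or_eq_top with h | h
    · rw [h, Subgroup.card_bot] at hNc
      rw [← hNc] at hG
      haveI : Fact (Nat.Prime 2) := ⟨Nat.prime_two⟩
      exact hna (SmallGroups.comm_of_isPGroup (p := 2) (IsPGroup.of_card (n := 2) (by rw [hG]; norm_num)))
    · rw [h, Subgroup.card_top, hG] at hNc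
      have := hg₀.pos
      omega
  obtain ⟨P⟩ := (inferInstance : Nonempty (Sylow 2 G))
  obtain ⟨hP, hexp, hone⟩ := BlocksCore.KleinOrder.setup P g₀ hg₀ hG hnc
  obtain ⟨⟨J, hJ⟩, hJ2⟩ := exists_prime_orderOf_dvd_card' (G := P) 2 (by rw [hP]; norm_num)
  rw [Subgroup.orderOf_mk] at hJ2
  obtain ⟨M, hM⟩ := Blocks88.exists_isPModular Nat.prime_two
  haveI := BlocksCore.isPrime hM
  obtain ⟨χ₁, χ₂, χ₃, ε₁, ε₂, ε₃, hB, hdist, hε, hval⟩ := exists_members hM P hP hexp hone hJ hJ2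
  have hord := Cfsg.Agent.S4479.result M hM g₀ hg₀ hG hnc P J hJ hJ2 χ₁ χ₂ χ₃ ε₁ ε₂ ε₃ hB hdist hε
    hval
  have hrel := BlocksCore.KleinOrder.degree_relation hM P hP hexp hJ hJ2 hB hdist hval
  have ho : ∀ (χ : IrrCharacter G) (ε : ℤ), (χ : G → ℂ) J = ε → (ε = 1 ∨ ε = -1) →
      (χ : G → ℂ) ≠ (fun _ => 1) →
      Odd (charDegree (χ : G → ℂ)) ∧ 2 ≤ charDegree (χ : G → ℂ) ∧
        ∀ l : ℕ, l.Prime → l ∣ charDegree (χ : G → ℂ) → l = 3 ∨ l = r := by
    intro χ ε hv he hne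
    have hodd := BlocksCore.KleinOrder.odd_degree hM P hP hexp hone hJ hJ2 hB hdist hε hval hv he
    refine ⟨hodd, ?_, fun l hl h => ?_⟩
    · have h1 := BlocksCore.charDegree_pos χ
      by_contra h2
      exact hne (eq_one_of_linear hna χ (by
        rw [BlocksCore.irr_one_eq χ, show charDegree (χ : G → ℂ) = 1 by omega, Nat.cast_one]))
    · rcases hl.dvd_mul.mp (hG ▸ h.trans (BlocksCore.charDegree_dvd_card χ)) with h' | h'
      · exfalso
        have h2 := (Nat.prime_dvd_prime_iff_eq hl Nat.prime_two).mp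
          (hl.dvd_of_dvd_pow (n := 2) (by norm_num; exact h'))
        exact (Nat.not_even_iff_odd.mpr hodd) (even_iff_two_dvd.mpr (h2 ▸ h))
      · exact hprimes l hl h'
  obtain ⟨ho1, hx1, hp1⟩ := ho χ₁ ε₁ hval.1 hε.1 hdist.1
  obtain ⟨ho2, hx2, hp2⟩ := ho χ₂ ε₂ hval.2.1 hε.2.1 hdist.2.1
  obtain ⟨ho3, hx3, hp3⟩ := ho χ₃ ε₃ hval.2.2 hε.2.2 hdist.2.2.1
  by_contra hno
  push Not at hno
  have h31 := hno χ₁
  have h32 := hno χ₂
  have h33 := hno χ₃
  set x₁ := charDegree (χ₁ : G → ℂ)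
  set x₂ := charDegree (χ₂ : G → ℂ)
  set x₃ := charDegree (χ₃ : G → ℂ)
  have hhalf : ∀ (x : ℕ) (ε : ℤ), Odd x → (ε = 1 ∨ ε = -1) → ∃ y : ℕ, (x : ℤ) + ε = 2 * y := by
    rintro x ε ⟨k, rfl⟩ (rfl | rfl)
    · exact ⟨k + 1, by push_cast; ring⟩
    · exact ⟨k, by push_cast; ring⟩
  obtain ⟨y₁, hy1⟩ := hhalf x₁ ε₁ ho1 hε.1
  obtain ⟨y₂, hy2⟩ := hhalf x₂ ε₂ ho2 hε.2.1
  obtain ⟨y₃, hy3⟩ := hhalf x₃ ε₃ ho3 hε.2.2
  -- the centralisers
  set cJ := Nat.card (Subgroup.centralizer ({J} : Set G)) with hcJ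
  set cP := Nat.card (Subgroup.centralizer ((P : Subgroup G) : Set G)) with hcP
  have hPc : ∀ a ∈ (P : Subgroup G), ∀ b ∈ (P : Subgroup G), a * b = b * a :=
    BlocksCore.KleinOrder.comm_P P hP hexp hJ hJ2
  have hfour : ∀ K : Subgroup G, (P : Subgroup G) ≤ K → ∃ w, Nat.card K = 4 * w ∧ w ∣ g₀ := by
    intro K hK
    obtain ⟨w, hw⟩ := hP ▸ Subgroup.card_dvd_of_le hK
    refine ⟨w, hw, ?_⟩
    have h1 := K.card_subgroup_dvd_card
    rw [hw, hG] at h1
    exact Nat.dvd_of_mul_dvd_mul_left (by norm_num) h1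
  obtain ⟨w, hw, hwg⟩ := hfour _ (fun x hx => Subgroup.mem_centralizer_singleton_iff.mpr
    (hPc x hx J hJ) : (P : Subgroup G) ≤ Subgroup.centralizer ({J} : Set G))
  obtain ⟨v, hv, hvg⟩ := hfour _ (fun x hx => Subgroup.mem_centralizer_iff.mpr
    fun y hy => hPc y hy x hx : (P : Subgroup G) ≤ Subgroup.centralizer ((P : Subgroup G) : Set G))
  rw [← hcJ] at hw
  rw [← hcP] at hv
  have hyQ : ∀ (x y : ℕ) (ε : ℤ), (x : ℤ) + ε = 2 * y → (x : ℚ) + ε = 2 * y := fun x y ε h => by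
    exact_mod_cast h
  have hypos : ∀ (x y : ℕ) (ε : ℤ), 2 ≤ x → (ε = 1 ∨ ε = -1) → (x : ℤ) + ε = 2 * y →
      (y : ℚ) ≠ 0 := fun x y ε hx he h => Nat.cast_ne_zero.mpr (by rcases he with rfl | rfl <;> omega)
  rw [hyQ _ _ _ hy1, hyQ _ _ _ hy2, hyQ _ _ _ hy3, hG, hw, hv] at hord
  have hv0 : (v : ℚ) ≠ 0 := Nat.cast_ne_zero.mpr fun h => by
    rw [h, mul_zero] at hv
    exact Nat.card_pos.ne' (hcP ▸ hv)
  have := hypos _ _ _ hx1 hε.1 hy1
  have := hypos _ _ _ hx2 hε.2.1 hy2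
  have := hypos _ _ _ hx3 hε.2.2 hy3
  push_cast at hord
  field_simp at hord
  have hkey : y₁ * y₂ * y₃ * (g₀ * v ^ 2) = x₁ * x₂ * x₃ * w ^ 3 := by
    have h1 : ((y₁ * y₂ * y₃ * (g₀ * v ^ 2) : ℕ) : ℚ) = ((x₁ * x₂ * x₃ * w ^ 3 : ℕ) : ℚ) := by
      push_cast
      linarith
    exact_mod_cast h1
  have hw' : Odd w := Odd.of_dvd_nat hg₀ hwg
  have hR : Odd (x₁ * x₂ * x₃ * w ^ 3) := ((ho1.mul ho2).mul ho3).mul (Odd.pow hw')
  have hy : ∀ y : ℕ, y ∣ y₁ * y₂ * y₃ → Odd y ∧ ∀ l : ℕ, l.Prime → l ∣ y → l = 3 ∨ l = r := by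
    intro y hy
    have hd : y ∣ x₁ * x₂ * x₃ * w ^ 3 := hkey ▸ Dvd.dvd.mul_right hy _
    refine ⟨Odd.of_dvd_nat hR hd, fun l hl h => ?_⟩
    rcases hl.dvd_mul.mp (h.trans hd) with h' | h'
    · rcases hl.dvd_mul.mp h' with h'' | h''
      · rcases hl.dvd_mul.mp h'' with h3 | h3
        · exact hp1 l hl h3
        · exact hp2 l hl h3
      · exact hp3 l hl h''
    · exact hprimes l hl ((hl.dvd_of_dvd_pow h').trans hwg)
  obtain ⟨hoy1, hq1⟩ := hy y₁ (Dvd.dvd.mul_right (dvd_mul_right _ _) _)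
  obtain ⟨hoy2, hq2⟩ := hy y₂ (Dvd.dvd.mul_right (dvd_mul_left _ _) _)
  obtain ⟨hoy3, hq3⟩ := hy y₃ (dvd_mul_left _ _)
  obtain ⟨d₁, hd1, ht1, hr1⟩ := member_shape hr hε.1 hx1 h31 hy1 hoy1 hp1 hq1
  obtain ⟨d₂, hd2, ht2, hr2⟩ := member_shape hr hε.2.1 hx2 h32 hy2 hoy2 hp2 hq2
  obtain ⟨d₃, hd3, ht3, hr3⟩ := member_shape hr hε.2.2 hx3 h33 hy3 hoy3 hp3 hq3
  have h1 : (3 : ℤ) ∣ d₁ + d₂ + d₃ - 1 := by
    rw [show d₁ + d₂ + d₃ - 1 = ε₁ * (x₁ : ℤ) + d₁ + (ε₂ * (x₂ : ℤ) + d₂) + (ε₃ * (x₃ : ℤ) + d₃) by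
      linear_combination -hrel]
    exact dvd_add (dvd_add ht1 ht2) ht3
  have h2 : (r : ℤ) ∣ 2 - (d₁ + d₂ + d₃) := by
    rw [show 2 - (d₁ + d₂ + d₃) = ε₁ * (x₁ : ℤ) + (1 - d₁) + (ε₂ * (x₂ : ℤ) + (1 - d₂)) +
      (ε₃ * (x₃ : ℤ) + (1 - d₃)) by linear_combination -hrel]
    exact dvd_add (dvd_add hr1 hr2) hr3
  have hd : d₁ + d₂ + d₃ = 1 := by
    obtain ⟨c, hc⟩ := h1
    omega
  rw [hd] at h2
  exact hr.not_dvd_one (Int.natCast_dvd_natCast.mp (by simpa using h2))

variable {ρ : Representation ℂ G (Fin 3 → ℂ)} [ρ.IsIrreducible]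

/-- Exponents of the primes. -/
theorem exponent_bounds (hinj : Function.Injective ρ)
    (hZ : ∀ g : G, g ∈ Subgroup.center G → g = 1) {p k m : ℕ} [hp : Fact p.Prime]
    (hG : Nat.card G = p ^ k * m) (hm : ¬ p ∣ m) :
    (p = 2 → k ≤ 5) ∧ (p = 3 → k ≤ 4) ∧ (5 ≤ p → p ^ k ≤ 30) := by
  obtain ⟨P⟩ := (inferInstance : Nonempty (Sylow p G))
  have hP := SmallGroups.card_sylow_eq hG hm P
  obtain ⟨n, d, hnd, hd6, hn⟩ := Three.card_le_of_isPGroup hinj hZ (P : Subgroup G) P.2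
  rw [hP] at hnd
  obtain ⟨a, ha, hna'⟩ := (Nat.dvd_prime_pow hp.out).mp (Dvd.intro d hnd.symm)
  obtain ⟨b, hb, hdb⟩ := (Nat.dvd_prime_pow hp.out).mp (Dvd.intro_left n hnd.symm)
  have hab : k = a + b := by
    rw [hna', hdb, ← pow_add] at hnd
    exact Nat.pow_right_injective hp.out.two_le hnd
  subst hna' hdb
  refine ⟨?_, ?_, ?_⟩
  · rintro rfl
    have hb1 : b ≤ 1 := by
      by_contra h
      exact absurd ((pow_dvd_pow 2 (show 2 ≤ b by omega)).trans hd6) (by norm_num)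
    have ha4 : a ≤ 4 := by
      by_contra h
      have h5 : 2 ^ 5 ≤ 2 ^ a := Nat.pow_le_pow_right (by norm_num) (by omega)
      rcases hn with hn | hn
      · omega
      · have : 9 ∣ 2 ^ a := hn ▸ by norm_num
        have := (Nat.prime_dvd_prime_iff_eq Nat.prime_three Nat.prime_two).mp
          (Nat.prime_three.dvd_of_dvd_pow ((show 3 ∣ 9 by norm_num).trans this))
        omega
    omega
  · rintro rfl
    have hb1 : b ≤ 1 := by
      by_contra h
      exact absurd ((pow_dvd_pow 3 (show 2 ≤ b by omega)).trans hd6) (by norm_num)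
    have ha3 : a ≤ 3 := by
      by_contra h
      have h5 : 3 ^ 4 ≤ 3 ^ a := Nat.pow_le_pow_right (by norm_num) (by omega)
      omega
    omega
  · intro h5
    have hb0 : b = 0 := by
      by_contra h
      have := Nat.le_of_dvd (by norm_num) ((dvd_pow_self p h).trans hd6)
      have hp6 : p ∣ 6 := (dvd_pow_self p h).trans hd6
      rcases (by omega : p = 5 ∨ p = 6) with rfl | rfl
      · norm_num at hp6
      · exact absurd hp.out (by norm_num)
    rw [hab, hb0, add_zero]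
    rcases hn with hn | hn
    · exact hn
    · exfalso
      rcases Nat.eq_zero_or_pos a with rfl | ha0
      · norm_num at hn
      · have h36 : p ∣ 36 := hn ▸ dvd_pow_self p ha0.ne'
        have h2 : p ∣ 2 ^ 2 * 3 ^ 2 := by simpa using h36
        rcases hp.out.dvd_mul.mp h2 with h | h <;>
          have := Nat.le_of_dvd (by norm_num) (hp.out.dvd_of_dvd_pow h) <;> omega

/-- The automiser of a Sylow subgroup of prime order. -/
theorem automizer (hna : ¬ IsMulCommutative G) (hinj : Function.Injective ρ)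
    (hZ : ∀ g : G, g ∈ Subgroup.center G → g = 1) {p q r a b : ℕ} (hp : p.Prime) (hq : q.Prime)
    [Fact r.Prime] (h5 : 5 ≤ r) (hpq : p ≠ q) (hpr : p ≠ r) (hqr : q ≠ r)
    (hG : Nat.card G = p ^ a * q ^ b * r) :
    (r = 5 → 2 * Nat.card (Sylow r G) = p ^ a * q ^ b) ∧
    (7 ≤ r → 3 ∣ r - 1 ∧ 3 * Nat.card (Sylow r G) = p ^ a * q ^ b) := by
  obtain ⟨S⟩ := (inferInstance : Nonempty (Sylow r G))
  obtain ⟨hS, hC, e, he2, hediv, hN, hn⟩ :=
    SmallGroups.exists_index_three_primes hna hp hq hpq hpr hqr hG S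
  have hrel : (Subgroup.centralizer ((S : Subgroup G) : Set G)).relIndex
      (Subgroup.normalizer ((S : Subgroup G) : Set G)) = e := by
    have h := SmallGroups.card_centralizer_mul_relIndex (S : Subgroup G)
    rw [hC, hS, hN, mul_comm e] at h
    rw [hC]
    exact Nat.eq_of_mul_eq_mul_left (by omega) h
  obtain ⟨h2, h3⟩ := Three.relIndex_dvd hinj hZ h5 (S : Subgroup G) hS
  rw [hrel] at h2 h3
  refine ⟨fun h => ?_, fun h => ?_⟩
  · rcases (Nat.dvd_prime Nat.prime_two).mp (h2 h) with rfl | rfl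
    · omega
    · exact hn
  · rcases (Nat.dvd_prime Nat.prime_three).mp (h3 h) with rfl | rfl
    · omega
    · exact ⟨hediv, hn⟩

theorem sylow_modEq {r n m : ℕ} [Fact r.Prime] (h : n * Nat.card (Sylow r G) = m) :
    m ≡ n [MOD r] := by
  have h1 := (card_sylow_modEq_one r G).mul_left n
  rwa [h, mul_one] at h1

theorem dvd_five_ne {i : ℕ} : ¬ 5 ∣ 4 * 3 ^ i := by
  intro h
  rcases (Nat.prime_five).dvd_mul.mp h with h | h
  · omega
  · have := Nat.le_of_dvd (by norm_num) (Nat.prime_five.dvd_of_dvd_pow h)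
    omega

theorem four_case (hna : ¬ IsMulCommutative G) {i j r : ℕ} (hr : r.Prime) (hr5 : 5 ≤ r)
    (hj : 0 < j) (hG : Nat.card G = 4 * (3 ^ i * r ^ j)) : Nat.card G = 60 := by
  classical
  haveI := Fact.mk hr
  haveI : Fact (Nat.Prime 3) := ⟨Nat.prime_three⟩
  obtain ⟨χ, hχ⟩ := exists_degree_three_four hna hr hr5 hG
  obtain ⟨ρ, hρ, hinj⟩ := exists_rep hna χ hχ
  haveI := hρ
  have hZ := center_trivial hna
  have h3r : ¬ 3 ∣ 4 * r ^ j := fun h => by
    rcases Nat.prime_three.dvd_mul.mp h with h | h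
    · omega
    · have := (Nat.prime_dvd_prime_iff_eq Nat.prime_three hr).mp (Nat.prime_three.dvd_of_dvd_pow h)
      omega
  have hr3 : ¬ r ∣ 4 * 3 ^ i := fun h => by
    rcases hr.dvd_mul.mp h with h | h
    · have := Nat.le_of_dvd (by norm_num) h
      omega
    · have := (Nat.prime_dvd_prime_iff_eq hr Nat.prime_three).mp (hr.dvd_of_dvd_pow h)
      omega
  have hi : i ≤ 4 := (exponent_bounds hinj hZ (p := 3) (k := i) (m := 4 * r ^ j)
    (by rw [hG]; ring) h3r).2.1 rfl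
  have hrj := (exponent_bounds hinj hZ (p := r) (k := j) (m := 4 * 3 ^ i)
    (by rw [hG]; ring) hr3).2.2 hr5
  have hr30 : r ≤ 30 := le_trans (Nat.le_self_pow hj.ne' r) hrj
  have hsmall : Nat.card G ≤ 1092 → Nat.card G = 60 := by
    intro h
    have h2 : ¬ 2 ∣ 3 ^ i * r ^ j := fun h => by
      rcases Nat.prime_two.dvd_mul.mp h with h | h <;>
        have := Nat.prime_two.dvd_of_dvd_pow h
      · omega
      · have := (Nat.prime_dvd_prime_iff_eq Nat.prime_two hr).mp this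
        omega
    have hbigp : ∀ l : ℕ, l.Prime → 5 ≤ l → l ∣ 3 ^ i * r ^ j → l = r := fun l hl hl5 h => by
      rcases hl.dvd_mul.mp h with h | h
      · have := (Nat.prime_dvd_prime_iff_eq hl Nat.prime_three).mp (hl.dvd_of_dvd_pow h)
        omega
      · exact (Nat.prime_dvd_prime_iff_eq hl hr).mp (hl.dvd_of_dvd_pow h)
    rcases Cfsg.Agent.S0496.result hna h with e | e | e | e | e | e
    · exact e
    · omega
    · omega
    · omega
    · have e' : 3 ^ i * r ^ j = 165 := by omega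
      have h5 := hbigp 5 (by norm_num) le_rfl (e' ▸ by norm_num)
      have h11 := hbigp 11 (by norm_num) (by norm_num) (e' ▸ by norm_num)
      omega
    · have e' : 3 ^ i * r ^ j = 273 := by omega
      have h7 := hbigp 7 (by norm_num) (by norm_num) (e' ▸ by norm_num)
      have h13 := hbigp 13 (by norm_num) (by norm_num) (e' ▸ by norm_num)
      omega
  rcases Nat.lt_or_ge 1092 (Nat.card G) with hbig | h
  swap
  · exact hsmall h
  exfalso
  have hj2 : j ≤ 2 := by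
    by_contra h
    have : 5 ^ 3 ≤ r ^ j := le_trans (Nat.pow_le_pow_left hr5 3)
      (Nat.pow_le_pow_right hr.pos (by omega))
    omega
  rcases (by omega : j = 1 ∨ j = 2) with rfl | rfl
  · obtain ⟨h5, h7⟩ := automizer hna hinj hZ (a := 2) (b := i) Nat.prime_two Nat.prime_three hr5
      (by norm_num) (by omega) (by omega) (by rw [hG]; ring)
    rcases (show r = 5 ∨ 7 ≤ r by
      rcases (by omega : r = 5 ∨ r = 6 ∨ 7 ≤ r) with h | h | h
      · exact Or.inl h
      · exact absurd (h ▸ hr) (by norm_num)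
      · exact Or.inr h) with rfl | h
    · have hm := sylow_modEq (h5 rfl)
      rw [hG] at hbig
      interval_cases i <;> simp_all [Nat.ModEq]
    · obtain ⟨h3, hn⟩ := h7 h
      have hm := sylow_modEq hn
      rw [hG] at hbig
      interval_cases r <;> interval_cases i <;> simp_all [Nat.ModEq]
  · obtain rfl : r = 5 := by
      by_contra h
      have : 6 ^ 2 ≤ r ^ 2 := Nat.pow_le_pow_left (by omega) 2
      omega
    refine Three.false_of_twentyfive hinj hZ hna (4 * 3 ^ i) (by rw [hG]; ring) dvd_five_ne ?_ ?_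
    · exact fun n hn => (four_divisors i (by omega) n (Nat.mem_divisors.mpr ⟨hn, by positivity⟩)).1
    · exact fun n hn => (four_divisors i (by omega) n (Nat.mem_divisors.mpr ⟨hn, by positivity⟩)).2

theorem three_case (hna : ¬ IsMulCommutative G) {e f r : ℕ} (hr : r.Prime) (hr5 : 5 ≤ r)
    (he : 3 ≤ e) (hf : 0 < f) (hf2 : f ≤ 2) (hG : Nat.card G = 3 * 2 ^ e * r ^ f) :
    Nat.card G = 168 := by
  classical
  haveI := Fintype.ofFinite G
  haveI := Fact.mk hr
  haveI : Fact (Nat.Prime 2) := ⟨Nat.prime_two⟩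
  obtain ⟨χ, hχ1, k, hk⟩ := Cfsg.Agent.S4500.exists_prime_power_degree r 3 2 f 1 e hr
    Nat.prime_three Nat.prime_two (by omega) hf2 (by omega) (by rw [hG]; ring)
  have hk1 : k = 1 := by
    have h1 : 3 ^ k ∣ 3 * (2 ^ e * r ^ f) := by
      rw [← mul_assoc, ← hG, ← hk]
      exact BlocksCore.charDegree_dvd_card χ
    have hcop : Nat.Coprime (3 ^ k) (2 ^ e * r ^ f) :=
      (Nat.Coprime.mul_right ((Nat.coprime_primes Nat.prime_three Nat.prime_two).mpr
        (by norm_num) |>.pow_right e) (((Nat.coprime_primes Nat.prime_three hr).mpr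
        (by omega)).pow_right f)).pow_left k
    have hle : k ≤ 1 := (Nat.pow_dvd_pow_iff_le_right (by norm_num : 1 < 3)).mp
      (by rw [pow_one]; exact hcop.dvd_of_dvd_mul_right h1)
    by_contra hne
    obtain rfl : k = 0 := by omega
    exact hχ1 (eq_one_of_linear hna χ (by rw [BlocksCore.irr_one_eq χ, hk]; simp))
  obtain ⟨ρ, hρ, hinj⟩ := exists_rep hna χ (by rw [hk, hk1, pow_one])
  haveI := hρ
  have hZ := center_trivial hna
  have h2r : ¬ 2 ∣ 3 * r ^ f := fun h => by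
    rcases Nat.prime_two.dvd_mul.mp h with h | h
    · omega
    · have := (Nat.prime_dvd_prime_iff_eq Nat.prime_two hr).mp (Nat.prime_two.dvd_of_dvd_pow h)
      omega
  have hr2 : ¬ r ∣ 3 * 2 ^ e := fun h => by
    rcases hr.dvd_mul.mp h with h | h
    · have := Nat.le_of_dvd (by norm_num) h
      omega
    · have := (Nat.prime_dvd_prime_iff_eq hr Nat.prime_two).mp (hr.dvd_of_dvd_pow h)
      omega
  have he5 : e ≤ 5 := (exponent_bounds hinj hZ (p := 2) (k := e) (m := 3 * r ^ f)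
    (by rw [hG]; ring) h2r).1 rfl
  have hrf := (exponent_bounds hinj hZ (p := r) (k := f) (m := 3 * 2 ^ e)
    (by rw [hG]; ring) hr2).2.2 hr5
  have hr30 : r ≤ 30 := le_trans (Nat.le_self_pow hf.ne' r) hrf
  have hsmall : Nat.card G ≤ 1092 → Nat.card G = 168 := by
    intro h
    have h8 : 8 ∣ Nat.card G := hG ▸
      Dvd.dvd.mul_right (Dvd.dvd.mul_left (pow_dvd_pow 2 he) _) _
    have h9 : ¬ 9 ∣ Nat.card G := fun h => by
      rw [hG, mul_assoc, show (9 : ℕ) = 3 * 3 from rfl] at h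
      rcases Nat.prime_three.dvd_mul.mp (Nat.dvd_of_mul_dvd_mul_left (by norm_num) h) with h | h
      · have := (Nat.prime_dvd_prime_iff_eq Nat.prime_three Nat.prime_two).mp
          (Nat.prime_three.dvd_of_dvd_pow h)
        omega
      · have := (Nat.prime_dvd_prime_iff_eq Nat.prime_three hr).mp
          (Nat.prime_three.dvd_of_dvd_pow h)
        omega
    rcases Cfsg.Agent.S0496.result hna h with e' | e' | e' | e' | e' | e' <;> omega
  rcases Nat.lt_or_ge 1092 (Nat.card G) with hbig | h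
  swap
  · exact hsmall h
  exfalso
  rcases (by omega : f = 1 ∨ f = 2) with rfl | rfl
  · obtain ⟨-, h7⟩ := automizer hna hinj hZ (a := e) (b := 1) Nat.prime_two Nat.prime_three hr5
      (by norm_num) (by omega) (by omega) (by rw [hG]; ring)
    rw [hG] at hbig
    rcases Nat.lt_or_ge r 7 with h | h
    · interval_cases r <;> interval_cases e <;> omega
    · obtain ⟨h3, hn⟩ := h7 h
      have hm := sylow_modEq hn
      interval_cases r <;> interval_cases e <;> simp_all [Nat.ModEq]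
  · obtain rfl : r = 5 := by
      by_contra h
      have : 6 ^ 2 ≤ r ^ 2 := Nat.pow_le_pow_left (by omega) 2
      omega
    refine Three.false_of_twentyfive hinj hZ hna (3 * 2 ^ e) (by rw [hG]; ring) hr2 ?_ ?_
    · exact fun n hn => (three_divisors e (by omega) n (Nat.mem_divisors.mpr ⟨hn, by positivity⟩)).1
    · exact fun n hn => (three_divisors e (by omega) n (Nat.mem_divisors.mpr ⟨hn, by positivity⟩)).2

/-- The order is even with Klein four Sylow `2`-subgroups as soon as `8` does not divide it. -/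
theorem klein_facts (hna : ¬ IsMulCommutative G) (h2 : Even (Nat.card G))
    (h8 : ¬ 8 ∣ Nat.card G) : 4 ∣ Nat.card G ∧ 3 ∣ Nat.card G := by
  obtain ⟨T⟩ := (inferInstance : Nonempty (Sylow 2 G))
  obtain ⟨hK, h3⟩ := Cfsg.Agent.S0992.result hna h2 h8 T
  refine ⟨hK.card_four ▸ Subgroup.card_subgroup_dvd_card _, ?_⟩
  have h := SmallGroups.card_centralizer_mul_relIndex (T : Subgroup G)
  rw [h3] at h
  exact (Dvd.intro_left _ h).trans (Subgroup.card_subgroup_dvd_card _)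

theorem four_result (hna : ¬ IsMulCommutative G) {p q a b : ℕ} (hp : p.Prime) (hq : q.Prime)
    (hG : Nat.card G = 4 * p ^ a * q ^ b) : Nat.card G = 60 := by
  have htwo : ∀ {l i k : ℕ}, l.Prime → Nat.card G = 2 ^ i * l ^ k → False := by
    intro l i k hl h
    haveI : Group.IsSolvable G := CharCore.isSolvable_of_card_eq_prime_pow_mul Nat.prime_two hl
      (Nat.card G) G i k rfl h
    exact hna ⟨⟨fun x y => (IsSimpleGroup.comm_iff_isSolvable.mpr inferInstance) x y⟩⟩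
  by_cases hp2 : p = 2
  · exact (htwo hq (i := a + 2) (k := b) (by rw [hG, hp2]; ring)).elim
  by_cases hq2 : q = 2
  · exact (htwo hp (i := b + 2) (k := a) (by rw [hG, hq2]; ring)).elim
  rcases Nat.eq_zero_or_pos a with rfl | ha
  · exact (htwo hq (i := 2) (k := b) (by rw [hG]; ring)).elim
  rcases Nat.eq_zero_or_pos b with rfl | hb
  · exact (htwo hp (i := 2) (k := a) (by rw [hG]; ring)).elim
  have hodd : Odd (p ^ a * q ^ b) :=
    (Odd.pow (hp.odd_of_ne_two hp2)).mul (Odd.pow (hq.odd_of_ne_two hq2))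
  have hG' : Nat.card G = 4 * (p ^ a * q ^ b) := by rw [hG, mul_assoc]
  obtain ⟨j, hj⟩ := hodd
  obtain ⟨-, h3⟩ := klein_facts hna (by rw [hG', even_iff_two_dvd]; omega) (by rw [hG']; omega)
  rw [hG'] at h3
  rcases Nat.prime_three.dvd_mul.mp h3 with h | h
  · omega
  by_cases hp3 : p = 3
  · subst hp3
    by_cases hq3 : q = 3
    · exact (htwo Nat.prime_three (i := 2) (k := a + b) (by rw [hG', hq3, pow_add]; ring)).elim
    refine four_case hna (r := q) (i := a) hq ?_ hb hG'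
    rcases (by have := hq.two_le; omega : q = 4 ∨ 5 ≤ q) with h4 | h4
    · exact absurd (h4 ▸ hq) (by norm_num)
    · exact h4
  · rcases Nat.prime_three.dvd_mul.mp h with h | h
    · exact absurd ((Nat.prime_dvd_prime_iff_eq Nat.prime_three hp).mp
        (Nat.prime_three.dvd_of_dvd_pow h)).symm hp3
    obtain rfl := ((Nat.prime_dvd_prime_iff_eq Nat.prime_three hq).mp
      (Nat.prime_three.dvd_of_dvd_pow h))
    refine four_case hna (r := p) (i := b) hp ?_ ha (by rw [hG']; ring)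
    rcases (by have := hp.two_le; omega : p = 4 ∨ 5 ≤ p) with h4 | h4
    · exact absurd (h4 ▸ hp) (by norm_num)
    · exact h4

theorem three_main (hna : ¬ IsMulCommutative G) {r e f : ℕ} (hr : r.Prime) (hr2 : r ≠ 2)
    (hr3 : r ≠ 3) (hf : 0 < f) (he : 0 < e) (h : e ≤ 2 ∨ f ≤ 2)
    (hG : Nat.card G = 3 * 2 ^ e * r ^ f) : Nat.card G = 60 ∨ Nat.card G = 168 := by
  have hr5 : 5 ≤ r := by
    rcases (by have := hr.two_le; omega : r = 4 ∨ 5 ≤ r) with h | h
    · exact absurd (h ▸ hr) (by norm_num)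
    · exact h
  rcases Nat.lt_or_ge e 3 with he3 | he3
  · have hodd : Odd (3 * r ^ f) := (by decide : Odd 3).mul (Odd.pow (hr.odd_of_ne_two hr2))
    obtain ⟨j, hj⟩ := hodd
    have hG' : Nat.card G = 2 ^ e * (2 * j + 1) := by rw [hG, ← hj]; ring
    rcases (by omega : e = 1 ∨ e = 2) with rfl | rfl
    · obtain ⟨h4, -⟩ := klein_facts hna (by rw [hG', even_iff_two_dvd]; omega)
        (by rw [hG']; omega)
      rw [hG'] at h4
      omega
    · exact Or.inl (four_case hna (r := r) (i := 1) hr hr5 hf (by rw [hG]; ring))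
  · exact Or.inr (three_case hna hr hr5 he3 hf (by omega) hG)

theorem three_result (hna : ¬ IsMulCommutative G) {p q a b : ℕ} (hp : p.Prime) (hq : q.Prime)
    (hpq : p ≠ q) (ha : a ≤ 2) (hG : Nat.card G = 3 * p ^ a * q ^ b) :
    Nat.card G = 60 ∨ Nat.card G = 168 := by
  haveI : Fact (Nat.Prime 3) := ⟨Nat.prime_three⟩
  have htwo : ∀ {l i k : ℕ}, l.Prime → Nat.card G = 3 ^ i * l ^ k → False := by
    intro l i k hl h
    haveI : Group.IsSolvable G := CharCore.isSolvable_of_card_eq_prime_pow_mul Nat.prime_three hl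
      (Nat.card G) G i k rfl h
    exact hna ⟨⟨fun x y => (IsSimpleGroup.comm_iff_isSolvable.mpr inferInstance) x y⟩⟩
  by_cases hp3 : p = 3
  · exact (htwo hq (i := a + 1) (k := b) (by rw [hG, hp3]; ring)).elim
  by_cases hq3 : q = 3
  · exact (htwo hp (i := b + 1) (k := a) (by rw [hG, hq3]; ring)).elim
  rcases Nat.eq_zero_or_pos a with rfl | ha'
  · exact (htwo hq (i := 1) (k := b) (by rw [hG]; ring)).elim
  rcases Nat.eq_zero_or_pos b with rfl | hb
  · exact (htwo hp (i := 1) (k := a) (by rw [hG]; ring)).elim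
  -- an element of order two normalises the Sylow `3`-subgroup
  have hn3 : ¬ 3 ∣ p ^ a * q ^ b := fun h => by
    rcases Nat.prime_three.dvd_mul.mp h with h | h
    · exact hp3 ((Nat.prime_dvd_prime_iff_eq Nat.prime_three hp).mp
        (Nat.prime_three.dvd_of_dvd_pow h)).symm
    · exact hq3 ((Nat.prime_dvd_prime_iff_eq Nat.prime_three hq).mp
        (Nat.prime_three.dvd_of_dvd_pow h)).symm
  have h2 : 2 ∣ Nat.card G := by
    obtain ⟨T⟩ := (inferInstance : Nonempty (Sylow 3 G))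
    have hT : Nat.card T = 3 := by
      simpa using SmallGroups.card_sylow_eq (p := 3) (a := 1) (m := p ^ a * q ^ b)
        (by rw [hG]; ring) hn3 T
    have hd := SmallGroups.relIndex_centralizer_dvd_of_prime (p := 3) (T : Subgroup G) hT
    rcases (Nat.dvd_prime Nat.prime_two).mp hd with h | h
    · exact absurd (Subgroup.relIndex_eq_one.mp h) (SmallGroups.not_normalizer_le_centralizer hna
        (hT ▸ Subgroup.card_subgroup_dvd_card _) T)
    · have h' := SmallGroups.card_centralizer_mul_relIndex (T : Subgroup G)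
      rw [h] at h'
      exact (Dvd.intro_left _ h').trans (Subgroup.card_subgroup_dvd_card _)
  rw [hG] at h2
  rcases Nat.prime_two.dvd_mul.mp h2 with h | h
  · rcases Nat.prime_two.dvd_mul.mp h with h | h
    · omega
    · obtain rfl := ((Nat.prime_dvd_prime_iff_eq Nat.prime_two hp).mp
        (Nat.prime_two.dvd_of_dvd_pow h))
      exact three_main hna (r := q) hq hpq.symm hq3 hb ha' (Or.inl ha) hG
  · obtain rfl := ((Nat.prime_dvd_prime_iff_eq Nat.prime_two hq).mp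
      (Nat.prime_two.dvd_of_dvd_pow h))
    exact three_main hna (r := p) hp hpq hp3 ha' hb (Or.inr ha) (by rw [hG]; ring)

end Cfsg.Agent.BlkChar.CofFour
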