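import Cfsg.Agent.BlkChar.PSolvDegree
import Cfsg.Agent.Lib.Transfer.Focal
import Cfsg.Agent.CharB.CentralExt
import Cfsg.Agent.Lib.Solvable.Schmidt
import Mathlib.GroupTheory.FiniteAbelian.Duality
import Mathlib.Analysis.SpecialFunctions.Complex.Circle

/-!
# Faithful irreducible characters of solvable groups with a non-normal Sylow subgroup
-/

set_option linter.unusedSectionVars false

open Cfsg
open scoped ComplexConjugate commutatorElement

namespace Cfsg.Agent.BlkChar.Solv

universe u

/-- The linear characters of `G ⧸ M` fixing `χ`. -/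
def fixHoms {G : Type u} [Group G] (M : Subgroup G) [M.Normal] (χ : G → ℂ) :
    Subgroup (G ⧸ M →* ℂˣ) where
  carrier := {l | ∀ g, (l (QuotientGroup.mk g) : ℂ) * χ g = χ g}
  one_mem' g := by simp
  mul_mem' {a b} ha hb g := by
    show ((a * b) (QuotientGroup.mk g) : ℂ) * χ g = χ g
    rw [MonoidHom.mul_apply, Units.val_mul, mul_assoc, hb g, ha g]
  inv_mem' {a} ha g := by
    show ((a⁻¹) (QuotientGroup.mk g) : ℂ) * χ g = χ g
    conv_lhs => rw [← ha g]
    rw [← mul_assoc, MonoidHom.inv_apply, Units.inv_mul, one_mul]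

/-- Ramification over a normal subgroup with abelian quotient. -/
theorem sq_eq_card_fixHoms {G : Type u} [Group G] [Fintype G] (M : Subgroup G) [M.Normal]
    [Fintype M] (hab : commutator G ≤ M) {χ : G → ℂ} (hχ : IsIrrCharacter G χ) {φ : M → ℂ}
    (hφ : IsIrrCharacter M φ) {e : ℕ} (hres : ∀ m : M, χ m = (e : ℂ) * φ m) :
    e * e = Nat.card (fixHoms M χ) := by
  classical
  letI : CommGroup (G ⧸ M) :=
    { (inferInstance : Group (G ⧸ M)) with
      mul_comm := fun a b => by
        obtain ⟨a, rfl⟩ := QuotientGroup.mk'_surjective M a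
        obtain ⟨b, rfl⟩ := QuotientGroup.mk'_surjective M b
        rw [← commutatorElement_eq_one_iff_mul_comm, ← map_commutatorElement]
        exact (QuotientGroup.eq_one_iff _).mpr (hab (Subgroup.commutator_mem_commutator
          (Subgroup.mem_top a) (Subgroup.mem_top b))) }
  haveI := Fintype.ofFinite (G ⧸ M →* ℂˣ)
  have hsum : ∀ a : G ⧸ M,
      ∑ l : G ⧸ M →* ℂˣ, (l a : ℂ) = if a = 1 then (Nat.card (G ⧸ M) : ℂ) else 0 := by
    intro a
    split_ifs with ha
    · simp [ha, ← Nat.card_eq_fintype_card, CommGroup.card_monoidHom_of_hasEnoughRootsOfUnity]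
    · obtain ⟨l₀, hl₀⟩ := CommGroup.exists_apply_ne_one_of_hasEnoughRootsOfUnity (G ⧸ M) ℂ ha
      have h1 : (l₀ a : ℂ) * ∑ l : G ⧸ M →* ℂˣ, (l a : ℂ) = ∑ l : G ⧸ M →* ℂˣ, (l a : ℂ) := by
        rw [Finset.mul_sum]
        exact Fintype.sum_equiv (Equiv.mulLeft l₀) _ _ fun l => by simp
      by_contra hne
      exact hl₀ (Units.ext (mul_right_cancel₀ hne (h1.trans (one_mul _).symm)))
  apply Nat.cast_injective (R := ℂ)
  have hterm : ∀ l : G ⧸ M →* ℂˣ,
      classInner (fun g => (l (QuotientGroup.mk' M g) : ℂ) * χ g) χ =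
        if l ∈ fixHoms M χ then 1 else 0 := by
    intro l
    have hirr := CharCore.isIrrCharacter_hom_mul (l.comp (QuotientGroup.mk' M)) hχ
    have h := CharCore.classInner_irr (G := G) ⟨_, hirr⟩ ⟨χ, hχ⟩
    refine h.trans ?_
    have hiff : ((⟨_, hirr⟩ : IrrCharacter G) = ⟨χ, hχ⟩) ↔ l ∈ fixHoms M χ :=
      ⟨fun h g => congrFun (congrArg Subtype.val h) g, fun h => Subtype.ext (funext h)⟩
    simp only [hiff]
  have h1 : ∑ l : G ⧸ M →* ℂˣ, classInner (fun g => (l (QuotientGroup.mk' M g) : ℂ) * χ g) χ =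
      (Nat.card (fixHoms M χ) : ℂ) := by
    simp only [hterm, Finset.sum_boole]
    rw [← Fintype.card_subtype, ← Nat.card_eq_fintype_card]
  rw [← h1]
  have hq : (Nat.card G : ℂ) = (Nat.card M : ℂ) * (Nat.card (G ⧸ M) : ℂ) := by
    rw [← Nat.cast_mul, mul_comm, ← Subgroup.card_eq_card_quotient_mul_card_subgroup]
  have hnorm : ∑ m : M, φ m * conj (φ m) = (Nat.card M : ℂ) := by
    have h := (CharCore.isIrrCharacter_iff.mp hφ).2
    rwa [CharCore.classInner_def, inv_mul_eq_iff_eq_mul₀ (Nat.cast_ne_zero.2 Nat.card_pos.ne'),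
      mul_one] at h
  simp only [CharCore.classInner_def, ← Finset.mul_sum]
  rw [Finset.sum_comm]
  simp only [mul_assoc, ← Finset.sum_mul, hsum, ite_mul, zero_mul]
  rw [← Finset.sum_filter, Finset.sum_subtype (p := fun g : G => g ∈ M) _ (fun g => by simp)]
  have h2 : ∀ m : M, (Nat.card (G ⧸ M) : ℂ) * (χ (m : G) * conj (χ (m : G))) =
      (Nat.card (G ⧸ M) : ℂ) * ((e : ℂ) * e) * (φ m * conj (φ m)) := by
    intro m
    rw [hres m, map_mul, map_natCast]
    ring
  rw [Finset.sum_congr rfl fun m _ => h2 m, ← Finset.mul_sum, hnorm, hq, Nat.cast_mul]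
  have : (Nat.card M : ℂ) ≠ 0 := Nat.cast_ne_zero.2 Nat.card_pos.ne'
  have : (Nat.card (G ⧸ M) : ℂ) ≠ 0 := Nat.cast_ne_zero.2 Nat.card_pos.ne'
  field_simp

/-- A Sylow subgroup is normal if it is so modulo the kernel of each constituent. -/
theorem normal_sylow_of_quotients {G : Type u} [Group G] [Fintype G] {p : ℕ} [Fact p.Prime]
    (P : Sylow p G) {χ : G → ℂ} (hχ : IsCharacter G χ) (hfaith : ∀ g : G, χ g = χ 1 → g = 1)
    (h : ∀ ξ : IrrCharacter G, classInner χ (ξ : G → ℂ) ≠ 0 →
      (CharCore.charKernel (CharCore.irr_isCharacter ξ) ⊔ (P : Subgroup G)).Normal) :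
    (P : Subgroup G).Normal := by
  set R := Subgroup.normalClosure ((P : Subgroup G) : Set G) with hR
  have hpp : p.Prime := Fact.out
  have hRp : IsPGroup p R := by
    rw [IsPGroup.iff_orderOf]
    rintro ⟨x, hx⟩
    refine ⟨(orderOf x).factorization p, ?_⟩
    rw [Subgroup.orderOf_mk]
    set m := p ^ (orderOf x).factorization p
    refine Nat.dvd_antisymm ?_ (Nat.ordProj_dvd _ p)
    refine orderOf_dvd_of_pow_eq_one (eq_one_of_constituents hχ hfaith fun ξ hξ => ?_)
    set Kξ := CharCore.charKernel (CharCore.irr_isCharacter ξ)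
    haveI := h ξ hξ
    obtain ⟨k, hk, z, hz, hkz⟩ := Subgroup.mem_sup_of_normal_left.mp
      (Subgroup.normalClosure_le_normal (fun y hy => Subgroup.mem_sup_right hy) hx : x ∈ Kξ ⊔ ↑P)
    show x ^ m ∈ Kξ
    rw [← QuotientGroup.eq_one_iff, ← orderOf_eq_one_iff]
    have hxz : (QuotientGroup.mk x : G ⧸ Kξ) = QuotientGroup.mk z := by
      rw [← hkz, QuotientGroup.mk_mul, (QuotientGroup.eq_one_iff k).mpr hk, one_mul]
    obtain ⟨b, hb⟩ := IsPGroup.iff_orderOf.mp P.isPGroup' ⟨z, hz⟩
    rw [Subgroup.orderOf_mk] at hb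
    have h1 : orderOf (QuotientGroup.mk (x ^ m) : G ⧸ Kξ) ∣ p ^ b := by
      rw [QuotientGroup.mk_pow, hxz, ← QuotientGroup.mk_pow]
      exact (orderOf_map_dvd (QuotientGroup.mk' Kξ) _).trans (hb ▸ orderOf_pow_dvd m)
    have h2 : orderOf (QuotientGroup.mk (x ^ m) : G ⧸ Kξ) ∣ orderOf x / m :=
      (orderOf_map_dvd (QuotientGroup.mk' Kξ) _).trans (orderOf_dvd_of_pow_eq_one (by
        rw [← pow_mul, Nat.mul_div_cancel' (Nat.ordProj_dvd _ p), pow_orderOf_eq_one]))
    exact Nat.eq_one_of_dvd_coprimes (Nat.Coprime.pow_left b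
      (hpp.coprime_iff_not_dvd.mpr (Nat.not_dvd_ordCompl hpp (orderOf_pos x).ne'))) h1 h2
  rw [← P.3 hRp Subgroup.le_normalClosure]
  infer_instance

/-- The alternative for the degree. -/
def Goal (p n : ℕ) : Prop :=
  ∃ q : ℕ, IsPrimePow q ∧ q ∣ n ∧
    ((q : ℤ) ≡ -1 [ZMOD p] ∨ (q : ℤ) ≡ 0 [ZMOD p] ∨ (q : ℤ) ≡ 1 [ZMOD p])

theorem Goal.of_dvd {p n m : ℕ} (h : Goal p n) (hnm : n ∣ m) : Goal p m := by
  obtain ⟨q, h1, h2, h3⟩ := h
  exact ⟨q, h1, h2.trans hnm, h3⟩

set_option maxHeartbeats 1000000 in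
/-- A faithful irreducible degree of a solvable group with a non-normal Sylow `p`-subgroup. -/
theorem goal_of_solvable (p : ℕ) [hp : Fact p.Prime] : ∀ (m : ℕ) (G : Type u) [Group G] [Finite G],
    Nat.card G = m → Group.IsSolvable G → ∀ (P : Sylow p G) (χ : G → ℂ) (n : ℕ),
      IsIrrCharacter G χ → (∀ g : G, χ g = χ 1 → g = 1) → χ 1 = (n : ℂ) →
      ¬ (P : Subgroup G).Normal → Goal p n := by
  intro m
  induction m using Nat.strong_induction_on with
  | _ m ih =>
  intro G _ _ hG hsolv P χ n hχ hfaith hn hP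
  classical
  haveI := hsolv
  letI := Fintype.ofFinite G
  have hpp : p.Prime := hp.out
  by_cases hpn : p ∣ n
  · exact ⟨p, hpp.isPrimePow, hpn, Or.inr (Or.inl (Int.modEq_zero_iff_dvd.mpr dvd_rfl))⟩
  by_contra hgoal
  have hχc := CharCore.IsIrrCharacter.isCharacter hχ
  -- step A
  have hproper : ∀ X : Subgroup G, X.Normal → X ≠ ⊤ → ∀ S : Sylow p X, (S : Subgroup X).Normal := by
    intro X hX hXt S
    by_contra hS
    haveI := hX
    letI := Fintype.ofFinite X
    have hres := CharCore.isCharacter_restrict hχc X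
    apply hS
    refine normal_sylow_of_quotients S hres (fun g hg => Subtype.ext (hfaith g hg)) fun ξ hξ => ?_
    set Kξ := CharCore.charKernel (CharCore.irr_isCharacter ξ)
    obtain ⟨dξ, hdξ⟩ := CharCore.IsCharacter.exists_degree (CharCore.irr_isCharacter ξ)
    obtain ⟨θ, e, hθ, he, -, hcl⟩ := CharClifford.clifford_restrict X hχ
    have hd : dξ ∣ n := by
      obtain ⟨x, hx⟩ : ∃ x : G, CharClifford.conjFun X x θ = (ξ : X → ℂ) := by
        by_contra hne
        push Not at hne
        apply hξ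
        show classInner (fun h : X => χ h) (ξ : X → ℂ) = 0
        rw [hcl, CharCore.classInner_smul_left, CharCore.classInner_sum_left,
          Finset.sum_eq_zero fun ψ hψ => ?_, mul_zero]
        obtain ⟨x, rfl⟩ := (CharClifford.mem_conjOrbit X).mp hψ
        exact CharCore.classInner_irr_of_ne
          (χ := ⟨_, CharClifford.isIrrCharacter_conjFun X hθ x⟩) (ψ := ξ)
          fun h => hne x (congrArg Subtype.val h)
      have hθ1 : θ 1 = (dξ : ℂ) := by
        rw [← hdξ, ← hx, CharClifford.conjFun_apply]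
        exact congrArg θ (Subtype.ext (by simp))
      have h1 := congrFun hcl 1
      simp only [Pi.smul_apply, smul_eq_mul, Finset.sum_apply, OneMemClass.coe_one, hn] at h1
      rw [Finset.sum_congr rfl (g := fun _ => (dξ : ℂ)) fun ψ hψ => by
        obtain ⟨y, rfl⟩ := (CharClifford.mem_conjOrbit X).mp hψ
        rw [CharClifford.conjFun_apply, ← hθ1]
        exact congrArg θ (Subtype.ext (by simp)), Finset.sum_const, nsmul_eq_mul, ← mul_assoc] at h1
      have h2 : n = e * (CharClifford.conjOrbit X θ).card * dξ := by exact_mod_cast h1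
      exact h2 ▸ dvd_mul_left _ _
    obtain ⟨ψ, -, hψi, hψ⟩ := CharCore.IsCharacter.exists_quotient
      (CharCore.irr_isCharacter ξ) Kξ fun k hk => hk
    have hsurj := QuotientGroup.mk'_surjective Kξ
    have hψ1 : ψ 1 = dξ := by rw [← map_one (QuotientGroup.mk' Kξ), ← hψ, hdξ]
    have hn' : ((S.mapSurjective hsurj : Sylow p (X ⧸ Kξ)) : Subgroup (X ⧸ Kξ)).Normal := by
      by_contra hnn
      have hlt : Nat.card (X ⧸ Kξ) < m := by
        refine lt_of_le_of_lt (Nat.le_of_dvd Nat.card_pos (Subgroup.card_quotient_dvd_card Kξ)) ?_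
        exact hG ▸ lt_of_le_of_ne (Subgroup.card_le_card_group X)
          (fun h => hXt (Subgroup.eq_top_of_card_eq X h))
      exact hgoal ((ih _ hlt (X ⧸ Kξ) rfl inferInstance _ ψ dξ (hψi ξ.2) (fun g hg => by
        obtain ⟨g, rfl⟩ := hsurj g
        refine (QuotientGroup.eq_one_iff g).mpr ?_
        show (ξ : X → ℂ) g = (ξ : X → ℂ) 1
        rw [hψ g, hg, hψ1, hdξ]) hψ1 hnn).of_dvd hd)
    have h8 := hn'.comap (QuotientGroup.mk' Kξ)
    rwa [show ((S.mapSurjective hsurj : Sylow p (X ⧸ Kξ)) : Subgroup (X ⧸ Kξ)) =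
      (S : Subgroup X).map (QuotientGroup.mk' Kξ) from rfl, Subgroup.comap_map_eq,
      QuotientGroup.ker_mk', sup_comm] at h8
  have hbig : ∀ X : Subgroup G, X.Normal → (P : Subgroup G) ≤ X → X = ⊤ := by
    intro X hX hPX
    by_contra hXt
    refine hP ⟨fun y hy g => ?_⟩
    have hSn := hproper X hX hXt (P.subtype hPX)
    -- all Sylow subgroups of `X` equal the normal one
    haveI := hSn
    let c : X ≃* X := MulAut.conjNormal g
    let S₂ : Sylow p X := (P.subtype hPX).mapSurjective (f := c.toMonoidHom) c.surjective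
    letI := Sylow.unique_of_normal (P.subtype hPX) hSn
    haveI : Subsingleton (Sylow p X) := Unique.instSubsingleton
    have h1 : c ⟨y, hPX hy⟩ ∈ (S₂ : Subgroup X) := ⟨⟨y, hPX hy⟩, hy, rfl⟩
    rw [Subsingleton.elim S₂ (P.subtype hPX)] at h1
    have h2 : ((c ⟨y, hPX hy⟩ : X) : G) ∈ (P : Subgroup G) := h1
    rwa [MulAut.conjNormal_apply] at h2
  haveI : Nontrivial G := by
    by_contra h
    rw [not_nontrivial_iff_subsingleton] at h
    exact hP ⟨fun y hy g => by rwa [Subsingleton.elim (g * y * g⁻¹) y]⟩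
  obtain ⟨M, hMn, hMi, -⟩ := Solvable.exists_normal_prime_index G
  haveI := hMn
  letI := Fintype.ofFinite M
  have hMt : M ≠ ⊤ := fun h => by rw [h, Subgroup.index_top] at hMi; exact Nat.not_prime_one hMi
  have hMp : M.index = p := by
    by_contra hne
    refine hMt (hbig M hMn fun y hy => ?_)
    obtain ⟨k, hk⟩ := IsPGroup.iff_orderOf.mp P.isPGroup' ⟨y, hy⟩
    rw [Subgroup.orderOf_mk] at hk
    rw [← QuotientGroup.eq_one_iff, ← orderOf_eq_one_iff]
    have h1 : orderOf (QuotientGroup.mk y : G ⧸ M) ∣ p ^ k :=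
      hk ▸ orderOf_map_dvd (QuotientGroup.mk' M) y
    have h2 : orderOf (QuotientGroup.mk y : G ⧸ M) ∣ M.index := orderOf_dvd_natCard _
    exact Nat.eq_one_of_dvd_coprimes
      (Nat.Coprime.pow_left k ((Nat.coprime_primes hpp hMi).mpr (Ne.symm hne))) h1 h2
  have hMP : M ⊔ (P : Subgroup G) = ⊤ := by
    by_contra h
    have h1 : M ⊔ (P : Subgroup G) = M := by
      have hdvd := Subgroup.index_dvd_of_le (le_sup_left : M ≤ M ⊔ (P : Subgroup G))
      rcases hMi.eq_one_or_self_of_dvd _ hdvd with h1 | h1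
      · exact absurd (Subgroup.index_eq_one.mp h1) h
      · refine le_antisymm ?_ le_sup_left
        intro y hy
        have h2 : M.relIndex (M ⊔ (P : Subgroup G)) * (M ⊔ (P : Subgroup G)).index = M.index :=
          Subgroup.relIndex_mul_index le_sup_left
        rw [h1] at h2
        have h3 : M.relIndex (M ⊔ (P : Subgroup G)) = 1 :=
          Nat.eq_one_of_mul_eq_one_right (m := M.relIndex (M ⊔ (P : Subgroup G))) (n := 1) (by
            rw [mul_one]
            exact Nat.eq_of_mul_eq_mul_right hMi.pos (h2.trans (one_mul _).symm))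
        exact Subgroup.relIndex_eq_one.mp h3 hy
    exact hMt (hbig M hMn (h1 ▸ le_sup_right))
  set P₀ := (P : Subgroup G) ⊓ M with hP₀
  obtain ⟨S₀, hS₀⟩ := Transfer.exists_sylow_subgroupOf_normal P M
  have hP₀n : P₀.Normal := by
    refine ⟨fun y hy g => ?_⟩
    have hSn := hproper M hMn hMt S₀
    let c : M ≃* M := MulAut.conjNormal g
    let S₂ : Sylow p M := S₀.mapSurjective (f := c.toMonoidHom) c.surjective
    letI := Sylow.unique_of_normal S₀ hSn
    haveI : Subsingleton (Sylow p M) := Unique.instSubsingleton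
    have h1 : c ⟨y, hy.2⟩ ∈ (S₂ : Subgroup M) := ⟨⟨y, hy.2⟩, hS₀ ▸ hy.1, rfl⟩
    rw [Subsingleton.elim S₂ S₀] at h1
    have h3 : c ⟨y, hy.2⟩ ∈ (P : Subgroup G).subgroupOf M := hS₀ ▸ h1
    rw [Subgroup.mem_subgroupOf, MulAut.conjNormal_apply] at h3
    exact ⟨h3, hMn.conj_mem y hy.2 g⟩
  have hP₀M : P₀ ≠ M := by
    intro h
    refine hP ?_
    have h1 : (P : Subgroup G) = ⊤ := by rw [← hMP, sup_eq_right.mpr (h ▸ inf_le_left)]
    rw [h1]; infer_instance
  -- the chief factor
  obtain ⟨N, ⟨hNn, hP₀N, hNM⟩, hNmax⟩ :=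
    (Set.toFinite {N : Subgroup G | N.Normal ∧ P₀ ≤ N ∧ N < M}).exists_maximal
      ⟨P₀, hP₀n, le_rfl, lt_of_le_of_ne inf_le_right hP₀M⟩
  haveI := hNn
  letI := Fintype.ofFinite N
  have hchief : ∀ X : Subgroup G, X.Normal → N ≤ X → X ≤ M → X = N ∨ X = M := by
    intro X hX hNX hXM
    rcases lt_or_eq_of_le hXM with h | h
    · exact Or.inl (le_antisymm (hNmax ⟨hX, hP₀N.trans hNX, h⟩ hNX) hNX)
    · exact Or.inr h
  set π := QuotientGroup.mk' N with hπ
  have hπs : Function.Surjective π := QuotientGroup.mk'_surjective N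
  set Mb := M.map π with hMb
  haveI hMbn : Mb.Normal := hMn.map π hπs
  have hMb0 : Mb ≠ ⊥ := fun h => hNM.not_ge (by
    rwa [hMb, Subgroup.map_eq_bot_iff, QuotientGroup.ker_mk'] at h)
  have hminb : ∀ X : Subgroup (G ⧸ N), X.Normal → X ≤ Mb → X = ⊥ ∨ X = Mb := by
    intro X hX hXM
    have h1 : X.comap π ≤ M := by
      refine (Subgroup.comap_mono hXM).trans ?_
      rw [hMb, Subgroup.comap_map_eq, QuotientGroup.ker_mk']
      exact sup_le le_rfl hNM.le
    rcases hchief _ (hX.comap π) (by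
      intro y hy; show π y ∈ X; rw [show π y = 1 from (QuotientGroup.eq_one_iff y).mpr hy]
      exact one_mem _) h1 with h | h
    · refine Or.inl ?_
      rw [← Subgroup.map_comap_eq_self_of_surjective hπs X, h, QuotientGroup.map_mk'_self]
    · exact Or.inr (by rw [← Subgroup.map_comap_eq_self_of_surjective hπs X, h])
  have hMbab : ∀ a ∈ Mb, ∀ b ∈ Mb, a * b = b * a := by
    haveI : Group.IsSolvable (G ⧸ N) := inferInstance
    have hlt : ⁅Mb, Mb⁆ < Mb := Group.IsSolvable.commutator_lt_of_ne_bot hMb0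
    rcases hminb _ inferInstance hlt.le with h | h
    · intro a ha b hb
      rw [← commutatorElement_eq_one_iff_mul_comm, ← Subgroup.mem_bot, ← h]
      exact Subgroup.commutator_mem_commutator ha hb
    · exact absurd h hlt.ne
  obtain ⟨r, hr, hrd⟩ := Nat.exists_prime_and_dvd
    (show Nat.card Mb ≠ 1 from fun h => hMb0 (Subgroup.card_eq_one.mp h))
  haveI := Fact.mk hr
  obtain ⟨R⟩ := (inferInstance : Nonempty (Sylow r Mb))
  haveI : (R : Subgroup Mb).Normal := ⟨fun y hy g => by
    have : g * y = y * g := Subtype.ext (hMbab _ g.2 _ y.2)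
    rwa [this, mul_inv_cancel_right]⟩
  haveI := Sylow.characteristic_of_normal R inferInstance
  have hMbpow : ∃ k, 0 < k ∧ Nat.card Mb = r ^ k := by
    rcases hminb ((R : Subgroup Mb).map Mb.subtype) inferInstance (Subgroup.map_subtype_le _) with h | h
    · exfalso
      rw [Subgroup.map_eq_bot_iff_of_injective _ Mb.subtype_injective] at h
      have h1 := R.card_eq_multiplicity
      rw [h, Subgroup.card_bot] at h1
      exact absurd h1 (Nat.one_lt_pow (hr.factorization_pos_of_dvd Nat.card_pos.ne' hrd).ne'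
        hr.one_lt).ne
    · obtain ⟨k, hk⟩ := IsPGroup.iff_card.mp (R.isPGroup'.map Mb.subtype)
      rw [h] at hk
      refine ⟨k, Nat.pos_of_ne_zero fun h0 => ?_, hk⟩
      rw [h0, pow_zero] at hk
      exact hMb0 (Subgroup.card_eq_one.mp hk)
  -- the action of `P` is fixed point free
  have hfix : ∀ z ∈ Mb, (∀ y ∈ (P : Subgroup G), π y * z = z * π y) → z = 1 := by
    set C := Mb ⊓ Subgroup.centralizer (((P : Subgroup G).map π : Subgroup (G ⧸ N)) : Set (G ⧸ N))
    intro z hz hzP
    have hzC : z ∈ C := ⟨hz, Subgroup.mem_centralizer_iff.mpr (by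
      rintro _ ⟨y, hy, rfl⟩; exact hzP y hy)⟩
    have hCn : C.Normal := by
      refine Subgroup.normalizer_eq_top_iff.mp (top_le_iff.mp ?_)
      have h1 : (⊤ : Subgroup (G ⧸ N)) = Mb ⊔ (P : Subgroup G).map π := by
        rw [hMb, ← Subgroup.map_sup, hMP, Subgroup.map_top_of_surjective π hπs]
      rw [h1]
      refine sup_le (fun a ha => ?_) (fun a ha => ?_)
      · rw [Subgroup.mem_normalizer_iff]
        intro c
        constructor
        · intro hc
          rwa [hMbab a ha c hc.1, mul_inv_cancel_right]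
        · intro hc
          have hcM : c ∈ Mb := by
            have := hMbn.conj_mem _ hc.1 a⁻¹
            simpa [mul_assoc] using this
          rwa [hMbab a ha c hcM, mul_inv_cancel_right] at hc
      · rw [Subgroup.mem_normalizer_iff]
        intro c
        constructor
        · intro hc
          rwa [Subgroup.mem_centralizer_iff.mp hc.2 a ha, mul_inv_cancel_right]
        · intro hc
          have h2 := Subgroup.mem_centralizer_iff.mp hc.2 a ha
          have h3 : a * c * a⁻¹ = c := by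
            have := mul_left_cancel (h2.trans (by group : a * c * a⁻¹ * a = a * c))
            exact this
          rwa [h3] at hc
    rcases hminb C hCn inf_le_left with h | h
    · rw [h] at hzC; exact Subgroup.mem_bot.mp hzC
    exfalso
    have hNP : (N ⊔ (P : Subgroup G)).Normal := by
      refine Subgroup.normalizer_eq_top_iff.mp (top_le_iff.mp ?_)
      rw [← hMP]
      refine sup_le (fun a ha => ?_) (le_sup_right.trans Subgroup.le_normalizer)
      have hcomm : ∀ y ∈ (P : Subgroup G), a * y * a⁻¹ ∈ N ⊔ (P : Subgroup G) := by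
        intro y hy
        have h2 : π a ∈ C := h.ge ⟨a, ha, rfl⟩
        have h3 := Subgroup.mem_centralizer_iff.mp h2.2 (π y) ⟨y, hy, rfl⟩
        have h4 : a * y * a⁻¹ * y⁻¹ ∈ N := by
          rw [← QuotientGroup.eq_one_iff]
          show π (a * y * a⁻¹ * y⁻¹) = 1
          rw [map_mul, map_mul, map_mul, map_inv, map_inv, ← h3]
          group
        have h5 := Subgroup.mul_mem_sup h4 hy
        rwa [inv_mul_cancel_right] at h5
      have hle : (N ⊔ (P : Subgroup G)).map (MulAut.conj a).toMonoidHom ≤ N ⊔ (P : Subgroup G) := by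
        rw [Subgroup.map_sup, sup_le_iff]
        refine ⟨?_, ?_⟩
        · rintro _ ⟨y, hy, rfl⟩; exact Subgroup.mem_sup_left (hNn.conj_mem y hy a)
        · rintro _ ⟨y, hy, rfl⟩; exact hcomm y hy
      exact Subgroup.mem_normalizer_iff_map_conj_eq.mpr (Subgroup.eq_of_le_of_card_ge hle (le_of_eq
        (Nat.card_congr (Subgroup.equivMapOfInjective _ _ (MulAut.conj a).injective).toEquiv)))
    have h6 := hbig _ hNP le_sup_right
    refine hNM.not_ge fun a ha => ?_
    obtain ⟨b, hb, y, hy, rfl⟩ := Subgroup.mem_sup_of_normal_left.mp (h6.ge (Subgroup.mem_top a))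
    refine N.mul_mem hb (hP₀N ⟨hy, ?_⟩)
    have := M.mul_mem (M.inv_mem (hNM.le hb)) ha
    rwa [inv_mul_cancel_left] at this
  have hmod : Nat.card Mb ≡ 1 [MOD p] := by
    letI : MulAction (P : Subgroup G) Mb :=
      { smul := fun y z => ⟨π (y : G) * z * (π (y : G))⁻¹, hMbn.conj_mem _ z.2 _⟩
        one_smul := fun z => Subtype.ext (by
          show π ((1 : (P : Subgroup G)) : G) * z * (π ((1 : (P : Subgroup G)) : G))⁻¹ = z; simp)
        mul_smul := fun a b z => Subtype.ext (by
          show π ((a * b : (P : Subgroup G)) : G) * z * (π ((a * b : (P : Subgroup G)) : G))⁻¹ =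
            π (a : G) * (π (b : G) * z * (π (b : G))⁻¹) * (π (a : G))⁻¹
          simp [mul_assoc]) }
    have h1 := P.isPGroup'.card_modEq_card_fixedPoints (α := Mb)
    rwa [show Nat.card (MulAction.fixedPoints (P : Subgroup G) Mb) = 1 from ?_] at h1
    rw [Nat.card_eq_one_iff_unique]
    refine ⟨⟨fun a b => Subtype.ext ?_⟩, ⟨⟨1, fun y => Subtype.ext ?_⟩⟩⟩
    · have key : ∀ c : MulAction.fixedPoints (P : Subgroup G) Mb, c.1 = 1 := fun c =>
        Subtype.ext (hfix _ c.1.2 fun y hy => mul_inv_eq_iff_eq_mul.mp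
          (congrArg Subtype.val (c.2 ⟨y, hy⟩)))
      rw [key a, key b]
    · show π (y : G) * ((1 : Mb) : G ⧸ N) * (π (y : G))⁻¹ = _
      simp
  have hidx : N.relIndex M = Nat.card Mb := Thompson.relIndex_eq_card_map_mk' N M
  -- `χ` restricts irreducibly to `M`
  have hMab : commutator G ≤ M := by
    haveI : IsCyclic (G ⧸ M) := isCyclic_of_prime_card (p := p) hMp
    rw [commutator_def, Subgroup.commutator_le]
    intro a _ b _
    rw [← QuotientGroup.eq_one_iff]
    show QuotientGroup.mk' M ⁅a, b⁆ = 1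
    rw [map_commutatorElement, commutatorElement_eq_one_iff_mul_comm]
    letI := IsCyclic.commGroup (α := G ⧸ M)
    exact mul_comm _ _
  obtain ⟨θ, e, hθ, he, -, hcl⟩ := CharClifford.clifford_restrict M hχ
  have horbit : ∀ (X : Subgroup G) (Y : Subgroup X) [Y.Normal] [Fintype X] (φ : Y → ℂ),
      (CharClifford.conjOrbit Y φ).card = (Action.stab Y φ).index := by
    intro X Y _ _ φ
    rw [← Nat.card_eq_finsetCard, Subgroup.index]
    refine Nat.card_congr (Equiv.ofBijective (fun ψ : CharClifford.conjOrbit Y φ =>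
      QuotientGroup.mk (s := Action.stab Y φ) ((CharClifford.mem_conjOrbit Y).mp ψ.2).choose⁻¹)
      ⟨fun a b hab => ?_, fun y => ?_⟩)
    · have h1 := QuotientGroup.eq.mp hab
      rw [inv_inv] at h1
      have ha := ((CharClifford.mem_conjOrbit Y).mp a.2).choose_spec
      have hb := ((CharClifford.mem_conjOrbit Y).mp b.2).choose_spec
      set u := ((CharClifford.mem_conjOrbit Y).mp a.2).choose
      set v := ((CharClifford.mem_conjOrbit Y).mp b.2).choose
      have h2 : CharClifford.conjFun Y (u * v⁻¹) φ = φ := h1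
      refine Subtype.ext ?_
      rw [← ha, ← hb]
      conv_rhs => rw [← h2]
      rw [CharClifford.conjFun_conjFun, inv_mul_cancel_right]
    · obtain ⟨x, rfl⟩ := QuotientGroup.mk_surjective y
      refine ⟨⟨CharClifford.conjFun Y x⁻¹ φ, (CharClifford.mem_conjOrbit Y).mpr ⟨_, rfl⟩⟩,
        QuotientGroup.eq.mpr ?_⟩
      rw [inv_inv]
      set u := ((CharClifford.mem_conjOrbit Y).mp ((CharClifford.mem_conjOrbit Y).mpr ⟨x⁻¹, rfl⟩ :
        CharClifford.conjFun Y x⁻¹ φ ∈ CharClifford.conjOrbit Y φ)).choose with hu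
      have hu' : CharClifford.conjFun Y u φ = CharClifford.conjFun Y x⁻¹ φ :=
        ((CharClifford.mem_conjOrbit Y).mp ((CharClifford.mem_conjOrbit Y).mpr ⟨x⁻¹, rfl⟩ :
          CharClifford.conjFun Y x⁻¹ φ ∈ CharClifford.conjOrbit Y φ)).choose_spec
      show CharClifford.conjFun Y (u * x) φ = φ
      rw [← CharClifford.conjFun_conjFun, hu', CharClifford.conjFun_conjFun, inv_mul_cancel,
        CharClifford.conjFun_one]
  obtain ⟨dθ, hdθ⟩ := CharCore.IsCharacter.exists_degree (CharCore.IsIrrCharacter.isCharacter hθ)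
  have hdegM : n = e * (CharClifford.conjOrbit M θ).card * dθ := by
    have h1 := congrFun hcl 1
    simp only [Pi.smul_apply, smul_eq_mul, Finset.sum_apply, OneMemClass.coe_one, hn] at h1
    rw [Finset.sum_congr rfl (g := fun _ => (dθ : ℂ)) fun ψ hψ => by
      obtain ⟨y, rfl⟩ := (CharClifford.mem_conjOrbit M).mp hψ
      rw [CharClifford.conjFun_apply, ← hdθ]
      exact congrArg θ (Subtype.ext (by simp)), Finset.sum_const, nsmul_eq_mul, ← mul_assoc] at h1
    exact_mod_cast h1
  have hMstab : Action.stab M θ = ⊤ := by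
    have hle : M ≤ Action.stab M θ := fun x hx =>
      CharClifford.conjFun_of_mem M (CharCore.irr_isClassFunction ⟨θ, hθ⟩) hx
    by_contra hne
    refine hpn (hdegM ▸ Dvd.dvd.mul_right (Dvd.dvd.mul_left ?_ _) _)
    have h1 : (CharClifford.conjOrbit M θ).card = (Action.stab M θ).index := by
      rw [← Nat.card_eq_finsetCard, Subgroup.index]
      refine (Nat.card_congr (Equiv.ofBijective (fun y : G ⧸ Action.stab M θ =>
        (⟨CharClifford.conjFun M y.out⁻¹ θ, (CharClifford.mem_conjOrbit M).mpr ⟨_, rfl⟩⟩ :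
          CharClifford.conjOrbit M θ)) ⟨fun a b hab => ?_, fun ψ => ?_⟩)).symm
      · have h2 : CharClifford.conjFun M a.out⁻¹ θ = CharClifford.conjFun M b.out⁻¹ θ :=
          congrArg Subtype.val hab
        rw [← a.out_eq, ← b.out_eq]
        refine QuotientGroup.eq.mpr ?_
        show CharClifford.conjFun M (a.out⁻¹ * b.out) θ = θ
        rw [← CharClifford.conjFun_conjFun, h2, CharClifford.conjFun_conjFun, inv_mul_cancel,
          CharClifford.conjFun_one]
      · obtain ⟨x, hx⟩ := (CharClifford.mem_conjOrbit M).mp ψ.2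
        refine ⟨QuotientGroup.mk x⁻¹, Subtype.ext ?_⟩
        have h3 := QuotientGroup.eq.mp (QuotientGroup.out_eq' (QuotientGroup.mk x⁻¹ : G ⧸ Action.stab M θ))
        set o := (QuotientGroup.mk x⁻¹ : G ⧸ Action.stab M θ).out
        have h4 : CharClifford.conjFun M (o⁻¹ * x⁻¹) θ = θ := h3
        show CharClifford.conjFun M o⁻¹ θ = _
        rw [← hx]
        conv_rhs => rw [← h4]
        rw [CharClifford.conjFun_conjFun, inv_mul_cancel_right]
    rw [h1]
    have h2 := Subgroup.index_dvd_of_le hle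
    rw [hMp] at h2
    rcases (Nat.dvd_prime hpp).mp h2 with h | h
    · exact absurd (Subgroup.index_eq_one.mp h) hne
    · rw [h]
  have hθinv : ∀ g : G, CharClifford.conjFun M g θ = θ := fun g => hMstab.ge (Subgroup.mem_top g)
  have horbM : CharClifford.conjOrbit M θ = {θ} := by
    ext ψ
    rw [CharClifford.mem_conjOrbit, Finset.mem_singleton]
    exact ⟨fun ⟨g, hg⟩ => hg ▸ hθinv g, fun h => ⟨1, by rw [h, CharClifford.conjFun_one]⟩⟩
  have hresM : ∀ a : M, χ a = (e : ℂ) * θ a := fun a => by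
    have h1 := congrFun hcl a
    simpa [horbM] using h1
  have he1 : e = 1 := by
    have h1 := sq_eq_card_fixHoms M hMab hχ hθ hresM
    have h2 : Nat.card (fixHoms M χ) ∣ p := by
      refine (Subgroup.card_subgroup_dvd_card _).trans (dvd_of_eq ?_)
      letI : CommGroup (G ⧸ M) :=
        { (inferInstance : Group (G ⧸ M)) with
          mul_comm := fun a b => by
            haveI : IsCyclic (G ⧸ M) := isCyclic_of_prime_card (p := p) hMp
            exact IsCyclic.commGroup.mul_comm a b }
      rw [CommGroup.card_monoidHom_of_hasEnoughRootsOfUnity]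
      exact hMp
    rcases (Nat.dvd_prime hpp).mp h2 with h | h
    · rw [h] at h1; exact Nat.eq_one_of_mul_eq_one_right h1
    · exfalso
      rw [h] at h1
      exact (Nat.Prime.not_prime_pow (x := e) (n := 2) le_rfl) (by rw [sq, h1]; exact hpp)
  subst he1
  simp only [Nat.cast_one, one_mul] at hresM
  rw [horbM, Finset.card_singleton, one_mul, one_mul] at hdegM
  -- the restriction to `N`
  set N' := N.subgroupOf M
  letI := Fintype.ofFinite N'
  obtain ⟨φ, e', hφ, he', -, hcl'⟩ := CharClifford.clifford_restrict N' hθ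
  obtain ⟨dφ, hdφ⟩ := CharCore.IsCharacter.exists_degree (CharCore.IsIrrCharacter.isCharacter hφ)
  have hdegN : n = e' * (CharClifford.conjOrbit N' φ).card * dφ := by
    have h1 := congrFun hcl' 1
    simp only [Pi.smul_apply, smul_eq_mul, Finset.sum_apply, OneMemClass.coe_one, hdθ] at h1
    rw [Finset.sum_congr rfl (g := fun _ => (dφ : ℂ)) fun ψ hψ => by
      obtain ⟨y, rfl⟩ := (CharClifford.mem_conjOrbit N').mp hψ
      rw [CharClifford.conjFun_apply, ← hdφ]
      exact congrArg φ (Subtype.ext (by simp)), Finset.sum_const, nsmul_eq_mul, ← mul_assoc] at h1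
    rw [hdegM]
    exact_mod_cast h1
  set T := Action.stab N' φ with hT
  have hN'T : N' ≤ T := fun x hx =>
    CharClifford.conjFun_of_mem N' (CharCore.irr_isClassFunction ⟨φ, hφ⟩) hx
  have hMab' : commutator M ≤ N' := by
    rw [commutator_def, Subgroup.commutator_le]
    intro a _ b _
    rw [Subgroup.mem_subgroupOf, ← QuotientGroup.eq_one_iff]
    show π ((⁅a, b⁆ : M) : G) = 1
    rw [show ((⁅a, b⁆ : M) : G) = ⁅(a : G), (b : G)⁆ from rfl, map_commutatorElement,
      commutatorElement_eq_one_iff_mul_comm]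
    exact hMbab _ ⟨a, a.2, rfl⟩ _ ⟨b, b.2, rfl⟩
  haveI hTn : T.Normal := ⟨fun t ht x => by
    have h1 : x * t * x⁻¹ = (x * t * x⁻¹ * t⁻¹) * t := by group
    rw [h1]
    exact T.mul_mem (hN'T (hMab' (Subgroup.commutator_mem_commutator (Subgroup.mem_top x)
      (Subgroup.mem_top t)))) ht⟩
  have hNg : ∀ (g : G) (c : N'), g * ((c : M) : G) * g⁻¹ ∈ N := fun g c =>
    hNn.conj_mem _ (Subgroup.mem_subgroupOf.mp c.2) g
  let tw : G → (N' → ℂ) → N' → ℂ := fun g f c =>
    f ⟨⟨g * ((c : M) : G) * g⁻¹, hNM.le (hNg g c)⟩, hNg g c⟩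
  have horbinv : ∀ g : G, ∃ x : M, tw g φ = CharClifford.conjFun N' x φ := by
    intro g
    let c : N' ≃* N' :=
      { toFun := fun c => ⟨⟨g * ((c : M) : G) * g⁻¹, hNM.le (hNg g c)⟩, hNg g c⟩
        invFun := fun c => ⟨⟨g⁻¹ * ((c : M) : G) * g⁻¹⁻¹, hNM.le (hNg g⁻¹ c)⟩, hNg g⁻¹ c⟩
        left_inv := fun c => Subtype.ext (Subtype.ext (by simp [mul_assoc]))
        right_inv := fun c => Subtype.ext (Subtype.ext (by simp [mul_assoc]))
        map_mul' := fun a b => Subtype.ext (Subtype.ext (by simp [mul_assoc])) }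
    have hirr : IsIrrCharacter N' (tw g φ) :=
      CharCore.isIrrCharacter_comp_surjective hφ c.toMonoidHom c.surjective
    refine CharClifford.exists_conjFun_eq_of_constituents N' hθ hφ hirr ?_ ?_
    · intro h0
      have h1 := congrArg (fun F : N' → ℂ => classInner F φ) hcl'
      simp only [CharCore.classInner_smul_left, CharCore.classInner_sum_left] at h1
      rw [h0, Finset.sum_eq_single φ] at h1
      · rw [(CharCore.isIrrCharacter_iff.mp hφ).2, mul_one] at h1
        exact he'.ne' (by exact_mod_cast h1.symm)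
      · intro ψ hψ hne
        obtain ⟨x, rfl⟩ := (CharClifford.mem_conjOrbit N').mp hψ
        exact CharCore.classInner_irr_of_ne
          (χ := ⟨_, CharClifford.isIrrCharacter_conjFun N' hφ x⟩) (ψ := ⟨φ, hφ⟩)
          fun h => hne (congrArg Subtype.val h)
      · intro h
        exact absurd ((CharClifford.mem_conjOrbit N').mpr ⟨1, CharClifford.conjFun_one N' φ⟩) h
    · rw [show classInner (fun h : N' => θ h) (tw g φ) = classInner (fun h : N' => θ h) φ from ?_]
      · intro h0
        have h1 := congrArg (fun F : N' → ℂ => classInner F φ) hcl'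
        simp only [CharCore.classInner_smul_left, CharCore.classInner_sum_left] at h1
        rw [h0, Finset.sum_eq_single φ] at h1
        · rw [(CharCore.isIrrCharacter_iff.mp hφ).2, mul_one] at h1
          exact he'.ne' (by exact_mod_cast h1.symm)
        · intro ψ hψ hne
          obtain ⟨x, rfl⟩ := (CharClifford.mem_conjOrbit N').mp hψ
          exact CharCore.classInner_irr_of_ne
            (χ := ⟨_, CharClifford.isIrrCharacter_conjFun N' hφ x⟩) (ψ := ⟨φ, hφ⟩)
            fun h => hne (congrArg Subtype.val h)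
        · intro h
          exact absurd ((CharClifford.mem_conjOrbit N').mpr ⟨1, CharClifford.conjFun_one N' φ⟩) h
      rw [CharCore.classInner_def, CharCore.classInner_def]
      congr 1
      refine Fintype.sum_equiv c.toEquiv _ _ fun d => ?_
      have hθg : θ ((c d : N') : M) = θ (d : M) := by
        conv_rhs => rw [← hθinv g]
        rfl
      show θ (d : M) * conj (φ (c d)) = θ ((c d : N') : M) * conj (φ (c d))
      rw [hθg]
  have hTmap : (T.map M.subtype).Normal := by
    refine ⟨?_⟩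
    rintro _ ⟨t, ht, rfl⟩ g
    obtain ⟨x, hx⟩ := horbinv g
    refine ⟨⟨g * (t : G) * g⁻¹, hMn.conj_mem _ t.2 g⟩, ?_, rfl⟩
    show CharClifford.conjFun N' _ φ = φ
    have htx : CharClifford.conjFun N' t (CharClifford.conjFun N' x φ) = CharClifford.conjFun N' x φ := by
      have h1 : x * t * x⁻¹ ∈ T := hTn.conj_mem t ht x
      rw [CharClifford.conjFun_conjFun]
      conv_rhs => rw [← (show CharClifford.conjFun N' (x * t * x⁻¹) φ = φ from h1)]
      rw [CharClifford.conjFun_conjFun, inv_mul_cancel_right]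
    funext d
    have h2 : ∀ d : N', (tw g φ) ⟨⟨g⁻¹ * ((d : M) : G) * g⁻¹⁻¹, hNM.le (hNg g⁻¹ d)⟩, hNg g⁻¹ d⟩ = φ d :=
      fun d => congrArg φ (Subtype.ext (Subtype.ext (by simp [mul_assoc])))
    rw [← h2 d, hx, ← htx, ← hx]
    show φ _ = φ _
    exact congrArg φ (Subtype.ext (Subtype.ext (by simp [mul_assoc])))
  have hNTmap : N ≤ T.map M.subtype := fun y hy =>
    ⟨⟨y, hNM.le hy⟩, hN'T (Subgroup.mem_subgroupOf.mpr hy), rfl⟩
  obtain ⟨k, hk0, hkc⟩ := hMbpow
  have hprimepow : IsPrimePow (Nat.card Mb) := by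
    rw [hkc]; exact hr.isPrimePow.pow hk0.ne'
  rcases hchief _ hTmap hNTmap (Subgroup.map_subtype_le _) with hTN | hTM
  · -- a long orbit
    refine hgoal ⟨Nat.card Mb, hprimepow, ?_, Or.inr (Or.inr ?_)⟩
    · rw [hdegN]
      refine Dvd.dvd.mul_right (Dvd.dvd.mul_left (dvd_of_eq ?_) _) _
      rw [horbit M N' φ, ← hT, ← hidx, ← hTN, Subgroup.relIndex, Subgroup.subgroupOf,
        Subgroup.comap_map_eq_self_of_injective M.subtype_injective]
    · exact_mod_cast Int.natCast_modEq_iff.mpr hmod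
  have hTtop : T = ⊤ := by
    rw [← Subgroup.comap_map_eq_self_of_injective M.subtype_injective T, hTM]
    exact Subgroup.subgroupOf_self M
  have horbN : CharClifford.conjOrbit N' φ = {φ} := by
    ext ψ
    rw [CharClifford.mem_conjOrbit, Finset.mem_singleton]
    exact ⟨fun ⟨g, hg⟩ => hg ▸ (hTtop.ge (Subgroup.mem_top g) : g ∈ T),
      fun h => ⟨1, by rw [h, CharClifford.conjFun_one]⟩⟩
  have hresN : ∀ a : N', θ a = (e' : ℂ) * φ a := fun a => by
    have h1 := congrFun hcl' a
    simpa [horbN] using h1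
  rw [horbN, Finset.card_singleton, mul_one] at hdegN
  have hsq := sq_eq_card_fixHoms N' hMab' hθ hφ hresN
  set L := fixHoms N' θ
  -- the common kernel of `L`
  let D : Subgroup M :=
    { carrier := {x | ∀ l ∈ L, l (QuotientGroup.mk x) = 1}
      one_mem' := fun l _ => map_one l
      mul_mem' := fun {a b} ha hb l hl => by rw [QuotientGroup.mk_mul, map_mul, ha l hl, hb l hl, one_mul]
      inv_mem' := fun {a} ha l hl => by rw [QuotientGroup.mk_inv, map_inv, ha l hl, inv_one] }
  have hDn : (D.map M.subtype).Normal := by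
    refine ⟨?_⟩
    rintro _ ⟨x, hx, rfl⟩ g
    refine ⟨⟨g * (x : G) * g⁻¹, hMn.conj_mem _ x.2 g⟩, fun l hl => ?_, rfl⟩
    let c : M ≃* M := MulAut.conjNormal g
    have hcN : N' ≤ N'.comap c.toMonoidHom := fun y hy => by
      show ((c y : M) : G) ∈ N
      rw [MulAut.conjNormal_apply]
      exact hNn.conj_mem _ hy g
    let l' : M ⧸ N' →* ℂˣ := l.comp (QuotientGroup.map N' N' c.toMonoidHom hcN)
    have hl' : l' ∈ L := by
      intro y
      have hθy : θ (c y) = θ y := by
        conv_rhs => rw [← hθinv g]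
        exact congrArg θ (Subtype.ext (MulAut.conjNormal_apply g y))
      have h1 := hl (c y)
      rw [hθy] at h1
      exact h1
    have h1 := hx l' hl'
    show l (QuotientGroup.mk _) = 1
    rw [show (⟨g * (x : G) * g⁻¹, hMn.conj_mem _ x.2 g⟩ : M) = c x from
      Subtype.ext (MulAut.conjNormal_apply g x).symm]
    exact h1
  have hND : N ≤ D.map M.subtype := fun y hy => ⟨⟨y, hNM.le hy⟩, fun l _ => by
    rw [(QuotientGroup.eq_one_iff _).mpr (Subgroup.mem_subgroupOf.mpr hy :
      (⟨y, hNM.le hy⟩ : M) ∈ N'), map_one], rfl⟩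
  have hcardq : Nat.card (M ⧸ N') = Nat.card Mb := by rw [← hidx]; rfl
  letI : CommGroup (M ⧸ N') :=
    { (inferInstance : Group (M ⧸ N')) with
      mul_comm := fun a b => by
        obtain ⟨a, rfl⟩ := QuotientGroup.mk'_surjective N' a
        obtain ⟨b, rfl⟩ := QuotientGroup.mk'_surjective N' b
        rw [← commutatorElement_eq_one_iff_mul_comm, ← map_commutatorElement]
        exact (QuotientGroup.eq_one_iff _).mpr (hMab' (Subgroup.commutator_mem_commutator
          (Subgroup.mem_top a) (Subgroup.mem_top b))) }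
  have hLle : Nat.card L ≤ Nat.card Mb := by
    rw [← hcardq, ← CommGroup.card_monoidHom_of_hasEnoughRootsOfUnity (M ⧸ N') ℂ]
    exact Subgroup.card_le_card_group _
  rcases hchief _ hDn hND (Subgroup.map_subtype_le _) with hDN | hDM
  · -- fully ramified
    have hge : Nat.card Mb ≤ Nat.card L := by
      let ev : M ⧸ N' →* (L →* ℂˣ) :=
        { toFun := fun a => { toFun := fun l => l.1 a, map_one' := rfl, map_mul' := fun _ _ => rfl }
          map_one' := MonoidHom.ext fun l => map_one l.1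
          map_mul' := fun a b => MonoidHom.ext fun l => map_mul l.1 a b }
      have hinj : Function.Injective ev := by
        rw [injective_iff_map_eq_one]
        intro a ha
        obtain ⟨x, rfl⟩ := QuotientGroup.mk'_surjective N' a
        refine (QuotientGroup.eq_one_iff x).mpr (Subgroup.mem_subgroupOf.mpr ?_)
        rw [← hDN]
        exact ⟨x, fun l hl => DFunLike.congr_fun ha ⟨l, hl⟩, rfl⟩
      rw [← hcardq, ← CommGroup.card_monoidHom_of_hasEnoughRootsOfUnity L ℂ]
      exact Nat.card_le_card_of_injective ev hinj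
    have hL : Nat.card L = Nat.card Mb := le_antisymm hLle hge
    rw [hL] at hsq
    refine hgoal ⟨e', ?_, hdegN ▸ dvd_mul_right _ _, ?_⟩
    · have he'2 : e' ∣ r ^ k := hkc ▸ hsq ▸ dvd_mul_right _ _
      obtain ⟨j, -, hj⟩ := (Nat.dvd_prime_pow hr).mp he'2
      rw [hj]
      refine hr.isPrimePow.pow fun h0 => ?_
      rw [hj, h0, pow_zero, one_mul] at hsq
      exact hMb0 (Subgroup.card_eq_one.mp hsq.symm)
    · have h1 : ((e' : ℤ) * e') ≡ 1 [ZMOD p] := by
        have := Int.natCast_modEq_iff.mpr hmod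
        rw [← hsq] at this
        exact_mod_cast this
      have h2 : (p : ℤ) ∣ ((e' : ℤ) - 1) * ((e' : ℤ) + 1) := by
        have := h1.symm.dvd
        rwa [show ((e' : ℤ) - 1) * ((e' : ℤ) + 1) = (e' : ℤ) * e' - 1 by ring]
      rcases (Nat.prime_iff_prime_int.mp hpp).dvd_mul.mp h2 with h | h
      · exact Or.inr (Or.inr (Int.modEq_iff_dvd.mpr (by rwa [← dvd_neg, neg_sub])))
      · exact Or.inl (Int.modEq_iff_dvd.mpr (by rwa [← dvd_neg, neg_sub, sub_neg_eq_add]))
  -- the restriction to `N` is irreducible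
  have hL1 : Nat.card L = 1 := by
    rw [Nat.card_eq_one_iff_unique]
    refine ⟨⟨fun a b => ?_⟩, inferInstance⟩
    have key : ∀ l : L, l = 1 := fun l => Subtype.ext (MonoidHom.ext fun a => by
      obtain ⟨x, rfl⟩ := QuotientGroup.mk'_surjective N' a
      obtain ⟨x', hx', hxx⟩ := hDM.ge x.2
      rw [Subtype.ext (hxx : (x' : G) = x)] at hx'
      exact hx' l.1 l.2)
    rw [key a, key b]
  rw [hL1] at hsq
  obtain rfl : e' = 1 := Nat.eq_one_of_mul_eq_one_right hsq
  rw [one_mul] at hdegN
  -- the subgroup `N P`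
  set X := N ⊔ (P : Subgroup G) with hX
  have hXt : X ≠ ⊤ := by
    intro h
    refine hNM.not_ge fun a ha => ?_
    obtain ⟨b, hb, y, hy, rfl⟩ := Subgroup.mem_sup_of_normal_left.mp (h.ge (Subgroup.mem_top a))
    refine N.mul_mem hb (hP₀N ⟨hy, ?_⟩)
    have := M.mul_mem (M.inv_mem (hNM.le hb)) ha
    rwa [inv_mul_cancel_left] at this
  letI := Fintype.ofFinite X
  have hirrX : IsIrrCharacter X (fun x : X => χ x) := by
    have hc := CharCore.isCharacter_restrict hχc X
    obtain ⟨ξ, hξ⟩ := CharClifford.exists_constituent hc (by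
      show χ ((1 : X) : G) ≠ 0
      rw [OneMemClass.coe_one]
      exact CharCore.irr_apply_one_ne_zero ⟨χ, hχ⟩)
    obtain ⟨a, ha⟩ := CharCore.IsCharacter.exists_sum hc
    have hmap : ∀ d : N', ((d : M) : G) ∈ X := fun d =>
      Subgroup.mem_sup_left (Subgroup.mem_subgroupOf.mp d.2)
    have hcN : ∀ ζ : IrrCharacter X, IsCharacter N' (fun d : N' => (ζ : X → ℂ) ⟨_, hmap d⟩) :=
      fun ζ => CharCore.isCharacter_comp (CharCore.irr_isCharacter ζ)
        ((M.subtype.comp N'.subtype).codRestrict X hmap)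
    choose b hb using fun ζ : IrrCharacter X =>
      CharCore.IsCharacter.exists_classInner_irr_eq_natCast (hcN ζ) ⟨φ, hφ⟩
    have h1 : ∑ ζ, a ζ * b ζ = 1 := by
      apply Nat.cast_injective (R := ℂ)
      push_cast
      rw [← (CharCore.isIrrCharacter_iff.mp hφ).2,
        show φ = ∑ ζ, (a ζ : ℂ) • (fun d : N' => (ζ : X → ℂ) ⟨_, hmap d⟩) from funext fun d => by
          have h2 := congrFun ha ⟨_, hmap d⟩
          simp only [Finset.sum_apply, Pi.smul_apply] at h2 ⊢
          rw [← h2, hresM (d : M), hresN d, Nat.cast_one, one_mul]]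
      conv_rhs => rw [CharCore.classInner_sum_left]
      refine Finset.sum_congr rfl fun ζ _ => ?_
      rw [CharCore.classInner_smul_left]
      congr 1
      rw [← hb ζ]
      congr 1
      funext d
      simp only [Finset.sum_apply, Pi.smul_apply]
      have h2 := congrFun ha ⟨_, hmap d⟩
      simp only [Finset.sum_apply, Pi.smul_apply] at h2
      rw [← h2, hresM (d : M), hresN d, Nat.cast_one, one_mul]
    -- the degree of a constituent cannot be smaller
    have hpos : ∀ ζ : IrrCharacter X, a ζ ≠ 0 → b ζ ≠ 0 := by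
      intro ζ hζ hb0
      obtain ⟨m', hm'⟩ := CharCore.IsCharacter.exists_sum (hcN ζ)
      obtain ⟨η, hη⟩ := CharClifford.exists_constituent (hcN ζ) (by
        show (ζ : X → ℂ) ⟨((1 : N') : M), hmap 1⟩ ≠ 0
        exact CharCore.irr_apply_one_ne_zero ζ)
      have hηφ : η = ⟨φ, hφ⟩ := by
        by_contra hne
        choose c hc' using fun ζ : IrrCharacter X =>
          CharCore.IsCharacter.exists_classInner_irr_eq_natCast (hcN ζ) η
        have h3 : ∑ ζ', a ζ' * c ζ' = 0 := by
          apply Nat.cast_injective (R := ℂ)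
          push_cast
          rw [← CharCore.classInner_irr_of_ne (fun h => hne h.symm),
            show ((⟨φ, hφ⟩ : IrrCharacter N') : N' → ℂ) =
              ∑ ζ', (a ζ' : ℂ) • (fun d : N' => (ζ' : X → ℂ) ⟨_, hmap d⟩) from funext fun d => by
              have h2 := congrFun ha ⟨_, hmap d⟩
              simp only [Finset.sum_apply, Pi.smul_apply] at h2 ⊢
              rw [← h2, hresM (d : M), hresN d, Nat.cast_one, one_mul],
            CharCore.classInner_sum_left]
          exact Finset.sum_congr rfl fun ζ' _ => by rw [CharCore.classInner_smul_left, hc']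
        have h4 := Finset.sum_eq_zero_iff.mp h3 ζ (Finset.mem_univ _)
        exact hη (by rw [hc', (Nat.mul_eq_zero.mp h4).resolve_left hζ, Nat.cast_zero])
      rw [hηφ] at hη
      exact hη (by rw [hb, hb0, Nat.cast_zero])
    have hξa : a ξ ≠ 0 := fun h0 => hξ (by
      rw [ha, CharCore.classInner_sum_all, h0, Nat.cast_zero])
    have huniq : ∀ ζ, ζ ≠ ξ → a ζ = 0 := by
      intro ζ hne
      by_contra hζ
      have h5 := Finset.add_le_sum (f := fun ζ => a ζ * b ζ) (fun i _ => Nat.zero_le _)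
        (Finset.mem_univ ξ) (Finset.mem_univ ζ) (Ne.symm hne)
      have := Nat.pos_of_ne_zero (Nat.mul_ne_zero hξa (hpos ξ hξa))
      have := Nat.pos_of_ne_zero (Nat.mul_ne_zero hζ (hpos ζ hζ))
      omega
    rw [Finset.sum_eq_single ξ (fun ζ _ hne => by rw [huniq ζ hne, Nat.zero_mul]) (by simp)] at h1
    rw [show (fun x : X => χ x) = _ from ha,
      Finset.sum_eq_single ξ (fun ζ _ hne => by rw [huniq ζ hne, Nat.cast_zero, zero_smul]) (by simp),
      Nat.eq_one_of_mul_eq_one_right h1, Nat.cast_one, one_smul]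
    exact ξ.2
  have hPX : (P : Subgroup G) ≤ X := le_sup_right
  have hPn : (P.subtype hPX : Subgroup X).Normal := by
    by_contra hnn
    have hlt : Nat.card X < m := hG ▸ lt_of_le_of_ne (Subgroup.card_le_card_group X)
      (fun h => hXt (Subgroup.eq_top_of_card_eq X h))
    exact hgoal (ih _ hlt X rfl inferInstance _ _ n hirrX (fun g hg => Subtype.ext (hfaith g hg))
      hn hnn)
  -- `P` is abelian
  have hPab : ∀ a ∈ (P : Subgroup G), ∀ b ∈ (P : Subgroup G), a * b = b * a := by
    set S := (P.subtype hPX : Subgroup X)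
    letI := Fintype.ofFinite S
    intro a ha b hb
    have hc := CharCore.isCharacter_restrict (CharCore.IsIrrCharacter.isCharacter hirrX) S
    have key : ⁅(⟨⟨a, hPX ha⟩, ha⟩ : S), (⟨⟨b, hPX hb⟩, hb⟩ : S)⁆ = (1 : S) := by
      refine eq_one_of_constituents hc (fun g hg => Subtype.ext (Subtype.ext (hfaith _ hg))) fun η hη => ?_
      haveI := hPn
      obtain ⟨dη, hdη⟩ := CharCore.IsCharacter.exists_degree (CharCore.irr_isCharacter η)
      obtain ⟨θS, eS, hθS, -, -, hclS⟩ := CharClifford.clifford_restrict S hirrX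
      obtain ⟨x, hx⟩ : ∃ x : X, CharClifford.conjFun S x θS = (η : S → ℂ) := by
        by_contra hne
        push Not at hne
        apply hη
        show classInner (fun h : S => χ ((h : X) : G)) (η : S → ℂ) = 0
        rw [hclS, CharCore.classInner_smul_left, CharCore.classInner_sum_left,
          Finset.sum_eq_zero fun ψ hψ => ?_, mul_zero]
        obtain ⟨x, rfl⟩ := (CharClifford.mem_conjOrbit S).mp hψ
        exact CharCore.classInner_irr_of_ne
          (χ := ⟨_, CharClifford.isIrrCharacter_conjFun S hθS x⟩) (ψ := η)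
          fun h => hne x (congrArg Subtype.val h)
      have hd1 : dη = 1 := by
        have hθ1 : θS 1 = (dη : ℂ) := by
          rw [← hdη, ← hx, CharClifford.conjFun_apply]
          exact congrArg θS (Subtype.ext (by simp))
        have h1 := congrFun hclS 1
        simp only [Pi.smul_apply, smul_eq_mul, Finset.sum_apply, OneMemClass.coe_one, hn] at h1
        rw [Finset.sum_congr rfl (g := fun _ => (dη : ℂ)) fun ψ hψ => by
          obtain ⟨y, rfl⟩ := (CharClifford.mem_conjOrbit S).mp hψ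
          rw [CharClifford.conjFun_apply, ← hθ1]
          exact congrArg θS (Subtype.ext (by simp)), Finset.sum_const, nsmul_eq_mul, ← mul_assoc] at h1
        have h2 : n = eS * (CharClifford.conjOrbit S θS).card * dη := by exact_mod_cast h1
        have hdvd : dη ∣ Nat.card S := by
          have := BlocksCore.charDegree_dvd_card η
          rwa [charDegree, hdη, Complex.natCast_re, Nat.floor_natCast] at this
        obtain ⟨j, hj⟩ := IsPGroup.iff_card.mp (P.subtype hPX).isPGroup'
        rw [hj] at hdvd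
        obtain ⟨i, -, hi⟩ := (Nat.dvd_prime_pow hpp).mp hdvd
        rcases Nat.eq_zero_or_pos i with h | h
        · rw [hi, h, pow_zero]
        · exact absurd ((dvd_pow_self p h.ne').trans (hi ▸ h2 ▸ dvd_mul_left _ _)) hpn
      obtain ⟨f, hf⟩ := CharCore.IsCharacter.exists_hom_of_degree_one (CharCore.irr_isCharacter η)
        (by rw [hdη, hd1, Nat.cast_one])
      rw [hf]
      simp only [map_commutatorElement, map_one]
      rw [commutatorElement_eq_one_iff_mul_comm.mpr (mul_comm (f _) (f _))]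
    have h2 : ⁅a, b⁆ = 1 := congrArg (fun s : S => ((s : X) : G)) key
    exact commutatorElement_eq_one_iff_mul_comm.mp h2
  -- `P₀` is central and `N` is central modulo `P₀`
  have hP₀c : ∀ y ∈ P₀, ∀ g : G, g * y = y * g := by
    intro y hy g
    have hle : (P : Subgroup G) ≤ Subgroup.centralizer (P₀ : Set G) := fun a ha =>
      Subgroup.mem_centralizer_iff.mpr fun b hb => hPab b hb.1 a ha
    haveI : (Subgroup.centralizer (P₀ : Set G)).Normal := Subgroup.normal_centralizer
    exact (Subgroup.mem_centralizer_iff.mp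
      ((hbig _ inferInstance hle).ge (Subgroup.mem_top g)) y hy).symm
  haveI := hP₀n
  set π₀ := QuotientGroup.mk' P₀
  have hNc : ∀ a ∈ N, ∀ g : G, π₀ g * π₀ a = π₀ a * π₀ g := by
    intro a ha g
    haveI : (N.map π₀).Normal := hNn.map π₀ (QuotientGroup.mk'_surjective P₀)
    set C := (Subgroup.centralizer ((N.map π₀ : Subgroup (G ⧸ P₀)) : Set (G ⧸ P₀))).comap π₀
    have hCn : C.Normal := Subgroup.normal_centralizer.comap π₀
    have hle : (P : Subgroup G) ≤ C := by
      intro y hy
      refine Subgroup.mem_centralizer_iff.mpr ?_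
      rintro _ ⟨b, hb, rfl⟩
      have h1 : b * y * b⁻¹ * y⁻¹ ∈ P₀ := by
        refine ⟨Subgroup.mul_mem _ ?_ ((P : Subgroup G).inv_mem hy), ?_⟩
        · exact hPn.conj_mem (⟨y, hPX hy⟩ : X) hy ⟨b, Subgroup.mem_sup_left hb⟩
        · rw [show b * y * b⁻¹ * y⁻¹ = b * (y * b⁻¹ * y⁻¹) by group]
          exact M.mul_mem (hNM.le hb) (hMn.conj_mem _ (M.inv_mem (hNM.le hb)) y)
      have h2 : π₀ (b * y * b⁻¹ * y⁻¹) = 1 := (QuotientGroup.eq_one_iff _).mpr h1
      simp only [map_mul, map_inv, mul_inv_eq_one, mul_inv_eq_iff_eq_mul, one_mul] at h2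
      exact h2
    exact (Subgroup.mem_centralizer_iff.mp ((hbig _ hCn hle).ge (Subgroup.mem_top g))
      (π₀ a) ⟨a, ha, rfl⟩).symm
  have hNab : ∀ a b : N', a * b = b * a := by
    rintro ⟨⟨a, haM⟩, ha⟩ ⟨⟨b, hbM⟩, hb⟩
    have ha' : a ∈ N := ha
    have hb' : b ∈ N := hb
    refine Subtype.ext (Subtype.ext ?_)
    show a * b = b * a
    set c := ⁅a, b⁆ with hc
    have hcP : c ∈ P₀ := by
      rw [← QuotientGroup.eq_one_iff]
      show π₀ c = 1
      rw [hc, map_commutatorElement, commutatorElement_eq_one_iff_mul_comm]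
      exact hNc b hb' a
    obtain ⟨t, ht⟩ := IsPGroup.iff_orderOf.mp P.isPGroup' ⟨c, hcP.1⟩
    rw [Subgroup.orderOf_mk] at ht
    have hpow : ∀ i : ℕ, ⁅a ^ i, b⁆ = c ^ i := by
      intro i
      induction i with
      | zero => simp [commutatorElement_def]
      | succ i ihi =>
        have h1 : ⁅a ^ (i + 1), b⁆ = a * ⁅a ^ i, b⁆ * a⁻¹ * ⁅a, b⁆ := by
          rw [pow_succ']; simp [commutatorElement_def, mul_assoc]
        rw [h1, ihi, hP₀c _ (P₀.pow_mem hcP i) a, mul_inv_cancel_right, pow_succ]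
    have hcop : ¬ p ∣ P₀.relIndex N := by
      intro hd
      obtain ⟨S, hS⟩ := Transfer.exists_sylow_subgroupOf_normal P N
      refine S.not_dvd_index ?_
      rw [hS]
      refine hd.trans (Subgroup.index_dvd_of_le fun y hy => ?_)
      exact Subgroup.mem_subgroupOf.mpr ⟨hy, hNM.le y.2⟩
    have hk : a ^ P₀.relIndex N ∈ P₀ := by
      have h1 : (⟨a, ha'⟩ : N) ^ (P₀.subgroupOf N).index ∈ P₀.subgroupOf N :=
        Subgroup.pow_index_mem _ _
      simpa [Subgroup.mem_subgroupOf, Subgroup.relIndex] using h1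
    have h3 : c ^ P₀.relIndex N = 1 := by
      rw [← hpow, commutatorElement_eq_one_iff_mul_comm]
      exact (hP₀c _ hk b).symm
    have h4 : c = 1 := by
      have := pow_gcd_eq_one.mpr ⟨h3, show c ^ p ^ t = 1 by rw [← ht]; exact pow_orderOf_eq_one c⟩
      rwa [(Nat.Coprime.pow_right t ((hpp.coprime_iff_not_dvd.mpr hcop).symm)).gcd_eq_one, pow_one]
        at this
    rw [hc] at h4
    exact commutatorElement_eq_one_iff_mul_comm.mp h4
  obtain ⟨f, hf⟩ := CharB.exists_hom_of_isIrr_comm hNab hφ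
  have hn1 : n = 1 := by
    rw [hdegN]
    have h1 : φ 1 = 1 := by rw [hf]; simp
    rw [hdφ] at h1
    exact_mod_cast h1
  obtain ⟨l, hl⟩ := CharCore.IsCharacter.exists_hom_of_degree_one hχc
    (by rw [hn, hn1, Nat.cast_one])
  refine hP ⟨fun y hy g => ?_⟩
  have h1 : g * y * g⁻¹ * y⁻¹ = 1 := hfaith _ (by rw [hl]; simp)
  rw [mul_inv_eq_one] at h1
  rwa [h1]

end Cfsg.Agent.BlkChar.Solv
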