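import Cfsg.Agent.BlkChar.LargePrimes
import Cfsg.Agent.Lib.CharCore.ConjAut
import Cfsg.Agent.Lib.BlocksDefect.Central
import Cfsg.Agent.CharB.FeitThompsonTI
import Mathlib.GroupTheory.Transfer

/-!
# Sylow subgroups all of whose non-identity elements have the same centralizer: small characters

A class function is estimated by its restriction to the centralizer of the Sylow subgroup, whose
non-central elements lie in one conjugate only.
-/

set_option linter.unusedSectionVars false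

open Cfsg
open scoped ComplexConjugate

namespace Cfsg.Agent.BlkChar.TI

universe u

variable {G : Type u} [Group G] [Fintype G] {p : ℕ} [hp : Fact p.Prime] (P : Sylow p G)

/-- The centralizer of the Sylow subgroup. -/
abbrev tiC : Subgroup G := Subgroup.centralizer ((P : Subgroup G) : Set G)

/-- The normalizer of the Sylow subgroup. -/
abbrev tiN : Subgroup G := Subgroup.normalizer ((P : Subgroup G) : Set G)

omit [Fintype G] in
theorem conj_mem_tiC : ∀ n ∈ tiN P, ∀ c ∈ tiC P, n * c * n⁻¹ ∈ tiC P := by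
  intro n hn c hc
  refine Subgroup.mem_centralizer_iff.mpr fun z hz => ?_
  have h1 : n⁻¹ * z * n ∈ (P : Subgroup G) := by
    have := (Subgroup.mem_normalizer_iff.mp ((tiN P).inv_mem hn) z).mp hz
    rwa [inv_inv] at this
  have h2 := Subgroup.mem_centralizer_iff.mp hc _ h1
  calc z * (n * c * n⁻¹) = n * ((n⁻¹ * z * n) * c) * n⁻¹ := by group
    _ = n * (c * (n⁻¹ * z * n)) * n⁻¹ := by rw [h2]
    _ = n * c * n⁻¹ * z := by group

/-- Conjugation of the centralizer by the normalizer. -/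
noncomputable def tiConj : tiN P →* MulAut (tiC P) :=
  CharCore.conjAut (tiC P) (tiN P) (conj_mem_tiC P)

/-- The conjugate character. -/
noncomputable def tiTwist (n : tiN P) (ψ : IrrCharacter (tiC P)) : IrrCharacter (tiC P) :=
  ⟨fun c => (ψ : tiC P → ℂ) (tiConj P n c),
    CharCore.isIrrCharacter_comp_surjective ψ.2 (tiConj P n).toMonoidHom (tiConj P n).surjective⟩

theorem tiTwist_tiTwist (n m : tiN P) (ψ : IrrCharacter (tiC P)) :
    tiTwist P n (tiTwist P m ψ) = tiTwist P (m * n) ψ := by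
  refine Subtype.ext (funext fun c => ?_)
  show (ψ : tiC P → ℂ) (tiConj P m (tiConj P n c)) = (ψ : tiC P → ℂ) (tiConj P (m * n) c)
  rw [map_mul]; rfl

theorem tiTwist_one (ψ : IrrCharacter (tiC P)) : tiTwist P 1 ψ = ψ := by
  refine Subtype.ext (funext fun c => ?_)
  show (ψ : tiC P → ℂ) (tiConj P 1 c) = _
  rw [map_one]; rfl

theorem tiTwist_of_mem (n : tiN P) (hn : (n : G) ∈ tiC P) (ψ : IrrCharacter (tiC P)) :
    tiTwist P n ψ = ψ := by
  refine Subtype.ext (funext fun c => ?_)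
  show (ψ : tiC P → ℂ) (tiConj P n c) = _
  have : tiConj P n c = (⟨n, hn⟩ : tiC P) * c * (⟨n, hn⟩ : tiC P)⁻¹ := Subtype.ext rfl
  rw [this]
  exact CharCore.irr_isClassFunction ψ c ⟨n, hn⟩

/-- The `e = [N : C]`. -/
noncomputable def tiE : ℕ := ((tiC P).subgroupOf (tiN P)).index

omit [Fintype G] in
theorem tiC_le_tiN : tiC P ≤ tiN P := Subgroup.centralizer_le_normalizer _

theorem card_tiN : Nat.card (tiN P) = Nat.card (tiC P) * tiE P := by
  rw [tiE, ← Nat.card_congr (Subgroup.subgroupOfEquivOfLe (tiC_le_tiN P)).toEquiv,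
    Subgroup.card_mul_index]

theorem tiE_pos : 0 < tiE P := Nat.pos_of_ne_zero Subgroup.FiniteIndex.index_ne_zero

variable (hstar : ∀ x ∈ (P : Subgroup G), x ≠ 1 →
  Subgroup.centralizer ({x} : Set G) = Subgroup.centralizer ((P : Subgroup G) : Set G))

section
include hstar

omit [Fintype G] hp in
theorem P_le_tiC : (P : Subgroup G) ≤ tiC P := by
  intro y hy
  by_cases hy1 : y = 1
  · rw [hy1]; exact (tiC P).one_mem
  · rw [tiC, ← hstar y hy hy1]
    exact Subgroup.mem_centralizer_singleton_iff.mpr rfl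

omit [Fintype G] in
theorem mem_P_of_mem_tiC {y : G} (hy : y ∈ tiC P) (hyp : ∃ k : ℕ, orderOf y = p ^ k) :
    y ∈ (P : Subgroup G) := by
  obtain ⟨k, hk⟩ := hyp
  have hY : IsPGroup p (Subgroup.zpowers y) :=
    IsPGroup.of_card (n := k) (by rw [Nat.card_zpowers, hk])
  have hle : Subgroup.zpowers y ≤ tiN P :=
    Subgroup.zpowers_le.mpr (tiC_le_tiN P hy)
  have h := IsPGroup.to_sup_of_normal_right' hY P.2 hle
  have h2 := P.3 h le_sup_right
  rw [← h2]
  exact Subgroup.mem_sup_left (Subgroup.mem_zpowers y)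

theorem mem_center_of_mem_P {c : tiC P} (hc : (c : G) ∈ (P : Subgroup G)) :
    c ∈ Subgroup.center (tiC P) :=
  Subgroup.mem_center_iff.mpr fun d => Subtype.ext (Subgroup.mem_centralizer_iff.mp d.2 c hc).symm

/-- The linear character of `P` under a character of the centralizer. -/
theorem exists_lin (ψ : IrrCharacter (tiC P)) :
    ∃ l : (P : Subgroup G) →* ℂˣ, ∀ (c : tiC P) (z : (P : Subgroup G)) (w : tiC P),
      (w : G) = z → (ψ : tiC P → ℂ) (c * w) = (l z : ℂ) * (ψ : tiC P → ℂ) c := by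
  let j : (P : Subgroup G) →* tiC P := Subgroup.inclusion (P_le_tiC P hstar)
  have hj : ∀ z, j z ∈ Subgroup.center (tiC P) := fun z => mem_center_of_mem_P P hstar z.2
  let l0 : (P : Subgroup G) →* ℂ :=
    { toFun := fun z => BlocksDefect.cval ψ (j z)
      map_one' := by rw [map_one, BlocksDefect.cval_one]
      map_mul' := fun a b => by rw [map_mul, BlocksDefect.cval_mul ψ (hj b), mul_comm] }
  refine ⟨l0.toHomUnits, fun c z w hw => ?_⟩
  rw [show w = j z from Subtype.ext hw, BlocksDefect.apply_mul_of_center ψ (hj z) c]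
  rfl


end

/-- Non-trivial on the Sylow subgroup. -/
def Nt (ψ : IrrCharacter (tiC P)) : Prop :=
  ∃ c : tiC P, (c : G) ∈ (P : Subgroup G) ∧ (ψ : tiC P → ℂ) c ≠ (ψ : tiC P → ℂ) 1

/-- Conjugate under the normalizer. -/
def Conjug (ψ φ : IrrCharacter (tiC P)) : Prop := ∃ n : tiN P, tiTwist P n ψ = φ

section
include hstar


/-- An element outside the centralizer has every element of `P` as a commutator. -/
theorem exists_commutator_eq (n : tiN P) (hn : (n : G) ∉ tiC P) {y : G}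
    (hy : y ∈ (P : Subgroup G)) :
    ∃ z ∈ (P : Subgroup G), z⁻¹ * ((n : G) * z * (n : G)⁻¹) = y := by
  have hconj : ∀ z : (P : Subgroup G), (n : G) * z * (n : G)⁻¹ ∈ (P : Subgroup G) := fun z =>
    (Subgroup.mem_normalizer_iff.mp n.2 z).mp z.2
  let δ : ↥(P : Subgroup G) → ↥(P : Subgroup G) := fun z => z⁻¹ * ⟨_, hconj z⟩
  have hδ : Function.Injective δ := by
    intro a b hab
    by_contra hne
    set w : (P : Subgroup G) := b * a⁻¹ with hw
    have hw1 : (w : G) ≠ 1 := fun h1 => hne (by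
      have h2 : w = 1 := Subtype.ext h1
      rw [hw, mul_inv_eq_one] at h2; exact h2.symm)
    have hab' : (a : G)⁻¹ * ((n : G) * a * (n : G)⁻¹) = (b : G)⁻¹ * ((n : G) * b * (n : G)⁻¹) :=
      congrArg Subtype.val hab
    have hab2 : ((n : G) * a * (n : G)⁻¹) = (a : G) * (b : G)⁻¹ * ((n : G) * b * (n : G)⁻¹) := by
      rw [mul_assoc (a : G), ← hab', mul_inv_cancel_left]
    have h3 : (n : G) * (w : G) * (n : G)⁻¹ = (w : G) := by
      calc (n : G) * (w : G) * (n : G)⁻¹
          = ((n : G) * b * (n : G)⁻¹) * ((n : G) * a * (n : G)⁻¹)⁻¹ := by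
            simp only [hw, Subgroup.coe_mul, Subgroup.coe_inv]; group
        _ = (b : G) * (a : G)⁻¹ := by rw [hab2]; group
        _ = (w : G) := by simp [hw]
    apply hn
    rw [tiC, ← hstar w w.2 hw1]
    exact Subgroup.mem_centralizer_singleton_iff.mpr (mul_inv_eq_iff_eq_mul.mp h3)
  obtain ⟨z, hz⟩ := (Finite.injective_iff_surjective.mp hδ) ⟨y, hy⟩
  exact ⟨z, z.2, congrArg Subtype.val hz⟩

theorem mem_tiC_of_twist_eq_on {ψ : IrrCharacter (tiC P)} (hψ : Nt P ψ) (n : tiN P)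
    (h : ∀ c : tiC P, (c : G) ∈ (P : Subgroup G) →
      (tiTwist P n ψ : tiC P → ℂ) c = (ψ : tiC P → ℂ) c) : (n : G) ∈ tiC P := by
  by_contra hn
  obtain ⟨l, hl⟩ := exists_lin P hstar ψ
  have hψ1 : (ψ : tiC P → ℂ) 1 ≠ 0 := CharCore.irr_apply_one_ne_zero ψ
  have hval : ∀ (z : (P : Subgroup G)) (w : tiC P), (w : G) = z →
      (ψ : tiC P → ℂ) w = (l z : ℂ) * (ψ : tiC P → ℂ) 1 := by
    intro z w hw
    have h1 := hl 1 z w hw
    rwa [one_mul] at h1
  obtain ⟨c, hcP, hc⟩ := hψ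
  obtain ⟨z, hz, hzc⟩ := exists_commutator_eq P hstar n hn hcP
  have hz' : (n : G) * z * (n : G)⁻¹ ∈ (P : Subgroup G) :=
    (Subgroup.mem_normalizer_iff.mp n.2 z).mp hz
  have h1 : (ψ : tiC P → ℂ) (tiConj P n ⟨z, P_le_tiC P hstar hz⟩) =
      (ψ : tiC P → ℂ) ⟨z, P_le_tiC P hstar hz⟩ := h ⟨z, P_le_tiC P hstar hz⟩ hz
  rw [hval ⟨_, hz'⟩ (tiConj P n ⟨z, P_le_tiC P hstar hz⟩) rfl,
    hval ⟨z, hz⟩ ⟨z, P_le_tiC P hstar hz⟩ rfl] at h1
  have h2 : l ⟨_, hz'⟩ = l ⟨z, hz⟩ := Units.ext (mul_right_cancel₀ hψ1 h1)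
  apply hc
  rw [hval ((⟨z, hz⟩ : (P : Subgroup G))⁻¹ * ⟨_, hz'⟩) c hzc.symm, map_mul, h2, ← map_mul,
    inv_mul_cancel, map_one, Units.val_one, one_mul]

theorem eq_tiTwist_iff_mem {ψ : IrrCharacter (tiC P)} (hψ : Nt P ψ) (n : tiN P) :
    tiTwist P n ψ = ψ ↔ (n : G) ∈ tiC P :=
  ⟨fun h => mem_tiC_of_twist_eq_on P hstar hψ n fun _ _ => by rw [h],
    fun h => tiTwist_of_mem P n h ψ⟩

theorem twist_eq_of_eq_on {ψ : IrrCharacter (tiC P)} (hψ : Nt P ψ) (n m : tiN P)
    (h : ∀ c : tiC P, (c : G) ∈ (P : Subgroup G) →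
      (tiTwist P n ψ : tiC P → ℂ) c = (tiTwist P m ψ : tiC P → ℂ) c) :
    tiTwist P n ψ = tiTwist P m ψ := by
  have h1 : (n * m⁻¹ : tiN P).1 ∈ tiC P := by
    refine mem_tiC_of_twist_eq_on P hstar hψ _ fun c hc => ?_
    have hc' : (tiConj P m⁻¹ c : G) ∈ (P : Subgroup G) :=
      (Subgroup.mem_normalizer_iff.mp (m⁻¹ : tiN P).2 _).mp hc
    have h2 := h _ hc'
    rw [← tiTwist_tiTwist]
    show (ψ : tiC P → ℂ) (tiConj P n (tiConj P m⁻¹ c)) = _
    refine h2.trans ?_
    show (ψ : tiC P → ℂ) (tiConj P m (tiConj P m⁻¹ c)) = _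
    rw [← MulAut.mul_apply, ← map_mul, mul_inv_cancel, map_one, MulAut.one_apply]
  have h3 := congrArg (tiTwist P m) ((eq_tiTwist_iff_mem P hstar hψ _).mpr h1)
  rwa [tiTwist_tiTwist, mul_assoc_inv] at h3
where
  mul_assoc_inv : n * m⁻¹ * m = n := inv_mul_cancel_right n m

theorem Nt.twist {ψ : IrrCharacter (tiC P)} (h : Nt P ψ) (n : tiN P) : Nt P (tiTwist P n ψ) := by
  obtain ⟨c, hc, hne⟩ := h
  refine ⟨tiConj P n⁻¹ c, ?_, ?_⟩
  · exact (Subgroup.mem_normalizer_iff.mp (n⁻¹ : tiN P).2 _).mp hc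
  · show (ψ : tiC P → ℂ) (tiConj P n (tiConj P n⁻¹ c)) ≠ (ψ : tiC P → ℂ) (tiConj P n 1)
    rw [map_one, ← MulAut.mul_apply, ← map_mul, mul_inv_cancel, map_one, MulAut.one_apply]
    exact hne

open scoped Classical in
theorem card_conjug {ψ : IrrCharacter (tiC P)} (hψ : Nt P ψ) :
    (Finset.univ.filter fun φ => Conjug P ψ φ).card = tiE P := by
  have hfib : ∀ φ ∈ (Finset.univ.filter fun φ => Conjug P ψ φ),
      (Finset.univ.filter fun n : tiN P => tiTwist P n ψ = φ).card = Nat.card (tiC P) := by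
    intro φ hφ
    obtain ⟨n₀, hn₀⟩ := (Finset.mem_filter.mp hφ).2
    rw [← Fintype.card_subtype, ← Nat.card_eq_fintype_card]
    refine Nat.card_congr
      { toFun := fun n => ⟨((n.1 * n₀⁻¹ : tiN P) : G), ?_⟩
        invFun := fun c => ⟨(⟨(c : G), tiC_le_tiN P c.2⟩ : tiN P) * n₀, ?_⟩
        left_inv := fun n => Subtype.ext (Subtype.ext (by simp))
        right_inv := fun c => Subtype.ext (by simp) }
    · refine (eq_tiTwist_iff_mem P hstar hψ _).mp ?_
      rw [← tiTwist_tiTwist, n.2, ← hn₀, tiTwist_tiTwist, mul_inv_cancel, tiTwist_one]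
    · rw [← tiTwist_tiTwist, tiTwist_of_mem P ⟨(c : G), tiC_le_tiN P c.2⟩ c.2, hn₀]
  have h := Finset.card_eq_sum_card_fiberwise (f := fun n : tiN P => tiTwist P n ψ)
    (s := Finset.univ) (t := Finset.univ.filter fun φ => Conjug P ψ φ)
    (fun n _ => Finset.mem_coe.mpr (Finset.mem_filter.mpr ⟨Finset.mem_univ _, n, rfl⟩))
  rw [Finset.card_univ, ← Nat.card_eq_fintype_card, card_tiN, Finset.sum_congr rfl hfib,
    Finset.sum_const, smul_eq_mul, mul_comm] at h
  exact (Nat.eq_of_mul_eq_mul_right Nat.card_pos h).symm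

theorem tiE_dvd : tiE P ∣ Nat.card (P : Subgroup G) - 1 := by
  classical
  let X := {z : (P : Subgroup G) // z ≠ 1}
  have hconj : ∀ (n : tiN P) (z : X), (n : G) * z.1 * (n : G)⁻¹ ∈ (P : Subgroup G) :=
    fun n z => (Subgroup.mem_normalizer_iff.mp n.2 _).mp z.1.2
  letI : MulAction (tiN P) X :=
    { smul := fun n z => ⟨⟨_, hconj n z⟩, fun h => z.2 (Subtype.ext
        (conj_eq_one_iff.mp (congrArg Subtype.val h)))⟩
      one_smul := fun z => Subtype.ext (Subtype.ext (by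
        show ((1 : tiN P) : G) * z.1 * ((1 : tiN P) : G)⁻¹ = z.1; simp))
      mul_smul := fun n m z => Subtype.ext (Subtype.ext (by
        show ((n * m : tiN P) : G) * z.1 * ((n * m : tiN P) : G)⁻¹ =
          (n : G) * ((m : G) * z.1 * (m : G)⁻¹) * (n : G)⁻¹
        simp [mul_assoc])) }
  have horb : ∀ z : X, Nat.card (MulAction.orbit (tiN P) z) = tiE P := by
    intro z
    rw [Nat.card_coe_set_eq, ← MulAction.index_stabilizer, tiE]
    congr 1
    ext n
    rw [MulAction.mem_stabilizer_iff, Subgroup.mem_subgroupOf, tiC,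
      ← hstar (z.1 : G) z.1.2 (fun h => z.2 (Subtype.ext h)),
      Subgroup.mem_centralizer_singleton_iff]
    constructor
    · intro h
      exact mul_inv_eq_iff_eq_mul.mp (congrArg (fun y : X => (y.1 : G)) h)
    · intro h
      exact Subtype.ext (Subtype.ext (mul_inv_eq_iff_eq_mul.mpr h))
  have hX : Nat.card X = Nat.card (P : Subgroup G) - 1 := by
    haveI := Fintype.ofFinite (P : Subgroup G)
    rw [Nat.card_eq_fintype_card, Nat.card_eq_fintype_card, Fintype.card_subtype_compl,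
      Fintype.card_subtype_eq]
  haveI := Fintype.ofFinite (Quotient (MulAction.orbitRel (tiN P) X))
  rw [← hX, Nat.card_congr (MulAction.selfEquivSigmaOrbits (tiN P) X), Nat.card_sigma]
  exact Finset.dvd_sum fun ω _ => by rw [horb]

end

/-- A class function is large on the whole group if it is large on a set meeting each class
in at most one orbit of `N`. -/
theorem sum_le_of_ti (C N : Subgroup G) [Fintype C] (hZC : Subgroup.center G ≤ C)
    (hTI : ∀ g ∈ C, g ∉ Subgroup.center G → ∀ x : G, x * g * x⁻¹ ∈ C → x ∈ N) {θ : G → ℂ}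
    (hθ : IsClassFunction G θ)
    (hθZ : ∀ z ∈ Subgroup.center G, Complex.normSq (θ z) = Complex.normSq (θ 1)) :
    (Nat.card G : ℝ) * ((∑ c : C, Complex.normSq (θ c)) -
        (Nat.card (Subgroup.center G) : ℝ) * Complex.normSq (θ 1)) ≤
      (Nat.card N : ℝ) * ((∑ g : G, Complex.normSq (θ g)) -
        (Nat.card (Subgroup.center G) : ℝ) * Complex.normSq (θ 1)) := by
  classical
  set Z := Subgroup.center G with hZdef
  set w : G → ℝ := fun g => Complex.normSq (θ g) with hw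
  have hZsum : ∑ g ∈ Finset.univ.filter (· ∈ Z), w g = (Nat.card Z : ℝ) * w 1 := by
    rw [Finset.sum_congr rfl fun g hg => hθZ g (Finset.mem_filter.mp hg).2, Finset.sum_const,
      nsmul_eq_mul, ← Fintype.card_subtype, ← Nat.card_eq_fintype_card]
  set T : Finset G := Finset.univ.filter fun g => g ∈ C ∧ g ∉ Z with hT
  set R : Finset G := Finset.univ.filter fun g => g ∉ Z with hR
  have hTsum : ∑ g ∈ T, w g = (∑ c : C, w c) - (Nat.card Z : ℝ) * w 1 := by
    rw [← hZsum, eq_sub_iff_add_eq, ← Finset.sum_subtype (Finset.univ.filter (· ∈ C)) (by simp) w,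
      ← Finset.sum_union (by
        rw [Finset.disjoint_left]
        exact fun g hg hg' => (Finset.mem_filter.mp hg).2.2 (Finset.mem_filter.mp hg').2)]
    refine Finset.sum_congr (Finset.ext fun g => ?_) fun _ _ => rfl
    simp only [hT, Finset.mem_union, Finset.mem_filter, Finset.mem_univ, true_and]
    exact ⟨fun h => h.elim (fun h => h.1) (fun h => hZC h),
      fun h => (em (g ∈ Z)).elim Or.inr fun h' => Or.inl ⟨h, h'⟩⟩
  have hRsum : ∑ g ∈ R, w g = (∑ g : G, w g) - (Nat.card Z : ℝ) * w 1 := by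
    rw [← hZsum, eq_sub_iff_add_eq, add_comm]
    exact Finset.sum_filter_add_sum_filter_not _ _ _
  show (Nat.card G : ℝ) * ((∑ c : C, w c) - (Nat.card Z : ℝ) * w 1) ≤
    (Nat.card N : ℝ) * ((∑ g : G, w g) - (Nat.card Z : ℝ) * w 1)
  rw [← hTsum, ← hRsum]
  have h1 : (Nat.card G : ℝ) * ∑ g ∈ T, w g = ∑ a : G, ∑ g ∈ T, w (a * g * a⁻¹) := by
    rw [Finset.sum_congr rfl fun a _ => Finset.sum_congr rfl fun g _ =>
      congrArg Complex.normSq (hθ g a), Finset.sum_const, Finset.card_univ, nsmul_eq_mul,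
      ← Nat.card_eq_fintype_card]
  have h2 : ∀ a : G, ∑ g ∈ T, w (a * g * a⁻¹) = ∑ g : G, if a⁻¹ * g * a ∈ T then w g else 0 := by
    intro a
    rw [← Finset.sum_filter]
    refine Finset.sum_bij' (fun g _ => a * g * a⁻¹) (fun g _ => a⁻¹ * g * a)
      (fun g hg => ?_) (fun g hg => (Finset.mem_filter.1 hg).2) (fun g _ => by group)
      (fun g _ => by group) (fun g _ => rfl)
    simp only [Finset.mem_filter, Finset.mem_univ, true_and]
    rw [show a⁻¹ * (a * g * a⁻¹) * a = g by group]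
    exact hg
  rw [h1, Finset.sum_congr rfl fun a _ => h2 a, Finset.sum_comm, hR, Finset.sum_filter,
    Finset.mul_sum]
  refine Finset.sum_le_sum fun g _ => ?_
  rw [← Finset.sum_filter, Finset.sum_const, nsmul_eq_mul]
  by_cases hgZ : g ∈ Z
  · rw [if_neg (not_not.2 hgZ), Finset.filter_false_of_mem fun a _ hat =>
      (Finset.mem_filter.1 hat).2.2 (by
        rw [show a⁻¹ * g * a = g by rw [mul_assoc, ← Subgroup.mem_center_iff.1 hgZ a,
          inv_mul_cancel_left]]
        exact hgZ)]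
    simp
  · rw [if_pos hgZ]
    refine mul_le_mul_of_nonneg_right ?_ (Complex.normSq_nonneg _)
    rcases (Finset.univ.filter fun a : G => a⁻¹ * g * a ∈ T).eq_empty_or_nonempty with hA | ⟨a0, ha0⟩
    · rw [hA, Finset.card_empty, Nat.cast_zero]; exact Nat.cast_nonneg _
    · refine Nat.cast_le.2 ?_
      refine (Finset.card_le_card (t := (Finset.univ.filter fun n : G => n ∈ N).image
        fun n => a0 * n) fun a ha => ?_).trans (Finset.card_image_le.trans ?_)
      · simp only [hT, Finset.mem_filter, Finset.mem_univ, true_and] at ha ha0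
        refine Finset.mem_image.2 ⟨a0⁻¹ * a, ?_, by group⟩
        simp only [Finset.mem_filter, Finset.mem_univ, true_and]
        refine hTI _ ha.1 ha.2 _ ?_
        rw [show a0⁻¹ * a * (a⁻¹ * g * a) * (a0⁻¹ * a)⁻¹ = a0⁻¹ * g * a0 by group]
        exact ha0.1
      · rw [← Fintype.card_subtype, ← Nat.card_eq_fintype_card]

theorem sum_normSq_eq {H : Type u} [Group H] [Fintype H] {f : H → ℂ} {A : ℕ}
    (h : classInner f f = (A : ℂ)) :
    ∑ x : H, Complex.normSq (f x) = (Nat.card H : ℝ) * (A : ℝ) := by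
  rw [CharCore.classInner_def,
    inv_mul_eq_iff_eq_mul₀ (Nat.cast_ne_zero.2 Nat.card_pos.ne')] at h
  simp only [Complex.mul_conj, ← Complex.ofReal_sum] at h
  exact_mod_cast h

section
variable [Fintype (tiC P)]
include hstar

/-- The basic inequality between the norms. -/
theorem norm_bound (hPZ : (P : Subgroup G) ⊓ Subgroup.center G = ⊥)
    (hTI : ∀ g ∈ tiC P, g ∉ Subgroup.center G → ∀ x : G, x * g * x⁻¹ ∈ tiC P → x ∈ tiN P)
    {θ : G → ℂ} (hθ : IsClassFunction G θ)
    (hθZ : ∀ z ∈ Subgroup.center G, Complex.normSq (θ z) = Complex.normSq (θ 1))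
    {A B D : ℕ} (hA : classInner θ θ = (A : ℂ))
    (hB : classInner (fun c : tiC P => θ c) (fun c : tiC P => θ c) = (B : ℂ))
    (hD : θ 1 = (D : ℂ)) (hD0 : 0 < D) :
    Nat.card (P : Subgroup G) * B < Nat.card (P : Subgroup G) * (tiE P * A) + D * D := by
  have hZC : Subgroup.center G ≤ tiC P := fun z hz =>
    Subgroup.mem_centralizer_iff.mpr fun y _ => Subgroup.mem_center_iff.mp hz y
  have h := sum_le_of_ti (tiC P) (tiN P) hZC hTI hθ hθZ
  have hqz : Nat.card (P : Subgroup G) * Nat.card (Subgroup.center G) ≤ Nat.card (tiC P) := by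
    rw [← Nat.card_prod]
    refine Nat.card_le_card_of_injective (fun x : ↥(P : Subgroup G) × ↥(Subgroup.center G) =>
      (⟨(x.1 : G) * x.2, (tiC P).mul_mem (P_le_tiC P hstar x.1.2) (hZC x.2.2)⟩ : tiC P)) ?_
    intro x y hxy
    have hxy' : (x.1 : G) * x.2 = (y.1 : G) * y.2 := congrArg Subtype.val hxy
    have e1 : (y.1 : G)⁻¹ * x.1 = (y.2 : G) * (x.2 : G)⁻¹ := by
      rw [inv_mul_eq_iff_eq_mul, ← mul_assoc, eq_mul_inv_iff_mul_eq]
      exact hxy'
    have hm : (y.1 : G)⁻¹ * x.1 ∈ (P : Subgroup G) ⊓ Subgroup.center G :=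
      ⟨Subgroup.mul_mem _ (Subgroup.inv_mem _ y.1.2) x.1.2,
        e1 ▸ Subgroup.mul_mem _ y.2.2 (Subgroup.inv_mem _ x.2.2)⟩
    rw [hPZ, Subgroup.mem_bot, inv_mul_eq_one] at hm
    refine Prod.ext (Subtype.ext hm.symm) (Subtype.ext ?_)
    rw [hm] at hxy'
    exact mul_left_cancel hxy'
  rw [sum_normSq_eq hA, sum_normSq_eq hB, hD, Complex.normSq_natCast, card_tiN,
    Nat.cast_mul (Nat.card (tiC P))] at h
  set g : ℝ := (Nat.card G : ℝ) with hgdef
  set c : ℝ := (Nat.card (tiC P) : ℝ) with hcdef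
  set e : ℝ := (tiE P : ℝ) with hedef
  set z : ℝ := (Nat.card (Subgroup.center G) : ℝ) with hzdef
  set q : ℝ := (Nat.card (P : Subgroup G) : ℝ) with hqdef
  have hg : 0 < g := Nat.cast_pos.2 Nat.card_pos
  have hc : 0 < c := Nat.cast_pos.2 Nat.card_pos
  have he : 0 < e := Nat.cast_pos.2 (tiE_pos P)
  have hz : 0 < z := Nat.cast_pos.2 Nat.card_pos
  have hq : 0 < q := Nat.cast_pos.2 Nat.card_pos
  have hD' : (0 : ℝ) < D := Nat.cast_pos.2 hD0
  have hqz' : q * z ≤ c := by rw [hqdef, hzdef, hcdef]; exact_mod_cast hqz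
  have h1 : g * (c * B) < g * (c * e * A + z * (D * D)) := by
    nlinarith [mul_pos (mul_pos hc he) (mul_pos hz (mul_pos hD' hD'))]
  have h2 : c * B < c * e * A + z * (D * D) := lt_of_mul_lt_mul_left h1 hg.le
  have h3 : q * (c * B) < q * (c * e * A + z * (D * D)) := mul_lt_mul_of_pos_left h2 hq
  have h4 : q * z * (D * D) ≤ c * (D * D) :=
    mul_le_mul_of_nonneg_right hqz' (mul_self_nonneg _)
  have h5 : c * (q * B) < c * (q * (e * A) + D * D) := by linarith
  have h6 := lt_of_mul_lt_mul_left h5 hc.le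
  rw [← Nat.cast_lt (α := ℝ)]
  push_cast
  linarith

/-- The restriction of a character to the centralizer. -/
theorem exists_mult {θ : G → ℂ} (hθ : IsCharacter G θ) :
    ∃ k : IrrCharacter (tiC P) → ℕ,
      (∀ ψ : IrrCharacter (tiC P), classInner (fun c : tiC P => θ c) (ψ : tiC P → ℂ) = (k ψ : ℂ)) ∧
      (fun c : tiC P => θ c) = ∑ ψ, (k ψ : ℂ) • (ψ : tiC P → ℂ) ∧
      classInner (fun c : tiC P => θ c) (fun c : tiC P => θ c) = ((∑ ψ, k ψ * k ψ : ℕ) : ℂ) ∧
      (∀ (n : tiN P) (ψ : IrrCharacter (tiC P)), k (tiTwist P n ψ) = k ψ) ∧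
      ∀ z ∈ (P : Subgroup G), θ z ≠ θ 1 → ∃ ψ : IrrCharacter (tiC P), k ψ ≠ 0 ∧ Nt P ψ := by
  classical
  obtain ⟨k, hk⟩ := CharCore.IsCharacter.exists_sum (CharCore.isCharacter_restrict hθ (tiC P))
  have hki : ∀ ψ : IrrCharacter (tiC P), classInner (fun c : tiC P => θ c) (ψ : tiC P → ℂ) = (k ψ : ℂ) := fun ψ => by
    rw [show (fun c : tiC P => θ c) = _ from hk]
    exact CharCore.classInner_sum_all _ ψ
  refine ⟨k, hki, hk, ?_, ?_, ?_⟩
  · rw [show (fun c : tiC P => θ c) = _ from hk, CharCore.classInner_sum_sum]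
    simp
  · intro n ψ
    apply Nat.cast_injective (R := ℂ)
    rw [← hki, ← hki, CharCore.classInner_def, CharCore.classInner_def]
    congr 1
    refine Fintype.sum_equiv (tiConj P n).toEquiv _ _ fun c => ?_
    show θ c * conj ((ψ : tiC P → ℂ) (tiConj P n c)) = _
    congr 1
    exact ((CharCore.IsCharacter.isClassFunction hθ) (c : G) (n : G)).symm
  · intro z hz hne
    by_contra hall
    push Not at hall
    apply hne
    have hzC : z ∈ tiC P := P_le_tiC P hstar hz
    have h1 := congrFun hk ⟨z, hzC⟩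
    have h2 := congrFun hk 1
    simp only [OneMemClass.coe_one, Finset.sum_apply, Pi.smul_apply, smul_eq_mul] at h1 h2
    rw [h1, h2]
    refine Finset.sum_congr rfl fun ψ _ => ?_
    by_cases h0 : k ψ = 0
    · rw [h0, Nat.cast_zero, zero_mul, zero_mul]
    · congr 1
      by_contra hψ
      exact hall ψ h0 ⟨⟨z, hzC⟩, hz, hψ⟩

open scoped Classical in
/-- An irreducible character of small degree is a sum of one orbit. -/
theorem eq_orbit_sum (hPZ : (P : Subgroup G) ⊓ Subgroup.center G = ⊥)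
    (hTI : ∀ g ∈ tiC P, g ∉ Subgroup.center G → ∀ x : G, x * g * x⁻¹ ∈ tiC P → x ∈ tiN P)
    {χ : G → ℂ} (hχ : IsIrrCharacter G χ) {d : ℕ} (hd : χ 1 = (d : ℂ))
    (hdq : d * d + 1 < Nat.card (P : Subgroup G)) {z : G} (hz : z ∈ (P : Subgroup G))
    (hzne : χ z ≠ χ 1) :
    ∃ ψ, Nt P ψ ∧ (fun c : tiC P => χ c) =
      ∑ φ ∈ Finset.univ.filter (fun φ => Conjug P ψ φ), (φ : tiC P → ℂ) := by
  have hd0 : 0 < d := Nat.pos_of_ne_zero fun h =>
    CharCore.irr_apply_one_ne_zero ⟨χ, hχ⟩ (show χ 1 = 0 by rw [hd, h, Nat.cast_zero])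
  obtain ⟨k, -, hk, hB, hinv, hnt⟩ :=
    exists_mult P hstar (CharCore.IsIrrCharacter.isCharacter hχ)
  have hZ : ∀ y ∈ Subgroup.center G, Complex.normSq (χ y) = Complex.normSq (χ 1) := by
    intro y hy
    obtain ⟨s, hs, hs'⟩ := CharB.exists_scalar_mul_of_central hχ hy
    have h1 := hs' 1
    rw [mul_one] at h1
    rw [h1, map_mul, Complex.normSq_eq_norm_sq s, hs]
    simp
  have hA : classInner χ χ = ((1 : ℕ) : ℂ) := by
    rw [Nat.cast_one]; exact (CharCore.isIrrCharacter_iff.mp hχ).2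
  have hlt := norm_bound P hstar hPZ hTI
    (CharCore.IsCharacter.isClassFunction (CharCore.IsIrrCharacter.isCharacter hχ)) hZ hA hB hd hd0
  have hle : ∑ ψ, k ψ * k ψ ≤ tiE P := by
    by_contra hcon
    push Not at hcon
    have := Nat.mul_le_mul_left (Nat.card (P : Subgroup G)) hcon
    rw [Nat.mul_succ] at this
    rw [Nat.mul_one] at hlt
    omega
  obtain ⟨ψ, hψ0, hψ⟩ := hnt z hz hzne
  refine ⟨ψ, hψ, ?_⟩
  set S := Finset.univ.filter (fun φ => Conjug P ψ φ) with hS
  have hconst : ∀ φ ∈ S, k φ = k ψ := fun φ hφ => by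
    obtain ⟨n, rfl⟩ := (Finset.mem_filter.mp hφ).2
    exact hinv n ψ
  have hsplit := Finset.sum_add_sum_compl S fun φ => k φ * k φ
  rw [Finset.sum_congr rfl fun φ hφ => by rw [hconst φ hφ], Finset.sum_const,
    card_conjug P hstar hψ, smul_eq_mul] at hsplit
  have hk1 : k ψ = 1 := by
    by_contra hne
    have h4 : 4 ≤ k ψ * k ψ := Nat.mul_le_mul (show 2 ≤ k ψ by omega) (show 2 ≤ k ψ by omega)
    have := Nat.mul_le_mul_left (tiE P) h4
    have := tiE_pos P
    omega
  simp only [hk1, Nat.mul_one] at hsplit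
  have hz0 : ∀ φ ∈ Sᶜ, k φ = 0 := by
    intro φ hφ
    have h0 : ∑ φ ∈ Sᶜ, k φ * k φ = 0 := by omega
    exact mul_self_eq_zero.mp (Finset.sum_eq_zero_iff.mp h0 φ hφ)
  rw [hk, ← Finset.sum_add_sum_compl S,
    Finset.sum_eq_zero (s := Sᶜ) (fun φ hφ => by rw [hz0 φ hφ, Nat.cast_zero, zero_smul]), add_zero]
  exact Finset.sum_congr rfl fun φ hφ => by rw [hconst φ hφ, hk1, Nat.cast_one, one_smul]

end

/-- The arithmetic of the last step. -/
theorem arith {q e a M B : ℕ} (he : 2 ≤ e) (hq : e * e + e + 1 ≤ q) (ha1 : 1 ≤ a) (ha : a < e)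
    (hM : e ≤ M) (hMa : M ≤ e * a) (hBge : a * a + M ≤ B)
    (hB : q * B < q * e + (a + M) * (a + M))
    (hB' : q * (e * e * B + e * a + e * a + 1) <
      q * (e * (e * e + 1)) + (e * (a + M) + 1) * (e * (a + M) + 1)) : False := by
  have hBq : q * (a * a + M) ≤ q * B := Nat.mul_le_mul_left q hBge
  rcases Nat.lt_or_ge a 2 with ha2 | ha2
  · obtain rfl : a = 1 := by omega
    rw [Nat.mul_one] at hMa hB'
    have hMe : M = e := by omega
    rw [hMe] at hBge hB'
    have h1 : q * (e * e * (1 * 1 + e)) ≤ q * (e * e * B) :=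
      Nat.mul_le_mul_left q (Nat.mul_le_mul_left _ hBge)
    have h2 := Nat.mul_le_mul_right (e * e + e + 1) hq
    nlinarith
  · obtain ⟨u, rfl⟩ : ∃ u, M = e + u := ⟨M - e, by omega⟩
    have h1 : (a + (e + u)) ≤ a * (e + 1) := by nlinarith
    have h2 := Nat.mul_le_mul h1 h1
    have h3 : a * a < q := by nlinarith
    have hu : u < e := by nlinarith
    have h4 : 5 * e ≤ q + (if e < 4 then 4 else 0) := by split_ifs <;> nlinarith
    have h5 : 2 * (a + e) + u ≤ q := by
      rcases Nat.lt_or_ge e 4 with h | h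
      · interval_cases e <;> omega
      · rw [if_neg (by omega)] at h4
        omega
    have h6 : u * (2 * (a + e) + u) ≤ u * q := Nat.mul_le_mul_left u h5
    have h7 : a + e ≤ a * e := by nlinarith
    have h8 := Nat.mul_le_mul h7 h7
    have h9 : (e * e + 1) * (a * a) ≤ q * (a * a) := Nat.mul_le_mul_right _ (by omega)
    nlinarith

end Cfsg.Agent.BlkChar.TI
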