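import Cfsg.Agent.BlkChar.TIDegree
import Cfsg.Agent.Lib.Transfer.Focal

/-!
# Small characters under uniform centralizers of a Sylow subgroup: normality
-/

set_option linter.unusedSectionVars false

open Cfsg
open scoped ComplexConjugate

namespace Cfsg.Agent.BlkChar.TI

universe u

variable {G : Type u} [Group G] [Fintype G] {p : ℕ} [hp : Fact p.Prime] (P : Sylow p G)
  (hstar : ∀ x ∈ (P : Subgroup G), x ≠ 1 →
    Subgroup.centralizer ({x} : Set G) = Subgroup.centralizer ((P : Subgroup G) : Set G))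
  (hnorm : ∀ H : Subgroup G, H ≠ ⊤ → (P : Subgroup G) ≤ H → H ≤ tiN P)

/-- A `p`-subgroup in the normalizer of the Sylow subgroup lies in it. -/
theorem mem_P_of_pow_mem_tiN {y : G} {k : ℕ} (hy : y ∈ tiN P) (hk : orderOf y = p ^ k) :
    y ∈ (P : Subgroup G) := by
  have hY : IsPGroup p (Subgroup.zpowers y) :=
    IsPGroup.of_card (n := k) (by rw [Nat.card_zpowers, hk])
  have h := IsPGroup.to_sup_of_normal_right' hY P.2 (Subgroup.zpowers_le.mpr hy)
  have h2 := P.3 h le_sup_right
  rw [← h2]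
  exact Subgroup.mem_sup_left (Subgroup.mem_zpowers y)

theorem mem_tiN_of_map_le {x : G}
    (h : ∀ z ∈ (P : Subgroup G), x * z * x⁻¹ ∈ tiN P) : x ∈ tiN P := by
  have hfwd : ∀ z ∈ (P : Subgroup G), x * z * x⁻¹ ∈ (P : Subgroup G) := by
    intro z hz
    obtain ⟨k, hk⟩ := IsPGroup.iff_orderOf.mp P.2 ⟨z, hz⟩
    refine mem_P_of_pow_mem_tiN P (h z hz) (k := k) ?_
    rw [← MulAut.conj_apply, MulEquiv.orderOf_eq, ← hk, Subgroup.orderOf_mk]
  rw [Subgroup.mem_normalizer_iff]
  intro y
  refine ⟨hfwd y, fun hy => ?_⟩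
  let f : ↥(P : Subgroup G) → ↥(P : Subgroup G) := fun z => ⟨_, hfwd z z.2⟩
  have hf : Function.Injective f := fun a b hab => Subtype.ext
    (mul_left_cancel (mul_right_cancel (congrArg Subtype.val hab)))
  obtain ⟨z, hz⟩ := (Finite.injective_iff_surjective.mp hf) ⟨_, hy⟩
  have h1 : x * (z : G) * x⁻¹ = x * y * x⁻¹ := congrArg Subtype.val hz
  rw [← mul_left_cancel (mul_right_cancel h1)]
  exact z.2

section
include hstar hnorm

theorem ti_of_hnorm : ∀ g ∈ tiC P, g ∉ Subgroup.center G → ∀ x : G, x * g * x⁻¹ ∈ tiC P → x ∈ tiN P := by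
  intro g hg hgZ x hx
  have hP : (P : Subgroup G) ≤ Subgroup.centralizer ({g} : Set G) := fun z hz =>
    Subgroup.mem_centralizer_singleton_iff.mpr (Subgroup.mem_centralizer_iff.mp hg z hz)
  have htop : Subgroup.centralizer ({g} : Set G) ≠ ⊤ := fun h => hgZ
    (Subgroup.mem_center_iff.mpr fun y =>
      Subgroup.mem_centralizer_singleton_iff.mp (h.ge (Subgroup.mem_top y)))
  have hle := hnorm _ htop hP
  have hinv : x⁻¹ ∈ tiN P := by
    refine mem_tiN_of_map_le P fun z hz => hle (Subgroup.mem_centralizer_singleton_iff.mpr ?_)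
    have h1 := Subgroup.mem_centralizer_iff.mp hx z hz
    calc x⁻¹ * z * x⁻¹⁻¹ * g = x⁻¹ * (z * (x * g * x⁻¹)) * x := by group
      _ = x⁻¹ * ((x * g * x⁻¹) * z) * x := by rw [h1]
      _ = g * (x⁻¹ * z * x⁻¹⁻¹) := by group
  simpa using (tiN P).inv_mem hinv

theorem one_of_hnorm : ∀ g : G, g ∉ Subgroup.center G → ∀ a b : G,
    Subgroup.centralizer ({g} : Set G) ⊓ (P : Subgroup G).map (MulAut.conj a).toMonoidHom ≠ ⊥ →
    Subgroup.centralizer ({g} : Set G) ⊓ (P : Subgroup G).map (MulAut.conj b).toMonoidHom ≠ ⊥ →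
    (P : Subgroup G).map (MulAut.conj a).toMonoidHom =
      (P : Subgroup G).map (MulAut.conj b).toMonoidHom := by
  intro g hgZ a b ha hb
  have hmem : ∀ t : G, Subgroup.centralizer ({g} : Set G) ⊓
      (P : Subgroup G).map (MulAut.conj t).toMonoidHom ≠ ⊥ → t⁻¹ * g * t ∈ tiC P := by
    intro t ht
    obtain ⟨⟨y, hy⟩, hy1⟩ := Subgroup.ne_bot_iff_exists_ne_one.mp ht
    obtain ⟨hyg, z, hz, rfl⟩ := hy
    have hz1 : z ≠ 1 := fun h => hy1 (Subtype.ext (by simp [h]))
    rw [tiC, ← hstar z hz hz1, Subgroup.mem_centralizer_singleton_iff]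
    have h1 := Subgroup.mem_centralizer_singleton_iff.mp hyg
    simp only [MulEquiv.coe_toMonoidHom, MulAut.conj_apply] at h1
    calc t⁻¹ * g * t * z = t⁻¹ * (g * (t * z * t⁻¹)) * t := by group
      _ = t⁻¹ * ((t * z * t⁻¹) * g) * t := by rw [h1]
      _ = z * (t⁻¹ * g * t) := by group
  have h1 := hmem a ha
  have hne : a⁻¹ * g * a ∉ Subgroup.center G := fun h => hgZ (by
    have h2 := (inferInstance : (Subgroup.center G).Normal).conj_mem _ h a
    rwa [show a * (a⁻¹ * g * a) * a⁻¹ = g by group] at h2)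
  have h2 := ti_of_hnorm P hstar hnorm _ h1 hne (b⁻¹ * a) (by
    rw [show b⁻¹ * a * (a⁻¹ * g * a) * (b⁻¹ * a)⁻¹ = b⁻¹ * g * b by group]
    exact hmem b hb)
  ext y
  simp only [Subgroup.mem_map, MulEquiv.coe_toMonoidHom, MulAut.conj_apply]
  constructor
  · rintro ⟨z, hz, rfl⟩
    exact ⟨_, (Subgroup.mem_normalizer_iff.mp h2 z).mp hz, by group⟩
  · rintro ⟨z, hz, rfl⟩
    refine ⟨_, (Subgroup.mem_normalizer_iff.mp ((tiN P).inv_mem h2) z).mp hz, by group⟩

end

theorem conj_eq_of_linear {H : Type u} [Group H] [Fintype H] {χ : H → ℂ} (f : H →* ℂˣ)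
    (hf : χ = fun g => (f g : ℂ)) (x : H) : χ x * conj (χ x) = 1 := by
  have hn : ‖(f x : ℂ)‖ = 1 := by
    refine Complex.norm_eq_one_of_pow_eq_one ?_ (orderOf_pos x).ne'
    rw [← Units.val_pow_eq_pow_val, ← map_pow, pow_orderOf_eq_one, map_one, Units.val_one]
  subst hf
  rw [Complex.mul_conj, Complex.normSq_eq_norm_sq, hn]
  simp

/-- A character of the same absolute value as the degree acts by a scalar. -/
theorem exists_scalar_of_norm_eq {χ : G → ℂ} (hχ : IsCharacter G χ) {d : ℕ} (hd : χ 1 = (d : ℂ))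
    {z : G} (hz : ‖χ z‖ = d) : ∃ s : ℂ, ∀ w, χ (w * z) = s * χ w := by
  obtain ⟨n, ρ, rfl⟩ := hχ
  rw [Representation.char_one] at hd
  obtain ⟨s, hs⟩ := CharClifford.exists_scalar_of_norm_character_eq ρ z (by
    rw [hz]; exact_mod_cast congrArg Complex.re hd.symm)
  exact ⟨s, fun w => by simp [Representation.character, map_mul, hs]⟩

section
variable [Fintype (tiC P)]
include hstar hnorm

set_option maxHeartbeats 1000000 in
open scoped Classical in
/-- Small irreducible characters are scalar on the Sylow subgroup. -/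
theorem scalar_of_small (hPZ : (P : Subgroup G) ⊓ Subgroup.center G = ⊥)
    (hbig : ∀ M : Subgroup G, M.Normal → (P : Subgroup G) ≤ M → M = ⊤)
    {χ : G → ℂ} (hχ : IsIrrCharacter G χ) {d : ℕ} (hd : χ 1 = (d : ℂ))
    (hdq : d * d + 1 < Nat.card (P : Subgroup G)) :
    ∀ z ∈ (P : Subgroup G), ∃ s : ℂ, ∀ w, χ (w * z) = s * χ w := by
  intro z hz
  have hχc := CharCore.IsIrrCharacter.isCharacter hχ
  by_cases hker : χ z = χ 1
  · exact ⟨1, fun w => by rw [one_mul]; exact CharCore.IsCharacter.apply_mul_of_mem_kernel hχc hker w⟩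
  have hTI := ti_of_hnorm P hstar hnorm
  obtain ⟨ψ, hψ, hχC⟩ := eq_orbit_sum P hstar hPZ hTI hχ hd hdq hz hker
  set S := Finset.univ.filter (fun φ => Conjug P ψ φ) with hS
  have hScard : S.card = tiE P := card_conjug P hstar hψ
  have hψS : ψ ∈ S := Finset.mem_filter.mpr ⟨Finset.mem_univ _, 1, tiTwist_one P ψ⟩
  obtain ⟨f, hf⟩ := CharCore.IsCharacter.exists_degree (CharCore.irr_isCharacter ψ)
  have hSone : ∀ φ ∈ S, (φ : tiC P → ℂ) 1 = (f : ℂ) := by
    intro φ hφ
    obtain ⟨n, rfl⟩ := (Finset.mem_filter.mp hφ).2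
    show (ψ : tiC P → ℂ) (tiConj P n 1) = _
    rw [map_one, hf]
  have hSnt : ∀ φ ∈ S, Nt P φ := fun φ hφ => by
    obtain ⟨n, rfl⟩ := (Finset.mem_filter.mp hφ).2
    exact hψ.twist P hstar n
  have hdef : d = tiE P * f := by
    apply Nat.cast_injective (R := ℂ)
    have h1 := congrFun hχC 1
    rw [Finset.sum_apply, Finset.sum_congr rfl hSone, Finset.sum_const, hScard,
      OneMemClass.coe_one, hd, nsmul_eq_mul] at h1
    rw [h1]; push_cast; ring
  choose lam hlam using fun φ : IrrCharacter (tiC P) => exists_lin P hstar φ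
  have hlamval : ∀ φ : IrrCharacter (tiC P), ∀ (y : (P : Subgroup G)) (w : tiC P), (w : G) = y →
      (φ : tiC P → ℂ) w = (lam φ y : ℂ) * (φ : tiC P → ℂ) 1 := by
    intro φ y w hw
    have h1 := hlam φ 1 y w hw
    rwa [one_mul] at h1
  by_cases he : tiE P = 1
  · have hS1 : S = {ψ} :=
      (Finset.eq_singleton_iff_unique_mem.mpr ⟨hψS, fun φ hφ => Finset.card_le_one.mp
        (by omega) φ hφ ψ hψS⟩)
    refine exists_scalar_of_norm_eq hχc hd ?_
    have h1 := congrFun hχC ⟨z, P_le_tiC P hstar hz⟩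
    rw [Finset.sum_apply, hS1, Finset.sum_singleton] at h1
    rw [h1, hlamval ψ ⟨z, hz⟩ _ rfl, hSone ψ hψS, norm_mul, Complex.norm_natCast]
    have hn : ‖(lam ψ ⟨z, hz⟩ : ℂ)‖ = 1 := by
      refine Complex.norm_eq_one_of_pow_eq_one ?_ (orderOf_pos (⟨z, hz⟩ : (P : Subgroup G))).ne'
      rw [← Units.val_pow_eq_pow_val, ← map_pow, pow_orderOf_eq_one, map_one, Units.val_one]
    rw [hn, one_mul, hdef, he, one_mul]
  exfalso
  have he2 : 2 ≤ tiE P := by have := tiE_pos P; omega
  have hd0 : 0 < d := Nat.pos_of_ne_zero fun h =>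
    CharCore.irr_apply_one_ne_zero ⟨χ, hχ⟩ (show χ 1 = 0 by rw [hd, h, Nat.cast_zero])
  have hf0 : 0 < f := Nat.pos_of_ne_zero fun h => by rw [hdef, h, Nat.mul_zero] at hd0; omega
  -- the square of the character
  set Φ : G → ℂ := fun g => χ g * conj (χ g) with hΦ
  have hΦc : IsCharacter G Φ := CharCore.isCharacter_mul hχc (CharCore.IsCharacter.star hχc)
  obtain ⟨a, ha⟩ := CharCore.IsCharacter.exists_sum hΦc
  set one : IrrCharacter G := ⟨1, CharCore.isIrrCharacter_one⟩
  have ha1 : a one = 1 := by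
    have h1 : classInner Φ (1 : G → ℂ) = 1 := by
      rw [← (CharCore.isIrrCharacter_iff.mp hχ).2]
      simp [CharCore.classInner_def, hΦ]
    rw [ha, show classInner _ (1 : G → ℂ) = _ from CharCore.classInner_sum_all _ one] at h1
    exact_mod_cast h1
  choose dd hdd using fun ξ : IrrCharacter G =>
    CharCore.IsCharacter.exists_degree (CharCore.irr_isCharacter ξ)
  have hdone : dd one = 1 := by
    have h1 := hdd one
    rw [show (one : G → ℂ) 1 = 1 from rfl] at h1
    exact_mod_cast h1.symm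
  have hdeg : ∑ ξ, a ξ * dd ξ = d * d := by
    apply Nat.cast_injective (R := ℂ)
    push_cast
    have h1 := congrFun ha 1
    simp only [hΦ, hd, map_natCast, Finset.sum_apply, Pi.smul_apply, smul_eq_mul, hdd] at h1
    exact h1.symm
  rw [← Finset.add_sum_erase Finset.univ _ (Finset.mem_univ one), ha1, hdone] at hdeg
  have hξZ : ∀ ξ : IrrCharacter G, a ξ ≠ 0 → ∀ y ∈ Subgroup.center G,
      (ξ : G → ℂ) y = (ξ : G → ℂ) 1 := by
    intro ξ hξ y hy
    have hΦy : Φ y = Φ 1 := by
      obtain ⟨s, hs, hs'⟩ := CharB.exists_scalar_mul_of_central hχ hy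
      have h1 := hs' 1
      rw [mul_one] at h1
      have hss : s * conj s = 1 := by
        rw [Complex.mul_conj, Complex.normSq_eq_norm_sq, hs]; simp
      show χ y * conj (χ y) = χ 1 * conj (χ 1)
      rw [h1, map_mul]
      calc s * χ 1 * (conj s * conj (χ 1)) = s * conj s * (χ 1 * conj (χ 1)) := by ring
        _ = _ := by rw [hss, one_mul]
    have h1 := congrArg Complex.re (((congrFun ha y).symm.trans hΦy).trans (congrFun ha 1))
    simp only [Finset.sum_apply, Pi.smul_apply, smul_eq_mul, Complex.re_sum, hdd,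
      Complex.natCast_re, Complex.mul_re, Complex.natCast_im, zero_mul, sub_zero] at h1
    have hle : ∀ η : IrrCharacter G, ‖(η : G → ℂ) y‖ ≤ dd η := fun η => by
      have h2 := CharCore.IsCharacter.norm_apply_le (CharCore.irr_isCharacter η) y
      simpa [hdd] using h2
    have h2 := (Finset.sum_eq_sum_iff_of_le (fun η _ => mul_le_mul_of_nonneg_left
      ((Complex.re_le_norm _).trans (hle η)) (Nat.cast_nonneg (a η)))).mp h1 ξ (Finset.mem_univ _)
    have h3 : ((ξ : G → ℂ) y).re = dd ξ := mul_left_cancel₀ (Nat.cast_ne_zero.mpr hξ) h2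
    have h4 := Complex.normSq_eq_norm_sq ((ξ : G → ℂ) y)
    rw [Complex.normSq_apply, h3] at h4
    have h5 := mul_le_mul (hle ξ) (hle ξ) (norm_nonneg _) (Nat.cast_nonneg _)
    have h6 : ((ξ : G → ℂ) y).im = 0 := by
      nlinarith [mul_self_nonneg ((ξ : G → ℂ) y).im]
    rw [hdd]
    exact Complex.ext (by simpa using h3) (by simpa using h6)
  have hξnt : ∀ ξ : IrrCharacter G, ξ ≠ one → ∃ y ∈ (P : Subgroup G),
      (ξ : G → ℂ) y ≠ (ξ : G → ℂ) 1 := by
    intro ξ hξ
    by_contra hall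
    push Not at hall
    have htop := hbig (CharCore.charKernel (CharCore.irr_isCharacter ξ)) inferInstance hall
    have hc : ∀ g, (ξ : G → ℂ) g = (dd ξ : ℂ) := fun g =>
      ((CharCore.mem_charKernel (CharCore.irr_isCharacter ξ) g).mp
        (htop.ge (Subgroup.mem_top g))).trans (hdd ξ)
    have h1 := CharCore.classInner_irr_self ξ
    simp only [CharCore.classInner_def, hc, map_natCast, Finset.sum_const, Finset.card_univ,
      ← Nat.card_eq_fintype_card, nsmul_eq_mul] at h1
    rw [← mul_assoc, inv_mul_cancel₀ (Nat.cast_ne_zero.2 Nat.card_pos.ne'), one_mul] at h1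
    norm_cast at h1
    rw [Nat.eq_one_of_mul_eq_one_right h1] at hc
    exact hξ (Subtype.ext (funext fun g => by rw [hc g, Nat.cast_one]; rfl))
  -- the degree of the members of the orbit
  have hf1 : f = 1 := by
    letI := Fintype.ofFinite (P : Subgroup G)
    choose cc hcc using fun η : IrrCharacter G =>
      CharCore.IsCharacter.exists_classInner_irr_eq_natCast
        (CharCore.isCharacter_restrict (CharCore.irr_isCharacter η) (P : Subgroup G))
        (⟨1, CharCore.isIrrCharacter_one⟩ : IrrCharacter (P : Subgroup G))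
    have hcone : cc one = 1 := by
      have h1 : classInner (1 : ↥(P : Subgroup G) → ℂ) (1 : ↥(P : Subgroup G) → ℂ) = (cc one : ℂ) :=
        hcc one
      rw [(CharCore.isIrrCharacter_iff.mp (CharCore.isIrrCharacter_one (G := (P : Subgroup G)))).2]
        at h1
      exact_mod_cast h1.symm
    have hPab : ∀ x ∈ (P : Subgroup G), ∀ y ∈ (P : Subgroup G), x * y = y * x := fun x hx y hy =>
      Subgroup.mem_centralizer_iff.mp (P_le_tiC P hstar hy) x hx
    let L : IrrCharacter (tiC P) → IrrCharacter (P : Subgroup G) := fun φ =>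
      ⟨fun y => (lam φ y : ℂ), CharCore.isIrrCharacter_hom (lam φ)⟩
    have hχP : (fun y : (P : Subgroup G) => χ y) =
        ∑ φ ∈ S, (f : ℂ) • (L φ : ↥(P : Subgroup G) → ℂ) := by
      funext y
      have h1 := congrFun hχC ⟨(y : G), P_le_tiC P hstar y.2⟩
      rw [Finset.sum_apply] at h1 ⊢
      refine h1.trans (Finset.sum_congr rfl fun φ hφ => ?_)
      rw [hlamval φ y _ rfl, hSone φ hφ]
      exact mul_comm _ _
    have hnormP : classInner (fun y : (P : Subgroup G) => χ y) (fun y : (P : Subgroup G) => χ y) =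
        ((∑ φ ∈ S, ∑ φ' ∈ S, if L φ = L φ' then f * f else 0 : ℕ) : ℂ) := by
      simp only [hχP, CharCore.classInner_sum_left, CharCore.classInner_sum_right,
        CharCore.classInner_smul_left, CharCore.classInner_smul_right, CharCore.classInner_irr,
        map_natCast, Nat.cast_sum, Nat.cast_ite, Nat.cast_mul, Nat.cast_zero, mul_ite, mul_one,
        mul_zero]
      refine Finset.sum_congr rfl fun φ _ => ?_
      rw [Finset.mul_sum]
      refine Finset.sum_congr rfl fun φ' _ => ?_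
      simp only [eq_comm (a := L φ'), mul_ite, mul_zero]
    have hX : tiE P * (f * f) ≤ ∑ ξ, a ξ * cc ξ := by
      have h1 : ∑ ξ, a ξ * cc ξ = ∑ φ ∈ S, ∑ φ' ∈ S, if L φ = L φ' then f * f else 0 := by
        apply Nat.cast_injective (R := ℂ)
        rw [← hnormP, Nat.cast_sum]
        have h2 : (fun y : (P : Subgroup G) => χ y * conj (χ y)) =
            ∑ η, (a η : ℂ) • (fun y : (P : Subgroup G) => (η : G → ℂ) y) := by
          funext y
          have := congrFun ha y
          simpa [hΦ, Finset.sum_apply] using this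
        rw [show classInner (fun y : (P : Subgroup G) => χ y) (fun y : (P : Subgroup G) => χ y) =
            classInner (fun y : (P : Subgroup G) => χ y * conj (χ y)) (fun _ => 1) by
          simp [CharCore.classInner_def]]
        rw [h2, CharCore.classInner_sum_left]
        refine (Finset.sum_congr rfl fun η _ => ?_).symm
        rw [CharCore.classInner_smul_left, Nat.cast_mul]
        exact congrArg _ (hcc η)
      rw [h1, ← hScard, ← smul_eq_mul, ← Finset.sum_const]
      exact Finset.sum_le_sum fun φ hφ => le_trans (le_of_eq (if_pos rfl).symm)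
        (Finset.single_le_sum (f := fun φ' => if L φ = L φ' then f * f else 0)
          (fun _ _ => Nat.zero_le _) hφ)
    rw [← Finset.add_sum_erase Finset.univ _ (Finset.mem_univ one), ha1, hcone] at hX
    have hkey : ∀ ξ ∈ Finset.univ.erase one,
        d * (a ξ * cc ξ) + a ξ ≤ a ξ * dd ξ := by
      intro ξ hξ
      obtain ⟨y, hy, hne⟩ := hξnt ξ (Finset.ne_of_mem_erase hξ)
      have h1 := CharB.degree_sq_gt (P : Subgroup G) hPab hPZ (one_of_hnorm P hstar hnorm) ξ.2
        ⟨y, hy, hne⟩ (hdd ξ) (hcc ξ)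
      have h2 : (d * cc ξ) ^ 2 < dd ξ ^ 2 := by
        refine lt_of_le_of_lt ?_ h1
        rw [mul_pow]
        exact Nat.mul_le_mul_right _ (by rw [sq]; omega)
      have h3 : d * cc ξ + 1 ≤ dd ξ := lt_of_pow_lt_pow_left₀ 2 (Nat.zero_le _) h2
      calc d * (a ξ * cc ξ) + a ξ = a ξ * (d * cc ξ + 1) := by ring
        _ ≤ _ := Nat.mul_le_mul_left _ h3
    have hsum := Finset.sum_le_sum hkey
    rw [Finset.sum_add_distrib, ← Finset.mul_sum] at hsum
    by_contra hne
    have hf2 : 2 ≤ f := by omega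
    have h5 : tiE P * f * 2 ≤ tiE P * f * f := Nat.mul_le_mul_left _ hf2
    rw [← Nat.mul_assoc] at hX
    rw [← hdef] at h5
    rw [← hdef] at hX
    set X := ∑ ξ ∈ Finset.univ.erase one, a ξ * cc ξ with hXdef
    have hdX : d ≤ X := by omega
    have h6 := Nat.mul_le_mul_left d hdX
    omega
  subst hf1
  rw [Nat.mul_one] at hdef
  -- the constituents on the centralizer
  have hlin : ∀ φ ∈ S, ∃ g : tiC P →* ℂˣ, (φ : tiC P → ℂ) = fun c => (g c : ℂ) := fun φ hφ =>
    CharCore.IsCharacter.exists_hom_of_degree_one (CharCore.irr_isCharacter φ)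
      (by rw [hSone φ hφ, Nat.cast_one])
  let pr : IrrCharacter (tiC P) → IrrCharacter (tiC P) → tiC P → ℂ := fun φ φ' =>
    fun c => (φ : tiC P → ℂ) c * conj ((φ' : tiC P → ℂ) c)
  have hpr : ∀ φ ∈ S, ∀ φ' ∈ S, IsIrrCharacter (tiC P) (pr φ φ') := by
    intro φ hφ φ' _
    obtain ⟨g, hg⟩ := hlin φ hφ
    show IsIrrCharacter (tiC P) (fun c => (φ : tiC P → ℂ) c * conj ((φ' : tiC P → ℂ) c))
    rw [hg]
    exact CharCore.isIrrCharacter_hom_mul g (CharCore.isIrrCharacter_star φ'.2)
  have hone' : ∀ φ ∈ S, pr φ φ = 1 := by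
    intro φ hφ
    obtain ⟨g, hg⟩ := hlin φ hφ
    exact funext fun c => conj_eq_of_linear g hg c
  choose k hki hkd hkB hkinv hknt using fun ξ : IrrCharacter G =>
    exists_mult P hstar (CharCore.irr_isCharacter ξ)
  set oneC : IrrCharacter (tiC P) := ⟨1, CharCore.isIrrCharacter_one⟩
  have hΦC : ∀ φ : IrrCharacter (tiC P),
      ∑ ξ, (a ξ : ℂ) * (k ξ φ : ℂ) =
        ∑ φ₁ ∈ S, ∑ φ₂ ∈ S, classInner (pr φ₁ φ₂) (φ : tiC P → ℂ) := by
    intro φ
    have h1 : (fun c : tiC P => Φ c) = ∑ φ₁ ∈ S, ∑ φ₂ ∈ S, pr φ₁ φ₂ := by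
      funext c
      have h2 := congrFun hχC c
      show χ c * conj (χ c) = _
      simp only [Finset.sum_apply] at h2 ⊢
      rw [h2, map_sum, Finset.sum_mul_sum]
    have h3 : (fun c : tiC P => Φ c) = ∑ ξ, (a ξ : ℂ) • (fun c : tiC P => (ξ : G → ℂ) c) := by
      funext c
      have := congrFun ha c
      simpa [Finset.sum_apply] using this
    have h4 := congrArg (fun F => classInner F (φ : tiC P → ℂ)) (h3.symm.trans h1)
    simp only [CharCore.classInner_sum_left, CharCore.classInner_smul_left, hki] at h4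
    exact h4
  have hsupp : ∀ ξ φ, a ξ ≠ 0 → k ξ φ ≠ 0 →
      ∃ φ₁ ∈ S, ∃ φ₂ ∈ S, (φ : tiC P → ℂ) = pr φ₁ φ₂ := by
    intro ξ φ hξ hφ
    by_contra hall
    push Not at hall
    have h1 := hΦC φ
    rw [Finset.sum_eq_zero (s := S) (fun φ₁ h₁ => Finset.sum_eq_zero fun φ₂ h₂ =>
      show classInner (pr φ₁ φ₂) (φ : tiC P → ℂ) = 0 from
        CharCore.classInner_irr_of_ne (χ := ⟨_, hpr φ₁ h₁ φ₂ h₂⟩) (ψ := φ)
          fun h => hall φ₁ h₁ φ₂ h₂ (congrArg Subtype.val h).symm)] at h1
    have h2 : ∑ η, a η * k η φ = 0 := by exact_mod_cast h1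
    have h3 := Finset.sum_eq_zero_iff.mp h2 ξ (Finset.mem_univ _)
    rcases Nat.mul_eq_zero.mp h3 with h | h
    · exact hξ h
    · exact hφ h
  have hdeg1 : ∀ ξ φ, a ξ ≠ 0 → k ξ φ ≠ 0 → (φ : tiC P → ℂ) 1 = 1 := by
    intro ξ φ hξ hφ
    obtain ⟨φ₁, h₁, φ₂, h₂, he⟩ := hsupp ξ φ hξ hφ
    rw [he]
    show (φ₁ : tiC P → ℂ) 1 * conj ((φ₂ : tiC P → ℂ) 1) = 1
    rw [hSone φ₁ h₁, hSone φ₂ h₂]; simp
  have htotal : ∑ ξ, a ξ * k ξ oneC = tiE P := by
    apply Nat.cast_injective (R := ℂ)
    push_cast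
    rw [hΦC oneC, ← hScard, Finset.cast_card]
    refine Finset.sum_congr rfl fun φ₁ h₁ => ?_
    rw [Finset.sum_eq_single φ₁]
    · rw [hone' φ₁ h₁]
      exact CharCore.classInner_irr_self oneC
    · intro φ₂ h₂ hne
      refine CharCore.classInner_irr_of_ne (χ := ⟨_, hpr φ₁ h₁ φ₂ h₂⟩) (ψ := oneC) fun h => hne ?_
      obtain ⟨g, hg⟩ := hlin φ₂ h₂
      refine Subtype.ext (funext fun c => ?_)
      have h1 : (φ₁ : tiC P → ℂ) c * conj ((φ₂ : tiC P → ℂ) c) = 1 :=
        congrFun (congrArg Subtype.val h) c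
      have h2 : (φ₂ : tiC P → ℂ) c * conj ((φ₂ : tiC P → ℂ) c) = 1 := conj_eq_of_linear g hg c
      exact (mul_right_cancel₀ (fun h0 => by rw [h0, mul_zero] at h2; exact zero_ne_one h2)
        (h1.trans h2.symm)).symm
    · intro h; exact absurd h₁ h
  have hk1 : k one oneC = 1 := by
    apply Nat.cast_injective (R := ℂ)
    rw [← hki, Nat.cast_one]
    exact CharCore.classInner_irr_self oneC
  rw [← Finset.add_sum_erase Finset.univ _ (Finset.mem_univ one), ha1, hk1] at htotal
  have hmain : ∀ ξ ∈ Finset.univ.erase one, a ξ ≠ 0 → k ξ oneC ≠ 0 →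
      (tiE P + 1) * k ξ oneC < dd ξ := by
    intro ξ hξ haξ hkξ
    by_contra hcon
    push Not at hcon
    obtain ⟨y, hy, hne⟩ := hξnt ξ (Finset.ne_of_mem_erase hξ)
    obtain ⟨φ, hφ0, hφ⟩ := hknt ξ y hy hne
    set M := ∑ φ ∈ Finset.univ.erase oneC, k ξ φ with hM
    have hdξ : dd ξ = k ξ oneC + M := by
      rw [hM, Finset.add_sum_erase Finset.univ _ (Finset.mem_univ oneC)]
      apply Nat.cast_injective (R := ℂ)
      have h1 := congrFun (hkd ξ) 1
      simp only [OneMemClass.coe_one, Finset.sum_apply, Pi.smul_apply, smul_eq_mul, hdd] at h1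
      rw [h1, Nat.cast_sum]
      refine Finset.sum_congr rfl fun φ' _ => ?_
      rcases eq_or_ne (k ξ φ') 0 with h | h
      · rw [h, Nat.cast_zero, zero_mul]
      · rw [hdeg1 ξ φ' haξ h, mul_one]
    have hsub : Finset.univ.filter (fun φ' => Conjug P φ φ') ⊆ Finset.univ.erase oneC := by
      intro φ' hφ'
      obtain ⟨n, rfl⟩ := (Finset.mem_filter.mp hφ').2
      refine Finset.mem_erase.mpr ⟨fun h => ?_, Finset.mem_univ _⟩
      obtain ⟨c, -, hc⟩ := hφ.twist P hstar n
      rw [h] at hc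
      exact hc rfl
    have hMge : tiE P ≤ M := by
      refine le_trans ?_ (Finset.sum_le_sum_of_subset hsub)
      rw [← card_conjug P hstar hφ, Finset.card_eq_sum_ones]
      refine Finset.sum_le_sum fun φ' hφ' => ?_
      obtain ⟨n, rfl⟩ := (Finset.mem_filter.mp hφ').2
      rw [hkinv]; exact Nat.one_le_iff_ne_zero.mpr hφ0
    set B := ∑ φ, k ξ φ * k ξ φ with hB
    have hBge : k ξ oneC * k ξ oneC + M ≤ B := by
      rw [hB, ← Finset.add_sum_erase Finset.univ _ (Finset.mem_univ oneC)]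
      exact Nat.add_le_add_left (Finset.sum_le_sum fun φ' _ => Nat.le_mul_self _) _
    have hξc : IsClassFunction G (ξ : G → ℂ) := CharCore.irr_isClassFunction ξ
    have hA : classInner (ξ : G → ℂ) (ξ : G → ℂ) = ((1 : ℕ) : ℂ) := by
      rw [Nat.cast_one]; exact CharCore.classInner_irr_self ξ
    have hd0' : 0 < dd ξ := by omega
    have h1 := norm_bound P hstar hPZ hTI hξc (fun z hz => by rw [hξZ ξ haξ z hz]) hA (hkB ξ)
      (hdd ξ) hd0'
    set θ : G → ℂ := fun g => (tiE P : ℂ) * (ξ : G → ℂ) g + 1 with hθ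
    have hθA : classInner θ θ = ((tiE P * tiE P + 1 : ℕ) : ℂ) := by
      have h2 : θ = (tiE P : ℂ) • (ξ : G → ℂ) + (one : G → ℂ) := rfl
      rw [h2, CharCore.classInner_add_left, CharCore.classInner_add_right,
        CharCore.classInner_add_right, CharCore.classInner_smul_left,
        CharCore.classInner_smul_left, CharCore.classInner_smul_right,
        CharCore.classInner_smul_right, CharCore.classInner_irr_self, CharCore.classInner_irr_self,
        CharCore.classInner_irr_of_ne (Finset.ne_of_mem_erase hξ),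
        CharCore.classInner_irr_of_ne (Finset.ne_of_mem_erase hξ).symm]
      simp
    have hθB : classInner (fun c : tiC P => θ c) (fun c : tiC P => θ c) =
        ((tiE P * tiE P * B + tiE P * k ξ oneC + tiE P * k ξ oneC + 1 : ℕ) : ℂ) := by
      have h2 : (fun c : tiC P => θ c) =
          (tiE P : ℂ) • (fun c : tiC P => (ξ : G → ℂ) c) + (oneC : tiC P → ℂ) := rfl
      have h3 : classInner (oneC : tiC P → ℂ) (fun c : tiC P => (ξ : G → ℂ) c) =
          (k ξ oneC : ℂ) := by
        rw [← CharCore.conj_classInner, hki]; simp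
      rw [h2, CharCore.classInner_add_left, CharCore.classInner_add_right,
        CharCore.classInner_add_right, CharCore.classInner_smul_left,
        CharCore.classInner_smul_left, CharCore.classInner_smul_right,
        CharCore.classInner_smul_right, CharCore.classInner_irr_self, hkB, hki, h3]
      simp only [map_natCast, ← hB]
      push_cast
      ring
    have h2 := norm_bound P hstar hPZ hTI (θ := θ)
      (fun g h => by show (_ : ℂ) * _ + _ = _ * _ + _; rw [hξc g h])
      (fun z hz => by show Complex.normSq (_ * _ + _) = _; rw [hξZ ξ haξ z hz]) hθA hθB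
      (D := tiE P * dd ξ + 1) (by show _ * (ξ : G → ℂ) 1 + 1 = _; rw [hdd]; push_cast; ring)
      (Nat.succ_pos _)
    rw [hdξ] at h1 h2 hcon
    rw [Nat.mul_one] at h1
    have hkle : k ξ oneC < tiE P := by
      have h3 := Finset.single_le_sum (f := fun η => a η * k η oneC) (fun _ _ => Nat.zero_le _) hξ
      have h4 : k ξ oneC ≤ a ξ * k ξ oneC := Nat.le_mul_of_pos_left _ (Nat.pos_of_ne_zero haξ)
      omega
    refine arith he2 ?_ (Nat.one_le_iff_ne_zero.mpr hkξ) hkle hMge ?_ hBge h1 h2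
    · obtain ⟨t, ht⟩ := tiE_dvd P hstar
      rw [hdef] at hdq
      have ht1 : tiE P + 1 ≤ t := by
        by_contra h
        have := Nat.mul_le_mul_left (tiE P) (show t ≤ tiE P by omega)
        omega
      have := Nat.mul_le_mul_left (tiE P) ht1
      rw [Nat.mul_succ] at this
      omega
    · rw [Nat.succ_mul] at hcon
      omega
  have hle : ∀ ξ ∈ Finset.univ.erase one, (tiE P + 1) * (a ξ * k ξ oneC) ≤ a ξ * dd ξ := by
    intro ξ hξ
    rw [Nat.mul_left_comm]
    rcases eq_or_ne (a ξ) 0 with h | h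
    · simp [h]
    · refine Nat.mul_le_mul_left _ ?_
      rcases eq_or_ne (k ξ oneC) 0 with h' | h'
      · simp [h']
      · exact (hmain ξ hξ h h').le
  obtain ⟨ξ, hξ, hξ0⟩ : ∃ ξ ∈ Finset.univ.erase one, a ξ * k ξ oneC ≠ 0 := by
    by_contra hall
    push Not at hall
    rw [Finset.sum_eq_zero hall] at htotal
    omega
  have hlt := Finset.sum_lt_sum hle ⟨ξ, hξ, by
    rw [Nat.mul_left_comm]
    exact Nat.mul_lt_mul_of_pos_left
      (hmain ξ hξ (left_ne_zero_of_mul hξ0) (right_ne_zero_of_mul hξ0))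
      (Nat.pos_of_ne_zero (left_ne_zero_of_mul hξ0))⟩
  rw [← Finset.mul_sum] at hlt
  rw [hdef] at hdeg
  nlinarith

end

theorem transfer_hstar_subgroup {G : Type u} [Group G] {p : ℕ} (P : Sylow p G)
    (hstar : ∀ x ∈ (P : Subgroup G), x ≠ 1 →
      Subgroup.centralizer ({x} : Set G) = Subgroup.centralizer ((P : Subgroup G) : Set G))
    (H : Subgroup G) (hH : (P : Subgroup G) ≤ H) :
    ∀ x ∈ (P.subtype hH : Subgroup H), x ≠ 1 →
      Subgroup.centralizer ({x} : Set H) =
        Subgroup.centralizer ((P.subtype hH : Subgroup H) : Set H) := by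
  intro x hx hx1
  have hx' : (x : G) ∈ (P : Subgroup G) := by
    simpa [Sylow.coe_subtype, Subgroup.mem_subgroupOf] using hx
  ext y
  rw [Subgroup.mem_centralizer_singleton_iff, Subgroup.mem_centralizer_iff]
  constructor
  · intro h z hz
    have hy : (y : G) ∈ Subgroup.centralizer ((P : Subgroup G) : Set G) := by
      rw [← hstar x hx' (fun h1 => hx1 (Subtype.ext h1))]
      exact Subgroup.mem_centralizer_singleton_iff.mpr (congrArg Subtype.val h)
    refine Subtype.ext (Subgroup.mem_centralizer_iff.mp hy z ?_)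
    show (z : G) ∈ (P : Subgroup G)
    simpa [Sylow.coe_subtype, Subgroup.mem_subgroupOf] using hz
  · intro h
    exact (h x hx).symm

/-- Small faithful degree forces a normal Sylow subgroup. -/
theorem normal_of_small (p : ℕ) [hp : Fact p.Prime] : ∀ (m : ℕ) (G : Type u) [Group G] [Finite G],
    Nat.card G = m → ∀ (P : Sylow p G),
    (∀ x ∈ (P : Subgroup G), x ≠ 1 →
      Subgroup.centralizer ({x} : Set G) = Subgroup.centralizer ((P : Subgroup G) : Set G)) →
    ∀ (χ : G → ℂ) (d : ℕ), IsCharacter G χ → (∀ g : G, χ g = χ 1 → g = 1) → χ 1 = (d : ℂ) →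
      d * d + 1 < Nat.card (P : Subgroup G) → (P : Subgroup G).Normal := by
  intro m
  induction m using Nat.strong_induction_on with
  | _ m ih =>
    intro G _ _ hG P hstar χ d hχ hfaith hd hdq
    classical
    letI := Fintype.ofFinite G
    letI := Fintype.ofFinite (tiC P)
    have hnorm : ∀ H : Subgroup G, H ≠ ⊤ → (P : Subgroup G) ≤ H → H ≤ tiN P := by
      intro H hH hPH
      have hlt : Nat.card H < m := hG ▸ lt_of_le_of_ne (Subgroup.card_le_card_group H)
        (fun h => hH (Subgroup.eq_top_of_card_eq H h))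
      have hn := ih _ hlt H rfl (P.subtype hPH) (transfer_hstar_subgroup P hstar H hPH)
        (fun x : H => χ x) d (CharCore.isCharacter_restrict hχ H)
        (fun g hg => Subtype.ext (hfaith g hg)) hd (by
          rwa [Sylow.coe_subtype, Nat.card_congr (Subgroup.subgroupOfEquivOfLe hPH).toEquiv])
      rw [Sylow.coe_subtype] at hn
      exact (Subgroup.normal_subgroupOf_iff_le_normalizer hPH).mp hn
    by_cases hK : ∃ M : Subgroup G, M.Normal ∧ M ≠ ⊤ ∧ (P : Subgroup G) ≤ M
    · obtain ⟨M, hMn, hMtop, hPM⟩ := hK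
      have hMN := hnorm M hMtop hPM
      refine Subgroup.normalizer_eq_top_iff.mp (top_le_iff.mp fun g _ => ?_)
      exact mem_tiN_of_map_le P fun z hz => hMN (hMn.conj_mem z (hPM hz) g)
    push Not at hK
    have hbig : ∀ M : Subgroup G, M.Normal → (P : Subgroup G) ≤ M → M = ⊤ := fun M hM hPM => by
      by_contra h; exact hK M hM h hPM
    have hcentral : (P : Subgroup G) ≤ Subgroup.center G := by
      by_cases hPZ : (P : Subgroup G) ⊓ Subgroup.center G = ⊥
      · intro z hz
        refine Subgroup.mem_center_iff.mpr fun g => ?_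
        refine (mul_inv_eq_iff_eq_mul.mp ?_)
        rw [← mul_inv_eq_one]
        refine eq_one_of_constituents hχ hfaith fun ξ hξ => ?_
        obtain ⟨dx, hdx⟩ := CharCore.IsCharacter.exists_degree (CharCore.irr_isCharacter ξ)
        have hle : dx ≤ d := by
          have h1 := degree_le_of_constituent hχ hd ξ hξ
          rwa [charDegree, hdx, Complex.natCast_re, Nat.floor_natCast] at h1
        have hdxq : dx * dx + 1 < Nat.card (P : Subgroup G) := by
          have := Nat.mul_le_mul hle hle; omega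
        obtain ⟨s, hs⟩ :=
          scalar_of_small P hstar hnorm hPZ hbig ξ.2 hdx hdxq z⁻¹ ((P : Subgroup G).inv_mem hz)
        rw [hs, CharCore.irr_isClassFunction ξ z g, ← hs, mul_inv_cancel]
      · obtain ⟨⟨z, hz⟩, hz1⟩ := Subgroup.ne_bot_iff_exists_ne_one.mp hPZ
        have hCtop : tiC P = ⊤ := by
          rw [tiC, ← hstar z hz.1 (fun h => hz1 (Subtype.ext h)), eq_top_iff]
          exact fun g _ => Subgroup.mem_centralizer_singleton_iff.mpr
            (Subgroup.mem_center_iff.mp hz.2 g)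
        exact fun y hy => Subgroup.mem_center_iff.mpr fun g =>
          (Subgroup.mem_centralizer_iff.mp (hCtop.ge (Subgroup.mem_top g)) y hy).symm
    exact ⟨fun y hy g => by rw [Subgroup.mem_center_iff.mp (hcentral hy) g, mul_inv_cancel_right]; exact hy⟩

/-- An element of the normalizer of a non-trivial subgroup of `P` normalizes `P`. -/
theorem mem_tiN_of_normalizes {G : Type u} [Group G] [Finite G] {p : ℕ} [Fact p.Prime]
    (P : Sylow p G) (hstar : ∀ x ∈ (P : Subgroup G), x ≠ 1 →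
      Subgroup.centralizer ({x} : Set G) = Subgroup.centralizer ((P : Subgroup G) : Set G))
    {D : Subgroup G} (hDP : D ≤ P) (hD : D ≠ ⊥) {n : G} (hn : n ∈ Subgroup.normalizer (D : Set G)) :
    n ∈ tiN P := by
  haveI := Fintype.ofFinite G
  obtain ⟨⟨s, hs⟩, hs1⟩ := Subgroup.ne_bot_iff_exists_ne_one.mp hD
  have hs1' : s ≠ 1 := fun h => hs1 (Subtype.ext h)
  have hs' : n * s * n⁻¹ ∈ (P : Subgroup G) := hDP ((Subgroup.mem_normalizer_iff.mp hn s).mp hs)
  refine mem_tiN_of_map_le P fun z hz => tiC_le_tiN P ?_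
  rw [tiC, ← hstar _ hs' (fun h => hs1' (conj_eq_one_iff.mp h)),
    Subgroup.mem_centralizer_singleton_iff]
  have h1 := Subgroup.mem_centralizer_iff.mp (P_le_tiC P hstar (hDP hs)) z hz
  calc n * z * n⁻¹ * (n * s * n⁻¹) = n * (z * s) * n⁻¹ := by group
    _ = n * (s * z) * n⁻¹ := by rw [h1]
    _ = n * s * n⁻¹ * (n * z * n⁻¹) := by group

/-- If no proper normal subgroup contains `P`, a small irreducible character has kernel `K` with
`K ⊔ P = ⊤`. -/
theorem kernel_sup_eq_top {G : Type u} [Group G] [Finite G] {p : ℕ} [hp : Fact p.Prime]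
    (P : Sylow p G) (hstar : ∀ x ∈ (P : Subgroup G), x ≠ 1 →
      Subgroup.centralizer ({x} : Set G) = Subgroup.centralizer ((P : Subgroup G) : Set G))
    (hbig : ∀ M : Subgroup G, M.Normal → (P : Subgroup G) ≤ M → M = ⊤)
    {χ : G → ℂ} (hχ : IsCharacter G χ) {d : ℕ} (hd : χ 1 = (d : ℂ))
    (hdq : d * d + 1 < Nat.card (P : Subgroup G)) :
    CharCore.charKernel hχ ⊔ (P : Subgroup G) = ⊤ := by
  classical
  haveI := Fintype.ofFinite G
  set K := CharCore.charKernel hχ with hK
  refine hbig _ ?_ le_sup_right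
  by_cases hKP : K ⊓ (P : Subgroup G) = ⊥
  · -- the quotient has a normal Sylow subgroup
    set π := QuotientGroup.mk' K
    have hsurj : Function.Surjective π := QuotientGroup.mk'_surjective K
    let Pb : Sylow p (G ⧸ K) := P.mapSurjective hsurj
    have hPb : (Pb : Subgroup (G ⧸ K)) = (P : Subgroup G).map π := rfl
    have hinj : Set.InjOn π (P : Subgroup G) := by
      intro a ha b hb hab
      have h1 : a⁻¹ * b ∈ K ⊓ (P : Subgroup G) :=
        ⟨(QuotientGroup.eq (s := K)).mp hab, Subgroup.mul_mem _ (Subgroup.inv_mem _ ha) hb⟩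
      rw [hKP, Subgroup.mem_bot, inv_mul_eq_one] at h1
      exact h1
    have hcard : Nat.card (Pb : Subgroup (G ⧸ K)) = Nat.card (P : Subgroup G) := by
      rw [hPb]
      show Nat.card (π '' ((P : Subgroup G) : Set G) : Set (G ⧸ K)) = _
      rw [Nat.card_image_of_injOn hinj]
      rfl
    have hstarb : ∀ x ∈ (Pb : Subgroup (G ⧸ K)), x ≠ 1 →
        Subgroup.centralizer ({x} : Set (G ⧸ K)) =
          Subgroup.centralizer ((Pb : Subgroup (G ⧸ K)) : Set (G ⧸ K)) := by
      rw [hPb]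
      intro xb hxb hxb1
      obtain ⟨x, hx, rfl⟩ := hxb
      have hx1 : x ≠ 1 := fun h => hxb1 (by rw [h, map_one])
      refine le_antisymm (fun gb hgb => ?_) (Subgroup.centralizer_le (Set.singleton_subset_iff.mpr
        ⟨x, hx, rfl⟩))
      obtain ⟨g, rfl⟩ := hsurj gb
      rw [Subgroup.mem_centralizer_singleton_iff, ← map_mul, ← map_mul] at hgb
      obtain ⟨k, hk, h1⟩ := exists_conj_of_quot K P hKP hx hgb
      have hgC : k⁻¹ * g ∈ tiC P := by
        rw [tiC, ← hstar x hx hx1]
        exact Subgroup.mem_centralizer_singleton_iff.mpr h1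
      rintro - ⟨z, hz, rfl⟩
      have h2 := congrArg π (Subgroup.mem_centralizer_iff.mp hgC z hz)
      have hk1 : π k = 1 := (QuotientGroup.eq_one_iff k).mpr hk
      simpa [map_mul, map_inv, hk1] using h2
    obtain ⟨ψ, hψc, -, hψ⟩ := CharCore.IsCharacter.exists_quotient hχ K fun k hk => hk
    have hψ1 : ψ 1 = χ 1 := by rw [hψ 1, map_one]
    have hn : (Pb : Subgroup (G ⧸ K)).Normal :=
      normal_of_small p _ (G ⧸ K) rfl Pb hstarb ψ d hψc (fun g hg => by
        obtain ⟨g, rfl⟩ := hsurj g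
        refine (QuotientGroup.eq_one_iff g).mpr ?_
        show χ g = χ 1
        rw [hψ g, hg, hψ1]) (hψ1.trans hd) (by rwa [hcard])
    rw [hPb] at hn
    have h2 := hn.comap π
    rwa [Subgroup.comap_map_eq, QuotientGroup.ker_mk', sup_comm] at h2
  · -- Frattini
    obtain ⟨S, hS⟩ := Transfer.exists_sylow_subgroupOf_normal P K
    have hfr := Sylow.normalizer_sup_eq_top S
    rw [hS, Subgroup.subgroupOf_map_subtype] at hfr
    have hD : (P : Subgroup G) ⊓ K ≠ ⊥ := by rwa [inf_comm]
    have hle : (⊤ : Subgroup G) ≤ Subgroup.normalizer ((K ⊔ (P : Subgroup G) : Subgroup G) : Set G) := by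
      rw [← hfr, sup_le_iff]
      refine ⟨fun n hn => ?_, le_sup_left.trans Subgroup.le_normalizer⟩
      exact Subgroup.normalizer_inf_normalizer_le_normalizer_sup K (P : Subgroup G) ⟨by rw [Subgroup.normalizer_eq_top]; trivial,
        mem_tiN_of_normalizes P hstar inf_le_left hD hn⟩
    exact Subgroup.normalizer_eq_top_iff.mp (top_le_iff.mp hle)
where
  exists_conj_of_quot {G : Type u} [Group G] [Finite G] {p : ℕ} [Fact p.Prime] (K : Subgroup G)
      [K.Normal] (P : Sylow p G) (hKP : K ⊓ (P : Subgroup G) = ⊥) {x g : G}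
      (hx : x ∈ (P : Subgroup G)) (h : QuotientGroup.mk' K (g * x) = QuotientGroup.mk' K (x * g)) :
      ∃ k ∈ K, k⁻¹ * g * x = x * (k⁻¹ * g) := by
    set X := Subgroup.zpowers x with hX
    have hXP : X ≤ (P : Subgroup G) := Subgroup.zpowers_le.mpr hx
    set H := K ⊔ X with hH
    set y := g * x * g⁻¹ with hy
    have hyx : x⁻¹ * y ∈ K := by
      rw [← QuotientGroup.eq_one_iff, hy]
      simp only [QuotientGroup.mk'_apply, QuotientGroup.mk_mul, QuotientGroup.mk_inv] at h ⊢
      rw [h]; group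
    have hxH : x ∈ H := Subgroup.mem_sup_right (Subgroup.mem_zpowers x)
    have hyH : y ∈ H := by
      have : y = x * (x⁻¹ * y) := by group
      rw [this]; exact Subgroup.mul_mem _ hxH (Subgroup.mem_sup_left hyx)
    set Y := Subgroup.zpowers y with hY
    have hYH : Y ≤ H := Subgroup.zpowers_le.mpr hyH
    have hpK : ¬ p ∣ Nat.card K := by
      intro hd
      obtain ⟨S, hS⟩ := Transfer.exists_sylow_subgroupOf_normal P K
      have := Sylow.card_eq_multiplicity S
      rw [hS, show (P : Subgroup G).subgroupOf K = ⊥ from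
        Subgroup.subgroupOf_eq_bot.mpr (disjoint_iff.mpr (by rwa [inf_comm])),
        Subgroup.card_bot] at this
      have h0 := Nat.Prime.factorization_pos_of_dvd Fact.out Nat.card_pos.ne' hd
      have h1 : p ^ 1 ≤ 1 := (Nat.pow_le_pow_right (Nat.Prime.pos Fact.out) h0).trans this.ge
      rw [pow_one] at h1
      exact absurd h1 (not_le.mpr (Nat.Prime.one_lt Fact.out))
    have hoy : orderOf y = orderOf x := by
      rw [hy, ← MulAut.conj_apply, MulEquiv.orderOf_eq]
    have hXp : IsPGroup p X := P.2.to_le hXP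
    have hYp : IsPGroup p Y := by
      obtain ⟨t, ht⟩ := IsPGroup.iff_card.mp hXp
      exact IsPGroup.of_card (n := t) (by rw [Nat.card_zpowers, hoy, ← Nat.card_zpowers, ht])
    have hidx : ∀ Z : Subgroup G, Z ≤ H → Nat.card Z = orderOf x → ¬ p ∣ (Z.subgroupOf H).index := by
      intro Z hZ hZc hd
      have hcard : Nat.card H = Nat.card K * orderOf x := by
        have hdis : Disjoint K X := disjoint_iff.mpr (le_bot_iff.mp (hKP ▸ inf_le_inf_left K hXP))
        rw [← Nat.card_zpowers, ← Nat.card_prod]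
        refine (Nat.card_congr ?_).symm
        exact Equiv.ofBijective
          (fun a : ↥K × ↥X => (⟨(a.1 : G) * a.2, Subgroup.mul_mem_sup a.1.2 a.2.2⟩ : ↥H))
          ⟨fun a b hab => Subgroup.mul_injective_of_disjoint hdis (congrArg Subtype.val hab), fun a => by
            obtain ⟨k, hk, z, hz, hkz⟩ := (Subgroup.mem_sup_of_normal_left).mp a.2
            exact ⟨(⟨k, hk⟩, ⟨z, hz⟩), Subtype.ext hkz⟩⟩
      have h2 := (Z.subgroupOf H).card_mul_index
      rw [Nat.card_congr (Subgroup.subgroupOfEquivOfLe hZ).toEquiv, hZc, hcard, mul_comm] at h2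
      exact hpK (Nat.eq_of_mul_eq_mul_right (orderOf_pos x) h2 ▸ hd)
    let SX : Sylow p H := (hXp.of_equiv (Subgroup.subgroupOfEquivOfLe (le_sup_right : X ≤ H)).symm).toSylow
      (hidx X le_sup_right (Nat.card_zpowers x))
    let SY : Sylow p H := (hYp.of_equiv (Subgroup.subgroupOfEquivOfLe hYH).symm).toSylow
      (hidx Y hYH (by rw [Nat.card_zpowers, hoy]))
    obtain ⟨⟨t, htH⟩, ht⟩ := MulAction.exists_smul_eq H SX SY
    obtain ⟨k, hk, z, hz, hkz⟩ := Subgroup.mem_sup_of_normal_left.mp htH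
    -- `t x t⁻¹` lies in `Y`
    have hmem : t * x * t⁻¹ ∈ Y := by
      have h3 : (⟨t, htH⟩ : H) * ⟨x, hxH⟩ * (⟨t, htH⟩ : H)⁻¹ ∈
          ((⟨t, htH⟩ : H) • SX : Sylow p H) := by
        exact ⟨⟨x, hxH⟩, Subgroup.mem_zpowers x, rfl⟩
      rw [ht] at h3
      exact h3
    have hzx : z * x = x * z := by
      obtain ⟨i, rfl⟩ := hz
      exact (Commute.self_zpow x i).symm.eq
    have htx : t * x * t⁻¹ = k * x * k⁻¹ := by
      rw [← hkz]
      calc k * z * x * (k * z)⁻¹ = k * (z * x) * z⁻¹ * k⁻¹ := by group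
        _ = k * (x * z) * z⁻¹ * k⁻¹ := by rw [hzx]
        _ = k * x * k⁻¹ := by group
    rw [htx] at hmem
    obtain ⟨i, hi⟩ := hmem
    have hi' : y ^ i = k * x * k⁻¹ := hi
    have hq : ((x : G ⧸ K)) ^ i = (x : G ⧸ K) := by
      have h4 := congrArg (QuotientGroup.mk' K) hi'
      have h5 : (QuotientGroup.mk' K) y = (QuotientGroup.mk' K) x :=
        ((QuotientGroup.eq (s := K)).mpr hyx).symm
      have h6 : (QuotientGroup.mk' K) k = 1 := (QuotientGroup.eq_one_iff k).mpr hk
      simp only [map_zpow, h5, map_mul, map_inv, h6, one_mul, inv_one, mul_one] at h4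
      exact h4
    have hxi : x ^ (i - 1) = 1 := by
      have h7 : x ^ (i - 1) ∈ K ⊓ (P : Subgroup G) := by
        refine ⟨(QuotientGroup.eq_one_iff _).mp ?_, (P : Subgroup G).zpow_mem hx _⟩
        rw [QuotientGroup.mk_zpow, zpow_sub, hq, zpow_one, mul_inv_cancel]
      rwa [hKP, Subgroup.mem_bot] at h7
    have hxi' : x ^ i = x := by
      rw [zpow_sub, zpow_one, mul_inv_eq_one] at hxi
      exact hxi
    refine ⟨k, hk, ?_⟩
    have h8 : g * x * g⁻¹ = k * x * k⁻¹ := by
      rw [← hi', hy, conj_zpow, hxi']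
    calc k⁻¹ * g * x = k⁻¹ * (g * x * g⁻¹) * g := by group
      _ = k⁻¹ * (k * x * k⁻¹) * g := by rw [h8]
      _ = x * (k⁻¹ * g) := by group

/-- A small non-principal irreducible character is linear, and there is a normal complement. -/
theorem degree_one_and_complement {G : Type u} [Group G] [Finite G] {p : ℕ} [hp : Fact p.Prime]
    (P : Sylow p G) (hstar : ∀ x ∈ (P : Subgroup G), x ≠ 1 →
      Subgroup.centralizer ({x} : Set G) = Subgroup.centralizer ((P : Subgroup G) : Set G))
    (hbig : ∀ M : Subgroup G, M.Normal → (P : Subgroup G) ≤ M → M = ⊤)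
    (χ : IrrCharacter G) (h1 : (χ : G → ℂ) ≠ fun _ => 1) {d : ℕ} (hd : (χ : G → ℂ) 1 = (d : ℂ))
    (hdq : d * d + 1 < Nat.card (P : Subgroup G)) :
    d = 1 ∧ ∃ N : Subgroup G, N.Normal ∧ N.index = Nat.card (P : Subgroup G) := by
  classical
  haveI := Fintype.ofFinite G
  haveI := Fintype.ofFinite (tiC P)
  have hχc := CharCore.irr_isCharacter χ
  have htop := kernel_sup_eq_top P hstar hbig hχc hd hdq
  set K := CharCore.charKernel hχc
  have hPab : ∀ x ∈ (P : Subgroup G), ∀ y ∈ (P : Subgroup G), x * y = y * x := fun x hx y hy =>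
    Subgroup.mem_centralizer_iff.mp (P_le_tiC P hstar hy) x hx
  obtain ⟨ψ, hψc, hψi, hψ⟩ := CharCore.IsCharacter.exists_quotient hχc K fun k hk => hk
  have hrep : ∀ g : G, ∃ z ∈ (P : Subgroup G), QuotientGroup.mk' K z = QuotientGroup.mk' K g := by
    intro g
    obtain ⟨k, hk, z, hz, rfl⟩ := Subgroup.mem_sup_of_normal_left.mp (htop.ge (Subgroup.mem_top g))
    refine ⟨z, hz, ?_⟩
    rw [map_mul, show QuotientGroup.mk' K k = 1 from (QuotientGroup.eq_one_iff k).mpr hk, one_mul]
  obtain ⟨f, hf⟩ := CharB.exists_hom_of_isIrr_comm (A := G ⧸ K) (by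
    intro a b
    obtain ⟨a, rfl⟩ := QuotientGroup.mk'_surjective K a
    obtain ⟨b, rfl⟩ := QuotientGroup.mk'_surjective K b
    obtain ⟨x, hx, hxa⟩ := hrep a
    obtain ⟨y, hy, hyb⟩ := hrep b
    rw [← hxa, ← hyb, ← map_mul, ← map_mul, hPab x hx y hy]) (hψi χ.2)
  have hd1 : d = 1 := by
    have h2 := hψ 1
    rw [hd, map_one, hf] at h2
    simp only [map_one, Units.val_one] at h2
    exact_mod_cast h2
  have hNC : tiN P ≤ tiC P := by
    intro n hn
    by_contra hnC
    refine h1 (funext fun g => ?_)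
    obtain ⟨y, hy, hyg⟩ := hrep g
    obtain ⟨z, hz, rfl⟩ := exists_commutator_eq P hstar ⟨n, hn⟩ hnC hy
    rw [hψ g, ← hyg, hf]
    simp [map_mul, mul_left_comm]
  refine ⟨hd1, (MonoidHom.transferSylow P hNC).ker, inferInstance, ?_⟩
  exact (MonoidHom.ker_transferSylow_isComplement' P hNC).symm.index_eq_card

end Cfsg.Agent.BlkChar.TI
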